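import Cfsg.Agent.Lib.Helper80.Schur
import Mathlib.GroupTheory.GroupAction.ConjAct
import Mathlib.GroupTheory.GroupAction.Quotient
import Mathlib.GroupTheory.Index
import Mathlib.Analysis.Complex.Polynomial.Basic

set_option autoImplicit false

namespace Cfsg.Agent.Lib.Helper80

open Representation

section ConjAvg

variable {G k V : Type*} [Group G] [Fintype G] [Field k]
  [AddCommGroup V] [Module k V]

theorem conjSum_comm (ρ : Representation k G V) (b h : G) :
    (∑ x : G, ρ (x * b * x⁻¹)) * ρ h = ρ h * (∑ x : G, ρ (x * b * x⁻¹)) := by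
  rw [Finset.sum_mul, Finset.mul_sum]
  symm
  refine Fintype.sum_equiv (Equiv.mulLeft h) _ _ ?_
  intro x
  simp only [Equiv.coe_mulLeft]
  rw [← map_mul, ← map_mul]
  congr 1
  group

variable [IsAlgClosed k] [CharZero k] [FiniteDimensional k V]

theorem sum_conj_eq_smul (ρ : Representation k G V) [ρ.IsIrreducible] (b : G) :
    ∑ x : G, ρ (x * b * x⁻¹) =
      ((Nat.card G : k) * ρ.character b / (Module.finrank k V : k)) • LinearMap.id := by
  obtain ⟨c, hc, htr⟩ := schur_scalar_trace ρ (∑ x : G, ρ (x * b * x⁻¹)) (conjSum_comm ρ b)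
  rw [hc]
  congr 1
  rw [eq_div_iff (finrank_ne_zero_of_irreducible ρ), mul_comm, htr, map_sum]
  have : ∀ x : G, LinearMap.trace k V (ρ (x * b * x⁻¹)) = ρ.character b := fun x =>
    char_conj ρ b x
  simp only [this, Finset.sum_const, Finset.card_univ, nsmul_eq_mul, Nat.card_eq_fintype_card]

theorem sum_char_mul_conj (ρ : Representation k G V) [ρ.IsIrreducible] (a b : G) :
    ∑ x : G, ρ.character (a * (x * b * x⁻¹)) =
      (Nat.card G : k) * ρ.character a * ρ.character b / (Module.finrank k V : k) := by
  have h := congrArg (fun T : V →ₗ[k] V => LinearMap.trace k V (ρ a * T)) (sum_conj_eq_smul ρ b)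
  simp only [Finset.mul_sum, mul_smul_comm, map_sum, map_smul, smul_eq_mul] at h
  have h3 : (LinearMap.trace k V) (ρ a * LinearMap.id) = ρ.character a := by
    rw [show (LinearMap.id : V →ₗ[k] V) = 1 from rfl, mul_one]; rfl
  rw [h3] at h
  have h4 : ∀ x : G, ρ.character (a * (x * b * x⁻¹)) =
      LinearMap.trace k V (ρ a * ρ (x * b * x⁻¹)) := by
    intro x
    show LinearMap.trace k V (ρ (a * (x * b * x⁻¹))) = _
    rw [map_mul]
  simp only [h4]
  rw [h]
  field_simp

end ConjAvg

section ClassSize

variable {G : Type*} [Group G]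

theorem index_centralizer_eq_card_conj (g : G) :
    (Subgroup.centralizer ({g} : Set G)).index = Nat.card {h : G // IsConj g h} := by
  have h1 := Subgroup.index_comap_of_surjective (MulAction.stabilizer (ConjAct G) g)
    (f := (ConjAct.toConjAct (G := G)).toMonoidHom) (ConjAct.toConjAct (G := G)).surjective
  refine (congrArg Subgroup.index (Subgroup.centralizer_eq_comap_stabilizer g)).trans
    (h1.trans ?_)
  rw [MulAction.index_stabilizer, ← Nat.card_coe_set_eq]
  apply Nat.card_congr
  refine Equiv.subtypeEquivRight ?_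
  intro h
  rw [ConjAct.mem_orbit_conjAct, isConj_comm]

end ClassSize

section Integral

variable {G V : Type*} [Group G] [Fintype G] [AddCommGroup V] [Module ℂ V]
  [FiniteDimensional ℂ V]

open Classical in
/-- The class sum of `g` acts on an irreducible representation by the scalar
`|cl g| χ(g) / χ(1)`. -/
theorem classSum_eq_smul (ρ : Representation ℂ G V) [ρ.IsIrreducible] (g : G) :
    ∑ h : G, (if IsConj g h then (1 : ℂ) else 0) • ρ h =
      (((Subgroup.centralizer ({g} : Set G)).index : ℂ) * ρ.character g /
        (Module.finrank ℂ V : ℂ)) • LinearMap.id := by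
  rw [sum_classFun_smul ρ (fun h => if IsConj g h then (1 : ℂ) else 0)]
  · congr 2
    have : ∀ h : G, (if IsConj g h then (1 : ℂ) else 0) * ρ.character h =
        if IsConj g h then ρ.character g else 0 := by
      intro h
      split_ifs with hc
      · obtain ⟨c, hc⟩ := isConj_iff.mp hc
        rw [one_mul, ← hc, char_conj]
      · rw [zero_mul]
    simp only [this]
    rw [← Finset.sum_filter, Finset.sum_const, nsmul_eq_mul, index_centralizer_eq_card_conj,
      Nat.card_eq_fintype_card, Fintype.card_subtype]
  · intro x y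
    have : IsConj g (y * x * y⁻¹) ↔ IsConj g x := by
      constructor
      · intro h
        exact h.trans (isConj_iff.mpr ⟨y⁻¹, by group⟩)
      · intro h
        exact h.trans (isConj_iff.mpr ⟨y, rfl⟩)
    simp only [this]

/-- The central character value `|cl g| χ(g) / χ(1)` is an algebraic integer. -/
theorem isIntegral_centralChar (ρ : Representation ℂ G V) [ρ.IsIrreducible] (g : G) :
    IsIntegral ℤ (((Subgroup.centralizer ({g} : Set G)).index : ℂ) * ρ.character g /
      (Module.finrank ℂ V : ℂ)) := by
  classical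
  have := nontrivial_of_irreducible ρ
  let F : MonoidAlgebra ℤ G →ₐ[ℤ] Module.End ℂ V := MonoidAlgebra.lift ℤ (Module.End ℂ V) G ρ
  let x : MonoidAlgebra ℤ G := ∑ h : G, if IsConj g h then MonoidAlgebra.of ℤ G h else 0
  have hx : IsIntegral ℤ x := IsIntegral.of_finite ℤ x
  have hFx : IsIntegral ℤ (F x) := hx.map F
  have hF : F x = ∑ h : G, (if IsConj g h then (1 : ℂ) else 0) • ρ h := by
    simp only [x, map_sum]
    refine Finset.sum_congr rfl fun h _ => ?_
    split_ifs
    · rw [one_smul]
      exact MonoidAlgebra.lift_of _ _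
    · rw [zero_smul, map_zero]
  rw [hF, classSum_eq_smul ρ g] at hFx
  rw [show (LinearMap.id : V →ₗ[ℂ] V) = 1 from rfl, ← Algebra.algebraMap_eq_smul_one] at hFx
  exact (isIntegral_algebraMap_iff (FaithfulSMul.algebraMap_injective ℂ (Module.End ℂ V))).mp hFx

end Integral

end Cfsg.Agent.Lib.Helper80
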