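import Cfsg.Agent.Lib.Helper80.Main

set_option autoImplicit false

namespace Cfsg.Agent.Lib.Helper80

open Representation
open scoped ComplexConjugate

section One

variable {G : Type*} [Group G]

theorem isIrrCharacter_one' : Cfsg.IsIrrCharacter G (fun _ => (1 : ℂ)) := by
  refine ⟨1, Representation.trivial ℂ G (Fin 1 → ℂ), ?_, ?_⟩
  · refine { exists_pair_ne := ⟨⊥, ⊤, ?_⟩, eq_bot_or_eq_top := ?_ }
    · intro h
      have h1 : (⊥ : Subrepresentation (Representation.trivial ℂ G (Fin 1 → ℂ))).toSubmodule =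
          (⊤ : Subrepresentation (Representation.trivial ℂ G (Fin 1 → ℂ))).toSubmodule := by
        rw [h]
      exact bot_ne_top h1
    · intro W
      by_cases hW : W.toSubmodule = ⊥
      · left
        exact Subrepresentation.toSubmodule_injective hW
      · right
        apply Subrepresentation.toSubmodule_injective
        change W.toSubmodule = ⊤
        have hW' : W.toSubmodule ≠ ⊥ := hW
        rw [Submodule.ne_bot_iff] at hW'
        obtain ⟨w, hwW, hw0⟩ := hW'
        have hw : w 0 ≠ 0 := by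
          intro h0
          apply hw0
          ext i
          rw [Subsingleton.elim i 0, h0]
          rfl
        rw [eq_top_iff]
        intro v _
        have : v = (v 0 / w 0) • w := by
          ext i
          rw [Subsingleton.elim i 0]
          simp only [Pi.smul_apply, smul_eq_mul]
          field_simp
        rw [this]
        exact W.toSubmodule.smul_mem _ hwW
  · ext g
    simp [Representation.character]

/-- The trivial character. -/
noncomputable def trivIrr (G : Type*) [Group G] : Cfsg.IrrCharacter G :=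
  ⟨fun _ => (1 : ℂ), isIrrCharacter_one'⟩

theorem trivIrr_apply (g : G) : ((trivIrr G : Cfsg.IrrCharacter G) : G → ℂ) g = 1 := rfl

end One

section Norm

variable {G : Type*} [Group G] [Finite G]

theorem char_norm_le {V : Type*} [AddCommGroup V] [Module ℂ V] [FiniteDimensional ℂ V]
    (ρ : Representation ℂ G V) (g : G) : ‖ρ.character g‖ ≤ (Module.finrank ℂ V : ℝ) := by
  classical
  obtain ⟨b, μ, h1, h2⟩ := Cfsg.Agent.Lib.Helper3.exists_eigenbasis_rep ρ g
  rw [Cfsg.Agent.Lib.Helper3.character_eq_sum_eigen ρ g b μ h1]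
  calc ‖∑ i, μ i‖ ≤ ∑ i, ‖μ i‖ := norm_sum_le _ _
    _ = ∑ _i : Fin (Module.finrank ℂ V), (1 : ℝ) := by
        apply Finset.sum_congr rfl
        intro i _
        exact Complex.norm_eq_one_of_pow_eq_one (h2 i) (orderOf_pos g).ne'
    _ = (Module.finrank ℂ V : ℝ) := by simp

theorem irr_norm_le (χ : Cfsg.IrrCharacter G) (g : G) :
    ‖(χ : G → ℂ) g‖ ≤ ‖(χ : G → ℂ) 1‖ := by
  obtain ⟨n, ρ, _, hρ⟩ := χ.2
  rw [← hρ, char_one]
  simpa using char_norm_le ρ g

end Norm

section Convolution

variable {G : Type*} [Group G] [Fintype G]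

theorem irr_generalized_orthogonality_ne (χ ψ : Cfsg.IrrCharacter G) (hne : χ ≠ ψ) (w : G) :
    ∑ x : G, (χ : G → ℂ) (w * x) * (ψ : G → ℂ) x⁻¹ = 0 := by
  obtain ⟨n, ρ, hirr, hρ⟩ := χ.2
  obtain ⟨m, σ, hirr', hσ⟩ := ψ.2
  have := hirr
  have := hirr'
  rw [← hρ, ← hσ]
  refine generalized_orthogonality_of_not_equiv ρ σ ⟨fun φ => hne ?_⟩ w
  apply Subtype.ext
  rw [← hρ, ← hσ]
  exact (char_iso φ).symm

/-- Convolution of irreducible characters. -/
theorem irr_convolution (χ ψ : Cfsg.IrrCharacter G) (g : G) :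
    ∑ u : G, (χ : G → ℂ) u * (ψ : G → ℂ) (u⁻¹ * g) =
      if χ = ψ then (Nat.card G : ℂ) * (χ : G → ℂ) g / (χ : G → ℂ) 1 else 0 := by
  split_ifs with h
  · subst h
    rw [← irr_generalized_orthogonality χ g]
    refine Fintype.sum_equiv (Equiv.inv G) _ _ ?_
    intro u
    simp only [Equiv.inv_apply, inv_inv]
    rw [irr_mul_comm χ u⁻¹ g, mul_comm]
  · rw [← irr_generalized_orthogonality_ne ψ χ (Ne.symm h) g]
    refine Fintype.sum_equiv (Equiv.inv G) _ _ ?_
    intro u
    simp only [Equiv.inv_apply, inv_inv]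
    rw [irr_mul_comm ψ u⁻¹ g, mul_comm]

end Convolution

end Cfsg.Agent.Lib.Helper80
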