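import Cfsg.Agent.Lib.Helper80.Normal
import Cfsg.Prelude.Def_Blocks
import Mathlib.GroupTheory.QuotientGroup.Basic

set_option autoImplicit false

namespace Cfsg.Agent.Lib.Helper80

open Representation
open scoped ComplexConjugate

section KerChar

variable {G V : Type*} [Group G] [Finite G] [AddCommGroup V] [Module ℂ V]
  [FiniteDimensional ℂ V]

/-- `χ(g) = χ(1)` iff `g` acts trivially (after helper3's S0139). -/
theorem char_eq_finrank_iff (ρ : Representation ℂ G V) (g : G) :
    ρ.character g = (Module.finrank ℂ V : ℂ) ↔ ρ g = 1 := by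
  classical
  constructor
  · intro h
    obtain ⟨b, μ, h1, h2⟩ := Cfsg.Agent.Lib.Helper3.exists_eigenbasis_rep ρ g
    rw [Cfsg.Agent.Lib.Helper3.character_eq_sum_eigen ρ g b μ h1] at h
    have hcard : (Module.finrank ℂ V : ℂ) = (Fintype.card (Fin (Module.finrank ℂ V)) : ℂ) := by
      simp
    rw [hcard] at h
    have hone := Cfsg.Agent.Lib.Helper3.eq_one_of_norm_one_of_sum_eq_card μ
      (fun i => Complex.norm_eq_one_of_pow_eq_one (h2 i) (orderOf_pos g).ne') h
    apply b.ext
    intro i
    rw [h1 i, hone i, one_smul, Module.End.one_apply]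
  · intro h
    rw [Representation.character, h]
    exact LinearMap.trace_one ℂ V

theorem mem_ker_iff_char (ρ : Representation ℂ G V) (g : G) :
    g ∈ MonoidHom.ker ρ ↔ ρ.character g = ρ.character 1 := by
  rw [MonoidHom.mem_ker, char_one, char_eq_finrank_iff]

end KerChar

section Quot

variable {G H V : Type*} [Monoid G] [Monoid H] [AddCommGroup V] [Module ℂ V]

/-- If every operator of `ρ` is an operator of `ρ'`, irreducibility passes from `ρ` to `ρ'`. -/
theorem isIrreducible_of_range_le (ρ : Representation ℂ G V) (ρ' : Representation ℂ H V)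
    (h : ∀ g : G, ∃ k : H, ρ' k = ρ g) [hρ : ρ.IsIrreducible] : ρ'.IsIrreducible := by
  have hnt : Nontrivial V := nontrivial_of_irreducible ρ
  refine
    { exists_pair_ne := ⟨⊥, ⊤, ?_⟩
      eq_bot_or_eq_top := ?_ }
  · intro hbt
    have h1 : (⊥ : Submodule ℂ V) = ⊤ := congrArg Subrepresentation.toSubmodule hbt
    exact bot_ne_top h1
  · intro σ
    let τ : Subrepresentation ρ := ⟨σ.toSubmodule, fun g v hv => by
      obtain ⟨k, hk⟩ := h g
      rw [← hk]
      exact σ.apply_mem_toSubmodule k hv⟩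
    rcases hρ.eq_bot_or_eq_top τ with h0 | h1
    · left
      apply Subrepresentation.toSubmodule_injective
      exact congrArg (Subrepresentation.toSubmodule (ρ := ρ)) h0
    · right
      apply Subrepresentation.toSubmodule_injective
      exact congrArg (Subrepresentation.toSubmodule (ρ := ρ)) h1

end Quot

section KerIndex

variable {G V : Type*} [Group G] [Finite G] [AddCommGroup V] [Module ℂ V]
  [FiniteDimensional ℂ V]

/-- The degree of an irreducible representation divides the index of its kernel. -/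
theorem finrank_dvd_index_ker (ρ : Representation ℂ G V) [ρ.IsIrreducible] :
    Module.finrank ℂ V ∣ (MonoidHom.ker ρ).index := by
  let ρ' : Representation ℂ (G ⧸ MonoidHom.ker ρ) V :=
    QuotientGroup.lift (MonoidHom.ker ρ) ρ le_rfl
  have hρ' : ρ'.IsIrreducible :=
    isIrreducible_of_range_le ρ ρ'
      (fun g => ⟨(g : G ⧸ MonoidHom.ker ρ), QuotientGroup.lift_mk _ le_rfl g⟩)
  have := Fintype.ofFinite (G ⧸ MonoidHom.ker ρ)
  have h := finrank_dvd_card ρ'
  rwa [← Subgroup.index_eq_card] at h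

end KerIndex

section IrrKer

variable {G : Type*} [Group G] [Finite G]

theorem irr_charDegree_cast (χ : Cfsg.IrrCharacter G) :
    (Cfsg.charDegree (χ : G → ℂ) : ℂ) = (χ : G → ℂ) 1 := by
  obtain ⟨n, _, h⟩ := irr_one_eq_natCast χ
  unfold Cfsg.charDegree
  rw [h]
  simp

theorem irr_charDegree_pos (χ : Cfsg.IrrCharacter G) : 0 < Cfsg.charDegree (χ : G → ℂ) := by
  obtain ⟨n, hn, h⟩ := irr_one_eq_natCast χ
  unfold Cfsg.charDegree
  rw [h]
  simpa using hn

/-- The kernel of an irreducible character as a normal subgroup, with the degree dividing its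
index. -/
theorem irr_exists_ker (χ : Cfsg.IrrCharacter G) :
    ∃ K : Subgroup G, K.Normal ∧ (∀ g : G, g ∈ K ↔ (χ : G → ℂ) g = (χ : G → ℂ) 1) ∧
      Cfsg.charDegree (χ : G → ℂ) ∣ K.index := by
  obtain ⟨n, ρ, hirr, hρ⟩ := χ.2
  have := hirr
  refine ⟨MonoidHom.ker ρ, MonoidHom.normal_ker ρ, ?_, ?_⟩
  · intro g
    rw [mem_ker_iff_char, hρ]
  · have h := finrank_dvd_index_ker ρ
    have h2 : Cfsg.charDegree (χ : G → ℂ) = Module.finrank ℂ (Fin n → ℂ) := by
      have h3 := irr_charDegree_cast χ
      rw [← hρ, char_one] at h3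
      rw [← hρ]
      exact_mod_cast h3
    rwa [h2]

/-- `|ker χ| · χ(1)` divides `|G|`. -/
theorem irr_card_ker_mul_degree_dvd (χ : Cfsg.IrrCharacter G) :
    Nat.card {g : G // (χ : G → ℂ) g = (χ : G → ℂ) 1} * Cfsg.charDegree (χ : G → ℂ) ∣
      Nat.card G := by
  obtain ⟨K, _, hK, hdvd⟩ := irr_exists_ker χ
  have hcard : Nat.card {g : G // (χ : G → ℂ) g = (χ : G → ℂ) 1} = Nat.card K :=
    Nat.card_congr (Equiv.subtypeEquivRight (fun g => (hK g).symm))
  rw [hcard, ← Subgroup.card_mul_index K]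
  exact Nat.mul_dvd_mul_left _ hdvd

end IrrKer

end Cfsg.Agent.Lib.Helper80
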