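import Cfsg.Agent.Lib.Helper68.BG1215a
import Cfsg.Agent.Lib.Helper63.BG10
import Cfsg.Agent.Lib.Helper1.Hall

/-!
# Bender–Glauberman 13.8-type asymmetry lemma: the core (steps (3)–(6))

All `α`-facts are hypotheses, so that nothing else has to be imported.
-/

set_option autoImplicit false

namespace Cfsg.Agent.Lib.Helper80.BG138

open Subgroup Cfsg Cfsg.Agent.Lib.Helper33 Cfsg.Agent.Lib.Helper24
open scoped Pointwise

universe u

variable {G : Type u} [Group G]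

/-- conjugation by elements of `M` preserves `M_α` -/
theorem ac_conj_mem (M : Subgroup G) {m s : G} (hm : m ∈ M) (hs : s ∈ alphaCore M) :
    m * s * m⁻¹ ∈ alphaCore M := by
  obtain ⟨s', hs', rfl⟩ := hs
  have h1 : (⟨m, hm⟩ : ↥M) * s' * (⟨m, hm⟩ : ↥M)⁻¹ ∈ piCore (alpha M) ↥M :=
    (inferInstance : (piCore (alpha M) ↥M).Normal).conj_mem s' hs' ⟨m, hm⟩
  exact ⟨_, h1, rfl⟩

theorem ac_le_normalizer (M : Subgroup G) :
    M ≤ normalizer ((alphaCore M : Subgroup G) : Set G) := by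
  intro m hm
  rw [Subgroup.mem_normalizer_iff]
  intro s
  constructor
  · intro hs
    exact ac_conj_mem M hm hs
  · intro hs
    have h1 := ac_conj_mem M (M.inv_mem hm) hs
    have h2 : m⁻¹ * (m * s * m⁻¹) * m⁻¹⁻¹ = s := by group
    rwa [h2] at h1

theorem ac_le (M : Subgroup G) : alphaCore M ≤ M := by
  intro x hx
  obtain ⟨s', -, rfl⟩ := hx
  exact s'.2

theorem ri_mul_card {H K : Subgroup G} (h : H ≤ K) :
    H.relIndex K * Nat.card H = Nat.card K := by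
  have h5 := Subgroup.relIndex_mul_relIndex ⊥ H K bot_le h
  rw [Subgroup.relIndex_bot_left, Subgroup.relIndex_bot_left] at h5
  rw [mul_comm]; exact h5

variable [Finite G]

/-- (A0) an `s`-subgroup of `M`, `s ∈ α(M)`, lies in `M_α` -/
theorem le_ac_of_isPGroup {M Q : Subgroup G} (hHall : IsPiHallOf (alpha M) (alphaCore M) M)
    {s : ℕ} [hs : Fact s.Prime] (hsα : s ∈ alpha M) (hQM : Q ≤ M) (hQ : IsPGroup s Q) :
    Q ≤ alphaCore M :=
  Cfsg.Agent.Lib.Helper68.BG1215.le_of_isPGroup_of_not_dvd hHall.1 (ac_le_normalizer M) hQM hQ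
    (hHall.2.2 s hs.out hsα)

/-- the key conjugation step: an element `y` of prime order `u` of `M ∩ C(P)` is conjugate under
`M ∩ C(P)` into `B`, when `M = A B` with `A` a normal `{u,p}'`-subgroup. -/
theorem keystep {M A B P : Subgroup G} {p u : ℕ} [hp : Fact p.Prime] [hu : Fact u.Prime]
    (hAM : A ≤ M) (hMA : M ≤ normalizer (A : Set G)) (hBM : B ≤ M) (hPB : P ≤ B)
    (hP : Nat.card P = p) (hpA : ¬ p ∣ Nat.card A) (huA : ¬ u ∣ Nat.card A) (hup : u ≠ p)
    (hdec : ∀ m ∈ M, ∃ a ∈ A, ∃ b ∈ B, m = a * b)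
    {y : G} (hyM : y ∈ M) (hyP : y ∈ centralizer (P : Set G)) (hy : orderOf y = u) :
    ∃ c ∈ M ⊓ centralizer (P : Set G), c * y * c⁻¹ ∈ B := by
  set Y := zpowers y with hY
  have hYcard : Nat.card Y = u := by rw [hY, Nat.card_zpowers, hy]
  have hYM : Y ≤ M := by rw [hY, zpowers_le]; exact hyM
  have hYA : Y ≤ normalizer (A : Set G) := hYM.trans hMA
  have hYinf : Y ⊓ A = ⊥ := by
    apply disjoint_iff.mp
    apply Subgroup.disjoint_of_coprime_natCard
    rw [hYcard]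
    exact (Nat.Prime.coprime_iff_not_dvd hu.out).mpr huA
  set T := Y ⊔ A with hT
  have hTM : T ≤ M := sup_le hYM hAM
  have hAT : A ≤ T := le_sup_right
  have hYT : Y ≤ T := le_sup_left
  have hrel : A.relIndex T = u := by
    rw [hT, relIndex_sup_eq_card Y A hYA hYinf, hYcard]
  have hTcard : Nat.card T = u * Nat.card A := by
    rw [← ri_mul_card hAT, hrel]
  have hPM : P ≤ M := hPB.trans hBM
  -- `P` normalizes `Y`, `T`, `B`
  have hPY : P ≤ normalizer (Y : Set G) := by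
    have h1 : P ≤ centralizer (Y : Set G) := by
      rw [le_centralizer_iff, hY, zpowers_le]; exact hyP
    exact h1.trans (centralizer_le_normalizer _)
  have hPT : P ≤ normalizer (T : Set G) := by
    intro x hx
    rw [← cj_eq_self_iff, hT, cj_sup, cj_eq_self_iff.mpr (hPY hx),
      cj_eq_self_iff.mpr (hMA (hPM hx))]
  have hPBn : P ≤ normalizer (B : Set G) := hPB.trans le_normalizer
  have hpT : ¬ p ∣ Nat.card T := by
    rw [hTcard]
    intro h
    rcases (Nat.Prime.dvd_mul hp.out).mp h with h | h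
    · exact hup ((Nat.prime_dvd_prime_iff_eq hp.out hu.out).mp h).symm
    · exact hpA h
  have hcopT : (Nat.card P).Coprime (Nat.card T) := by
    rw [hP]; exact (Nat.Prime.coprime_iff_not_dvd hp.out).mpr hpT
  have hPp : IsPGroup p P := IsPGroup.of_card (n := 1) (by rw [hP, pow_one])
  have hPsolv : Group.IsSolvable P := by
    have : Group.IsNilpotent P := hPp.isNilpotent
    infer_instance
  -- `Y` is a Sylow `u`-subgroup of `T`
  have hYu : IsPGroup u Y := IsPGroup.of_card (n := 1) (by rw [hYcard, pow_one])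
  have hYidx : ¬ u ∣ Y.relIndex T := by
    have h1 : Y.relIndex T * Nat.card Y = Nat.card T := ri_mul_card hYT
    rw [hYcard, hTcard, mul_comm] at h1
    have h2 : Y.relIndex T = Nat.card A := Nat.eq_of_mul_eq_mul_left hu.out.pos h1
    rw [h2]; exact huA
  obtain ⟨QY, hQY⟩ := exists_sylow_map_eq (p := u) T Y hYT hYu hYidx
  -- the subgroup `K = T ⊓ B`
  set K := T ⊓ B with hK
  have hKT : K ≤ T := inf_le_left
  have hKB : K ≤ B := inf_le_right
  have hPK : P ≤ normalizer (K : Set G) := by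
    intro x hx
    rw [← cj_eq_self_iff, hK, cj_inf, cj_eq_self_iff.mpr (hPT hx),
      cj_eq_self_iff.mpr (hPBn hx)]
  have hcopK : (Nat.card P).Coprime (Nat.card K) :=
    Nat.Coprime.coprime_dvd_right (card_dvd_of_le hKT) hcopT
  -- `T = K A`
  have hKA : K ≤ normalizer (A : Set G) := (hKT.trans hTM).trans hMA
  have hTKA : T = K ⊔ A := by
    apply le_antisymm
    · rw [hT]
      refine sup_le ?_ le_sup_right
      rw [hY, zpowers_le]
      obtain ⟨a, ha, b, hb, hab⟩ := hdec y hyM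
      have hbT : b ∈ T := by
        have h1 : b = a⁻¹ * y := by rw [hab]; group
        rw [h1]
        exact T.mul_mem (T.inv_mem (hAT ha)) (hYT (mem_zpowers y))
      rw [hab]
      exact (K ⊔ A).mul_mem (le_sup_right (a := K) ha) (le_sup_left (b := A) ⟨hbT, hb⟩)
    · exact sup_le hKT hAT
  have huK : u ∣ Nat.card K := by
    have h1 : A.relIndex (K ⊔ A) = A.relIndex K := relIndex_sup_right_of_le_normalizer K A hKA
    rw [← hTKA, hrel] at h1
    rw [h1]
    exact Subgroup.relIndex_dvd_card A K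
  obtain ⟨Q1, hQ1⟩ := exists_invariant_sylow (p := u) P K hPK hcopK (Or.inl hPsolv)
  obtain ⟨hU1K, hU1u, hU1i⟩ := sylow_map_facts K Q1
  set U1 := (Q1 : Subgroup K).map K.subtype with hU1
  have hU1T : U1 ≤ T := hU1K.trans hKT
  have huU1 : u ∣ Nat.card U1 := by
    have h1 : U1.relIndex K * Nat.card U1 = Nat.card K := ri_mul_card hU1K
    rw [← h1] at huK
    rcases (Nat.Prime.dvd_mul hu.out).mp huK with h | h
    · exact absurd h hU1i
    · exact h
  have hU1idx : ¬ u ∣ U1.relIndex T := by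
    intro h
    have h1 : U1.relIndex T * Nat.card U1 = Nat.card T := ri_mul_card hU1T
    obtain ⟨k, hk⟩ := h
    obtain ⟨l, hl⟩ := huU1
    rw [hTcard, hk, hl] at h1
    have h2 : u * (k * (u * l)) = u * Nat.card A := by rw [← h1]; ring
    have h3 : k * (u * l) = Nat.card A := Nat.eq_of_mul_eq_mul_left hu.out.pos h2
    exact huA ⟨k * l, by rw [← h3]; ring⟩
  obtain ⟨QU, hQU⟩ := exists_sylow_map_eq (p := u) T U1 hU1T hU1u hU1idx
  obtain ⟨c, hc, hcc⟩ := invariant_sylow_conj (p := u) P T hPT hcopT (Or.inl hPsolv) QY QU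
    (by rw [hQY]; exact hPY) (by rw [hQU]; exact hQ1)
  rw [hQY, hQU] at hcc
  refine ⟨c, ⟨hTM hc.1, hc.2⟩, ?_⟩
  have h1 : c * y * c⁻¹ ∈ cj c Y := conj_mem_cj (mem_zpowers y)
  rw [hcc] at h1
  exact hKB (hU1K h1)

/-- (A) an `s`-subgroup containing a nonidentity element of `M_α` lies in `M_α` -/
theorem le_ac_of_mem {M S : Subgroup G} (hHall : IsPiHallOf (alpha M) (alphaCore M) M)
    (pinM : ∀ k ∈ alphaCore M, k ≠ 1 → ∀ g : G, g * k * g⁻¹ ∈ M → g ∈ M)
    {s : ℕ} [hs : Fact s.Prime] (hS : IsPGroup s S) {x : G} (hxS : x ∈ S)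
    (hxA : x ∈ alphaCore M) (hx1 : x ≠ 1) : S ≤ alphaCore M := by
  -- `s ∈ α(M)`
  have hsα : s ∈ alpha M := by
    apply hHall.2.1 s hs.out
    have h1 : orderOf x ∣ Nat.card (alphaCore M) := Subgroup.orderOf_dvd_natCard _ hxA
    refine Dvd.dvd.trans ?_ h1
    obtain ⟨k, hk⟩ := hS ⟨x, hxS⟩
    have hk' : x ^ (s ^ k) = 1 := by
      have := congrArg (fun z : S => (z : G)) hk
      simpa using this
    obtain ⟨j, -, hj⟩ := (Nat.dvd_prime_pow hs.out).mp (orderOf_dvd_of_pow_eq_one hk')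
    rcases Nat.eq_zero_or_pos j with rfl | hj0
    · rw [pow_zero] at hj
      exact absurd (orderOf_eq_one_iff.mp hj) hx1
    · rw [hj]; exact dvd_pow_self s hj0.ne'
  have : Nontrivial S := ⟨⟨⟨x, hxS⟩, 1, fun h => hx1 (congrArg (fun z : S => (z : G)) h)⟩⟩
  have : Nontrivial (Subgroup.center S) := hS.center_nontrivial
  obtain ⟨z, hz1⟩ := exists_ne (1 : Subgroup.center S)
  have hzc : ∀ t : S, t * (z : S) = (z : S) * t := fun t => (Subgroup.mem_center_iff.mp z.2 t)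
  have hzG1 : ((z : S) : G) ≠ 1 := by
    intro h
    apply hz1
    apply Subtype.ext
    apply Subtype.ext
    simpa using h
  have hzS : ((z : S) : G) ∈ S := (z : S).2
  have hzcG : ∀ t ∈ S, t * ((z : S) : G) = ((z : S) : G) * t := by
    intro t ht
    have := congrArg (fun w : S => (w : G)) (hzc ⟨t, ht⟩)
    simpa using this
  -- `z ∈ M`
  have hzM : ((z : S) : G) ∈ M := by
    apply pinM x hxA hx1
    have h1 : ((z : S) : G) * x * ((z : S) : G)⁻¹ = x := by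
      rw [← hzcG x hxS]; group
    rw [h1]; exact ac_le M hxA
  have hzA : ((z : S) : G) ∈ alphaCore M := by
    have h1 : zpowers ((z : S) : G) ≤ alphaCore M := by
      apply le_ac_of_isPGroup hHall hsα
      · rw [zpowers_le]; exact hzM
      · exact hS.to_le (by rw [zpowers_le]; exact hzS)
    exact h1 (mem_zpowers _)
  have hSM : S ≤ M := by
    intro t ht
    apply pinM _ hzA hzG1
    have h1 : t * ((z : S) : G) * t⁻¹ = ((z : S) : G) := by
      rw [hzcG t ht]; group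
    rw [h1]; exact hzM
  exact le_ac_of_isPGroup hHall hsα hSM hS

/-- one half of the asymmetry argument -/
theorem asym_half {M L : Subgroup G} {p : ℕ} [hp : Fact p.Prime] {P : Subgroup G}
    (hP : Nat.card P = p) (hPB : P ≤ M ⊓ L)
    (hHM : IsPiHallOf (alpha M) (alphaCore M) M) (hHL : IsPiHallOf (alpha L) (alphaCore L) L)
    (hpM : p ∉ alpha M) (hpL : p ∉ alpha L)
    (hdisj : ∀ u : ℕ, u ∈ alpha M → u ∈ alpha L → False)
    (pinM : ∀ k ∈ alphaCore M, k ≠ 1 → ∀ g : G, g * k * g⁻¹ ∈ M → g ∈ M)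
    (hdecM : ∀ m ∈ M, ∃ a ∈ alphaCore M, ∃ b ∈ M ⊓ L, m = a * b)
    (hregL : (alphaCore L ⊓ M) ⊓ centralizer (P : Set G) = ⊥)
    {H0 S0 : Subgroup G} (hH0C : H0 ≤ centralizer (P : Set G))
    (hnorm : H0 ≤ normalizer (S0 : Set G)) {s : ℕ} [hs : Fact s.Prime] (hS0 : IsPGroup s S0)
    (hS0ne : S0 ≠ ⊥) {x : G} (hxA : x ∈ alphaCore M) (hxH : x ∈ H0) (hxo : orderOf x = s)
    {u : ℕ} [hu : Fact u.Prime] (huL : u ∈ alpha L) {y : G} (hyH : y ∈ H0)
    (hyo : orderOf y = u) : False := by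
  have hx1 : x ≠ 1 := by
    intro h
    rw [h, orderOf_one] at hxo
    exact hs.out.one_lt.ne hxo
  -- `S' = ⟨x⟩ S₀` is an `s`-group
  have hXp : IsPGroup s (zpowers x) :=
    IsPGroup.of_card (n := 1) (by rw [Nat.card_zpowers, hxo, pow_one])
  have hXn : zpowers x ≤ normalizer (S0 : Set G) := by
    rw [zpowers_le]; exact hnorm hxH
  have hS' : IsPGroup s (zpowers x ⊔ S0 : Subgroup G) :=
    IsPGroup.to_sup_of_normal_right' hXp hS0 hXn
  have hS'A : (zpowers x ⊔ S0 : Subgroup G) ≤ alphaCore M :=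
    le_ac_of_mem hHM pinM hS' (le_sup_left (a := zpowers x) (mem_zpowers x)) hxA hx1
  have hS0A : S0 ≤ alphaCore M := le_sup_right.trans hS'A
  -- (B) `H0 ≤ M`
  obtain ⟨k, hkS, hk1⟩ : ∃ k ∈ S0, k ≠ 1 := by
    by_contra hcon
    push Not at hcon
    exact hS0ne ((Subgroup.eq_bot_iff_forall S0).mpr hcon)
  have hH0M : H0 ≤ M := by
    intro g hg
    apply pinM k (hS0A hkS) hk1
    exact ac_le M (hS0A ((mem_normalizer_iff.mp (hnorm hg) k).mp hkS))
  -- primes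
  have huM : u ∉ alpha M := fun h => hdisj u h huL
  have hup : u ≠ p := fun h => hpL (h ▸ huL)
  have hpA : ¬ p ∣ Nat.card (alphaCore M) := fun h => hpM (hHM.2.1 p hp.out h)
  have huA : ¬ u ∣ Nat.card (alphaCore M) := fun h => huM (hHM.2.1 u hu.out h)
  obtain ⟨c, hc, hcy⟩ := keystep (ac_le M) (ac_le_normalizer M) (inf_le_left : M ⊓ L ≤ M) hPB hP
    hpA huA hup hdecM (hH0M hyH) (hH0C hyH) hyo
  set x' := c * y * c⁻¹ with hx'
  have hx'o : orderOf x' = u := by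
    have h1 : x' = MulAut.conj c y := by simp [hx']
    rw [h1, MulEquiv.orderOf_eq]
    exact hyo
  have hx'L : zpowers x' ≤ alphaCore L := by
    apply le_ac_of_isPGroup hHL huL
    · rw [zpowers_le]; exact hcy.2
    · exact IsPGroup.of_card (n := 1) (by rw [Nat.card_zpowers, hx'o, pow_one])
  have hx'C : x' ∈ centralizer (P : Set G) :=
    Subgroup.mul_mem _ (Subgroup.mul_mem _ hc.2 (hH0C hyH)) (Subgroup.inv_mem _ hc.2)
  have hmem : x' ∈ (alphaCore L ⊓ M) ⊓ centralizer (P : Set G) :=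
    ⟨⟨hx'L (mem_zpowers x'), hcy.1⟩, hx'C⟩
  rw [hregL, mem_bot] at hmem
  rw [hmem, orderOf_one] at hx'o
  exact hu.out.one_lt.ne hx'o

theorem cauchy_sub (H : Subgroup G) (q : ℕ) [hq : Fact q.Prime] (h : q ∣ Nat.card H) :
    ∃ x ∈ H, orderOf x = q := by
  obtain ⟨x, hx⟩ := exists_prime_orderOf_dvd_card' q h
  exact ⟨(x : G), x.2, by rw [Subgroup.orderOf_coe]; exact hx⟩

omit [Finite G] in
theorem exists_prime_dvd_card_of_ne_bot {H : Subgroup G} (h : H ≠ ⊥) :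
    ∃ q : ℕ, q.Prime ∧ q ∣ Nat.card H := by
  apply Nat.exists_prime_and_dvd
  intro h1
  exact h (Subgroup.card_eq_one.mp h1)

/-- The core of the asymmetry lemma (steps (3)–(6)). -/
theorem asym_core (hG : IsMinSimpleOddOrder G) {M L : Subgroup G} {p : ℕ} [hp : Fact p.Prime]
    {P : Subgroup G} (hP : Nat.card P = p) (hPB : P ≤ M ⊓ L)
    (hHM : IsPiHallOf (alpha M) (alphaCore M) M) (hHL : IsPiHallOf (alpha L) (alphaCore L) L)
    (hpM : p ∉ alpha M) (hpL : p ∉ alpha L)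
    (hdisj : ∀ u : ℕ, u ∈ alpha M → u ∈ alpha L → False)
    (pinM : ∀ k ∈ alphaCore M, k ≠ 1 → ∀ g : G, g * k * g⁻¹ ∈ M → g ∈ M)
    (pinL : ∀ k ∈ alphaCore L, k ≠ 1 → ∀ g : G, g * k * g⁻¹ ∈ L → g ∈ L)
    (hdecM : ∀ m ∈ M, ∃ a ∈ alphaCore M, ∃ b ∈ M ⊓ L, m = a * b)
    (hdecL : ∀ m ∈ L, ∃ a ∈ alphaCore L, ∃ b ∈ M ⊓ L, m = a * b)
    (hKM : alphaCore M ⊓ centralizer (P : Set G) ≠ ⊥)
    (hKL : alphaCore L ⊓ centralizer (P : Set G) ≠ ⊥)
    (hregM : (alphaCore M ⊓ L) ⊓ centralizer (P : Set G) = ⊥)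
    (hregL : (alphaCore L ⊓ M) ⊓ centralizer (P : Set G) = ⊥) : False := by
  have hPne : P ≠ ⊥ := by
    intro h
    rw [h, Subgroup.card_bot] at hP
    exact hp.out.one_lt.ne hP
  set C := centralizer (P : Set G) with hC
  have hCtop : C ≠ ⊤ := Cfsg.Agent.Lib.Helper63.BG10.centralizer_ne_top hG hPne
  have hCsolv : Group.IsSolvable C := hG.2.2.2 C hCtop
  set KM := alphaCore M ⊓ C with hKMdef
  set KL := alphaCore L ⊓ C with hKLdef
  have hKMC : KM ≤ C := inf_le_right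
  have hKLC : KL ≤ C := inf_le_right
  obtain ⟨m, n, hmn, hcop, hm, hn⟩ := Cfsg.Agent.Lib.Helper19.HallRel.pi_factorization
    {q : ℕ | q ∣ Nat.card KM ∨ q ∣ Nat.card KL} (Nat.card C) Nat.card_pos
  have hKMn : (Nat.card KM).Coprime n :=
    Nat.coprime_of_dvd (fun k hk h1 h2 => hn k hk h2 (Or.inl h1))
  have hKLn : (Nat.card KL).Coprime n :=
    Nat.coprime_of_dvd (fun k hk h1 h2 => hn k hk h2 (Or.inr h1))
  obtain ⟨H0, hH0C, hH0card, hKMH0⟩ :=
    Cfsg.Agent.Lib.Helper68.BG1215.hall_exists_ge m n hmn hcop hKMC hKMn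
  obtain ⟨g, hgC, hgKL⟩ :=
    Cfsg.Agent.Lib.Helper68.BG1215.hall_conj_le m n hmn hcop hH0C hH0card hKLC hKLn
  have hH0top : H0 ≠ ⊤ := fun h => hCtop (top_le_iff.mp (h ▸ hH0C))
  have hH0solv : Group.IsSolvable H0 := hG.2.2.2 H0 hH0top
  have hH0card1 : Nat.card H0 ≠ 1 := by
    intro h
    apply hKM
    rw [eq_bot_iff]
    exact hKMH0.trans (Subgroup.card_eq_one.mp h).le
  obtain ⟨s, S, hsp, hSn, hSne, -, hSp⟩ := Cfsg.Agent.Lib.Helper1.exists_normal_pgroup hH0solv hH0card1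
  have : Fact s.Prime := ⟨hsp⟩
  set S0 := S.map H0.subtype with hS0def
  have hS0H0 : S0 ≤ H0 := Subgroup.map_subtype_le S
  have hS0p : IsPGroup s S0 := hSp.map _
  have hS0ne : S0 ≠ ⊥ := by
    intro h
    exact hSne ((Subgroup.map_eq_bot_iff_of_injective S H0.subtype_injective).mp h)
  have hnorm : H0 ≤ normalizer (S0 : Set G) := by
    intro h hh
    rw [Subgroup.mem_normalizer_iff]
    intro t
    constructor
    · rintro ⟨t', ht', rfl⟩
      exact ⟨(⟨h, hh⟩ : H0) * t' * (⟨h, hh⟩ : H0)⁻¹, hSn.conj_mem t' ht' ⟨h, hh⟩, rfl⟩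
    · rintro ⟨t', ht', ht⟩
      have h1 : (⟨h, hh⟩ : H0)⁻¹ * t' * (⟨h, hh⟩ : H0)⁻¹⁻¹ ∈ S := hSn.conj_mem t' ht' _
      refine ⟨_, h1, ?_⟩
      have h2 : (H0.subtype t' : G) = h * t * h⁻¹ := ht
      simp only [map_mul, map_inv, inv_inv, Subgroup.subtype_apply] at h2 ⊢
      rw [h2]; group
  have hsS0 : s ∣ Nat.card S0 := by
    obtain ⟨k, hk⟩ := IsPGroup.iff_card.mp hS0p
    rcases Nat.eq_zero_or_pos k with rfl | hk0
    · rw [pow_zero] at hk
      exact absurd (Subgroup.card_eq_one.mp hk) hS0ne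
    · rw [hk]; exact dvd_pow_self s hk0.ne'
  have hsm : s ∣ m := by
    rw [← hH0card]; exact hsS0.trans (Subgroup.card_dvd_of_le hS0H0)
  have hKLdvd : Nat.card KL ∣ Nat.card H0 := by
    rw [← card_cj g KL]; exact Subgroup.card_dvd_of_le hgKL
  have hKMdvd : Nat.card KM ∣ Nat.card H0 := Subgroup.card_dvd_of_le hKMH0
  rcases hm s hsp hsm with hs | hs
  · -- `s ∣ |K_M|`
    obtain ⟨x, hxK, hxo⟩ := cauchy_sub KM s hs
    obtain ⟨u, hup, hu⟩ := exists_prime_dvd_card_of_ne_bot hKL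
    have : Fact u.Prime := ⟨hup⟩
    obtain ⟨y, hyH, hyo⟩ := cauchy_sub H0 u (hu.trans hKLdvd)
    have huL : u ∈ alpha L := hHL.2.1 u hup (hu.trans (Subgroup.card_dvd_of_le inf_le_left))
    exact asym_half hP hPB hHM hHL hpM hpL hdisj pinM hdecM hregL hH0C hnorm hS0p hS0ne
      hxK.1 (hKMH0 hxK) hxo huL hyH hyo
  · -- `s ∣ |K_L|`
    have hginv : g⁻¹ ∈ C := C.inv_mem hgC
    have hKLH0' : KL ≤ cj g⁻¹ H0 := cj_le_iff.mp hgKL
    have hH0'C : cj g⁻¹ H0 ≤ C := by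
      have h1 : cj g⁻¹ H0 ≤ cj g⁻¹ C := cj_mono hH0C
      rwa [cj_eq_self_of_mem hginv] at h1
    have hnorm' : cj g⁻¹ H0 ≤ normalizer ((cj g⁻¹ S0 : Subgroup G) : Set G) := by
      rw [normalizer_cj]; exact cj_mono hnorm
    have hS0p' : IsPGroup s (cj g⁻¹ S0) := isPGroup_cj hS0p
    have hS0ne' : cj g⁻¹ S0 ≠ ⊥ := fun h => hS0ne (cj_eq_bot_iff.mp h)
    obtain ⟨x, hxK, hxo⟩ := cauchy_sub KL s hs
    obtain ⟨u, hup, hu⟩ := exists_prime_dvd_card_of_ne_bot hKM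
    have : Fact u.Prime := ⟨hup⟩
    obtain ⟨y, hyH, hyo⟩ := cauchy_sub (cj g⁻¹ H0) u (by rw [card_cj]; exact hu.trans hKMdvd)
    have huM : u ∈ alpha M := hHM.2.1 u hup (hu.trans (Subgroup.card_dvd_of_le inf_le_left))
    have hPB' : P ≤ L ⊓ M := by rw [inf_comm]; exact hPB
    have hdecL' : ∀ m ∈ L, ∃ a ∈ alphaCore L, ∃ b ∈ L ⊓ M, m = a * b := by
      intro m hm
      obtain ⟨a, ha, b, hb, hab⟩ := hdecL m hm
      exact ⟨a, ha, b, ⟨hb.2, hb.1⟩, hab⟩
    exact asym_half hP hPB' hHL hHM hpL hpM (fun u h1 h2 => hdisj u h2 h1) pinL hdecL' hregM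
      hH0'C hnorm' hS0p' hS0ne' hxK.1 (hKLH0' hxK) hxo huM hyH hyo

end Cfsg.Agent.Lib.Helper80.BG138
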