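import Cfsg.Agent.Lib.Helper80.Central
import Mathlib.LinearAlgebra.Eigenspace.Charpoly
import Mathlib.RingTheory.IntegralClosure.IntegrallyClosed
import Mathlib.RingTheory.Localization.FractionRing
import Mathlib.RingTheory.Polynomial.RationalRoot
import Mathlib.Algebra.MonoidAlgebra.Basic

set_option autoImplicit false

namespace Cfsg.Agent.Lib.Helper80

open Representation

section CharIntegral

variable {G V : Type*} [Group G] [Finite G] [AddCommGroup V] [Module ℂ V]
  [FiniteDimensional ℂ V]

/-- Eigenvalues of `ρ g` are roots of unity. -/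
theorem eigenvalue_pow_orderOf (ρ : Representation ℂ G V) (g : G) (μ : ℂ)
    (hμ : Module.End.HasEigenvalue (ρ g) μ) : μ ^ orderOf g = 1 := by
  obtain ⟨v, hv⟩ := hμ.exists_hasEigenvector
  have h1 : ((ρ g) ^ orderOf g) v = μ ^ orderOf g • v := hv.pow_apply (orderOf g)
  rw [← map_pow, pow_orderOf_eq_one, map_one, Module.End.one_apply] at h1
  have h2 : (μ ^ orderOf g - 1) • v = 0 := by rw [sub_smul, one_smul, ← h1, sub_self]
  rcases smul_eq_zero.mp h2 with h | h
  · exact sub_eq_zero.mp h
  · exact absurd h hv.2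

/-- Character values are algebraic integers. -/
theorem char_isIntegral (ρ : Representation ℂ G V) (g : G) : IsIntegral ℤ (ρ.character g) := by
  have hs : (LinearMap.charpoly (ρ g)).Splits := IsAlgClosed.splits _
  show IsIntegral ℤ (LinearMap.trace ℂ V (ρ g))
  rw [Module.End.trace_eq_sum_roots_charpoly_of_splits hs]
  refine IsIntegral.multiset_sum fun μ hμ => ?_
  have hroot : (LinearMap.charpoly (ρ g)).IsRoot μ := (Polynomial.mem_roots'.mp hμ).2
  have hev := (Module.End.hasEigenvalue_iff_isRoot_charpoly (ρ g) μ).mpr hroot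
  have hpow := eigenvalue_pow_orderOf ρ g μ hev
  refine IsIntegral.of_pow (orderOf_pos g) ?_
  rw [hpow]
  exact isIntegral_one

end CharIntegral

section DegreeDvd

variable {G V : Type*} [Group G] [Fintype G] [AddCommGroup V] [Module ℂ V]
  [FiniteDimensional ℂ V]

/-- `|G| / χ(1)` is an algebraic integer. -/
theorem isIntegral_card_div_degree (ρ : Representation ℂ G V) [ρ.IsIrreducible] :
    IsIntegral ℤ ((Nat.card G : ℂ) / (Module.finrank ℂ V : ℂ)) := by
  classical
  have := nontrivial_of_irreducible ρ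
  let O := integralClosure ℤ ℂ
  let F : MonoidAlgebra O G →ₐ[O] Module.End ℂ V := MonoidAlgebra.lift O (Module.End ℂ V) G ρ
  let x : MonoidAlgebra O G :=
    ∑ h : G, (⟨ρ.character h⁻¹, char_isIntegral ρ h⁻¹⟩ : O) • MonoidAlgebra.of O G h
  have hx : IsIntegral O x := IsIntegral.of_finite O x
  have hFx : IsIntegral O (F x) := hx.map F
  have hF : F x = ∑ h : G, ρ.character h⁻¹ • ρ h := by
    simp only [x, map_sum, map_smul]
    refine Finset.sum_congr rfl fun h _ => ?_
    rw [show F (MonoidAlgebra.of O G h) = ρ h from MonoidAlgebra.lift_of _ _]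
    rfl
  rw [hF, sum_char_inv_smul ρ] at hFx
  rw [show (LinearMap.id : V →ₗ[ℂ] V) = 1 from rfl, ← Algebra.algebraMap_eq_smul_one] at hFx
  have h3 : IsIntegral O ((Nat.card G : ℂ) / (Module.finrank ℂ V : ℂ)) :=
    (isIntegral_algebraMap_iff (FaithfulSMul.algebraMap_injective ℂ (Module.End ℂ V))).mp hFx
  exact isIntegral_trans _ h3

/-- The degree of an irreducible complex representation divides the group order. -/
theorem finrank_dvd_card (ρ : Representation ℂ G V) [ρ.IsIrreducible] :
    Module.finrank ℂ V ∣ Nat.card G := by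
  have h := isIntegral_card_div_degree ρ
  have hn : (Module.finrank ℂ V : ℚ) ≠ 0 := by
    have := finrank_pos_of_irreducible ρ
    exact_mod_cast this.ne'
  have h2 : IsIntegral ℤ (((Nat.card G : ℚ) / (Module.finrank ℂ V : ℚ) : ℚ)) := by
    rw [← isIntegral_algebraMap_iff (algebraMap ℚ ℂ).injective]
    simpa using h
  obtain ⟨z, hz⟩ := IsIntegrallyClosed.isIntegral_iff.mp h2
  rw [eq_div_iff hn] at hz
  have hz' : z * (Module.finrank ℂ V : ℤ) = (Nat.card G : ℤ) := by
    have : ((z * (Module.finrank ℂ V : ℤ) : ℤ) : ℚ) = ((Nat.card G : ℤ) : ℚ) := by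
      push_cast
      simpa using hz
    exact_mod_cast this
  have : (Module.finrank ℂ V : ℤ) ∣ (Nat.card G : ℤ) := ⟨z, by rw [← hz', mul_comm]⟩
  exact_mod_cast this

end DegreeDvd

end Cfsg.Agent.Lib.Helper80
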