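import Cfsg.Prelude.Def_Characters
import Cfsg.Agent.Lib.Helper80.Integral
import Cfsg.Agent.Lib.Helper3.Eigen

set_option autoImplicit false

namespace Cfsg.Agent.Lib.Helper80

open Representation
open scoped ComplexConjugate

section IrrApi

variable {G : Type*} [Group G]

theorem irr_class (χ : Cfsg.IrrCharacter G) (g h : G) :
    (χ : G → ℂ) (h * g * h⁻¹) = (χ : G → ℂ) g := by
  obtain ⟨n, ρ, _, hρ⟩ := χ.2
  rw [← hρ]
  exact char_conj ρ g h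

theorem irr_mul_comm (χ : Cfsg.IrrCharacter G) (g h : G) :
    (χ : G → ℂ) (g * h) = (χ : G → ℂ) (h * g) := by
  obtain ⟨n, ρ, _, hρ⟩ := χ.2
  rw [← hρ]
  exact char_mul_comm ρ h g

theorem irr_conj_inv [Finite G] (χ : Cfsg.IrrCharacter G) (g : G) :
    (χ : G → ℂ) g⁻¹ = conj ((χ : G → ℂ) g) := by
  obtain ⟨n, ρ, _, hρ⟩ := χ.2
  rw [← hρ]
  exact Cfsg.Agent.Lib.Helper3.character_inv ρ g

theorem irr_one_eq_natCast (χ : Cfsg.IrrCharacter G) :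
    ∃ n : ℕ, 0 < n ∧ (χ : G → ℂ) 1 = (n : ℂ) := by
  obtain ⟨n, ρ, hirr, hρ⟩ := χ.2
  haveI := hirr
  refine ⟨Module.finrank ℂ (Fin n → ℂ), finrank_pos_of_irreducible ρ, ?_⟩
  rw [← hρ, char_one]

theorem irr_one_ne_zero (χ : Cfsg.IrrCharacter G) : (χ : G → ℂ) 1 ≠ 0 := by
  obtain ⟨n, hn, h⟩ := irr_one_eq_natCast χ
  rw [h]
  exact_mod_cast hn.ne'

theorem irr_one_conj (χ : Cfsg.IrrCharacter G) : conj ((χ : G → ℂ) 1) = (χ : G → ℂ) 1 := by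
  obtain ⟨n, _, h⟩ := irr_one_eq_natCast χ
  rw [h]
  exact Complex.conj_natCast n

theorem irr_generalized_orthogonality [Fintype G] (χ : Cfsg.IrrCharacter G) (w : G) :
    ∑ x : G, (χ : G → ℂ) (w * x) * (χ : G → ℂ) x⁻¹ =
      (Nat.card G : ℂ) * (χ : G → ℂ) w / (χ : G → ℂ) 1 := by
  obtain ⟨n, ρ, hirr, hρ⟩ := χ.2
  haveI := hirr
  rw [← hρ, char_one]
  exact generalized_orthogonality ρ w

theorem irr_sum_char_mul_conj [Fintype G] (χ : Cfsg.IrrCharacter G) (a b : G) :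
    ∑ x : G, (χ : G → ℂ) (a * (x * b * x⁻¹)) =
      (Nat.card G : ℂ) * (χ : G → ℂ) a * (χ : G → ℂ) b / (χ : G → ℂ) 1 := by
  obtain ⟨n, ρ, hirr, hρ⟩ := χ.2
  haveI := hirr
  rw [← hρ, char_one]
  exact sum_char_mul_conj ρ a b

theorem irr_isIntegral [Finite G] (χ : Cfsg.IrrCharacter G) (g : G) :
    IsIntegral ℤ ((χ : G → ℂ) g) := by
  obtain ⟨n, ρ, _, hρ⟩ := χ.2
  rw [← hρ]
  exact char_isIntegral ρ g

end IrrApi

end Cfsg.Agent.Lib.Helper80
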