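import Cfsg.Agent.Lib.Helper80.Complete

set_option autoImplicit false

namespace Cfsg.Agent.Lib.Helper80

open Representation
open scoped ComplexConjugate

section Ortho

variable {G : Type*} [Group G] [Fintype G]

/-- Row orthogonality for `IrrCharacter`. -/
theorem irr_row_orthogonality (χ ψ : Cfsg.IrrCharacter G) :
    ∑ g : G, (χ : G → ℂ) g * conj ((ψ : G → ℂ) g) =
      if χ = ψ then (Nat.card G : ℂ) else 0 := by
  split_ifs with h
  · subst h
    obtain ⟨n, ρ, hirr, hρ⟩ := χ.2
    have := hirr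
    simp only [← irr_conj_inv]
    rw [← hρ]
    exact sum_char_mul_char_inv ρ
  · obtain ⟨n, ρ, hirr, hρ⟩ := χ.2
    obtain ⟨m, σ, hirr', hσ⟩ := ψ.2
    have := hirr
    have := hirr'
    simp only [← irr_conj_inv]
    rw [← hρ, ← hσ]
    refine sum_char_mul_char_inv_of_not_equiv ρ σ ⟨fun φ => h ?_⟩
    apply Subtype.ext
    rw [← hρ, ← hσ]
    exact (char_iso φ).symm

theorem irr_linearIndependent :
    LinearIndependent ℂ (fun χ : Cfsg.IrrCharacter G => (χ : G → ℂ)) := by
  classical
  rw [linearIndependent_iff']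
  intro s c hc ψ hψ
  have h1 : ∑ g : G, (∑ χ ∈ s, c χ • (χ : G → ℂ)) g * conj ((ψ : G → ℂ) g) = 0 := by
    rw [hc]; simp
  have h2 : ∑ g : G, (∑ χ ∈ s, c χ • (χ : G → ℂ)) g * conj ((ψ : G → ℂ) g) =
      ∑ χ ∈ s, c χ * ∑ g : G, (χ : G → ℂ) g * conj ((ψ : G → ℂ) g) := by
    simp only [Finset.sum_apply, Pi.smul_apply, smul_eq_mul, Finset.sum_mul, Finset.mul_sum]
    rw [Finset.sum_comm]
    refine Finset.sum_congr rfl fun χ _ => Finset.sum_congr rfl fun g _ => ?_
    ring
  rw [h2] at h1
  simp only [irr_row_orthogonality] at h1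
  rw [Finset.sum_eq_single ψ] at h1
  · rw [if_pos rfl] at h1
    exact (mul_eq_zero.mp h1).resolve_right card_ne_zero'
  · intro χ _ hne
    rw [if_neg hne, mul_zero]
  · intro h; exact absurd hψ h

instance irr_finite : Finite (Cfsg.IrrCharacter G) :=
  LinearIndependent.finite_of_isNoetherian (irr_linearIndependent (G := G))

/-- Expansion of a class function in irreducible characters. -/
theorem classFun_expansion [Fintype (Cfsg.IrrCharacter G)] (φ : G → ℂ)
    (hφ : ∀ g h : G, φ (h * g * h⁻¹) = φ g) (x : G) :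
    φ x = ∑ χ : Cfsg.IrrCharacter G,
      ((Nat.card G : ℂ)⁻¹ * ∑ g : G, φ g * conj ((χ : G → ℂ) g)) * (χ : G → ℂ) x := by
  classical
  let c : Cfsg.IrrCharacter G → ℂ := fun χ =>
    (Nat.card G : ℂ)⁻¹ * ∑ g : G, φ g * conj ((χ : G → ℂ) g)
  let φ' : G → ℂ := fun y => φ y - ∑ χ : Cfsg.IrrCharacter G, c χ * (χ : G → ℂ) y
  have hφ'cls : ∀ g h : G, φ' (h * g * h⁻¹) = φ' g := by
    intro g h
    simp only [φ', hφ, irr_class]
  have horth : ∀ ψ : Cfsg.IrrCharacter G, ∑ g : G, φ' g * conj ((ψ : G → ℂ) g) = 0 := by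
    intro ψ
    simp only [φ', sub_mul, Finset.sum_sub_distrib, Finset.sum_mul]
    rw [Finset.sum_comm]
    have : ∀ χ : Cfsg.IrrCharacter G,
        ∑ g : G, c χ * (χ : G → ℂ) g * conj ((ψ : G → ℂ) g) =
          c χ * (if χ = ψ then (Nat.card G : ℂ) else 0) := by
      intro χ
      rw [← irr_row_orthogonality, Finset.mul_sum]
      refine Finset.sum_congr rfl fun g _ => ?_
      ring
    simp only [this]
    rw [Finset.sum_eq_single ψ]
    · rw [if_pos rfl]
      simp only [c]
      rw [mul_comm, ← mul_assoc, mul_inv_cancel₀ card_ne_zero', one_mul, sub_self]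
    · intro χ _ hne
      rw [if_neg hne, mul_zero]
    · intro h; exact absurd (Finset.mem_univ ψ) h
  have hzero : (fun g => φ' g⁻¹) = 0 := by
    apply classFun_eq_zero_of_orthogonal
    · intro g h
      have : (h * g * h⁻¹)⁻¹ = h * g⁻¹ * h⁻¹ := by group
      simp only [this, hφ'cls]
    · intro ψ
      rw [← horth ψ]
      refine Fintype.sum_equiv (Equiv.inv G) _ _ ?_
      intro g
      simp only [Equiv.inv_apply]
      rw [← irr_conj_inv, inv_inv]
  have hx : φ' x = 0 := by
    have := congrFun hzero x⁻¹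
    simpa using this
  simp only [φ', c] at hx
  exact sub_eq_zero.mp hx

/-- Second orthogonality relation, `Fintype` form. -/
theorem irr_column_orthogonality [Fintype (Cfsg.IrrCharacter G)] [DecidableRel (IsConj (α := G))]
    (g h : G) :
    ∑ χ : Cfsg.IrrCharacter G, (χ : G → ℂ) g * conj ((χ : G → ℂ) h) =
      if IsConj g h then (Nat.card (Subgroup.centralizer ({g} : Set G)) : ℂ) else 0 := by
  classical
  have hcls : ∀ x y : G, (if IsConj g (y * x * y⁻¹) then (1 : ℂ) else 0) =
      if IsConj g x then (1 : ℂ) else 0 := by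
    intro x y
    have : IsConj g (y * x * y⁻¹) ↔ IsConj g x := by
      constructor
      · intro hh
        exact hh.trans (isConj_iff.mpr ⟨y⁻¹, by group⟩)
      · intro hh
        exact hh.trans (isConj_iff.mpr ⟨y, rfl⟩)
    simp only [this]
  have hexp := classFun_expansion (fun x => if IsConj g x then (1 : ℂ) else 0) hcls h
  have hcoef : ∀ χ : Cfsg.IrrCharacter G,
      ∑ x : G, (if IsConj g x then (1 : ℂ) else 0) * conj ((χ : G → ℂ) x) =
        ((Subgroup.centralizer ({g} : Set G)).index : ℂ) * conj ((χ : G → ℂ) g) := by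
    intro χ
    have : ∀ x : G, (if IsConj g x then (1 : ℂ) else 0) * conj ((χ : G → ℂ) x) =
        if IsConj g x then conj ((χ : G → ℂ) g) else 0 := by
      intro x
      split_ifs with hc
      · obtain ⟨c, hc⟩ := isConj_iff.mp hc
        rw [one_mul, ← hc, irr_class]
      · rw [zero_mul]
    simp only [this]
    rw [← Finset.sum_filter, Finset.sum_const, nsmul_eq_mul, index_centralizer_eq_card_conj,
      Nat.card_eq_fintype_card, Fintype.card_subtype]
  simp only [hcoef] at hexp
  have hidx : ((Subgroup.centralizer ({g} : Set G)).index : ℂ) *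
      (Nat.card (Subgroup.centralizer ({g} : Set G)) : ℂ) = (Nat.card G : ℂ) := by
    rw [← Nat.cast_mul, Subgroup.index_mul_card]
  have hcard_ne : (Nat.card (Subgroup.centralizer ({g} : Set G)) : ℂ) ≠ 0 := by
    have : 0 < Nat.card (Subgroup.centralizer ({g} : Set G)) := Nat.card_pos
    exact_mod_cast this.ne'
  have hidx_ne : ((Subgroup.centralizer ({g} : Set G)).index : ℂ) ≠ 0 := by
    intro h0
    rw [h0, zero_mul] at hidx
    exact card_ne_zero' hidx.symm
  -- rewrite the expansion
  have hsum : (if IsConj g h then (1 : ℂ) else 0) =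
      (Nat.card (Subgroup.centralizer ({g} : Set G)) : ℂ)⁻¹ *
        ∑ χ : Cfsg.IrrCharacter G, conj ((χ : G → ℂ) g) * (χ : G → ℂ) h := by
    rw [hexp, Finset.mul_sum]
    refine Finset.sum_congr rfl fun χ _ => ?_
    have : (Nat.card G : ℂ)⁻¹ * ((Subgroup.centralizer ({g} : Set G)).index : ℂ) =
        (Nat.card (Subgroup.centralizer ({g} : Set G)) : ℂ)⁻¹ := by
      rw [← hidx]
      field_simp
    rw [← this]
    ring
  have hsum2 : ∑ χ : Cfsg.IrrCharacter G, conj ((χ : G → ℂ) g) * (χ : G → ℂ) h =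
      if IsConj g h then (Nat.card (Subgroup.centralizer ({g} : Set G)) : ℂ) else 0 := by
    have := congrArg (fun z => (Nat.card (Subgroup.centralizer ({g} : Set G)) : ℂ) * z) hsum
    simp only [← mul_assoc, mul_inv_cancel₀ hcard_ne, one_mul] at this
    rw [← this]
    split_ifs <;> simp
  have hconj := congrArg conj hsum2
  rw [map_sum] at hconj
  simp only [map_mul, Complex.conj_conj] at hconj
  rw [hconj]
  split_ifs
  · exact Complex.conj_natCast _
  · exact map_zero _

end Ortho

end Cfsg.Agent.Lib.Helper80
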