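import Cfsg.Agent.Lib.Helper80.IrrApi
import Mathlib.RepresentationTheory.Maschke
import Mathlib.RingTheory.SimpleModule.Basic

set_option autoImplicit false

namespace Cfsg.Agent.Lib.Helper80

open Representation
open scoped ComplexConjugate

section Transport

variable {G k V W : Type*} [Monoid G] [Field k] [AddCommGroup V] [Module k V]
  [AddCommGroup W] [Module k W]

/-- Transport a representation along a linear equivalence. -/
def transportRep (ρ : Representation k G V) (e : V ≃ₗ[k] W) : Representation k G W :=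
  (LinearEquiv.conjAlgEquiv k e).toAlgHom.toRingHom.toMonoidHom.comp ρ

theorem transportRep_apply (ρ : Representation k G V) (e : V ≃ₗ[k] W) (g : G) :
    transportRep ρ e g = e.conj (ρ g) := rfl

/-- The equivalence between a representation and its transport. -/
def transportEquiv (ρ : Representation k G V) (e : V ≃ₗ[k] W) :
    Representation.Equiv ρ (transportRep ρ e) :=
  Representation.Equiv.mk e (fun g => by
    ext v
    simp [transportRep_apply, LinearEquiv.conj_apply])

theorem isIrreducible_of_equiv {ρ : Representation k G V} {σ : Representation k G W}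
    (φ : Representation.Equiv ρ σ) [hρ : ρ.IsIrreducible] : σ.IsIrreducible := by
  rw [irreducible_iff_isSimpleModule_asModule] at hρ ⊢
  let f : σ.asModule →ₗ[MonoidAlgebra k G] ρ.asModule :=
    IntertwiningMap.equivLinearMapAsModule σ ρ φ.symm.toIntertwiningMap
  let g : ρ.asModule →ₗ[MonoidAlgebra k G] σ.asModule :=
    IntertwiningMap.equivLinearMapAsModule ρ σ φ.toIntertwiningMap
  have hfg : ∀ x, f (g x) = x := fun x => φ.symm_apply_apply x
  have hgf : ∀ x, g (f x) = x := fun x => φ.apply_symm_apply x
  exact IsSimpleModule.congr (LinearEquiv.ofLinearMap f g (LinearMap.ext hfg) (LinearMap.ext hgf))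

end Transport

section ToFin

variable {G V : Type*} [Group G] [AddCommGroup V] [Module ℂ V] [FiniteDimensional ℂ V]

/-- The character of an irreducible finite-dimensional representation is an `IrrCharacter`. -/
theorem isIrrCharacter_of_irreducible (ρ : Representation ℂ G V) [ρ.IsIrreducible] :
    Cfsg.IsIrrCharacter G ρ.character := by
  let b := Module.finBasis ℂ V
  let e : V ≃ₗ[ℂ] (Fin (Module.finrank ℂ V) → ℂ) := b.equivFun
  refine ⟨Module.finrank ℂ V, transportRep ρ e, isIrreducible_of_equiv (transportEquiv ρ e), ?_⟩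
  exact (char_iso (transportEquiv ρ e)).symm

end ToFin

section Claim

variable {G : Type*} [Group G] [Fintype G]

/-- The `ℂ`-linear identification of a restricted-scalars left ideal with the left ideal. -/
noncomputable def restrictEquiv (m : Submodule (MonoidAlgebra ℂ G) (MonoidAlgebra ℂ G)) :
    RestrictScalars ℂ (MonoidAlgebra ℂ G) ↥m ≃ₗ[ℂ] ↥m :=
  { RestrictScalars.addEquiv ℂ (MonoidAlgebra ℂ G) ↥m with
    map_smul' := fun c x => by
      simp only [AddEquiv.toFun_eq_coe, RingHom.id_apply]
      rw [RestrictScalars.addEquiv_map_smul, algebraMap_smul] }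

theorem finite_restrictScalars (m : Submodule (MonoidAlgebra ℂ G) (MonoidAlgebra ℂ G)) :
    Module.Finite ℂ (RestrictScalars ℂ (MonoidAlgebra ℂ G) ↥m) :=
  Module.Finite.equiv (restrictEquiv m).symm

/-- The group-algebra element attached to a function. -/
noncomputable def fnElem (f : G → ℂ) : MonoidAlgebra ℂ G :=
  ∑ g : G, f g • MonoidAlgebra.of ℂ G g

theorem fnElem_apply (f : G → ℂ) (h : G) : (fnElem f).coeff h = f h := by
  classical
  unfold fnElem
  rw [MonoidAlgebra.coeff_sum, Finsupp.finsetSum_apply]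
  rw [Finset.sum_eq_single h]
  · simp [MonoidAlgebra.coeff_smul, MonoidAlgebra.of_apply, MonoidAlgebra.coeff_single]
  · intro g _ hg
    simp [MonoidAlgebra.coeff_smul, MonoidAlgebra.of_apply, MonoidAlgebra.coeff_single,
      Finsupp.single_apply, hg]
  · intro hh
    exact absurd (Finset.mem_univ h) hh

set_option backward.isDefEq.respectTransparency false in
theorem fnElem_mul_eq_zero_of_simple (f : G → ℂ) (hf : ∀ g h : G, f (h * g * h⁻¹) = f g)
    (horth : ∀ χ : Cfsg.IrrCharacter G, ∑ g : G, f g * (χ : G → ℂ) g = 0)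
    (m : Submodule (MonoidAlgebra ℂ G) (MonoidAlgebra ℂ G))
    (hm : IsSimpleModule (MonoidAlgebra ℂ G) ↥m) (x : MonoidAlgebra ℂ G) (hx : x ∈ m) :
    fnElem f * x = 0 := by
  have : Module.Finite ℂ (RestrictScalars ℂ (MonoidAlgebra ℂ G) ↥m) := finite_restrictScalars m
  let ρm := ofModule (k := ℂ) (G := G) ↥m
  have : ρm.IsIrreducible := (isSimpleModule_iff_irreducible_ofModule ↥m).mp hm
  have key := sum_classFun_smul ρm f hf
  have h0 : ∑ g : G, f g * ρm.character g = 0 :=
    horth ⟨ρm.character, isIrrCharacter_of_irreducible ρm⟩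
  rw [h0, zero_div, zero_smul] at key
  have h1 : ρm.asAlgebraHom (fnElem f) = 0 := by
    unfold fnElem
    rw [map_sum, ← key]
    refine Finset.sum_congr rfl fun g _ => ?_
    rw [map_smul, asAlgebraHom_of]
  have h2 := ofModule_asAlgebraHom_apply_apply (k := ℂ) (G := G) ↥m (fnElem f)
    ((RestrictScalars.addEquiv ℂ (MonoidAlgebra ℂ G) ↥m).symm ⟨x, hx⟩)
  rw [h1, LinearMap.zero_apply, AddEquiv.apply_symm_apply] at h2
  have h3 : fnElem f • (⟨x, hx⟩ : ↥m) = 0 := by
    have := congrArg (RestrictScalars.addEquiv ℂ (MonoidAlgebra ℂ G) ↥m) h2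
    rw [AddEquiv.apply_symm_apply, map_zero] at this
    exact this.symm
  have h4 := congrArg Subtype.val h3
  simpa using h4

/-- A class function orthogonal to all irreducible characters vanishes. -/
theorem classFun_eq_zero_of_orthogonal (f : G → ℂ) (hf : ∀ g h : G, f (h * g * h⁻¹) = f g)
    (horth : ∀ χ : Cfsg.IrrCharacter G, ∑ g : G, f g * (χ : G → ℂ) g = 0) : f = 0 := by
  have : NeZero (Nat.card G : ℂ) := ⟨card_ne_zero'⟩
  have htop := IsSemisimpleModule.sSup_simples_eq_top (MonoidAlgebra ℂ G) (MonoidAlgebra ℂ G)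
  have h1 : (1 : MonoidAlgebra ℂ G) ∈
      sSup {m : Submodule (MonoidAlgebra ℂ G) (MonoidAlgebra ℂ G) |
        IsSimpleModule (MonoidAlgebra ℂ G) ↥m} := by
    rw [htop]; exact Submodule.mem_top
  rw [sSup_eq_iSup'] at h1
  have h2 : fnElem f * 1 = 0 := by
    refine Submodule.iSup_induction _ (motive := fun x => fnElem f * x = 0) h1 ?_ ?_ ?_
    · rintro ⟨m, hm⟩ x hx
      exact fnElem_mul_eq_zero_of_simple f hf horth m hm x hx
    · exact mul_zero _
    · intro x y hx hy
      rw [mul_add, hx, hy, add_zero]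
  rw [mul_one] at h2
  funext h
  rw [← fnElem_apply f h, h2]
  rfl

end Claim

end Cfsg.Agent.Lib.Helper80
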