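import Cfsg.Agent.Lib.Helper80.Conv

set_option autoImplicit false

namespace Cfsg.Agent.Lib.Helper80

open Representation
open scoped ComplexConjugate

section NormalSum

variable {G V : Type*} [Group G] [Fintype G] [AddCommGroup V] [Module ℂ V]
  [FiniteDimensional ℂ V]

open Classical in
/-- The indicator function of a normal subgroup is a class function. -/
theorem indicator_normal_classFun (N : Subgroup G) [N.Normal] (g h : G) :
    (if h * g * h⁻¹ ∈ N then (1 : ℂ) else 0) = if g ∈ N then (1 : ℂ) else 0 := by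
  have : h * g * h⁻¹ ∈ N ↔ g ∈ N := by
    constructor
    · intro hh
      have := Subgroup.Normal.conj_mem (inferInstance : N.Normal) _ hh h⁻¹
      simpa [mul_assoc] using this
    · intro hh
      exact Subgroup.Normal.conj_mem inferInstance _ hh h
  simp only [this]

open Classical in
/-- The sum of `ρ n` over a normal subgroup `N`, for irreducible `ρ`: it is `|N|` when `N` acts
trivially and `0` otherwise. -/
theorem sum_normal_smul (ρ : Representation ℂ G V) [ρ.IsIrreducible] (N : Subgroup G)
    [N.Normal] :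
    (∀ n ∈ N, ρ.character n = (Module.finrank ℂ V : ℂ)) ∧
        ∑ g : G, (if g ∈ N then (1 : ℂ) else 0) • ρ g = (Nat.card N : ℂ) • LinearMap.id ∨
      (∃ n ∈ N, ρ.character n ≠ (Module.finrank ℂ V : ℂ)) ∧
        ∑ g : G, (if g ∈ N then (1 : ℂ) else 0) • ρ g = 0 := by
  have hQ := sum_classFun_smul ρ (fun g => if g ∈ N then (1 : ℂ) else 0)
    (fun g h => indicator_normal_classFun N g h)
  set c : ℂ := (∑ g : G, (if g ∈ N then (1 : ℂ) else 0) * ρ.character g) /
    (Module.finrank ℂ V : ℂ) with hc
  set Q : V →ₗ[ℂ] V := ∑ g : G, (if g ∈ N then (1 : ℂ) else 0) • ρ g with hQdef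
  -- ρ m * Q = Q for m ∈ N
  have hmQ : ∀ m ∈ N, ρ m * Q = Q := by
    intro m hm
    rw [hQdef, Finset.mul_sum]
    refine Fintype.sum_equiv (Equiv.mulLeft m) _ _ ?_
    intro g
    simp only [Equiv.coe_mulLeft]
    have : m * g ∈ N ↔ g ∈ N := Subgroup.mul_mem_cancel_left N hm
    simp only [this]
    rw [mul_smul_comm, ← map_mul]
  by_cases hc0 : c = 0
  · -- Q = 0
    have hQ0 : Q = 0 := by rw [hQ, hc0, zero_smul]
    by_cases hall : ∀ n ∈ N, ρ.character n = (Module.finrank ℂ V : ℂ)
    · -- then c = |N| ≠ 0, contradiction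
      exfalso
      have hsum : ∑ g : G, (if g ∈ N then (1 : ℂ) else 0) * ρ.character g =
          (Nat.card N : ℂ) * (Module.finrank ℂ V : ℂ) := by
        have : ∀ g : G, (if g ∈ N then (1 : ℂ) else 0) * ρ.character g =
            if g ∈ N then (Module.finrank ℂ V : ℂ) else 0 := by
          intro g
          split_ifs with hg
          · rw [one_mul, hall g hg]
          · rw [zero_mul]
        simp only [this]
        rw [← Finset.sum_filter, Finset.sum_const, nsmul_eq_mul, Nat.card_eq_fintype_card,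
          Fintype.card_subtype]
      have hne := finrank_ne_zero_of_irreducible ρ
      have hN : (Nat.card N : ℂ) ≠ 0 := by
        have : 0 < Nat.card N := Nat.card_pos
        exact_mod_cast this.ne'
      rw [hc, hsum, mul_div_assoc, div_self hne, mul_one] at hc0
      exact hN hc0
    · right
      push Not at hall
      exact ⟨hall, hQ0⟩
  · left
    have hall : ∀ n ∈ N, ρ n = 1 := by
      intro m hm
      have h1 := hmQ m hm
      rw [hQ, mul_smul_comm, show (LinearMap.id : V →ₗ[ℂ] V) = 1 from rfl, mul_one] at h1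
      exact smul_right_injective _ hc0 h1
    have hall' : ∀ n ∈ N, ρ.character n = (Module.finrank ℂ V : ℂ) := by
      intro n hn
      show LinearMap.trace ℂ V (ρ n) = _
      rw [hall n hn]
      exact LinearMap.trace_one ℂ V
    refine ⟨hall', ?_⟩
    rw [hQ]
    congr 1
    have hsum : ∑ g : G, (if g ∈ N then (1 : ℂ) else 0) * ρ.character g =
        (Nat.card N : ℂ) * (Module.finrank ℂ V : ℂ) := by
      have : ∀ g : G, (if g ∈ N then (1 : ℂ) else 0) * ρ.character g =
          if g ∈ N then (Module.finrank ℂ V : ℂ) else 0 := by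
        intro g
        split_ifs with hg
        · rw [one_mul]
          show LinearMap.trace ℂ V (ρ g) = _
          rw [hall g hg]
          exact LinearMap.trace_one ℂ V
        · rw [zero_mul]
      simp only [this]
      rw [← Finset.sum_filter, Finset.sum_const, nsmul_eq_mul, Nat.card_eq_fintype_card,
        Fintype.card_subtype]
    rw [hc, hsum, mul_div_assoc, div_self (finrank_ne_zero_of_irreducible ρ), mul_one]

end NormalSum

section IrrNormal

variable {G : Type*} [Group G] [Fintype G]

open Classical in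
/-- Sums of an irreducible character over cosets of a normal subgroup. -/
theorem irr_sum_normal (χ : Cfsg.IrrCharacter G) (N : Subgroup G) [N.Normal] (x : G) :
    ((∀ n ∈ N, (χ : G → ℂ) n = (χ : G → ℂ) 1) →
      ∑ g : G, (if g ∈ N then (χ : G → ℂ) (x * g) else 0) = (Nat.card N : ℂ) * (χ : G → ℂ) x) ∧
    ((∃ n ∈ N, (χ : G → ℂ) n ≠ (χ : G → ℂ) 1) →
      ∑ g : G, (if g ∈ N then (χ : G → ℂ) (x * g) else 0) = 0) := by
  obtain ⟨n, ρ, hirr, hρ⟩ := χ.2
  have := hirr
  have h1 : (χ : G → ℂ) 1 = (Module.finrank ℂ (Fin n → ℂ) : ℂ) := by rw [← hρ, char_one]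
  have htr : ∀ Q : (Fin n → ℂ) →ₗ[ℂ] (Fin n → ℂ),
      Q = ∑ g : G, (if g ∈ N then (1 : ℂ) else 0) • ρ g →
      LinearMap.trace ℂ _ (ρ x * Q) = ∑ g : G, (if g ∈ N then (χ : G → ℂ) (x * g) else 0) := by
    intro Q hQ
    rw [hQ, Finset.mul_sum, map_sum]
    refine Finset.sum_congr rfl fun g _ => ?_
    split_ifs
    · rw [one_smul, ← map_mul, ← hρ]; rfl
    · rw [zero_smul, mul_zero, map_zero]
  rcases sum_normal_smul ρ N with ⟨hall, hQ⟩ | ⟨hex, hQ⟩
  · constructor
    · intro _
      rw [← htr _ rfl, hQ, mul_smul_comm, map_smul, smul_eq_mul,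
        show (LinearMap.id : (Fin n → ℂ) →ₗ[ℂ] (Fin n → ℂ)) = 1 from rfl, mul_one, ← hρ]
      rfl
    · rintro ⟨m, hm, hne⟩
      exact absurd (by rw [h1, ← hρ]; exact hall m hm) hne
  · constructor
    · intro hall
      obtain ⟨m, hm, hne⟩ := hex
      have h2 := hall m hm
      rw [h1, ← hρ] at h2
      exact absurd h2 hne
    · intro _
      rw [← htr _ rfl, hQ, mul_zero, map_zero]

end IrrNormal

end Cfsg.Agent.Lib.Helper80
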