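import Mathlib
import Cfsg.Agent.Lib.Helper41.OmBNDefs

/-! OmBN-BFLAG (by helper80) for helper41's S2549 "OmBN" hive: an isometry whose `e`-columns are upper
triangular lies in `B`. -/

set_option autoImplicit false
set_option linter.unusedVariables false

namespace Cfsg.Agent.Lib.Helper41.OmBN

open Matrix Cfsg Cfsg.Agent.Lib.Helper13 Cfsg.Agent.Lib.Helper8 Cfsg.Agent.Lib.Helper43
  Cfsg.Agent.Lib.Helper41.SpBN

variable {F : Type*} [Field F] {m : ℕ} {a b : F}

/-- the flag `⟨e_0, …, e_j⟩` -/
def bflag_Fl (F : Type*) [Field F] (m : ℕ) (j : ℕ) : Submodule F (MIdx m → F) where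
  carrier := {x | ∀ i, j < oord m i → x i = 0}
  add_mem' := by
    intro x y hx hy i hi
    rw [Pi.add_apply, hx i hi, hy i hi, add_zero]
  zero_mem' := fun _ _ => rfl
  smul_mem' := by
    intro c x hx i hi
    rw [Pi.smul_apply, hx i hi, smul_zero]

theorem bflag_mem_Fl {j : ℕ} {x : MIdx m → F} :
    x ∈ bflag_Fl F m j ↔ ∀ i, j < oord m i → x i = 0 := Iff.rfl

/-- the matrix entries as values of `mulVec` on the standard basis -/
theorem bflag_entry (g : OG F m a b) (r c : MIdx m) : mat g r c = (mat g *ᵥ Pi.single c 1) r := by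
  rw [Matrix.mulVec_single_one]
  rfl

/-- polar form of a flag vector against anything -/
theorem bflag_polar {j : ℕ} (hj : j < m) {y : MIdx m → F} (hy : y ∈ bflag_Fl F m j) (x : MIdx m → F) :
    QuadraticMap.polar (⇑(minusForm m F a b)) y x
      = ∑ i : Fin m, y (Sum.inl (Sum.inl i)) * x (Sum.inl (Sum.inr i)) := by
  rw [polar_minusForm]
  have hw : ∀ t : Fin 2, y (Sum.inr t) = 0 := by
    intro t
    apply hy
    rw [oord_w]
    exact hj
  have hf : ∀ i : Fin m, y (Sum.inl (Sum.inr i)) = 0 := by
    intro i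
    apply hy
    rw [oord_f]
    have := i.2
    omega
  rw [hw 0, hw 1]
  simp only [hf, mul_zero, add_zero, zero_mul]

/-- LEAF BFLAG. -/
theorem mem_Bo_of_e_cols (g : OG F m a b)
    (h : ∀ (k : Fin m) (i : MIdx m), (k : ℕ) < oord m i → mat g i (Sum.inl (Sum.inl k)) = 0) :
    g ∈ Bo F m a b := by
  classical
  -- `g` maps every flag into itself
  have hmaps : ∀ j : ℕ, j < m → ∀ x ∈ bflag_Fl F m j, Matrix.toLin' (mat g) x ∈ bflag_Fl F m j := by
    intro j hj x hx r hr
    rw [Matrix.toLin'_apply]
    show ∑ c, mat g r c * x c = 0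
    apply Finset.sum_eq_zero
    intro c _
    by_cases hc : j < oord m c
    · rw [hx c hc, mul_zero]
    · rcases c with (k | k) | k
      · rw [oord_e] at hc
        rw [h k r (by omega), zero_mul]
      · rw [oord_f] at hc
        have := k.2
        omega
      · rw [oord_w] at hc
        omega
  have hginj : Function.Injective (Matrix.toLin' (mat g)) := by
    intro x y hxy
    have h1 : mat g⁻¹ *ᵥ (mat g *ᵥ x) = mat g⁻¹ *ᵥ (mat g *ᵥ y) := by
      rw [Matrix.toLin'_apply, Matrix.toLin'_apply] at hxy
      rw [hxy]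
    rwa [Matrix.mulVec_mulVec, Matrix.mulVec_mulVec, mat_inv_mul, Matrix.one_mulVec,
      Matrix.one_mulVec] at h1
  -- hence onto: `e_j = g y'` with `y'` in the flag
  have hpre : ∀ j : Fin m, ∃ y' ∈ bflag_Fl F m j, mat g *ᵥ y' = ve F j := by
    intro j
    have hinj : Function.Injective ((Matrix.toLin' (mat g)).restrict (hmaps j j.2)) := by
      intro x y hxy
      apply Subtype.ext
      apply hginj
      have := congrArg Subtype.val hxy
      simpa using this
    have hsurj := LinearMap.injective_iff_surjective.1 hinj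
    have hej : ve F j ∈ bflag_Fl F m j := by
      intro i hi
      unfold ve
      apply Pi.single_eq_of_ne
      rintro rfl
      rw [oord_e] at hi
      exact lt_irrefl _ hi
    obtain ⟨⟨y', hy'⟩, hy'e⟩ := hsurj ⟨ve F j, hej⟩
    refine ⟨y', hy', ?_⟩
    have := congrArg Subtype.val hy'e
    simpa [Matrix.toLin'_apply] using this
  -- the `f_j`-coordinate of `g x`
  have hcoord : ∀ (j : Fin m) (x : MIdx m → F), ∃ y' ∈ bflag_Fl F m j,
      (mat g *ᵥ x) (Sum.inl (Sum.inr j))
        = ∑ i : Fin m, y' (Sum.inl (Sum.inl i)) * x (Sum.inl (Sum.inr i)) := by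
    intro j x
    obtain ⟨y', hy', hy'e⟩ := hpre j
    refine ⟨y', hy', ?_⟩
    rw [← bflag_polar (a := a) (b := b) j.2 hy', ← iso_polar (minusForm m F a b) g y' x]
    show _ = QuadraticMap.polar (⇑(minusForm m F a b)) (mat g *ᵥ y') (mat g *ᵥ x)
    rw [hy'e]
    unfold ve
    rw [polar_minusForm_inl]
  rw [mem_Bo_iff]
  intro r c hlt
  rcases c with (k | k) | k
  · rw [oord_e] at hlt
    exact h k r hlt
  · -- `c = f_k`, so `r = f_j` with `j < k`
    rw [oord_f] at hlt
    rcases r with (j | j) | j
    · rw [oord_e] at hlt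
      have := j.2
      have := k.2
      omega
    · rw [oord_f] at hlt
      obtain ⟨y', hy', hval⟩ := hcoord j (Pi.single (Sum.inl (Sum.inr k)) 1)
      rw [bflag_entry, hval]
      apply Finset.sum_eq_zero
      intro i _
      by_cases hik : i = k
      · subst hik
        have : y' (Sum.inl (Sum.inl i)) = 0 := by
          apply hy'
          rw [oord_e]
          have := j.2
          have := i.2
          omega
        rw [this, zero_mul]
      · rw [Pi.single_eq_of_ne (by simpa using hik), mul_zero]
    · rw [oord_w] at hlt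
      have := k.2
      omega
  · -- `c ∈ W`, so `r = f_j`
    rw [oord_w] at hlt
    rcases r with (j | j) | j
    · rw [oord_e] at hlt
      have := j.2
      omega
    · obtain ⟨y', hy', hval⟩ := hcoord j (Pi.single (Sum.inr k) 1)
      rw [bflag_entry, hval]
      apply Finset.sum_eq_zero
      intro i _
      rw [Pi.single_eq_of_ne (by simp), mul_zero]
    · rw [oord_w] at hlt
      exact absurd hlt (lt_irrefl _)

end Cfsg.Agent.Lib.Helper41.OmBN
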