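import Mathlib.RepresentationTheory.Character
import Mathlib.RepresentationTheory.Irreducible
import Mathlib.RingTheory.IntegralClosure.Algebra.Basic
import Mathlib.Analysis.Complex.Basic

set_option autoImplicit false

namespace Cfsg.Agent.Lib.Helper80

open Representation

section Schur

variable {G k V : Type*} [Monoid G] [Field k] [IsAlgClosed k] [AddCommGroup V] [Module k V]
  [FiniteDimensional k V] (ρ : Representation k G V) [ρ.IsIrreducible]

/-- Schur: an endomorphism commuting with an irreducible representation is a scalar. -/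
theorem schur_scalar (T : V →ₗ[k] V) (hT : ∀ g : G, T ∘ₗ ρ g = ρ g ∘ₗ T) :
    ∃ c : k, T = c • LinearMap.id := by
  let f : IntertwiningMap ρ ρ := ⟨T, hT⟩
  obtain ⟨c, hc⟩ :=
    (IsIrreducible.algebraMap_intertwiningMap_bijective_of_isAlgClosed (ρ := ρ)).2 f
  refine ⟨c, ?_⟩
  have h2 : (algebraMap k (IntertwiningMap ρ ρ) c).toLinearMap = f.toLinearMap := by rw [hc]
  have h3 : (1 : IntertwiningMap ρ ρ).toLinearMap = LinearMap.id := rfl
  rw [IntertwiningMap.algebraMap_apply, IntertwiningMap.toLinearMap_smul, h3] at h2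
  exact h2.symm

theorem schur_scalar_trace (T : V →ₗ[k] V) (hT : ∀ g : G, T ∘ₗ ρ g = ρ g ∘ₗ T) :
    ∃ c : k, T = c • LinearMap.id ∧ (Module.finrank k V : k) * c = LinearMap.trace k V T := by
  obtain ⟨c, hc⟩ := schur_scalar ρ T hT
  refine ⟨c, hc, ?_⟩
  rw [hc, map_smul, LinearMap.trace_id, smul_eq_mul, mul_comm]

end Schur

section Nontrivial

variable {G k V : Type*} [Monoid G] [Field k] [AddCommGroup V] [Module k V]

theorem nontrivial_of_irreducible (ρ : Representation k G V) [ρ.IsIrreducible] :
    Nontrivial V := by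
  have h : IsSimpleModule (MonoidAlgebra k G) ρ.asModule := inferInstance
  exact IsSimpleModule.nontrivial (MonoidAlgebra k G) ρ.asModule

theorem finrank_pos_of_irreducible [FiniteDimensional k V] (ρ : Representation k G V)
    [ρ.IsIrreducible] : 0 < Module.finrank k V := by
  have := nontrivial_of_irreducible ρ
  exact Module.finrank_pos

theorem finrank_ne_zero_of_irreducible [CharZero k] [FiniteDimensional k V]
    (ρ : Representation k G V) [ρ.IsIrreducible] : (Module.finrank k V : k) ≠ 0 := by
  have := finrank_pos_of_irreducible ρ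
  exact_mod_cast this.ne'

end Nontrivial

section ClassSum

variable {G k V : Type*} [Group G] [Fintype G] [Field k]
  [AddCommGroup V] [Module k V]

theorem classSum_comm (ρ : Representation k G V) (f : G → k)
    (hf : ∀ g h : G, f (h * g * h⁻¹) = f g) (h : G) :
    (∑ g : G, f g • ρ g) ∘ₗ ρ h = ρ h ∘ₗ (∑ g : G, f g • ρ g) := by
  show (∑ g : G, f g • ρ g) * ρ h = ρ h * (∑ g : G, f g • ρ g)
  rw [Finset.sum_mul, Finset.mul_sum]
  refine Fintype.sum_equiv (MulAut.conj h⁻¹).toEquiv _ _ ?_
  intro g
  simp only [MulEquiv.toEquiv_eq_coe, MulEquiv.coe_toEquiv, MulAut.conj_apply, inv_inv]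
  have h1 : f (h⁻¹ * g * h) = f g := by
    have := hf g h⁻¹
    rwa [inv_inv] at this
  rw [h1, smul_mul_assoc, mul_smul_comm]
  congr 1
  rw [← map_mul, ← map_mul]
  congr 1
  group

variable [IsAlgClosed k] [CharZero k] [FiniteDimensional k V]

/-- A class-function-weighted sum of `ρ g` acts by the expected scalar. -/
theorem sum_classFun_smul (ρ : Representation k G V) [ρ.IsIrreducible] (f : G → k)
    (hf : ∀ g h : G, f (h * g * h⁻¹) = f g) :
    ∑ g : G, f g • ρ g =
      ((∑ g : G, f g * ρ.character g) / (Module.finrank k V : k)) • LinearMap.id := by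
  obtain ⟨c, hc, htr⟩ := schur_scalar_trace ρ (∑ g : G, f g • ρ g) (classSum_comm ρ f hf)
  rw [hc]
  congr 1
  rw [eq_div_iff (finrank_ne_zero_of_irreducible ρ), mul_comm, htr, map_sum]
  refine Finset.sum_congr rfl fun g _ => ?_
  rw [map_smul, smul_eq_mul]
  rfl

omit [IsAlgClosed k] [CharZero k] in
theorem char_inv_conj_invariant (ρ : Representation k G V) (g h : G) :
    ρ.character (h * g * h⁻¹)⁻¹ = ρ.character g⁻¹ := by
  have : (h * g * h⁻¹)⁻¹ = h * g⁻¹ * h⁻¹ := by group
  rw [this, char_conj]

omit [IsAlgClosed k] [FiniteDimensional k V] in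
theorem card_ne_zero' : (Nat.card G : k) ≠ 0 := by
  have : 0 < Nat.card G := Nat.card_pos
  exact_mod_cast this.ne'

theorem sum_char_mul_char_inv (ρ : Representation k G V) [ρ.IsIrreducible] :
    ∑ g : G, ρ.character g * ρ.character g⁻¹ = (Nat.card G : k) := by
  have : Invertible (Nat.card G : k) := invertibleOfNonzero card_ne_zero'
  have h := char_orthonormal ρ ρ
  rw [if_pos ⟨Representation.Equiv.refl ρ⟩] at h
  have h2 : (Nat.card G : k) * ((Nat.card G : k)⁻¹ * ∑ g : G, ρ.character g * ρ.character g⁻¹) =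
      (Nat.card G : k) * 1 := by rw [h]
  rwa [← mul_assoc, mul_inv_cancel₀ card_ne_zero', one_mul, mul_one] at h2

theorem sum_char_mul_char_inv_of_not_equiv {W : Type*} [AddCommGroup W] [Module k W]
    [FiniteDimensional k W] (ρ : Representation k G V) [ρ.IsIrreducible]
    (σ : Representation k G W) [σ.IsIrreducible] (hne : IsEmpty (Equiv σ ρ)) :
    ∑ g : G, ρ.character g * σ.character g⁻¹ = 0 := by
  have : Invertible (Nat.card G : k) := invertibleOfNonzero card_ne_zero'
  have h := char_orthonormal ρ σ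
  rw [if_neg (not_nonempty_iff.mpr hne)] at h
  have h2 : (Nat.card G : k) * ((Nat.card G : k)⁻¹ * ∑ g : G, ρ.character g * σ.character g⁻¹) =
      (Nat.card G : k) * 0 := by rw [h]
  rwa [← mul_assoc, mul_inv_cancel₀ card_ne_zero', one_mul, mul_zero] at h2

/-- `∑ x, χ(x⁻¹) ρ(x) = (|G| / χ(1)) id`. -/
theorem sum_char_inv_smul (ρ : Representation k G V) [ρ.IsIrreducible] :
    ∑ x : G, ρ.character x⁻¹ • ρ x =
      ((Nat.card G : k) / (Module.finrank k V : k)) • LinearMap.id := by
  rw [sum_classFun_smul ρ (fun x => ρ.character x⁻¹) (fun g h => char_inv_conj_invariant ρ g h)]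
  congr 2
  rw [← sum_char_mul_char_inv ρ]
  exact Finset.sum_congr rfl fun g _ => mul_comm _ _

/-- `∑ x, ψ(x⁻¹) ρ(x) = 0` for inequivalent irreducibles. -/
theorem sum_char_inv_smul_of_not_equiv {W : Type*} [AddCommGroup W] [Module k W]
    [FiniteDimensional k W] (ρ : Representation k G V) [ρ.IsIrreducible]
    (σ : Representation k G W) [σ.IsIrreducible] (hne : IsEmpty (Equiv σ ρ)) :
    ∑ x : G, σ.character x⁻¹ • ρ x = 0 := by
  rw [sum_classFun_smul ρ (fun x => σ.character x⁻¹) (fun g h => char_inv_conj_invariant σ g h)]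
  have : ∑ g : G, σ.character g⁻¹ * ρ.character g = 0 := by
    rw [← sum_char_mul_char_inv_of_not_equiv ρ σ hne]
    exact Finset.sum_congr rfl fun g _ => mul_comm _ _
  rw [this, zero_div, zero_smul]

/-- Generalized orthogonality relation. -/
theorem generalized_orthogonality (ρ : Representation k G V) [ρ.IsIrreducible] (w : G) :
    ∑ x : G, ρ.character (w * x) * ρ.character x⁻¹ =
      (Nat.card G : k) * ρ.character w / (Module.finrank k V : k) := by
  have h := congrArg (fun T : V →ₗ[k] V => LinearMap.trace k V (ρ w * T)) (sum_char_inv_smul ρ)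
  simp only [Finset.mul_sum, mul_smul_comm, map_sum, map_smul, smul_eq_mul] at h
  rw [mul_div_right_comm]
  have h3 : (LinearMap.trace k V) (ρ w * LinearMap.id) = ρ.character w := by
    rw [show (LinearMap.id : V →ₗ[k] V) = 1 from rfl, mul_one]; rfl
  rw [h3] at h
  rw [← h]
  refine Finset.sum_congr rfl fun x _ => ?_
  rw [mul_comm]
  congr 1
  show LinearMap.trace k V (ρ (w * x)) = _
  rw [map_mul]

theorem generalized_orthogonality_of_not_equiv {W : Type*} [AddCommGroup W] [Module k W]
    [FiniteDimensional k W] (ρ : Representation k G V) [ρ.IsIrreducible]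
    (σ : Representation k G W) [σ.IsIrreducible] (hne : IsEmpty (Equiv σ ρ)) (w : G) :
    ∑ x : G, ρ.character (w * x) * σ.character x⁻¹ = 0 := by
  have h := congrArg (fun T : V →ₗ[k] V => LinearMap.trace k V (ρ w * T))
    (sum_char_inv_smul_of_not_equiv ρ σ hne)
  simp only [Finset.mul_sum, mul_smul_comm, map_sum, map_smul, smul_eq_mul, mul_zero,
    map_zero] at h
  rw [← h]
  refine Finset.sum_congr rfl fun x _ => ?_
  rw [mul_comm]
  congr 1
  show LinearMap.trace k V (ρ (w * x)) = _
  rw [map_mul]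

end ClassSum

end Cfsg.Agent.Lib.Helper80
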