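import Mathlib
import Cfsg.Agent.Lib.Helper6.Nc.Defs

/-! # Nc hive (S3894, owner helper6): leaf NC-NFP `nc_nfp` (helper80, backup landed on request).
Nilpotent fixed point lemma, from the normalizer condition. -/

set_option autoImplicit false

namespace Cfsg.Agent.Lib.Helper6.Nc

open Matrix

variable {F : Type*} [Field F]

theorem nc_nfp {Γ : Type*} [Group Γ] (A S : Subgroup Γ) (hA : Group.IsNilpotent ↥A) (u : Γ)
    (huA : u ∈ A) (huS : u ∈ S) (h : ∀ g ∈ A, g⁻¹ * u * g ∈ S → g ∈ S) : A ≤ S := by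
  by_contra hAS
  have hnc := Group.normalizerCondition_of_isNilpotent (G := A)
  have hlt : S.subgroupOf A < ⊤ := by
    rw [lt_top_iff_ne_top]
    intro h1
    rw [Subgroup.subgroupOf_eq_top] at h1
    exact hAS h1
  obtain ⟨b, hbN, hbS⟩ := SetLike.exists_of_lt (hnc _ hlt)
  apply hbS
  rw [Subgroup.mem_subgroupOf]
  apply h (b : Γ) b.2
  have huH : (⟨u, huA⟩ : A) ∈ S.subgroupOf A := by rw [Subgroup.mem_subgroupOf]; exact huS
  have := (Subgroup.mem_normalizer_iff.mp (inv_mem hbN) ⟨u, huA⟩).1 huH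
  rw [Subgroup.mem_subgroupOf] at this
  simpa using this

end Cfsg.Agent.Lib.Helper6.Nc
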