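import Mathlib
import Cfsg.Prelude.Def_ClassicalGeometry
import Cfsg.Prelude.Def_GeometricClasses
import Cfsg.Agent.Lib.Helper46.OmDefs
import Cfsg.Agent.Lib.Helper46.OmBR
import Cfsg.Agent.Lib.Helper8.SpBlkDec
import Cfsg.Agent.Lib.Helper43.OrthCardMinus
import Cfsg.Agent.Lib.Helper81.OnNOFIX

/-! OM-E2 (by helper80) for helper46's S5991 "Om" hive: one elliptic block in `O⁻_{2n₁+2}(q)` by Cauchy
(clone of `Lib/Helper80/OnE2core.lean`). -/

set_option autoImplicit false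
set_option linter.unusedVariables false
set_option linter.unusedSectionVars false

namespace Cfsg.Agent.Lib.Helper46.Om

open Module
open Cfsg.Agent.Lib.Helper2.BG Cfsg.Agent.Lib.Helper99 Cfsg.Agent.Lib.Helper48.Ti
open Cfsg.Agent.Lib.Helper5.Hy (Plus Orth Fix)
open Cfsg.Agent.Lib.Helper81.On (SameType Fixes)
open Cfsg.Agent.Lib.Helper8.SpBlk (blk)

section concrete

variable {F : Type*} [Field F] [Fintype F]

section elements

variable {p : ℕ} [Fact p.Prime] [CharP F p] {r : ℕ} [Fact r.Prime]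

omit [Fact p.Prime] [CharP F p] in
/-- `r` divides `q ^ i - 1` -/
theorem e2_dvd_pow_sub_one : r ∣ Fintype.card F ^ orderOf ((Fintype.card F : ℕ) : ZMod r) - 1 := by
  have h1 : ((Fintype.card F : ℕ) : ZMod r) ^ orderOf ((Fintype.card F : ℕ) : ZMod r) = 1 :=
    pow_orderOf_eq_one _
  have hpos : 1 ≤ Fintype.card F ^ orderOf ((Fintype.card F : ℕ) : ZMod r) :=
    Nat.one_le_pow _ _ Fintype.card_pos
  rw [← ZMod.natCast_eq_zero_iff, Nat.cast_sub hpos, Nat.cast_pow, h1, Nat.cast_one, sub_self]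

omit [Fact p.Prime] [CharP F p] in
/-- `r` divides `q ^ (i / 2) + 1` for `i` even -/
theorem e2_dvd_pow_add_one {j : ℕ} (hj : orderOf ((Fintype.card F : ℕ) : ZMod r) = 2 * j)
    (hj0 : 0 < j) : r ∣ Fintype.card F ^ j + 1 := by
  have h1 : ((Fintype.card F : ℕ) : ZMod r) ^ (2 * j) = 1 := by
    rw [← hj]
    exact pow_orderOf_eq_one _
  have h2 : (((Fintype.card F : ℕ) : ZMod r) ^ j) ^ 2 = 1 := by
    rw [← pow_mul, mul_comm]
    exact h1
  have h3 : ((Fintype.card F : ℕ) : ZMod r) ^ j ≠ 1 := by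
    intro h
    have := orderOf_dvd_of_pow_eq_one h
    rw [hj] at this
    have := Nat.le_of_dvd hj0 this
    omega
  have h4 : ((Fintype.card F : ℕ) : ZMod r) ^ j = -1 := by
    rcases sq_eq_one_iff.1 h2 with h | h
    · exact absurd h h3
    · exact h
  rw [← ZMod.natCast_eq_zero_iff, Nat.cast_add, Nat.cast_pow, h4, Nat.cast_one, neg_add_cancel]

omit [Fact p.Prime] [CharP F p] in
/-- `r` divides the order of `O⁻_{2 n₁ + 2}(q)` -/
theorem e2_dvd_card (n₁ : ℕ) (a b : F)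
    (hab : ∀ x y : F, x ^ 2 + a * x * y + b * y ^ 2 = 0 → x = 0 ∧ y = 0)
    (hev : Even (orderOf ((Fintype.card F : ℕ) : ZMod r)))
    (h1 : orderOf ((Fintype.card F : ℕ) : ZMod r) ≤ 2 * n₁ + 2)
    (h2' : n₁ + 1 < orderOf ((Fintype.card F : ℕ) : ZMod r)) :
    r ∣ Nat.card (Cfsg.isometryGroup F (Cfsg.quadFormMinus n₁ F a b)) := by
  rw [Cfsg.Agent.Lib.Helper43.card_isometryGroup_minus n₁ F a b hab]
  obtain ⟨j, hj⟩ := hev
  have hj2 : orderOf ((Fintype.card F : ℕ) : ZMod r) = 2 * j := by omega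
  by_cases htop : orderOf ((Fintype.card F : ℕ) : ZMod r) = 2 * n₁ + 2
  · apply Dvd.dvd.mul_right
    apply Dvd.dvd.mul_left
    have hjn : j = n₁ + 1 := by omega
    rw [← hjn]
    exact e2_dvd_pow_add_one hj2 (by omega)
  · have hjk : j - 1 ∈ Finset.range n₁ := by
      rw [Finset.mem_range]
      omega
    apply Dvd.dvd.mul_left
    apply dvd_trans _ (Finset.dvd_prod_of_mem _ hjk)
    have : 2 * (j - 1 + 1) = orderOf ((Fintype.card F : ℕ) : ZMod r) := by omega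
    rw [this]
    exact e2_dvd_pow_sub_one

/-- OM-E2. -/
theorem exists_single_elt (h2 : (2 : F) ≠ 0) (hr2 : r ≠ 2) (hrp : r ≠ p) (n₁ : ℕ) (a b : F)
    (hab : ∀ x y : F, x ^ 2 + a * x * y + b * y ^ 2 = 0 → x = 0 ∧ y = 0)
    (hev : Even (orderOf ((Fintype.card F : ℕ) : ZMod r)))
    (h1 : orderOf ((Fintype.card F : ℕ) : ZMod r) ≤ 2 * n₁ + 2)
    (h2' : n₁ + 1 < orderOf ((Fintype.card F : ℕ) : ZMod r)) :
    ∃ x : Matrix.GeneralLinearGroup ((Fin n₁ ⊕ Fin n₁) ⊕ Fin 2) F,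
      x ∈ Cfsg.isometryGroup F (Cfsg.quadFormMinus n₁ F a b) ∧ x ^ r = 1 ∧
      finrank F (LinearMap.ker (Matrix.toLin'
        (x : Matrix ((Fin n₁ ⊕ Fin n₁) ⊕ Fin 2) ((Fin n₁ ⊕ Fin n₁) ⊕ Fin 2) F) - 1))
        = 2 * n₁ + 2 - orderOf ((Fintype.card F : ℕ) : ZMod r) := by
  classical
  have hdvd := e2_dvd_card (F := F) (r := r) n₁ a b hab hev h1 h2'
  obtain ⟨⟨x, hx⟩, hxo⟩ := exists_prime_orderOf_dvd_card' r hdvd
  have hxr : x ^ r = 1 := by
    have := pow_orderOf_eq_one (⟨x, hx⟩ : Cfsg.isometryGroup F (Cfsg.quadFormMinus n₁ F a b))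
    rw [hxo] at this
    exact congrArg Subtype.val this
  have hx1 : x ≠ 1 := by
    rintro rfl
    have : orderOf (⟨1, hx⟩ : Cfsg.isometryGroup F (Cfsg.quadFormMinus n₁ F a b)) = 1 := by
      rw [orderOf_eq_one_iff]
      rfl
    rw [hxo] at this
    exact (Fact.out : r.Prime).one_lt.ne' this
  refine ⟨x, hx, hxr, ?_⟩
  have hfr : (Matrix.toLin'
      (x : Matrix ((Fin n₁ ⊕ Fin n₁) ⊕ Fin 2) ((Fin n₁ ⊕ Fin n₁) ⊕ Fin 2) F)) ^ r = 1 := by
    rw [← Matrix.toLin'_pow]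
    have : ((x : Matrix ((Fin n₁ ⊕ Fin n₁) ⊕ Fin 2) ((Fin n₁ ⊕ Fin n₁) ⊕ Fin 2) F)) ^ r = 1 := by
      have := congrArg (fun y : Matrix.GeneralLinearGroup ((Fin n₁ ⊕ Fin n₁) ⊕ Fin 2) F =>
        (y : Matrix ((Fin n₁ ⊕ Fin n₁) ⊕ Fin 2) ((Fin n₁ ⊕ Fin n₁) ⊕ Fin 2) F)) hxr
      simpa using this
    rw [this, Matrix.toLin'_one]
    rfl
  obtain ⟨s, hs⟩ := Cfsg.Agent.Lib.Helper81.On.mod_le_fix (p := p) h2 (minusB_symm h2 n₁ a b)
    (minusB_nd h2 n₁ a b hab) hr2 hrp (isom_of_mem h2 n₁ a b x hx) hfr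
  have hblk : blk F r = orderOf ((Fintype.card F : ℕ) : ZMod r) := by
    unfold blk
    rw [if_pos hev]
  rw [finrank_VM, hblk] at hs
  have hs0 : s ≠ 0 := by
    rintro rfl
    rw [zero_mul, add_zero] at hs
    apply hx1
    have hker : LinearMap.ker (Matrix.toLin'
        (x : Matrix ((Fin n₁ ⊕ Fin n₁) ⊕ Fin 2) ((Fin n₁ ⊕ Fin n₁) ⊕ Fin 2) F) - 1) = ⊤ := by
      apply Submodule.eq_top_of_finrank_eq
      rw [← hs, finrank_VM]
    have hf1 : Matrix.toLin'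
        (x : Matrix ((Fin n₁ ⊕ Fin n₁) ⊕ Fin 2) ((Fin n₁ ⊕ Fin n₁) ⊕ Fin 2) F) = 1 := by
      have := LinearMap.ker_eq_top.1 hker
      exact sub_eq_zero.1 this
    apply Units.ext
    have h3 : Matrix.toLin'
        (x : Matrix ((Fin n₁ ⊕ Fin n₁) ⊕ Fin 2) ((Fin n₁ ⊕ Fin n₁) ⊕ Fin 2) F)
        = Matrix.toLin' (1 : Matrix ((Fin n₁ ⊕ Fin n₁) ⊕ Fin 2) ((Fin n₁ ⊕ Fin n₁) ⊕ Fin 2) F) := by
      rw [hf1, Matrix.toLin'_one]
      rfl
    exact Matrix.toLin'.injective h3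
  have hs1 : s = 1 := by
    by_contra hne
    have hs2 : 2 ≤ s := by omega
    have : 2 * orderOf ((Fintype.card F : ℕ) : ZMod r)
        ≤ s * orderOf ((Fintype.card F : ℕ) : ZMod r) := Nat.mul_le_mul_right _ hs2
    omega
  rw [hs1, one_mul] at hs
  exact (Nat.sub_eq_of_eq_add hs).symm

end elements
end concrete
end Cfsg.Agent.Lib.Helper46.Om
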