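import Cfsg.Agent.Lib.Helper3.OddOrder
import Cfsg.Agent.Lib.Helper15.LinearChar
import Cfsg.Agent.Lib.Helper81.Irr

set_option autoImplicit false

namespace Cfsg.Agent.Lib.Helper80

open Cfsg

section Abelian

variable {A : Type*} [Group A]

/-- Irreducible characters of a commutative group are linear. -/
theorem irr_one_eq_one_of_comm [IsMulCommutative A] (ψ : Cfsg.IrrCharacter A) :
    (ψ : A → ℂ) 1 = 1 := by
  obtain ⟨n, ρ, hirr, hρ⟩ := ψ.2
  have := hirr
  have h1 : Module.finrank ℂ (Fin n → ℂ) = 1 :=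
    Representation.IsIrreducible.finrank_eq_one_of_isMulCommutative ρ
  rw [← hρ, Representation.char_one, h1, Nat.cast_one]

theorem irr_isLinear_of_comm [IsMulCommutative A] (ψ : Cfsg.IrrCharacter A) :
    IsCharacter A (ψ : A → ℂ) ∧ (ψ : A → ℂ) 1 = 1 :=
  ⟨Cfsg.Agent.Lib.Helper3.IsIrrCharacter.isCharacter ψ.2, irr_one_eq_one_of_comm ψ⟩

/-- A character of a finite commutative group is a sum (with multiplicity) of homomorphisms
to `ℂ`. -/
theorem exists_hom_family_of_comm [Finite A] [IsMulCommutative A] {χ : A → ℂ}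
    (hχ : IsCharacter A χ) :
    ∃ (n : ℕ) (lam : Fin n → (A →* ℂ)), ∀ a : A, χ a = ∑ i, lam i a := by
  classical
  have := Fintype.ofFinite A
  have : Finite (Cfsg.IrrCharacter A) := Cfsg.Agent.Lib.Helper81.finite_irrCharacter
  have := Fintype.ofFinite (Cfsg.IrrCharacter A)
  obtain ⟨m, -, hsum⟩ := Cfsg.Agent.Lib.Helper3.IsCharacter.exists_mult hχ
  let ι := Σ ψ : Cfsg.IrrCharacter A, Fin (m ψ)
  let e : ι ≃ Fin (Fintype.card ι) := Fintype.equivFin ι
  refine ⟨Fintype.card ι,
    fun i => Cfsg.Agent.Lib.Helper15.linCharHom (irr_isLinear_of_comm (e.symm i).1), ?_⟩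
  intro a
  rw [← Equiv.sum_comp e]
  simp only [Equiv.symm_apply_apply, Cfsg.Agent.Lib.Helper15.linCharHom_apply]
  rw [Fintype.sum_sigma, hsum, Finset.sum_apply]
  refine Finset.sum_congr rfl fun ψ _ => ?_
  rw [Pi.smul_apply]
  change _ = ∑ _y : Fin (m ψ), (ψ : A → ℂ) a
  rw [Finset.sum_const, Finset.card_univ, Fintype.card_fin, smul_eq_mul, nsmul_eq_mul]

end Abelian

section Joint

variable {G : Type*} [Group G] [Finite G]

/-- Joint eigenvalues of two commuting elements: the values of a character on the abelian group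
they generate are given by power sums. -/
theorem exists_joint_eigenvalues {χ : G → ℂ} (hχ : IsCharacter G χ) (x y : G)
    (hxy : x * y = y * x) :
    ∃ (n : ℕ) (α β : Fin n → ℂ), (∀ i, α i ^ orderOf x = 1) ∧ (∀ i, β i ^ orderOf y = 1) ∧
      ∀ a b : ℕ, χ (x ^ a * y ^ b) = ∑ i, α i ^ a * β i ^ b := by
  classical
  have hcomm : ∀ u ∈ ({x, y} : Set G), ∀ v ∈ ({x, y} : Set G), u * v = v * u := by
    intro u hu v hv
    simp only [Set.mem_insert_iff, Set.mem_singleton_iff] at hu hv
    rcases hu with rfl | rfl <;> rcases hv with rfl | rfl <;> first | rfl | exact hxy | exact hxy.symm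
  have : IsMulCommutative (Subgroup.closure ({x, y} : Set G)) :=
    Subgroup.isMulCommutative_closure hcomm
  have hxA : x ∈ Subgroup.closure ({x, y} : Set G) := Subgroup.subset_closure (by simp)
  have hyA : y ∈ Subgroup.closure ({x, y} : Set G) := Subgroup.subset_closure (by simp)
  have hres := Cfsg.Agent.Lib.Helper3.IsCharacter.restrict hχ (Subgroup.closure ({x, y} : Set G))
  obtain ⟨n, lam, hlam⟩ := exists_hom_family_of_comm hres
  refine ⟨n, fun i => lam i ⟨x, hxA⟩, fun i => lam i ⟨y, hyA⟩, ?_, ?_, ?_⟩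
  · intro i
    rw [← map_pow]
    have : (⟨x, hxA⟩ : Subgroup.closure ({x, y} : Set G)) ^ orderOf x = 1 := by
      apply Subtype.ext
      simp [pow_orderOf_eq_one]
    rw [this, map_one]
  · intro i
    rw [← map_pow]
    have : (⟨y, hyA⟩ : Subgroup.closure ({x, y} : Set G)) ^ orderOf y = 1 := by
      apply Subtype.ext
      simp [pow_orderOf_eq_one]
    rw [this, map_one]
  · intro a b
    have h := hlam (⟨x, hxA⟩ ^ a * ⟨y, hyA⟩ ^ b)
    simp only [map_mul, map_pow] at h
    rw [← h]
    rfl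

end Joint

end Cfsg.Agent.Lib.Helper80
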