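import Mathlib
import Cfsg.Agent.Lib.Helper41.PsDefs
import Cfsg.Agent.Lib.Helper27.CgCG7
import Cfsg.Agent.Lib.Helper49.CgCG8c

/-!
# Ps hive (S4321): leaf PS16 (B1).
Every element of `C(b)` is `C(b)`-conjugate to `y * c`, `y ∈ P`, `c ∈ C_G(P)`.
-/

set_option autoImplicit false

namespace Cfsg.Agent.Lib.Helper41.Ps

open Subgroup
open scoped Pointwise
open Cfsg.Agent.Lib.Helper22.Cg

universe u

/-- a `p`-element of a subgroup `D` containing the Sylow `p`-subgroup `P` of `G` is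
`D`-conjugate into `P`. -/
theorem ps_cb1_conj_into {G : Type u} [Group G] [Finite G] (p : ℕ) [Fact p.Prime]
    (D : Subgroup G) (P : Sylow p G) (hPD : (P : Subgroup G) ≤ D) (x : G) (hxD : x ∈ D)
    (hx : ∃ n : ℕ, orderOf x = p ^ n) : ∃ k ∈ D, k * x * k⁻¹ ∈ P := by
  obtain ⟨n, hn⟩ := hx
  have hzp : IsPGroup p (zpowers (⟨x, hxD⟩ : D)) := by
    refine IsPGroup.of_card (n := n) ?_
    rw [Nat.card_zpowers, ← hn]
    exact Subgroup.orderOf_mk x hxD
  obtain ⟨Q, hQ⟩ := hzp.exists_le_sylow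
  obtain ⟨k, hk⟩ := MulAction.exists_smul_eq (↥D) Q (P.subtype hPD)
  refine ⟨(k : G), k.2, ?_⟩
  have hxQ : (⟨x, hxD⟩ : D) ∈ (Q : Subgroup D) := hQ (mem_zpowers _)
  have h1 : MulAut.conj k • (⟨x, hxD⟩ : D) ∈ MulAut.conj k • (Q : Subgroup D) :=
    Subgroup.smul_mem_pointwise_smul _ _ _ hxQ
  rw [← Sylow.coe_subgroup_smul, hk, Sylow.coe_subtype, Subgroup.mem_subgroupOf] at h1
  have h2 : (k : G) * x * (k : G)⁻¹ ∈ (P : Subgroup G) := by
    simpa [MulAut.smul_def, MulAut.conj_apply] using h1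
  exact h2

/-- PS16 (B1). every element of `C(b)` is `C(b)`-conjugate to `y * c`, `y ∈ P`, `c ∈ C_G(P)`.
(cg7, cg8c applied to `b * w`, Sylow conjugacy inside centralizers) -/
theorem ps_cB1 {G : Type u} [Group G] [Finite G] (p : ℕ) [Fact p.Prime] (P : Sylow p G) (b : G)
    (hb : b ∈ P) (hbZ : ∀ y ∈ P, b * y = y * b) (hbp : ∃ n : ℕ, orderOf b = p ^ n)
    (hA : ∀ w : G, w * b = b * w → ¬ p ∣ orderOf w → ¬ p ∣ cs (b * w))
    (g : G) (hg : g * b = b * g) :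
    ∃ k : G, k * b = b * k ∧ ∃ y ∈ P, ∃ c : G, (∀ u ∈ P, c * u = u * c) ∧
      k * g * k⁻¹ = y * c := by
  have hp : p.Prime := Fact.out
  obtain ⟨n, hn⟩ := hbp
  obtain ⟨u, w, huw, hu, hw, hup, hpw⟩ := cg7 p g
  have hgb : Commute g b := hg
  obtain ⟨i, hi⟩ := Subgroup.mem_zpowers_iff.mp hu
  obtain ⟨j, hj⟩ := Subgroup.mem_zpowers_iff.mp hw
  have hub : Commute u b := by rw [← hi]; exact hgb.zpow_left i
  have hwb : Commute w b := by rw [← hj]; exact hgb.zpow_left j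
  have huw' : Commute u w := by rw [← hi, ← hj]; exact Commute.zpow_zpow_self g i j
  -- a Sylow `p`-subgroup `Q` centralizes `b * w`
  obtain ⟨Q, hQ⟩ := cg8c p (b * w) (hA w hwb.eq hpw)
  -- hence `b` and `w`
  have hcop1 : (orderOf w).Coprime (orderOf b) := by
    rw [hn]
    exact (((Nat.Prime.coprime_iff_not_dvd hp).mpr hpw).symm).pow_right n
  have hbw_pow1 : (b * w) ^ (orderOf w) = b ^ (orderOf w) := by
    rw [hwb.symm.mul_pow, pow_orderOf_eq_one, mul_one]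
  have hbw_pow2 : (b * w) ^ (orderOf b) = w ^ (orderOf b) := by
    rw [hwb.symm.mul_pow, pow_orderOf_eq_one, one_mul]
  obtain ⟨m1, hm1⟩ := exists_pow_eq_self_of_coprime hcop1
  obtain ⟨m2, hm2⟩ := exists_pow_eq_self_of_coprime hcop1.symm
  have hQb : ∀ y ∈ Q, Commute b y := by
    intro y hy
    have h : Commute (b * w) y := hQ y hy
    have h2 : Commute (((b * w) ^ (orderOf w)) ^ m1) y := (h.pow_left _).pow_left _
    rwa [hbw_pow1, hm1] at h2
  have hQw : ∀ y ∈ Q, Commute w y := by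
    intro y hy
    have h : Commute (b * w) y := hQ y hy
    have h2 : Commute (((b * w) ^ (orderOf b)) ^ m2) y := (h.pow_left _).pow_left _
    rwa [hbw_pow2, hm2] at h2
  -- conjugate `Q` to `P` inside `C(b)`
  have hPC : (P : Subgroup G) ≤ centralizer ({b} : Set G) := by
    intro y hy
    exact mem_centralizer_singleton_iff.mpr (hbZ y hy).symm
  have hQC : (Q : Subgroup G) ≤ centralizer ({b} : Set G) := by
    intro y hy
    exact mem_centralizer_singleton_iff.mpr (hQb y hy).eq.symm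
  obtain ⟨k1, hk1⟩ := MulAction.exists_smul_eq (↥(centralizer ({b} : Set G)))
    (Q.subtype hQC) (P.subtype hPC)
  rw [Sylow.smul_subtype] at hk1
  have hk1' : k1 • Q = P := Sylow.subtype_injective hk1
  have hk1b : Commute (k1 : G) b := mem_centralizer_singleton_iff.mp k1.2
  -- `w1 = k1 w k1⁻¹` centralizes `P`
  have hPmem : ∀ y ∈ P, (k1 : G)⁻¹ * y * (k1 : G) ∈ Q := by
    intro y hy
    have h1 : y ∈ ((k1 • Q : Sylow p G) : Subgroup G) := by rw [hk1']; exact hy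
    have h2 : y ∈ MulAut.conj (k1 : G) • (Q : Subgroup G) := h1
    obtain ⟨z, hz, hzy⟩ := (Subgroup.mem_smul_pointwise_iff_exists _ _ _).mp h2
    have hzy' : (k1 : G) * z * (k1 : G)⁻¹ = y := by
      simpa [MulAut.smul_def, MulAut.conj_apply] using hzy
    rw [← hzy']
    have e : (k1 : G)⁻¹ * ((k1 : G) * z * (k1 : G)⁻¹) * (k1 : G) = z := by group
    rw [e]; exact hz
  have hw1P : ∀ y ∈ P, ((k1 : G) * w * (k1 : G)⁻¹) * y = y * ((k1 : G) * w * (k1 : G)⁻¹) := by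
    intro y hy
    have h := (hQw _ (hPmem y hy)).eq
    calc ((k1 : G) * w * (k1 : G)⁻¹) * y
        = (k1 : G) * (w * ((k1 : G)⁻¹ * y * (k1 : G))) * (k1 : G)⁻¹ := by group
      _ = (k1 : G) * (((k1 : G)⁻¹ * y * (k1 : G)) * w) * (k1 : G)⁻¹ := by rw [h]
      _ = y * ((k1 : G) * w * (k1 : G)⁻¹) := by group
  -- `u1 = k1 u k1⁻¹` is a `p`-element of `D = C(b) ⊓ C(w1)`
  set w1 : G := (k1 : G) * w * (k1 : G)⁻¹ with hw1
  set u1 : G := (k1 : G) * u * (k1 : G)⁻¹ with hu1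
  have hu1b : u1 * b = b * u1 := by
    have h1 := hub.eq
    have h2 := hk1b.eq
    have h3 : (k1 : G)⁻¹ * b = b * (k1 : G)⁻¹ := (hk1b.inv_left).eq
    calc u1 * b = (k1 : G) * u * ((k1 : G)⁻¹ * b) := by rw [hu1]; group
      _ = (k1 : G) * u * (b * (k1 : G)⁻¹) := by rw [h3]
      _ = (k1 : G) * (u * b) * (k1 : G)⁻¹ := by group
      _ = (k1 : G) * (b * u) * (k1 : G)⁻¹ := by rw [h1]
      _ = ((k1 : G) * b) * u * (k1 : G)⁻¹ := by group
      _ = (b * (k1 : G)) * u * (k1 : G)⁻¹ := by rw [h2]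
      _ = b * u1 := by rw [hu1]; group
  have hu1w1 : u1 * w1 = w1 * u1 := by
    have h1 := huw'.eq
    calc u1 * w1 = (k1 : G) * (u * w) * (k1 : G)⁻¹ := by rw [hu1, hw1]; group
      _ = (k1 : G) * (w * u) * (k1 : G)⁻¹ := by rw [h1]
      _ = w1 * u1 := by rw [hu1, hw1]; group
  have hu1p : ∃ n : ℕ, orderOf u1 = p ^ n := by
    obtain ⟨nu, hnu⟩ := hup
    refine ⟨nu, ?_⟩
    rw [hu1, ← hnu, ← MulAut.conj_apply]
    exact MulEquiv.orderOf_eq _ u
  let D : Subgroup G := centralizer ({b} : Set G) ⊓ centralizer ({w1} : Set G)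
  have hPD : (P : Subgroup G) ≤ D := by
    intro y hy
    refine mem_inf.mpr ⟨hPC hy, mem_centralizer_singleton_iff.mpr (hw1P y hy).symm⟩
  have hu1D : u1 ∈ D :=
    mem_inf.mpr ⟨mem_centralizer_singleton_iff.mpr hu1b,
      mem_centralizer_singleton_iff.mpr hu1w1⟩
  obtain ⟨k2, hk2D, hk2⟩ := ps_cb1_conj_into p D P hPD u1 hu1D hu1p
  have hk2b : k2 * b = b * k2 := mem_centralizer_singleton_iff.mp (mem_inf.mp hk2D).1
  have hk2w : k2 * w1 = w1 * k2 := mem_centralizer_singleton_iff.mp (mem_inf.mp hk2D).2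
  refine ⟨k2 * (k1 : G), ?_, k2 * u1 * k2⁻¹, hk2, w1, hw1P, ?_⟩
  · rw [mul_assoc, hk1b.eq, ← mul_assoc, hk2b, mul_assoc]
  · have e1 : k2 * w1 * k2⁻¹ = w1 := by rw [hk2w]; group
    calc k2 * (k1 : G) * g * (k2 * (k1 : G))⁻¹
        = k2 * ((k1 : G) * (u * w) * (k1 : G)⁻¹) * k2⁻¹ := by rw [huw]; group
      _ = (k2 * u1 * k2⁻¹) * (k2 * w1 * k2⁻¹) := by rw [hu1, hw1]; group
      _ = k2 * u1 * k2⁻¹ * w1 := by rw [e1]

end Cfsg.Agent.Lib.Helper41.Ps
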