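import Cfsg.Agent.Lib.Helper16.GagDefs

/-!
# Gag hive (S4561), leaf GAG-E1: a finite cyclic group has a faithful linear character
-/

set_option autoImplicit false
universe u v

namespace Cfsg.Agent.Lib.Helper16.Gag
open scoped IsMulCommutative

/-- E1 -/
theorem exists_injective_hom_units {Z : Type u} [Group Z] [Finite Z] [IsCyclic Z] :
    ∃ θ : Z →* ℂˣ, Function.Injective θ := by
  obtain ⟨g, hg⟩ := IsCyclic.exists_generator (α := Z)
  have hn : orderOf g ≠ 0 := (orderOf_pos g).ne'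
  have hprim : IsPrimitiveRoot (Complex.exp (2 * Real.pi * Complex.I / (orderOf g : ℂ))) (orderOf g) :=
    Complex.isPrimitiveRoot_exp (orderOf g) hn
  haveI : NeZero (orderOf g) := ⟨hn⟩
  obtain ⟨ζ, hζ⟩ : ∃ ζ : ℂˣ, IsPrimitiveRoot ζ (orderOf g) := by
    refine ⟨(hprim.isUnit hn).unit, ?_⟩
    rw [← IsPrimitiveRoot.coe_units_iff]
    exact hprim
  have hord : orderOf ζ = orderOf g := hζ.eq_orderOf.symm
  refine ⟨monoidHomOfForallMemZpowers hg (g' := ζ) (by rw [hord]), ?_⟩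
  rw [injective_iff_map_eq_one]
  intro x hx
  obtain ⟨k, rfl⟩ := Subgroup.mem_zpowers_iff.mp (hg x)
  rw [map_zpow, monoidHomOfForallMemZpowers_apply_gen] at hx
  have h1 : (orderOf ζ : ℤ) ∣ k := orderOf_dvd_iff_zpow_eq_one.mpr hx
  rw [hord] at h1
  exact orderOf_dvd_iff_zpow_eq_one.mp h1

end Cfsg.Agent.Lib.Helper16.Gag
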