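import Cfsg.Agent.Lib.Helper80.Orthogonality
import Cfsg.Agent.Lib.Helper80.Conv
import Cfsg.Agent.Lib.Helper81.Irr
import Cfsg.Agent.Lib.Helper3.OddOrder

set_option autoImplicit false

namespace Cfsg.Agent.Lib.Helper80

open Cfsg
open scoped ComplexConjugate

section ClassConst

variable {G : Type*} [Group G] [Fintype G]

/-- The delta function at the identity via the regular character. -/
theorem sum_irr_deg_mul_eq [Fintype (Cfsg.IrrCharacter G)] [DecidableEq G] (g : G) :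
    ∑ χ : Cfsg.IrrCharacter G, (χ : G → ℂ) 1 * (χ : G → ℂ) g =
      if g = 1 then (Nat.card G : ℂ) else 0 := by
  split_ifs with h
  · subst h
    exact Cfsg.Agent.Lib.Helper81.sum_irr_deg_mul_one
  · exact Cfsg.Agent.Lib.Helper81.sum_irr_deg_mul_of_ne_one h

/-- Class algebra constants: the number of pairs `(s, t)` with `x^s * y^t = z`. -/
theorem class_constant [Fintype (Cfsg.IrrCharacter G)] [DecidableEq G] (x y z : G) :
    ((Finset.univ.filter
        (fun st : G × G => st.1 * x * st.1⁻¹ * (st.2 * y * st.2⁻¹) = z)).card : ℂ) =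
      (Nat.card G : ℂ) * ∑ χ : Cfsg.IrrCharacter G,
        (χ : G → ℂ) x * (χ : G → ℂ) y * (χ : G → ℂ) z⁻¹ / (χ : G → ℂ) 1 := by
  have hG : (Nat.card G : ℂ) ≠ 0 := by exact_mod_cast Nat.card_pos.ne'
  have h1 : ((Finset.univ.filter
        (fun st : G × G => st.1 * x * st.1⁻¹ * (st.2 * y * st.2⁻¹) = z)).card : ℂ) =
      ∑ s : G, ∑ t : G, if z⁻¹ * (s * x * s⁻¹) * (t * y * t⁻¹) = 1 then (1 : ℂ) else 0 := by
    rw [Finset.card_filter, Nat.cast_sum, Fintype.sum_prod_type]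
    refine Finset.sum_congr rfl fun s _ => Finset.sum_congr rfl fun t _ => ?_
    have hiff : (s * x * s⁻¹ * (t * y * t⁻¹) = z) ↔
        (z⁻¹ * (s * x * s⁻¹) * (t * y * t⁻¹) = 1) := by
      constructor
      · intro h; rw [← h]; group
      · intro h
        have h' : z⁻¹ * (s * x * s⁻¹ * (t * y * t⁻¹)) = 1 := by rw [← mul_assoc]; exact h
        exact (inv_mul_eq_one.mp h').symm
    by_cases h : s * x * s⁻¹ * (t * y * t⁻¹) = z
    · rw [if_pos h, if_pos (hiff.mp h), Nat.cast_one]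
    · rw [if_neg h, if_neg (fun h' => h (hiff.mpr h')), Nat.cast_zero]
  have h2 : ∀ s t : G, (if z⁻¹ * (s * x * s⁻¹) * (t * y * t⁻¹) = 1 then (1 : ℂ) else 0) =
      (Nat.card G : ℂ)⁻¹ * ∑ χ : Cfsg.IrrCharacter G,
        (χ : G → ℂ) 1 * (χ : G → ℂ) (z⁻¹ * (s * x * s⁻¹) * (t * y * t⁻¹)) := by
    intro s t
    rw [sum_irr_deg_mul_eq]
    split_ifs
    · rw [inv_mul_cancel₀ hG]
    · rw [mul_zero]
  have h3 : ∀ χ : Cfsg.IrrCharacter G, ∑ s : G, ∑ t : G,
      (χ : G → ℂ) 1 * (χ : G → ℂ) (z⁻¹ * (s * x * s⁻¹) * (t * y * t⁻¹)) =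
      (Nat.card G : ℂ) * ((Nat.card G : ℂ) *
        ((χ : G → ℂ) x * (χ : G → ℂ) y * (χ : G → ℂ) z⁻¹ / (χ : G → ℂ) 1)) := by
    intro χ
    have hχ1 := irr_one_ne_zero χ
    have e1 : ∀ s : G, ∑ t : G,
        (χ : G → ℂ) 1 * (χ : G → ℂ) (z⁻¹ * (s * x * s⁻¹) * (t * y * t⁻¹)) =
        (Nat.card G : ℂ) * (χ : G → ℂ) (z⁻¹ * (s * x * s⁻¹)) * (χ : G → ℂ) y := by
      intro s
      rw [← Finset.mul_sum, irr_sum_char_mul_conj χ (z⁻¹ * (s * x * s⁻¹)) y]
      field_simp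
    simp only [e1]
    rw [← Finset.sum_mul, ← Finset.mul_sum, irr_sum_char_mul_conj χ z⁻¹ x]
    field_simp
  have h4 : ∑ s : G, ∑ t : G, ∑ χ : Cfsg.IrrCharacter G,
      (χ : G → ℂ) 1 * (χ : G → ℂ) (z⁻¹ * (s * x * s⁻¹) * (t * y * t⁻¹)) =
      ∑ χ : Cfsg.IrrCharacter G, ∑ s : G, ∑ t : G,
      (χ : G → ℂ) 1 * (χ : G → ℂ) (z⁻¹ * (s * x * s⁻¹) * (t * y * t⁻¹)) := by
    rw [Finset.sum_congr rfl (fun s _ => Finset.sum_comm), Finset.sum_comm]
  rw [h1]
  simp only [h2]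
  simp only [← Finset.mul_sum]
  rw [h4, Finset.sum_congr rfl (fun χ _ => h3 χ), ← Finset.mul_sum, ← Finset.mul_sum]
  field_simp

end ClassConst

section PAdic

/-- A `p`-adic integrality argument: if `∑ A_i p^c / d_i = C` with the `A_i` algebraic integers
and no `d_i` divisible by `p ^ (c - a)`, then `p ^ (a + 1)` divides `C`. -/
theorem pow_dvd_of_sum_eq {ι : Type*} [Fintype ι] [DecidableEq ι] (p : ℕ) (hp : p.Prime)
    (A : ι → ℂ) (hA : ∀ i, IsIntegral ℤ (A i)) (d : ι → ℕ) (hd : ∀ i, d i ≠ 0) (c a C : ℕ)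
    (hsum : ∑ i, A i * (p ^ c : ℂ) / (d i : ℂ) = (C : ℂ))
    (hdeg : ∀ i, ¬ p ^ (c - a) ∣ d i) : p ^ (a + 1) ∣ C := by
  have hpC : (p : ℂ) ≠ 0 := by exact_mod_cast hp.ne_zero
  -- decompose the degrees
  have hdec : ∀ i, ∃ v e w : ℕ, d i = p ^ v * e ∧ ¬ p ∣ e ∧ c = v + (a + 1) + w := by
    intro i
    obtain ⟨v, e, he, hde⟩ := Nat.exists_eq_pow_mul_and_not_dvd (hd i) p hp.ne_one
    have hv : v < c - a := by
      by_contra hge
      push Not at hge
      apply hdeg i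
      rw [hde]
      exact Dvd.dvd.mul_right (pow_dvd_pow p hge) e
    exact ⟨v, e, c - (v + (a + 1)), hde, he, by omega⟩
  choose v e w hde he hc using hdec
  have he0 : ∀ i, e i ≠ 0 := fun i h0 => he i (by rw [h0]; exact dvd_zero p)
  set E : ℕ := ∏ i, e i with hE
  have hEp : Nat.Coprime (p ^ (a + 1)) E := by
    apply Nat.Coprime.pow_left
    rw [hE]
    apply Nat.Coprime.prod_right
    intro i _
    exact (Nat.Prime.coprime_iff_not_dvd hp).mpr (he i)
  have hEi : ∀ i, E = e i * ∏ j ∈ Finset.univ.erase i, e j := fun i =>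
    (Finset.mul_prod_erase Finset.univ e (Finset.mem_univ i)).symm
  have hterm : ∀ i, (E : ℂ) * (A i * (p ^ c : ℂ) / (d i : ℂ)) =
      (p : ℂ) ^ (a + 1) * (A i * ((∏ j ∈ Finset.univ.erase i, e j : ℕ) * p ^ (w i) : ℕ)) := by
    intro i
    have he0' : (e i : ℂ) ≠ 0 := by exact_mod_cast he0 i
    have hpv : (p : ℂ) ^ (v i) ≠ 0 := pow_ne_zero _ hpC
    rw [hEi i, hde i]
    conv_lhs => rw [hc i]
    push_cast
    field_simp
    ring
  have hint : IsIntegral ℤ (((E * C : ℕ) : ℂ) / ((p ^ (a + 1) : ℕ) : ℂ)) := by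
    have h1 : ((E * C : ℕ) : ℂ) / ((p ^ (a + 1) : ℕ) : ℂ) =
        ∑ i, A i * ((∏ j ∈ Finset.univ.erase i, e j : ℕ) * p ^ (w i) : ℕ) := by
      have hpa : ((p ^ (a + 1) : ℕ) : ℂ) ≠ 0 := by
        exact_mod_cast pow_ne_zero _ hp.ne_zero
      rw [div_eq_iff hpa, Nat.cast_mul, ← hsum, Finset.mul_sum, Finset.sum_mul]
      refine Finset.sum_congr rfl fun i _ => ?_
      rw [hterm i]
      push_cast
      ring
    rw [h1]
    refine IsIntegral.sum _ fun i _ => ?_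
    exact (hA i).mul (isIntegral_natCast _)
  have hdvd := Cfsg.Agent.Lib.Helper3.nat_dvd_of_isIntegral_div (pow_ne_zero _ hp.ne_zero) hint
  exact hEp.dvd_of_dvd_mul_left hdvd

end PAdic

section SubgroupSum

variable {G : Type*} [Group G] [Finite G]

/-- The sum of a character over a subgroup is `|P|` times a natural number (the multiplicity of
the trivial character in the restriction). -/
theorem exists_sum_subgroup_eq {χ : G → ℂ} (hχ : IsCharacter G χ) (P : Subgroup G) [Fintype P] :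
    ∃ m : ℕ, ∑ z : P, χ z = (Nat.card P : ℂ) * m := by
  have hres := Cfsg.Agent.Lib.Helper3.IsCharacter.restrict hχ P
  obtain ⟨m, hm⟩ := Cfsg.Agent.Lib.Helper3.IsCharacter.classInner_irr_nat hres
    (isIrrCharacter_one' (G := P))
  refine ⟨m, ?_⟩
  have hP : (Nat.card P : ℂ) ≠ 0 := by exact_mod_cast Nat.card_pos.ne'
  unfold Cfsg.classInner at hm
  simp only [map_one, mul_one] at hm
  rw [← hm]
  field_simp

end SubgroupSum

end Cfsg.Agent.Lib.Helper80
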