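import Cfsg.Agent.Lib.Helper80.IrrApi

set_option autoImplicit false

namespace Cfsg.Agent.Lib.Helper80

open scoped ComplexConjugate

section Count

variable {G : Type*} [Group G]

/-- The number of elements conjugating `a` to `b`, conjugate case. -/
theorem card_conjugators_of_isConj (a b : G) (h : IsConj a b) :
    Nat.card {y : G // y * a * y⁻¹ = b} = Nat.card (Subgroup.centralizer ({a} : Set G)) := by
  obtain ⟨c, hc⟩ := isConj_iff.mp h
  apply Nat.card_congr
  refine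
    { toFun := fun y => ⟨c⁻¹ * y.1, ?_⟩
      invFun := fun w => ⟨c * w.1, ?_⟩
      left_inv := fun y => by simp
      right_inv := fun w => by simp }
  · rw [Subgroup.mem_centralizer_singleton_iff]
    have hy := y.2
    have h2 : y.1 * a * y.1⁻¹ = c * a * c⁻¹ := by rw [hy, hc]
    have h3 : c⁻¹ * (y.1 * a * y.1⁻¹) * y.1 = c⁻¹ * (c * a * c⁻¹) * y.1 := by rw [h2]
    have e1 : c⁻¹ * (y.1 * a * y.1⁻¹) * y.1 = c⁻¹ * y.1 * a := by group
    have e2 : c⁻¹ * (c * a * c⁻¹) * y.1 = a * (c⁻¹ * y.1) := by group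
    rw [← e1, ← e2, h3]
  · have hw := Subgroup.mem_centralizer_singleton_iff.mp w.2
    have e1 : c * w.1 * a * (c * w.1)⁻¹ = c * (w.1 * a) * w.1⁻¹ * c⁻¹ := by group
    rw [e1, hw, ← hc]
    group

theorem card_conjugators_of_not_isConj (a b : G) (h : ¬ IsConj a b) :
    Nat.card {y : G // y * a * y⁻¹ = b} = 0 := by
  rw [Nat.card_eq_zero]
  left
  constructor
  rintro ⟨y, hy⟩
  exact h (isConj_iff.mpr ⟨y, hy⟩)

theorem commutator_eq_iff (x y z : G) :
    x * y * x⁻¹ * y⁻¹ = z ↔ y * x⁻¹ * y⁻¹ = x⁻¹ * z := by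
  constructor
  · intro h
    rw [← h]; group
  · intro h
    have h2 : x * (y * x⁻¹ * y⁻¹) = x * (x⁻¹ * z) := by rw [h]
    rw [mul_inv_cancel_left] at h2
    rw [← h2]; group

end Count

section Frobenius

variable {G : Type*} [Group G] [Finite G]

/-- Frobenius' commutator count, assuming the second orthogonality relation. -/
theorem commutator_count_of_column_orthogonality [Finite (Cfsg.IrrCharacter G)]
    (hcol : ∀ g h : G,
      (IsConj g h → ∑ᶠ χ : Cfsg.IrrCharacter G, (χ : G → ℂ) g * conj ((χ : G → ℂ) h) =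
        (Nat.card (Subgroup.centralizer ({g} : Set G)) : ℂ)) ∧
      (¬ IsConj g h → ∑ᶠ χ : Cfsg.IrrCharacter G, (χ : G → ℂ) g * conj ((χ : G → ℂ) h) = 0))
    (z : G) :
    (Nat.card {xy : G × G // xy.1 * xy.2 * xy.1⁻¹ * xy.2⁻¹ = z} : ℂ) =
      (Nat.card G : ℂ) * ∑ᶠ χ : Cfsg.IrrCharacter G, (χ : G → ℂ) z / (χ : G → ℂ) 1 := by
  classical
  have : Fintype G := Fintype.ofFinite G
  have : Fintype (Cfsg.IrrCharacter G) := Fintype.ofFinite _
  -- Step 1: count conjugators via characters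
  have hconj : ∀ a b : G, (Nat.card {y : G // y * a * y⁻¹ = b} : ℂ) =
      ∑ χ : Cfsg.IrrCharacter G, (χ : G → ℂ) a * conj ((χ : G → ℂ) b) := by
    intro a b
    rw [← finsum_eq_sum_of_fintype]
    by_cases h : IsConj a b
    · rw [(hcol a b).1 h, card_conjugators_of_isConj a b h]
    · rw [(hcol a b).2 h, card_conjugators_of_not_isConj a b h]; simp
  -- Step 2: the count as a double sum
  have hcount : (Nat.card {xy : G × G // xy.1 * xy.2 * xy.1⁻¹ * xy.2⁻¹ = z} : ℂ) =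
      ∑ x : G, (Nat.card {y : G // y * x⁻¹ * y⁻¹ = x⁻¹ * z} : ℂ) := by
    have e : {xy : G × G // xy.1 * xy.2 * xy.1⁻¹ * xy.2⁻¹ = z} ≃
        Σ x : G, {y : G // y * x⁻¹ * y⁻¹ = x⁻¹ * z} :=
      (Equiv.subtypeEquivRight (fun xy : G × G => commutator_eq_iff xy.1 xy.2 z)).trans
        (Equiv.subtypeProdEquivSigmaSubtype (fun x y : G => y * x⁻¹ * y⁻¹ = x⁻¹ * z))
    rw [Nat.card_congr e, Nat.card_sigma]
    push_cast
    rfl
  rw [hcount]
  simp only [hconj]
  rw [Finset.sum_comm]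
  -- Step 3: generalized orthogonality
  have hgo : ∀ χ : Cfsg.IrrCharacter G,
      ∑ x : G, (χ : G → ℂ) x⁻¹ * conj ((χ : G → ℂ) (x⁻¹ * z)) =
        (Nat.card G : ℂ) * conj ((χ : G → ℂ) z / (χ : G → ℂ) 1) := by
    intro χ
    have h1 := irr_generalized_orthogonality χ z⁻¹
    rw [irr_conj_inv] at h1
    rw [map_div₀, irr_one_conj, mul_div_assoc', ← h1]
    refine Finset.sum_congr rfl fun x _ => ?_
    rw [← irr_conj_inv, mul_comm]
    congr 2
    group
  simp only [hgo]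
  rw [← Finset.mul_sum, ← map_sum, ← finsum_eq_sum_of_fintype]
  -- Step 4: the count is real
  have hreal : conj ((Nat.card G : ℂ) *
      ∑ᶠ χ : Cfsg.IrrCharacter G, (χ : G → ℂ) z / (χ : G → ℂ) 1) =
      (Nat.card G : ℂ) * ∑ᶠ χ : Cfsg.IrrCharacter G, (χ : G → ℂ) z / (χ : G → ℂ) 1 := by
    have h5 : (Nat.card G : ℂ) * conj (∑ᶠ χ : Cfsg.IrrCharacter G,
        (χ : G → ℂ) z / (χ : G → ℂ) 1) =
        (Nat.card {xy : G × G // xy.1 * xy.2 * xy.1⁻¹ * xy.2⁻¹ = z} : ℂ) := by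
      rw [hcount]
      simp only [hconj]
      rw [Finset.sum_comm]
      simp only [hgo]
      rw [← Finset.mul_sum, ← map_sum, ← finsum_eq_sum_of_fintype]
    have h6 := congrArg conj h5
    rw [map_mul, Complex.conj_natCast, Complex.conj_conj, Complex.conj_natCast] at h6
    rw [map_mul, Complex.conj_natCast, h5, h6]
  rw [← hreal, map_mul, Complex.conj_natCast]

end Frobenius

end Cfsg.Agent.Lib.Helper80
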