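import Cfsg.Agent.Lib.Helper80.Orthogonality
import Cfsg.Agent.Lib.Helper80.Frobenius

set_option autoImplicit false

namespace Cfsg.Agent.Lib.Helper80

open Representation
open scoped ComplexConjugate

section Main

variable {G : Type*} [Group G] [Finite G]

instance irr_finite' : Finite (Cfsg.IrrCharacter G) := by
  have := Fintype.ofFinite G
  exact irr_finite

/-- Second orthogonality relation, `finsum` form (the form of S0145). -/
theorem column_orthogonality_finsum (g h : G) :
    (IsConj g h → ∑ᶠ χ : Cfsg.IrrCharacter G, (χ : G → ℂ) g * conj ((χ : G → ℂ) h) =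
      (Nat.card (Subgroup.centralizer ({g} : Set G)) : ℂ)) ∧
    (¬ IsConj g h → ∑ᶠ χ : Cfsg.IrrCharacter G, (χ : G → ℂ) g * conj ((χ : G → ℂ) h) = 0) := by
  classical
  have := Fintype.ofFinite G
  have := Fintype.ofFinite (Cfsg.IrrCharacter G)
  rw [finsum_eq_sum_of_fintype, irr_column_orthogonality]
  constructor
  · intro hc; rw [if_pos hc]
  · intro hc; rw [if_neg hc]

/-- Sum of squares of degrees (the form of S0134). -/
theorem sum_sq_degrees_finsum :
    ∑ᶠ χ : Cfsg.IrrCharacter G, (χ : G → ℂ) 1 ^ 2 = (Nat.card G : ℂ) := by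
  have h := (column_orthogonality_finsum (G := G) 1 1).1 (IsConj.refl 1)
  have h2 : (Nat.card (Subgroup.centralizer ({1} : Set G)) : ℂ) = (Nat.card G : ℂ) := by
    have : Subgroup.centralizer ({1} : Set G) = ⊤ := by
      ext x
      simp [Subgroup.mem_centralizer_iff]
    rw [this, Subgroup.card_top]
  rw [h2] at h
  rw [← h]
  refine finsum_congr fun χ => ?_
  rw [irr_one_conj, sq]

/-- Frobenius' commutator count (the form of S4856). -/
theorem commutator_count (z : G) :
    (Nat.card {xy : G × G // xy.1 * xy.2 * xy.1⁻¹ * xy.2⁻¹ = z} : ℂ) =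
      (Nat.card G : ℂ) * ∑ᶠ χ : Cfsg.IrrCharacter G, (χ : G → ℂ) z / (χ : G → ℂ) 1 :=
  commutator_count_of_column_orthogonality column_orthogonality_finsum z

end Main

end Cfsg.Agent.Lib.Helper80
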