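import Mathlib

set_option autoImplicit false
set_option linter.style.haveILetI false
set_option linter.unusedSectionVars false

/-!
# Fixed points of an endomorphism on a finite abelian group and on its dual
-/

namespace Cfsg.Agent.Lib.Helper80

/-- The subgroup of the dual group annihilating the subgroup `{σ z / z}` is the subgroup of the
characters fixed by `σ`; it has as many elements as `σ` has fixed points. -/
theorem card_fixed_dual {A : Type*} [CommGroup A] [Finite A] (σ : A →* A)
    (X : Subgroup (A →* ℂˣ)) (hX : ∀ φ : A →* ℂˣ, φ ∈ X ↔ ∀ z, φ (σ z) = φ z)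
    (C : Subgroup A) (hC : ∀ z, z ∈ C ↔ σ z = z) :
    X = (CommGroup.subgroupOrderIsoSubgroupMonoidHom A ℂ (σ / MonoidHom.id A).range).ofDual ∧
      Nat.card X = Nat.card C := by
  classical
  set f : A →* A := σ / MonoidHom.id A with hf
  have hfz : ∀ z, f z = σ z / z := fun z => rfl
  have hker : f.ker = C := by
    ext z
    rw [MonoidHom.mem_ker, hfz, div_eq_one, hC]
  have hXeq : X = (CommGroup.subgroupOrderIsoSubgroupMonoidHom A ℂ f.range).ofDual := by
    ext φ
    rw [hX, CommGroup.mem_subgroupOrderIsoSubgroupMonoidHom_iff]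
    constructor
    · rintro h g ⟨z, rfl⟩
      rw [hfz, map_div, h z, div_self']
    · intro h z
      have h1 := h (f z) ⟨z, rfl⟩
      rw [hfz, map_div, div_eq_one] at h1
      exact h1
  refine ⟨hXeq, ?_⟩
  rw [hXeq, CommGroup.card_subgroupOrderIsoSubgroupMonoidHom, ← hker]
  have h1 := Subgroup.card_eq_card_quotient_mul_card_subgroup f.range
  have h2 := Subgroup.card_mul_index f.ker
  rw [Subgroup.index_ker] at h2
  have h3 : 0 < Nat.card f.range := Nat.card_pos
  rw [h1] at h2
  exact (Nat.eq_of_mul_eq_mul_right h3 h2).symm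

end Cfsg.Agent.Lib.Helper80
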