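import Mathlib

set_option autoImplicit false
set_option linter.style.haveILetI false
set_option linter.unusedSectionVars false

/-!
# A `p`-group covered by `p + 1` proper subgroups with a common pairwise intersection
-/

namespace Cfsg.Agent.Lib.Helper80

/-- If `H ≤ K ≤ L` and `|L : H|` is prime then `K = H` or `K = L`. -/
theorem eq_or_eq_of_relIndex_prime {G : Type*} [Group G] {H K L : Subgroup G}
    (hHK : H ≤ K) (hKL : K ≤ L) (hp : (H.relIndex L).Prime) : K = H ∨ K = L := by
  have h1 := Subgroup.relIndex_mul_relIndex H K L hHK hKL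
  rw [← h1] at hp
  rcases Nat.prime_mul_iff.mp hp with ⟨-, h2⟩ | ⟨-, h2⟩
  · right
    exact le_antisymm hKL (Subgroup.relIndex_eq_one.mp h2)
  · left
    exact le_antisymm (Subgroup.relIndex_eq_one.mp h2) hHK

/-- A finite `p`-group which is the union of at most `p + 1` proper subgroups with a common
pairwise intersection `F`: all these subgroups have index `p`, `F` has index `p ^ 2`, and there
are exactly `p + 1` of them. -/
theorem union_subgroups_index {W : Type*} [Group W] [Finite W] (p : ℕ) (hp : p.Prime)
    (hW : IsPGroup p W) {ι : Type*} [Fintype ι] (hι : Fintype.card ι ≤ p + 1)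
    (X : ι → Subgroup W) (F : Subgroup W)
    (hcov : ∀ w : W, ∃ i, w ∈ X i) (hne : ∀ i, X i ≠ ⊤)
    (hint : ∀ i j, i ≠ j → X i ⊓ X j = F) :
    (∀ i, (X i).index = p) ∧ F.index = p ^ 2 ∧ Fintype.card ι = p + 1 := by
  classical
  have := Fintype.ofFinite W
  haveI : Fact p.Prime := ⟨hp⟩
  -- another index
  have hother : ∀ i : ι, ∃ j : ι, j ≠ i := by
    intro i
    by_contra h
    push Not at h
    apply hne i
    rw [Subgroup.eq_top_iff']
    intro w
    obtain ⟨j, hj⟩ := hcov w
    rw [h j] at hj
    exact hj
  have hFle : ∀ i, F ≤ X i := by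
    intro i
    obtain ⟨j, hj⟩ := hother i
    rw [← hint i j hj.symm]
    exact inf_le_left
  set w := Nat.card W with hw
  set f := Nat.card F with hf
  set x : ι → ℕ := fun i => Nat.card (X i) with hx
  have hf0 : 0 < f := Nat.card_pos
  have hp0 : 0 < p := hp.pos
  have hfx : ∀ i, f ≤ x i := fun i => Subgroup.card_le_of_le (hFle i)
  -- (b)
  have hxw : ∀ i, p * x i ≤ w := by
    intro i
    obtain ⟨n, hn⟩ := hW.index (X i)
    have h1 : Nat.card (X i) * (X i).index = Nat.card W := Subgroup.card_mul_index (X i)
    have hn0 : n ≠ 0 := by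
      intro h0
      rw [h0, pow_zero] at hn
      exact hne i (Subgroup.index_eq_one.mp hn)
    have h2 : p ∣ (X i).index := by
      rw [hn]
      exact dvd_pow_self p hn0
    have h3 : p ≤ (X i).index := Nat.le_of_dvd (Nat.pos_of_ne_zero Subgroup.index_ne_zero_of_finite) h2
    calc p * x i ≤ (X i).index * x i := Nat.mul_le_mul_right _ h3
      _ = w := by rw [mul_comm]; exact h1
  -- finsets
  let Xf : ι → Finset W := fun i => Finset.univ.filter (fun g : W => g ∈ X i)
  let Ff : Finset W := Finset.univ.filter (fun g : W => g ∈ F)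
  have hXf : ∀ i, (Xf i).card = x i := by
    intro i
    show (Finset.univ.filter (fun g : W => g ∈ X i)).card = Nat.card (X i)
    rw [Nat.card_eq_fintype_card, Fintype.card_subtype]
  have hFf : Ff.card = f := by
    show (Finset.univ.filter (fun g : W => g ∈ F)).card = Nat.card F
    rw [Nat.card_eq_fintype_card, Fintype.card_subtype]
  have hmemX : ∀ i g, g ∈ Xf i ↔ g ∈ X i := by
    intro i g
    simp [Xf]
  have hmemF : ∀ g, g ∈ Ff ↔ g ∈ F := by
    intro g
    simp [Ff]
  -- (c)
  have hxf : ∀ i, x i ≤ p * f := by
    intro i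
    have h1 : ∃ j, j ≠ i ∧ ∃ μ ∈ X j, μ ∉ F := by
      by_contra h
      push Not at h
      apply hne i
      rw [Subgroup.eq_top_iff']
      intro g
      obtain ⟨j, hj⟩ := hcov g
      by_cases hji : j = i
      · rw [hji] at hj; exact hj
      · exact hFle i (h j hji g hj)
    obtain ⟨j, hji, μ, hμj, hμF⟩ := h1
    have hμi : μ ∉ X i := by
      intro h
      apply hμF
      rw [← hint i j hji.symm]
      exact ⟨h, hμj⟩
    choose g hg using fun l : W => hcov (μ * l)
    have hgi : ∀ l ∈ X i, g l ≠ i := by
      intro l hl h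
      apply hμi
      have h2 := hg l
      rw [h] at h2
      have h3 := (X i).mul_mem h2 ((X i).inv_mem hl)
      simpa using h3
    have h2 := Finset.card_le_mul_card_image (f := g) (Xf i) f (by
      intro a ha
      rw [Finset.mem_image] at ha
      obtain ⟨l₀, hl₀, hl₀a⟩ := ha
      rw [hmemX] at hl₀
      rw [← hFf]
      apply Finset.card_le_card_of_injOn (fun l => l₀⁻¹ * l)
      · intro l hl
        have hl' := Finset.mem_filter.mp (Finset.mem_coe.mp hl)
        have hli : l ∈ X i := (hmemX i l).mp hl'.1
        have hla : g l = a := hl'.2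
        rw [Finset.mem_coe, hmemF]
        have hai : a ≠ i := by
          rw [← hl₀a]
          exact hgi l₀ hl₀
        rw [← hint a i hai]
        refine ⟨?_, (X i).mul_mem ((X i).inv_mem hl₀) hli⟩
        have h3 : μ * l₀ ∈ X a := by
          rw [← hl₀a]
          exact hg l₀
        have h4 : μ * l ∈ X a := by
          rw [← hla]
          exact hg l
        have h5 := (X a).mul_mem ((X a).inv_mem h3) h4
        have h6 : (μ * l₀)⁻¹ * (μ * l) = l₀⁻¹ * l := by group
        rw [h6] at h5
        exact h5
      · intro l _ l' _ h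
        exact mul_left_cancel h)
    have h3 : ((Xf i).image g).card ≤ p := by
      have h4 : (Xf i).image g ⊆ Finset.univ.erase i := by
        intro a ha
        rw [Finset.mem_image] at ha
        obtain ⟨l, hl, hla⟩ := ha
        rw [Finset.mem_erase]
        refine ⟨?_, Finset.mem_univ _⟩
        rw [← hla]
        exact hgi l ((hmemX i l).mp hl)
      have h5 := Finset.card_le_card h4
      rw [Finset.card_erase_of_mem (Finset.mem_univ _), Finset.card_univ] at h5
      omega
    rw [hXf] at h2
    calc x i ≤ f * ((Xf i).image g).card := h2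
      _ ≤ f * p := Nat.mul_le_mul_left _ h3
      _ = p * f := mul_comm _ _
  -- (d) union bound
  set N := Fintype.card ι with hN
  set S := ∑ i, x i with hS
  have hunion : w + N * f ≤ f + S := by
    have h1 : (Finset.univ : Finset W) ⊆ Ff ∪ Finset.univ.biUnion (fun i => Xf i \ Ff) := by
      intro g _
      by_cases hgF : g ∈ F
      · exact Finset.mem_union_left _ ((hmemF g).mpr hgF)
      · obtain ⟨i, hi⟩ := hcov g
        apply Finset.mem_union_right
        rw [Finset.mem_biUnion]
        refine ⟨i, Finset.mem_univ _, ?_⟩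
        rw [Finset.mem_sdiff, hmemX, hmemF]
        exact ⟨hi, hgF⟩
    have h2 := Finset.card_le_card h1
    have h3 := Finset.card_union_le Ff (Finset.univ.biUnion (fun i => Xf i \ Ff))
    have h4 := Finset.card_biUnion_le (s := (Finset.univ : Finset ι)) (t := fun i => Xf i \ Ff)
    have h5 : ∀ i, (Xf i \ Ff).card = x i - f := by
      intro i
      have hsub : Ff ⊆ Xf i := by
        intro g hg
        rw [hmemX]
        exact hFle i ((hmemF g).mp hg)
      rw [Finset.card_sdiff_of_subset hsub, hXf, hFf]
    rw [Finset.sum_congr rfl (fun i _ => h5 i)] at h4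
    have h6 : ∑ i : ι, (x i - f) = S - N * f := by
      rw [Finset.sum_tsub_distrib _ (fun i _ => hfx i), Finset.sum_const, Finset.card_univ,
        smul_eq_mul]
    have h7 : N * f ≤ S := by
      have := Finset.card_nsmul_le_sum Finset.univ x f (fun i _ => hfx i)
      rw [Finset.card_univ, smul_eq_mul] at this
      exact this
    rw [Finset.card_univ, ← Nat.card_eq_fintype_card] at h2
    rw [h6] at h4
    rw [hFf] at h3
    omega
  -- (e) arithmetic
  have hSle : S ≤ N * (p * f) := by
    have := Finset.sum_le_card_nsmul Finset.univ x (p * f) (fun i _ => hxf i)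
    rw [Finset.card_univ, smul_eq_mul] at this
    exact this
  have hpS : p * S ≤ N * w := by
    rw [hS, Finset.mul_sum]
    have := Finset.sum_le_card_nsmul Finset.univ (fun i => p * x i) w (fun i _ => hxw i)
    rw [Finset.card_univ, smul_eq_mul] at this
    exact this
  have hN2 : 2 ≤ N := by
    obtain ⟨i, -⟩ := hcov 1
    obtain ⟨j, hj⟩ := hother i
    rw [hN, ← Finset.card_univ]
    have : ({i, j} : Finset ι) ⊆ Finset.univ := Finset.subset_univ _
    have h2 := Finset.card_le_card this
    rw [Finset.card_pair hj.symm] at h2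
    exact h2
  have hNp : N = p + 1 := by
    by_contra hne'
    have hNp' : N ≤ p := by omega
    have h1 : p * w + p * (N * f) ≤ p * f + N * w := by nlinarith
    have h2 : N * w ≤ p * w := Nat.mul_le_mul_right _ hNp'
    have h3 : p * (N * f) ≤ p * f := by omega
    have h4 : N * f ≤ f := Nat.le_of_mul_le_mul_left h3 hp0
    nlinarith
  have hw1 : w ≤ p ^ 2 * f := by
    rw [hNp] at hSle hunion
    nlinarith
  have hw2 : p ^ 2 * f ≤ w := by
    rw [hNp] at hpS hunion
    have h1 : p * (w + (p + 1) * f) ≤ p * (f + S) := Nat.mul_le_mul_left _ hunion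
    have h2 : p * (p ^ 2 * f) ≤ p * w := by nlinarith
    exact Nat.le_of_mul_le_mul_left h2 hp0
  have hweq : w = p ^ 2 * f := le_antisymm hw1 hw2
  have hxeq : ∀ i, x i = p * f := by
    intro i
    by_contra hne'
    have hlt : x i < p * f := lt_of_le_of_ne (hxf i) hne'
    have h1 : S < ∑ _i : ι, p * f := by
      apply Finset.sum_lt_sum (fun j _ => hxf j)
      exact ⟨i, Finset.mem_univ _, hlt⟩
    rw [Finset.sum_const, Finset.card_univ, smul_eq_mul, ← hN, hNp] at h1
    rw [hNp] at hunion
    nlinarith
  refine ⟨?_, ?_, hNp⟩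
  · intro i
    have h1 : Nat.card (X i) * (X i).index = Nat.card W := Subgroup.card_mul_index (X i)
    have h2 : x i * (X i).index = w := h1
    rw [hxeq i, hweq] at h2
    have h3 : p * f * (X i).index = p * f * p := by rw [h2]; ring
    exact Nat.eq_of_mul_eq_mul_left (Nat.mul_pos hp0 hf0) h3
  · have h1 : Nat.card F * F.index = Nat.card W := Subgroup.card_mul_index F
    have h2 : f * F.index = w := h1
    rw [hweq] at h2
    have h3 : f * F.index = f * p ^ 2 := by rw [h2]; ring
    exact Nat.eq_of_mul_eq_mul_left hf0 h3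

end Cfsg.Agent.Lib.Helper80
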