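import Cfsg.Agent.Lib.Helper80.DegreesOneP
import Cfsg.Agent.Lib.Helper80.UnionCount
import Cfsg.Agent.Lib.Helper80.DualCount
import Cfsg.Agent.Lib.Helper15.IrrCrit
import Cfsg.Agent.S0966
import Cfsg.Agent.S0887
import Cfsg.Agent.S0855

set_option autoImplicit false
set_option linter.style.haveILetI false
set_option linter.unusedSectionVars false

/-!
# Groups with character degrees `1` and `p` (Isaacs, Theorem 12.11): the `p`-group case
-/

namespace Cfsg.Agent.Lib.Helper80

open Cfsg
open Cfsg.Agent.Lib.Helper75 Cfsg.Agent.Lib.Helper79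
open scoped ComplexConjugate commutatorElement

universe u

section StabIndex

variable {G : Type u} [Group G] [Finite G]

/-- The inertia group of a linear character is the stabilizer in the dual group. -/
theorem inertia_eq_dualStab (L : Subgroup G) [hL : L.Normal] (φ : L →* ℂˣ) :
    inertia L (fun n : L => ((φ n : ℂˣ) : ℂ)) = dualStab L φ := by
  ext g
  rw [mem_inertia, mem_dualStab_iff]
  constructor
  · intro h n
    have := congrFun h n
    rw [conjFun_apply] at this
    exact this
  · intro h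
    funext n
    rw [conjFun_apply]
    exact h n

/-- The index of the stabilizer of a linear character of a normal subgroup divides the degree of
some irreducible character. -/
theorem dualStab_index_dvd_degree (L : Subgroup G) [hL : L.Normal] (φ : L →* ℂˣ) :
    ∃ χ : IrrCharacter G, (dualStab L φ).index ∣ charDegree (χ : G → ℂ) := by
  classical
  have := Fintype.ofFinite G
  have := Fintype.ofFinite L
  set θ : L → ℂ := fun n : L => ((φ n : ℂˣ) : ℂ) with hθdef
  have hθ : IsIrrCharacter L θ := isIrrCharacter_of_monoidHom φ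
  obtain ⟨χ, hχ⟩ := Cfsg.Agent.S0966.exists_over L (⟨θ, hθ⟩ : IrrCharacter L)
  refine ⟨χ, ?_⟩
  have h1 := clifford_degree L χ.2 hθ hχ
  have hres : IsCharacter L (fun n : L => (χ : G → ℂ) n) :=
    isCharacter_resTo L ⊤ le_top (ψ := fun t : (⊤ : Subgroup G) => (χ : G → ℂ) t)
      (isCharacter_comp (Cfsg.Agent.Lib.Helper3.IsIrrCharacter.isCharacter χ.2)
        (⊤ : Subgroup G).subtype)
  obtain ⟨m, hm⟩ := Cfsg.Agent.Lib.Helper15.exists_nat_classInner hres
    (Cfsg.Agent.Lib.Helper3.IsIrrCharacter.isCharacter hθ)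
  have hθ1 : θ 1 = 1 := by
    show ((φ 1 : ℂˣ) : ℂ) = 1
    rw [map_one, Units.val_one]
  rw [hm, hθ1, mul_one, inertia_eq_dualStab, ← irr_charDegree_cast χ] at h1
  have h2 : charDegree (χ : G → ℂ) = m * (dualStab L φ).index := by exact_mod_cast h1
  exact Dvd.intro_left _ h2.symm

end StabIndex

section FixDual

variable {G : Type u} [Group G] (L : Subgroup G) [hL : L.Normal]

/-- The subgroup of the dual group fixed by a set of elements. -/
def fixDual (S : Set G) : Subgroup (L →* ℂˣ) where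
  carrier := {φ | ∀ g ∈ S, dualConj L g φ = φ}
  one_mem' := fun g _ => map_one _
  mul_mem' := by
    intro a b ha hb g hg
    rw [map_mul, ha g hg, hb g hg]
  inv_mem' := by
    intro a ha g hg
    rw [map_inv, ha g hg]

theorem mem_fixDual (S : Set G) (φ : L →* ℂˣ) :
    φ ∈ fixDual L S ↔ ∀ g ∈ S, dualConj L g φ = φ := Iff.rfl

theorem mem_fixDual_iff_le (A : Subgroup G) (φ : L →* ℂˣ) :
    φ ∈ fixDual L (A : Set G) ↔ A ≤ dualStab L φ := Iff.rfl

end FixDual

section Intermediate

/-- Two subgroups of the same finite index, one contained in the other, are equal. -/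
theorem eq_of_le_of_index_eq {G : Type*} [Group G] [Finite G] {A B : Subgroup G} (h : A ≤ B)
    (hidx : A.index = B.index) : A = B := by
  have h1 := Subgroup.relIndex_mul_index h
  rw [hidx] at h1
  have h2 : A.relIndex B = 1 := by
    have h3 : 0 < B.index := Nat.pos_of_ne_zero Subgroup.index_ne_zero_of_finite
    have : A.relIndex B * B.index = 1 * B.index := by rw [h1, one_mul]
    exact Nat.eq_of_mul_eq_mul_right h3 this
  exact le_antisymm h (Subgroup.relIndex_eq_one.mp h2)

/-- There are at most `p + 1` subgroups of index `p` containing a subgroup of index `p ^ 2`. -/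
theorem card_intermediate_le {G : Type*} [Group G] [Finite G] (p : ℕ) (hp : p.Prime)
    (Z : Subgroup G) (hZ : Z.index = p ^ 2) :
    Nat.card {A : Subgroup G // Z ≤ A ∧ A.index = p} ≤ p + 1 := by
  classical
  have := Fintype.ofFinite G
  have := Fintype.ofFinite {A : Subgroup G // Z ≤ A ∧ A.index = p}
  set z := Nat.card Z with hz
  have hz0 : 0 < z := Nat.card_pos
  have hp0 : 0 < p := hp.pos
  have hG : Nat.card G = z * p ^ 2 := by
    rw [← hZ]
    exact (Subgroup.card_mul_index Z).symm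
  have hA : ∀ A : {A : Subgroup G // Z ≤ A ∧ A.index = p}, Nat.card A.1 = z * p := by
    intro A
    have h1 := Subgroup.card_mul_index A.1
    rw [A.2.2, hG] at h1
    have : Nat.card A.1 * p = z * p * p := by rw [h1]; ring
    exact Nat.eq_of_mul_eq_mul_right hp0 this
  let Zf : Finset G := Finset.univ.filter (fun g : G => g ∈ Z)
  let Af : {A : Subgroup G // Z ≤ A ∧ A.index = p} → Finset G :=
    fun A => Finset.univ.filter (fun g : G => g ∈ A.1) \ Zf
  have hZf : Zf.card = z := by
    show (Finset.univ.filter (fun g : G => g ∈ Z)).card = Nat.card Z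
    rw [Nat.card_eq_fintype_card, Fintype.card_subtype]
  have hAf : ∀ A, (Af A).card = z * p - z := by
    intro A
    have hsub : Zf ⊆ Finset.univ.filter (fun g : G => g ∈ A.1) := by
      intro g hg
      simp only [Zf, Finset.mem_filter, Finset.mem_univ, true_and] at hg ⊢
      exact A.2.1 hg
    show (Finset.univ.filter (fun g : G => g ∈ A.1) \ Zf).card = _
    rw [Finset.card_sdiff_of_subset hsub, hZf, ← hA A, Nat.card_eq_fintype_card,
      Fintype.card_subtype]
  have hmemAf : ∀ A g, g ∈ Af A ↔ g ∈ A.1 ∧ g ∉ Z := by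
    intro A g
    simp [Af, Zf]
  have hdisj : ∀ A ∈ (Finset.univ : Finset {A : Subgroup G // Z ≤ A ∧ A.index = p}),
      ∀ B ∈ (Finset.univ : Finset {A : Subgroup G // Z ≤ A ∧ A.index = p}), A ≠ B →
      Disjoint (Af A) (Af B) := by
    intro A _ B _ hAB
    rw [Finset.disjoint_left]
    intro g hgA hgB
    rw [hmemAf] at hgA hgB
    apply hAB
    have hrel : Z.relIndex A.1 = p := by
      have h1 := Subgroup.relIndex_mul_index A.2.1
      rw [A.2.2, hZ] at h1
      have : Z.relIndex A.1 * p = p * p := by rw [h1]; ring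
      exact Nat.eq_of_mul_eq_mul_right hp0 this
    have h2 : A.1 ⊓ B.1 = Z ∨ A.1 ⊓ B.1 = A.1 :=
      eq_or_eq_of_relIndex_prime (le_inf A.2.1 B.2.1) inf_le_left (by rw [hrel]; exact hp)
    rcases h2 with h2 | h2
    · exfalso
      apply hgA.2
      rw [← h2]
      exact ⟨hgA.1, hgB.1⟩
    · have h3 : A.1 ≤ B.1 := by
        rw [← h2]
        exact inf_le_right
      exact Subtype.ext (eq_of_le_of_index_eq h3 (by rw [A.2.2, B.2.2]))
  have h1 := Finset.card_biUnion hdisj
  rw [Finset.sum_congr rfl (fun A _ => hAf A), Finset.sum_const, Finset.card_univ,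
    smul_eq_mul] at h1
  have h2 : (Finset.univ.biUnion Af) ⊆ Finset.univ \ Zf := by
    intro g hg
    rw [Finset.mem_biUnion] at hg
    obtain ⟨A, -, hgA⟩ := hg
    rw [hmemAf] at hgA
    rw [Finset.mem_sdiff]
    refine ⟨Finset.mem_univ _, ?_⟩
    simp only [Zf, Finset.mem_filter, Finset.mem_univ, true_and]
    exact hgA.2
  have h3 := Finset.card_le_card h2
  rw [h1, Finset.card_sdiff_of_subset (Finset.subset_univ _), hZf, Finset.card_univ,
    ← Nat.card_eq_fintype_card (α := G), hG] at h3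
  rw [Nat.card_eq_fintype_card]
  set N := Fintype.card {A : Subgroup G // Z ≤ A ∧ A.index = p} with hN
  obtain ⟨q, rfl⟩ : ∃ q, p = q + 1 := ⟨p - 1, by omega⟩
  have h4 : z * (q + 1) - z = z * q := by
    rw [mul_add, mul_one, Nat.add_sub_cancel]
  have h5 : z * (q + 1) ^ 2 - z = z * q * (q + 2) := by
    have : z * (q + 1) ^ 2 = z * q * (q + 2) + z := by ring
    rw [this, Nat.add_sub_cancel]
  rw [h4, h5] at h3
  have hq0 : 0 < q := by
    have := hp.two_le
    omega
  have h6 : z * q * N ≤ z * q * (q + 2) := by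
    calc z * q * N = N * (z * q) := by ring
      _ ≤ z * q * (q + 2) := h3
  have := Nat.le_of_mul_le_mul_left h6 (Nat.mul_pos hz0 hq0)
  omega

end Intermediate

section Ramified

variable {P : Type u} [Group P] [Finite P]

/-- Step 1: in a nonabelian `p`-group with character degrees `1`, `p` there is a normal subgroup
`Z` of index `p ^ 2` with abelian quotient, containing the centre, and an irreducible character of
degree `p` vanishing off `Z` and of absolute value `p` on `Z`. -/
theorem exists_ramified_section (p : ℕ) (hp : p.Prime) (hP : IsPGroup p P)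
    (hcd : ∀ χ : IrrCharacter P, charDegree (χ : P → ℂ) = 1 ∨ charDegree (χ : P → ℂ) = p)
    (hnonab : ∃ a b : P, a * b ≠ b * a) :
    ∃ (Z : Subgroup P) (χ : IrrCharacter P), Z.Normal ∧ Z.index = p ^ 2 ∧
      Subgroup.center P ≤ Z ∧ (∀ a b : P, a * b * a⁻¹ * b⁻¹ ∈ Z) ∧ (χ : P → ℂ) 1 = p ∧
      (∀ g : P, g ∉ Z → (χ : P → ℂ) g = 0) ∧
      ∀ g ∈ Z, ‖(χ : P → ℂ) g‖ ^ 2 = (p : ℝ) ^ 2 := by
  classical
  haveI : Fact p.Prime := ⟨hp⟩
  have := Fintype.ofFinite P
  let pr : Subgroup P → Prop := fun N => N.Normal ∧ ∃ x y : P, x * y * x⁻¹ * y⁻¹ ∉ N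
  have hbot : pr ⊥ := by
    refine ⟨inferInstance, ?_⟩
    obtain ⟨a, b, hab⟩ := hnonab
    refine ⟨a, b, ?_⟩
    rw [Subgroup.mem_bot]
    intro h
    apply hab
    have h1 : a * b = (a * b * a⁻¹ * b⁻¹) * (b * a) := by group
    rw [h1, h, one_mul]
  obtain ⟨K, -, hKmax⟩ := Finite.exists_le_maximal hbot
  obtain ⟨hKn, x₀, y₀, hxy⟩ := hKmax.prop
  haveI := hKn
  have hQp : IsPGroup p (P ⧸ K) := hP.to_quotient K
  have hmk : ∀ x y : P, ((x * y * x⁻¹ * y⁻¹ : P) : P ⧸ K) =
      (x : P ⧸ K) * (y : P ⧸ K) * (x : P ⧸ K)⁻¹ * (y : P ⧸ K)⁻¹ := by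
    intro x y
    simp
  have hQnc : (x₀ : P ⧸ K) * (y₀ : P ⧸ K) ≠ (y₀ : P ⧸ K) * (x₀ : P ⧸ K) := by
    intro h
    apply hxy
    rw [← QuotientGroup.eq_one_iff, hmk, h]
    group
  haveI : Nontrivial (P ⧸ K) := ⟨⟨_, _, hQnc⟩⟩
  have hcenQ : Subgroup.center (P ⧸ K) ≠ ⊥ := by
    have h1 := hQp.center_nontrivial
    exact (Subgroup.nontrivial_iff_ne_bot _).mp h1
  have hmin : ∀ N : Subgroup (P ⧸ K), N.Normal → N ≠ ⊥ → commutator (P ⧸ K) ≤ N := by
    intro N hN hNne
    haveI := hN
    set N' := N.comap (QuotientGroup.mk' K) with hN'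
    have hN'n : N'.Normal := hN.comap _
    have hKN' : K ≤ N' := by
      intro k hk
      show QuotientGroup.mk' K k ∈ N
      rw [QuotientGroup.mk'_apply, (QuotientGroup.eq_one_iff k).2 hk]
      exact N.one_mem
    have hnot : ¬ pr N' := by
      intro h
      have h1 : N' ≤ K := hKmax.le_of_ge h hKN'
      apply hNne
      rw [Subgroup.eq_bot_iff_forall]
      intro q hq
      obtain ⟨g, rfl⟩ := QuotientGroup.mk_surjective q
      exact (QuotientGroup.eq_one_iff g).2 (h1 hq)
    have hall : ∀ x y : P, x * y * x⁻¹ * y⁻¹ ∈ N' := by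
      intro x y
      by_contra h
      exact hnot ⟨hN'n, x, y, h⟩
    rw [commutator_def, Subgroup.commutator_le]
    intro a _ b _
    obtain ⟨x, rfl⟩ := QuotientGroup.mk_surjective a
    obtain ⟨y, rfl⟩ := QuotientGroup.mk_surjective b
    have h1 : ((x * y * x⁻¹ * y⁻¹ : P) : P ⧸ K) ∈ N := hall x y
    rw [hmk] at h1
    rw [commutatorElement_def]
    exact h1
  -- a nonlinear character of the quotient
  have hex : ∃ ψ : IrrCharacter (P ⧸ K), (ψ : P ⧸ K → ℂ) 1 ≠ 1 := by
    by_contra h
    push Not at h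
    exact hQnc (Cfsg.Agent.S0855.comm_of_all_linear h _ _)
  obtain ⟨ψ, hψ⟩ := hex
  have hψdeg : charDegree (ψ : P ⧸ K → ℂ) = p := by
    obtain ⟨χ, hχ⟩ := charDegree_quotient K ψ
    rcases hcd χ with h | h
    · exfalso
      apply hψ
      rw [← irr_charDegree_cast ψ, ← hχ, h, Nat.cast_one]
    · rw [← hχ, h]
  obtain ⟨hvan, hidx⟩ := vanish_off_center_of_commutator_le hmin hcenQ ψ hψ
  rw [hψdeg] at hidx
  have hcomm_le : commutator (P ⧸ K) ≤ Subgroup.center (P ⧸ K) := hmin _ inferInstance hcenQ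
  refine ⟨(Subgroup.center (P ⧸ K)).comap (QuotientGroup.mk' K),
    ⟨_, isIrrCharacter_inflate K ψ.2⟩, Subgroup.Normal.comap inferInstance _, ?_, ?_, ?_, ?_, ?_, ?_⟩
  · rw [Subgroup.index_comap_of_surjective _ (QuotientGroup.mk'_surjective K), hidx]
  · intro z hz
    rw [Subgroup.mem_comap, Subgroup.mem_center_iff]
    intro q
    obtain ⟨g, rfl⟩ := QuotientGroup.mk_surjective q
    rw [Subgroup.mem_center_iff] at hz
    show (g : P ⧸ K) * (z : P ⧸ K) = (z : P ⧸ K) * (g : P ⧸ K)
    rw [← QuotientGroup.mk_mul, ← QuotientGroup.mk_mul, hz g]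
  · intro a b
    rw [Subgroup.mem_comap]
    apply hcomm_le
    show ((a * b * a⁻¹ * b⁻¹ : P) : P ⧸ K) ∈ commutator (P ⧸ K)
    rw [hmk, commutator_def]
    have := Subgroup.commutator_mem_commutator (Subgroup.mem_top (a : P ⧸ K))
      (Subgroup.mem_top (b : P ⧸ K))
    rw [commutatorElement_def] at this
    exact this
  · show (ψ : P ⧸ K → ℂ) ((1 : P) : P ⧸ K) = p
    rw [QuotientGroup.mk_one, ← irr_charDegree_cast ψ, hψdeg]
  · intro g hg
    exact hvan _ hg
  · intro g hg
    have h1 := irr_norm_sq_of_mem_center ψ (g : P ⧸ K) hg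
    rw [hψdeg] at h1
    exact h1

end Ramified

section AbelianZ

variable {P : Type u} [Group P] [Finite P]

/-- Step 2: the subgroup `Z` is abelian. -/
theorem abelian_of_ramified (p : ℕ) (hp : p.Prime)
    (hcd : ∀ χ : IrrCharacter P, charDegree (χ : P → ℂ) = 1 ∨ charDegree (χ : P → ℂ) = p)
    (Z : Subgroup P) [hZ : Z.Normal] (hZidx : Z.index = p ^ 2) (χ : IrrCharacter P)
    (hχ1 : (χ : P → ℂ) 1 = p) (hχ0 : ∀ g : P, g ∉ Z → (χ : P → ℂ) g = 0)
    (hχZ : ∀ g ∈ Z, ‖(χ : P → ℂ) g‖ ^ 2 = (p : ℝ) ^ 2) :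
    ∀ a ∈ Z, ∀ b ∈ Z, a * b = b * a := by
  classical
  have := Fintype.ofFinite P
  have := Fintype.ofFinite Z
  haveI : Finite (IrrCharacter Z) := Cfsg.Agent.Lib.Helper3.irrCharacter_finite
  have := Fintype.ofFinite (IrrCharacter Z)
  have hp0 : 0 < p := hp.pos
  have hlin : ∀ θ : IrrCharacter Z, (θ : Z → ℂ) 1 = 1 := by
    intro θ
    obtain ⟨ψ, hψθ⟩ := Cfsg.Agent.S0966.exists_over Z θ
    have hdvd := (Cfsg.Agent.S0887.result Z (ψ : P → ℂ) ψ.2 (θ : Z → ℂ) θ.2 hψθ _ _
      (irr_charDegree_cast ψ).symm (irr_charDegree_cast θ).symm).1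
    by_contra hne
    have hθψ : charDegree (θ : Z → ℂ) = p ∧ charDegree (ψ : P → ℂ) = p := by
      rcases hcd ψ with h | h
      · exfalso
        apply hne
        rw [h, Nat.dvd_one] at hdvd
        rw [← irr_charDegree_cast θ, hdvd, Nat.cast_one]
      · rw [h] at hdvd
        rcases (Nat.dvd_prime hp).1 hdvd with h' | h'
        · exfalso
          apply hne
          rw [← irr_charDegree_cast θ, h', Nat.cast_one]
        · exact ⟨h', h⟩
    obtain ⟨hθp, hψp⟩ := hθψ
    have hres : IsCharacter Z (fun z : Z => (ψ : P → ℂ) z) :=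
      Cfsg.Agent.Lib.Helper3.IsCharacter.restrict
        (Cfsg.Agent.Lib.Helper3.IsIrrCharacter.isCharacter ψ.2) Z
    obtain ⟨m, hm, hdec⟩ := Cfsg.Agent.Lib.Helper3.IsCharacter.exists_mult hres
    have hmθ : m θ ≠ 0 := by
      intro h0
      apply hψθ
      rw [hm θ, h0, Nat.cast_zero]
    have hsum : ∑ μ : IrrCharacter Z, m μ * charDegree (μ : Z → ℂ) = p := by
      have h1 := congrFun hdec 1
      simp only [Finset.sum_apply, Pi.smul_apply, smul_eq_mul] at h1
      have h2 : (ψ : P → ℂ) ((1 : Z) : P) = (p : ℂ) := by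
        rw [Subgroup.coe_one, ← irr_charDegree_cast ψ, hψp]
      rw [h2] at h1
      have h3 : ((p : ℕ) : ℂ) =
          ((∑ μ : IrrCharacter Z, m μ * charDegree (μ : Z → ℂ) : ℕ) : ℂ) := by
        rw [h1]
        push_cast
        refine Finset.sum_congr rfl fun μ _ => ?_
        rw [irr_charDegree_cast μ]
      exact_mod_cast h3.symm
    have hsplit := Finset.add_sum_erase Finset.univ
      (fun μ : IrrCharacter Z => m μ * charDegree (μ : Z → ℂ)) (Finset.mem_univ θ)
    rw [hsum] at hsplit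
    rw [hθp] at hsplit
    have hmθ1 : m θ = 1 := by
      have h1 : m θ * p ≤ p := by omega
      have h2 : 1 * p ≤ m θ * p := Nat.mul_le_mul_right _ (Nat.pos_of_ne_zero hmθ)
      have h3 : m θ * p = 1 * p := by omega
      exact Nat.eq_of_mul_eq_mul_right hp0 h3
    have hrest : ∑ μ ∈ Finset.univ.erase θ, m μ * charDegree (μ : Z → ℂ) = 0 := by
      rw [hmθ1] at hsplit
      omega
    have hmμ : ∀ μ : IrrCharacter Z, μ ≠ θ → m μ = 0 := by
      intro μ hμ
      have h1 := (Finset.sum_eq_zero_iff.mp hrest) μ (Finset.mem_erase.mpr ⟨hμ, Finset.mem_univ _⟩)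
      rcases Nat.mul_eq_zero.mp h1 with h | h
      · exact h
      · exact absurd h (irr_charDegree_pos μ).ne'
    have hψZ : (fun z : Z => (ψ : P → ℂ) z) = (θ : Z → ℂ) := by
      rw [hdec, Finset.sum_eq_single θ]
      · rw [hmθ1, Nat.cast_one, one_smul]
      · intro μ _ hμ
        rw [hmμ μ hμ, Nat.cast_zero, zero_smul]
      · intro h
        exact absurd (Finset.mem_univ _) h
    -- the product character
    have hprod : IsCharacter P ((χ : P → ℂ) * (ψ : P → ℂ)) :=
      Cfsg.Agent.Lib.Helper3.IsCharacter.mul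
        (Cfsg.Agent.Lib.Helper3.IsIrrCharacter.isCharacter χ.2)
        (Cfsg.Agent.Lib.Helper3.IsIrrCharacter.isCharacter ψ.2)
    have hcardP : (Nat.card P : ℂ) = (Nat.card Z : ℂ) * (p : ℂ) ^ 2 := by
      have h1 := Subgroup.card_mul_index Z
      rw [hZidx] at h1
      rw [← h1]
      push_cast
      ring
    have hZ0 : (Nat.card Z : ℂ) ≠ 0 := by exact_mod_cast Nat.card_pos.ne'
    have hpC : (p : ℂ) ≠ 0 := by exact_mod_cast hp0.ne'
    have hnorm : classInner ((χ : P → ℂ) * (ψ : P → ℂ)) ((χ : P → ℂ) * (ψ : P → ℂ)) = 1 := by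
      have hθθ : classInner (θ : Z → ℂ) (θ : Z → ℂ) = 1 := by
        rw [Cfsg.Agent.Lib.Helper3.classInner_irr θ.2 θ.2, if_pos rfl]
      unfold classInner at hθθ ⊢
      set F : P → ℂ := fun g => ((χ : P → ℂ) * (ψ : P → ℂ)) g *
        conj (((χ : P → ℂ) * (ψ : P → ℂ)) g) with hF
      have hF0 : ∀ g : P, g ∉ Z → F g = 0 := by
        intro g hg
        show ((χ : P → ℂ) g * (ψ : P → ℂ) g) * conj ((χ : P → ℂ) g * (ψ : P → ℂ) g) = 0
        rw [hχ0 g hg]
        simp
      have hFZ : ∀ z : Z, F z = (p : ℂ) ^ 2 * ((θ : Z → ℂ) z * conj ((θ : Z → ℂ) z)) := by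
        intro z
        show ((χ : P → ℂ) z * (ψ : P → ℂ) z) * conj ((χ : P → ℂ) z * (ψ : P → ℂ) z) = _
        have h1 : (χ : P → ℂ) z * conj ((χ : P → ℂ) z) = (p : ℂ) ^ 2 := by
          rw [Complex.mul_conj']
          have := hχZ z z.2
          exact_mod_cast congrArg (fun r : ℝ => (r : ℂ)) this
        have h2 : (ψ : P → ℂ) z = (θ : Z → ℂ) z := congrFun hψZ z
        rw [map_mul, h2]
        calc (χ : P → ℂ) z * (θ : Z → ℂ) z * (conj ((χ : P → ℂ) z) * conj ((θ : Z → ℂ) z))
            = ((χ : P → ℂ) z * conj ((χ : P → ℂ) z)) *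
              ((θ : Z → ℂ) z * conj ((θ : Z → ℂ) z)) := by ring
          _ = _ := by rw [h1]
      have hsumP : ∑ g : P, F g = ∑ z : Z, F z := by
        rw [← Finset.sum_subtype (Finset.univ.filter (fun g : P => g ∈ Z)) (by simp) F]
        symm
        apply Finset.sum_filter_of_ne
        intro g _ hg
        by_contra hgZ
        exact hg (hF0 g hgZ)
      show (Nat.card P : ℂ)⁻¹ * ∑ g : P, F g = 1
      rw [hsumP, Finset.sum_congr rfl (fun z _ => hFZ z), ← Finset.mul_sum, hcardP]
      have h3 : ∑ z : Z, (θ : Z → ℂ) z * conj ((θ : Z → ℂ) z) = (Nat.card Z : ℂ) := by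
        have := hθθ
        field_simp at this
        exact this
      rw [h3]
      field_simp
    have hirr := Cfsg.Agent.Lib.Helper3.isIrrCharacter_of_classInner_self_eq_one hprod hnorm
    have hdeg := irr_charDegree_cast (⟨_, hirr⟩ : IrrCharacter P)
    have hdeg' : ((charDegree ((χ : P → ℂ) * (ψ : P → ℂ)) : ℕ) : ℂ) = ((p * p : ℕ) : ℂ) := by
      rw [hdeg]
      show (χ : P → ℂ) 1 * (ψ : P → ℂ) 1 = _
      rw [hχ1, ← irr_charDegree_cast ψ, hψp]
      push_cast
      rfl
    have hdeg'' : charDegree ((χ : P → ℂ) * (ψ : P → ℂ)) = p * p := by exact_mod_cast hdeg'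
    rcases hcd ⟨_, hirr⟩ with h | h
    · simp only at h
      rw [hdeg''] at h
      have := hp.two_le
      nlinarith
    · simp only at h
      rw [hdeg''] at h
      have := hp.two_le
      nlinarith
  intro a ha b hb
  have := Cfsg.Agent.S0855.comm_of_all_linear hlin ⟨a, ha⟩ ⟨b, hb⟩
  exact congrArg Subtype.val this

end AbelianZ

section DualAbelian

variable {G : Type u} [Group G]

/-- The commutative group structure on an abelian subgroup. -/
@[reducible] def commGroupOfComm (L : Subgroup G) (hLab : ∀ a ∈ L, ∀ b ∈ L, a * b = b * a) :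
    CommGroup L :=
  { (inferInstance : Group L) with mul_comm := fun a b => Subtype.ext (hLab a a.2 b b.2) }

/-- The dual group of a finite abelian subgroup has the same order. -/
theorem card_dual_of_comm (L : Subgroup G) [Finite L]
    (hLab : ∀ a ∈ L, ∀ b ∈ L, a * b = b * a) : Nat.card (L →* ℂˣ) = Nat.card L := by
  letI := commGroupOfComm L hLab
  exact CommGroup.card_monoidHom_of_hasEnoughRootsOfUnity L ℂ

/-- Duality for the fixed points of conjugation on a finite abelian normal subgroup. -/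
theorem fixDual_singleton_dual (L : Subgroup G) [hL : L.Normal] [Finite L]
    (hLab : ∀ a ∈ L, ∀ b ∈ L, a * b = b * a) :
    ∃ D C : G → Subgroup L,
      (∀ g (x : L), x ∈ D g ↔ ∃ z : L, (x : G) = g * z * g⁻¹ * (z : G)⁻¹) ∧
      (∀ g (z : L), z ∈ C g ↔ g * z = z * g) ∧
      (∀ g, Nat.card (fixDual L {g}) = Nat.card (C g)) ∧
      (∀ g, Nat.card (fixDual L {g}) * Nat.card (D g) = Nat.card L) ∧
      (∀ g g', fixDual L {g} = fixDual L {g'} → D g = D g') ∧
      (∀ g (φ : L →* ℂˣ), φ ∈ fixDual L {g} ↔ ∀ x ∈ D g, φ x = 1) := by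
  classical
  letI := commGroupOfComm L hLab
  let σ : G → (L →* L) := fun g => (MulAut.conjNormal g : MulAut L).toMonoidHom
  have hσ : ∀ g (z : L), ((σ g z : L) : G) = g * z * g⁻¹ := fun g z => rfl
  let f : G → (L →* L) := fun g => σ g / MonoidHom.id L
  have hf : ∀ g (z : L), f g z = σ g z / z := fun g z => rfl
  have hX : ∀ g (φ : L →* ℂˣ), φ ∈ fixDual L {g} ↔ ∀ z, φ (σ g z) = φ z := by
    intro g φ
    rw [mem_fixDual]
    constructor
    · intro h z
      have h1 := h g rfl
      exact DFunLike.congr_fun h1 z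
    · intro h g' hg'
      rw [Set.mem_singleton_iff] at hg'
      rw [hg']
      ext z
      exact congrArg _ (h z)
  have hC : ∀ g (z : L), z ∈ (f g).ker ↔ σ g z = z := by
    intro g z
    rw [MonoidHom.mem_ker, hf, div_eq_one]
  have key := fun g => card_fixed_dual (σ g) (fixDual L {g}) (hX g) (f g).ker (hC g)
  refine ⟨fun g => (f g).range, fun g => (f g).ker, ?_, ?_, ?_, ?_, ?_, ?_⟩
  · intro g x
    constructor
    · rintro ⟨z, rfl⟩
      refine ⟨z, ?_⟩
      rw [hf, div_eq_mul_inv, Subgroup.coe_mul, hσ, Subgroup.coe_inv]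
    · rintro ⟨z, hz⟩
      refine ⟨z, Subtype.ext ?_⟩
      rw [hf, div_eq_mul_inv, Subgroup.coe_mul, hσ, Subgroup.coe_inv, hz]
  · intro g z
    rw [hC]
    constructor
    · intro h
      have h1 := congrArg Subtype.val h
      rw [hσ] at h1
      calc g * z = (g * z * g⁻¹) * g := by group
        _ = z * g := by rw [h1]
    · intro h
      apply Subtype.ext
      rw [hσ, h]
      group
  · intro g
    exact (key g).2
  · intro g
    rw [(key g).1, CommGroup.card_subgroupOrderIsoSubgroupMonoidHom]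
    exact (Subgroup.card_eq_card_quotient_mul_card_subgroup (f g).range).symm
  · intro g g' h
    have h1 := (key g).1
    have h2 := (key g').1
    rw [h] at h1
    rw [h1] at h2
    have h3 := congrArg OrderDual.toDual h2
    simp only [OrderDual.toDual_ofDual] at h3
    exact (CommGroup.subgroupOrderIsoSubgroupMonoidHom L ℂ).injective h3
  · intro g φ
    rw [(key g).1, CommGroup.mem_subgroupOrderIsoSubgroupMonoidHom_iff]

end DualAbelian

section Center

/-- Two subgroups of prime order sharing a nontrivial element are equal. -/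
theorem eq_of_prime_card_of_mem {G : Type*} [Group G] {H K : Subgroup G} [Finite H] [Finite K]
    {p : ℕ} (hp : p.Prime) (hH : Nat.card H = p) (hK : Nat.card K = p) {u : G} (huH : u ∈ H)
    (huK : u ∈ K) (hu : u ≠ 1) : H = K := by
  have hne : Nat.card (H ⊓ K : Subgroup G) ≠ 1 := by
    intro h
    rw [Subgroup.card_eq_one] at h
    have : u ∈ H ⊓ K := ⟨huH, huK⟩
    rw [h, Subgroup.mem_bot] at this
    exact hu this
  have h1 : Nat.card (H ⊓ K : Subgroup G) = p := by
    have h2 : Nat.card (H ⊓ K : Subgroup G) ∣ Nat.card H := Subgroup.card_dvd_of_le inf_le_left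
    rw [hH] at h2
    rcases (Nat.dvd_prime hp).1 h2 with h | h
    · exact absurd h hne
    · exact h
  have h3 : H ⊓ K = H := Subgroup.eq_of_le_of_card_ge inf_le_left (by rw [h1, hH])
  have h4 : H ⊓ K = K := Subgroup.eq_of_le_of_card_ge inf_le_right (by rw [h1, hK])
  rw [← h3]
  exact h4

/-- Two distinct subgroups of index `p` containing a subgroup `Z` of index `p ^ 2`. -/
theorem inf_sup_of_ne {G : Type*} [Group G] [Finite G] (p : ℕ) (hp : p.Prime)
    (Z : Subgroup G) (hZ : Z.index = p ^ 2) (A B : Subgroup G) (hA : Z ≤ A ∧ A.index = p)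
    (hB : Z ≤ B ∧ B.index = p) (hAB : A ≠ B) :
    A ⊓ B = Z ∧ A ⊔ B = ⊤ ∧ Z.relIndex A = p := by
  have hp0 : 0 < p := hp.pos
  have hrel : Z.relIndex A = p := by
    have h1 := Subgroup.relIndex_mul_index hA.1
    rw [hA.2, hZ] at h1
    have : Z.relIndex A * p = p * p := by rw [h1]; ring
    exact Nat.eq_of_mul_eq_mul_right hp0 this
  refine ⟨?_, ?_, hrel⟩
  · rcases eq_or_eq_of_relIndex_prime (le_inf hA.1 hB.1) inf_le_left (by rw [hrel]; exact hp)
      with h2 | h2
    · exact h2
    · exfalso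
      apply hAB
      have h3 : A ≤ B := by
        rw [← h2]
        exact inf_le_right
      exact eq_of_le_of_index_eq h3 (by rw [hA.2, hB.2])
  · rcases eq_or_eq_of_relIndex_prime (H := A) (K := A ⊔ B) (L := ⊤) le_sup_left le_top
      (by rw [Subgroup.relIndex_top_right, hA.2]; exact hp) with h5 | h5
    · exfalso
      apply hAB
      have h6 : B ≤ A := by
        rw [← h5]
        exact le_sup_right
      exact (eq_of_le_of_index_eq h6 (by rw [hA.2, hB.2])).symm
    · exact h5

variable {P : Type u} [Group P] [Finite P]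

/-- Steps 3 and 4: the index of the centre. -/
theorem center_index_of_abelian_index_sq (p : ℕ) (hp : p.Prime) (hP : IsPGroup p P)
    (hcd : ∀ χ : IrrCharacter P, charDegree (χ : P → ℂ) = 1 ∨ charDegree (χ : P → ℂ) = p)
    (Z : Subgroup P) [hZ : Z.Normal] (hZab : ∀ a ∈ Z, ∀ b ∈ Z, a * b = b * a)
    (hZidx : Z.index = p ^ 2) (hcen : Subgroup.center P ≤ Z)
    (hcomm : ∀ a b : P, a * b * a⁻¹ * b⁻¹ ∈ Z)
    (hno : ¬ ∃ A : Subgroup P, A.Normal ∧ (∀ a ∈ A, ∀ b ∈ A, a * b = b * a) ∧ A.index = p) :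
    (Subgroup.center P).index = p ^ 3 := by
  classical
  haveI : Fact p.Prime := ⟨hp⟩
  have := Fintype.ofFinite P
  have hp0 : 0 < p := hp.pos
  have hWcard : Nat.card (Z →* ℂˣ) = Nat.card Z := card_dual_of_comm Z hZab
  haveI : Finite (Z →* ℂˣ) :=
    Nat.finite_of_card_ne_zero (by rw [hWcard]; exact Nat.card_pos.ne')
  have hWp : IsPGroup p (Z →* ℂˣ) := by
    obtain ⟨n, hn⟩ := IsPGroup.iff_card.mp (hP.to_subgroup Z)
    exact IsPGroup.of_card (n := n) (by rw [hWcard, hn])
  -- stabilizers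
  have hZstab : ∀ φ : Z →* ℂˣ, Z ≤ dualStab Z φ := by
    intro φ g hg
    rw [mem_dualStab]
    exact dualConj_of_comm Z (fun n hn => hZab g hg n hn) φ
  have hstab : ∀ φ : Z →* ℂˣ, dualStab Z φ = ⊤ ∨ (dualStab Z φ).index = p := by
    intro φ
    obtain ⟨χ, hχ⟩ := dualStab_index_dvd_degree Z φ
    rcases hcd χ with h | h
    · left
      rw [h, Nat.dvd_one] at hχ
      exact Subgroup.index_eq_one.mp hχ
    · rw [h] at hχ
      rcases (Nat.dvd_prime hp).1 hχ with h' | h'
      · left
        exact Subgroup.index_eq_one.mp h'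
      · right
        exact h'
  have hnormal : ∀ A : Subgroup P, Z ≤ A → A.Normal := by
    intro A hA
    constructor
    intro n hn g
    have h1 : g * n * g⁻¹ = (g * n * g⁻¹ * n⁻¹) * n := by group
    rw [h1]
    exact A.mul_mem (hA (hcomm g n)) hn
  -- the index set
  have := Fintype.ofFinite {A : Subgroup P // Z ≤ A ∧ A.index = p}
  have hAcard : Fintype.card {A : Subgroup P // Z ≤ A ∧ A.index = p} ≤ p + 1 := by
    rw [← Nat.card_eq_fintype_card]
    exact card_intermediate_le p hp Z hZidx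
  have hexA : Nonempty {A : Subgroup P // Z ≤ A ∧ A.index = p} := by
    have hcardQ : Nat.card (P ⧸ Z) = p ^ 2 := by rw [← Subgroup.index_eq_card, hZidx]
    obtain ⟨K, hK⟩ := Sylow.exists_subgroup_card_pow_prime (G := P ⧸ Z) p (n := 1)
      (by rw [hcardQ]; exact pow_dvd_pow p (by norm_num))
    refine ⟨⟨K.comap (QuotientGroup.mk' Z), ?_, ?_⟩⟩
    · intro z hz
      rw [Subgroup.mem_comap, QuotientGroup.mk'_apply, (QuotientGroup.eq_one_iff z).2 hz]
      exact K.one_mem
    · rw [Subgroup.index_comap_of_surjective _ (QuotientGroup.mk'_surjective Z)]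
      have h1 := Subgroup.card_mul_index K
      rw [hK, hcardQ, pow_one] at h1
      have : p * K.index = p * p := by rw [h1]; ring
      exact Nat.eq_of_mul_eq_mul_left hp0 this
  have hpair := fun (A B : {A : Subgroup P // Z ≤ A ∧ A.index = p}) (hAB : A ≠ B) =>
    inf_sup_of_ne p hp Z hZidx A.1 B.1 A.2 B.2 (fun h => hAB (Subtype.ext h))
  have hmemX : ∀ (A : Subgroup P) (φ : Z →* ℂˣ),
      φ ∈ fixDual Z (A : Set P) ↔ A ≤ dualStab Z φ := fun A φ => Iff.rfl
  have hcov : ∀ φ : Z →* ℂˣ, ∃ A : {A : Subgroup P // Z ≤ A ∧ A.index = p},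
      φ ∈ fixDual Z (A.1 : Set P) := by
    intro φ
    rcases hstab φ with h | h
    · obtain ⟨A⟩ := hexA
      exact ⟨A, (hmemX _ _).2 (by rw [h]; exact le_top)⟩
    · exact ⟨⟨dualStab Z φ, hZstab φ, h⟩, (hmemX _ _).2 le_rfl⟩
  have hrelA : ∀ A : {A : Subgroup P // Z ≤ A ∧ A.index = p}, Z.relIndex A.1 = p := by
    intro A
    have h1 := Subgroup.relIndex_mul_index A.2.1
    rw [A.2.2, hZidx] at h1
    have : Z.relIndex A.1 * p = p * p := by rw [h1]; ring
    exact Nat.eq_of_mul_eq_mul_right hp0 this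
  have hne : ∀ A : {A : Subgroup P // Z ≤ A ∧ A.index = p},
      fixDual Z (A.1 : Set P) ≠ ⊤ := by
    intro A hA
    apply hno
    refine ⟨A.1, hnormal A.1 A.2.1, ?_, A.2.2⟩
    have hcentr : ∀ a ∈ A.1, ∀ n ∈ Z, a * n = n * a := by
      intro a ha
      apply comm_of_dualConj_eq Z hZab a
      intro φ
      have h1 : φ ∈ fixDual Z (A.1 : Set P) := by
        rw [hA]
        exact Subgroup.mem_top _
      exact h1 a ha
    haveI : IsCyclic (A.1 ⧸ Z.subgroupOf A.1) := by
      apply isCyclic_of_prime_card (p := p)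
      rw [← Subgroup.index_eq_card]
      exact hrelA A
    have hker : (QuotientGroup.mk' (Z.subgroupOf A.1)).ker ≤ Subgroup.center A.1 := by
      rw [QuotientGroup.ker_mk']
      intro x hx
      rw [Subgroup.mem_center_iff]
      intro y
      apply Subtype.ext
      rw [Subgroup.coe_mul, Subgroup.coe_mul]
      exact hcentr y y.2 x (Subgroup.mem_subgroupOf.mp hx)
    have hcommA := MonoidHom.isMulCommutative_of_isCyclic_of_ker_le_center
      (QuotientGroup.mk' (Z.subgroupOf A.1)) hker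
    intro a ha b hb
    have := hcommA.is_comm.comm (⟨a, ha⟩ : A.1) ⟨b, hb⟩
    exact congrArg Subtype.val this
  have hint : ∀ A B : {A : Subgroup P // Z ≤ A ∧ A.index = p}, A ≠ B →
      fixDual Z (A.1 : Set P) ⊓ fixDual Z (B.1 : Set P) =
        fixDual Z ((⊤ : Subgroup P) : Set P) := by
    intro A B hAB
    ext φ
    rw [Subgroup.mem_inf, hmemX, hmemX, hmemX]
    constructor
    · rintro ⟨h1, h2⟩
      rw [← (hpair A B hAB).2.1]
      exact sup_le h1 h2
    · intro h
      exact ⟨le_trans le_top h, le_trans le_top h⟩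
  obtain ⟨hXidx, hFidx, hN⟩ := union_subgroups_index p hp hWp hAcard
    (fun A : {A : Subgroup P // Z ≤ A ∧ A.index = p} => fixDual Z (A.1 : Set P))
    (fixDual Z ((⊤ : Subgroup P) : Set P)) hcov hne hint
  obtain ⟨D, C, hD, hC, hcardC, hcardD, hDinj, hDmem⟩ := fixDual_singleton_dual Z hZab
  -- elements outside Z
  have hXg : ∀ (A : {A : Subgroup P // Z ≤ A ∧ A.index = p}) (g : P), g ∈ A.1 → g ∉ Z →
      fixDual Z {g} = fixDual Z (A.1 : Set P) := by
    intro A g hgA hgZ
    ext φ
    rw [hmemX, mem_fixDual]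
    constructor
    · intro h
      have hg : g ∈ dualStab Z φ := h g rfl
      have h1 : Z ⊔ Subgroup.zpowers g ≤ dualStab Z φ :=
        sup_le (hZstab φ) (by rw [Subgroup.zpowers_le]; exact hg)
      rcases eq_or_eq_of_relIndex_prime (H := Z) (K := Z ⊔ Subgroup.zpowers g) (L := A.1)
        le_sup_left (sup_le A.2.1 (by rw [Subgroup.zpowers_le]; exact hgA))
        (by rw [hrelA A]; exact hp) with h2 | h2
      · exfalso
        apply hgZ
        rw [← h2]
        exact (le_sup_right : Subgroup.zpowers g ≤ _) (Subgroup.mem_zpowers g)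
      · rw [← h2]
        exact h1
    · intro h g' hg'
      rw [Set.mem_singleton_iff] at hg'
      rw [hg']
      exact h hgA
  have hcardX : ∀ (A : {A : Subgroup P // Z ≤ A ∧ A.index = p}) (g : P), g ∈ A.1 → g ∉ Z →
      Nat.card (fixDual Z {g}) * p = Nat.card Z := by
    intro A g hgA hgZ
    have h1 := Subgroup.card_mul_index (fixDual Z (A.1 : Set P))
    rw [hXidx A, hWcard] at h1
    rw [hXg A g hgA hgZ]
    exact h1
  have hcardDg : ∀ (A : {A : Subgroup P // Z ≤ A ∧ A.index = p}) (g : P), g ∈ A.1 → g ∉ Z →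
      Nat.card (D g) = p := by
    intro A g hgA hgZ
    have h1 := hcardX A g hgA hgZ
    have h2 := hcardD g
    rw [← h1] at h2
    exact Nat.eq_of_mul_eq_mul_left Nat.card_pos h2
  -- three distinct members
  have h3 : 2 < Fintype.card {A : Subgroup P // Z ≤ A ∧ A.index = p} := by
    rw [hN]
    have := hp.two_le
    omega
  obtain ⟨A, B, C', hAB, hAC, hBC⟩ := Fintype.two_lt_card_iff.mp h3
  haveI hAn : A.1.Normal := hnormal A.1 A.2.1
  haveI hCn : C'.1.Normal := hnormal C'.1 C'.2.1
  have hCZ : ¬ C'.1 ≤ Z := by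
    intro h
    have h1 : Z.relIndex C'.1 = 1 := Subgroup.relIndex_eq_one.mpr h
    rw [hrelA C'] at h1
    exact hp.one_lt.ne' h1
  obtain ⟨c, hcC, hcZ⟩ := SetLike.not_le_iff_exists.mp hCZ
  have hcAB : c ∈ A.1 ⊔ B.1 := by
    rw [(hpair A B hAB).2.1]
    exact Subgroup.mem_top c
  obtain ⟨a, haA, b, hbB, hab⟩ := Subgroup.mem_sup_of_normal_left.mp hcAB
  have haZ : a ∉ Z := by
    intro h
    apply hcZ
    rw [← (hpair B C' hBC).1]
    refine ⟨?_, hcC⟩
    rw [← hab]
    exact B.1.mul_mem (B.2.1 h) hbB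
  have hbZ : b ∉ Z := by
    intro h
    apply hcZ
    rw [← (hpair A C' hAC).1]
    refine ⟨?_, hcC⟩
    rw [← hab]
    exact A.1.mul_mem haA (A.2.1 h)
  have hc'C : b * a ∈ C'.1 := by
    have h1 : b * a = b * c * b⁻¹ := by rw [← hab]; group
    rw [h1]
    exact hCn.conj_mem c hcC b
  have hc'Z : b * a ∉ Z := by
    intro h
    apply hcZ
    have h1 : c = b⁻¹ * (b * a) * b⁻¹⁻¹ := by rw [← hab]; group
    rw [h1]
    exact hZ.conj_mem _ h b⁻¹
  have hbA : b ∉ A.1 := by
    intro h
    apply hbZ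
    rw [← (hpair A B hAB).1]
    exact ⟨h, hbB⟩
  -- the centre
  have hcenter : ∀ z : Z, (z : P) ∈ Subgroup.center P ↔ z ∈ C a ⊓ C b := by
    intro z
    rw [Subgroup.mem_inf, hC, hC]
    constructor
    · intro h
      rw [Subgroup.mem_center_iff] at h
      exact ⟨h a, h b⟩
    · rintro ⟨h1, h2⟩
      have hle : (⊤ : Subgroup P) ≤ Subgroup.centralizer {(z : P)} := by
        have hZle : Z ≤ Subgroup.centralizer {(z : P)} := by
          intro n hn
          rw [Subgroup.mem_centralizer_singleton_iff]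
          exact hZab n hn z z.2
        have hale : Subgroup.zpowers a ≤ Subgroup.centralizer {(z : P)} := by
          rw [Subgroup.zpowers_le, Subgroup.mem_centralizer_singleton_iff]
          exact h1
        have hble : Subgroup.zpowers b ≤ Subgroup.centralizer {(z : P)} := by
          rw [Subgroup.zpowers_le, Subgroup.mem_centralizer_singleton_iff]
          exact h2
        have hAle : A.1 ≤ Subgroup.centralizer {(z : P)} := by
          rcases eq_or_eq_of_relIndex_prime (H := Z) (K := Z ⊔ Subgroup.zpowers a) (L := A.1)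
            le_sup_left (sup_le A.2.1 (by rw [Subgroup.zpowers_le]; exact haA))
            (by rw [hrelA A]; exact hp) with h5 | h5
          · exfalso
            apply haZ
            rw [← h5]
            exact (le_sup_right : Subgroup.zpowers a ≤ _) (Subgroup.mem_zpowers a)
          · rw [← h5]
            exact sup_le hZle hale
        rcases eq_or_eq_of_relIndex_prime (H := A.1) (K := A.1 ⊔ Subgroup.zpowers b) (L := ⊤)
          le_sup_left le_top (by rw [Subgroup.relIndex_top_right, A.2.2]; exact hp) with h5 | h5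
        · exfalso
          apply hbA
          rw [← h5]
          exact (le_sup_right : Subgroup.zpowers b ≤ _) (Subgroup.mem_zpowers b)
        · rw [← h5]
          exact sup_le hAle hble
      rw [Subgroup.mem_center_iff]
      intro g
      have := hle (Subgroup.mem_top g)
      rw [Subgroup.mem_centralizer_singleton_iff] at this
      exact this
  have hcenter_card : Nat.card (Subgroup.center P) = Nat.card (C a ⊓ C b : Subgroup Z) := by
    have h1 : Subgroup.center P = (C a ⊓ C b).map Z.subtype := by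
      ext g
      rw [Subgroup.mem_map]
      constructor
      · intro hg
        exact ⟨⟨g, hcen hg⟩, (hcenter ⟨g, hcen hg⟩).mp hg, rfl⟩
      · rintro ⟨z, hz, rfl⟩
        exact (hcenter z).mpr hz
    rw [h1, Subgroup.card_map_of_injective Z.subtype_injective]
  have hCa : Nat.card (C a) * p = Nat.card Z := by
    rw [← hcardC a]
    exact hcardX A a haA haZ
  have hCb : Nat.card (C b) * p = Nat.card Z := by
    rw [← hcardC b]
    exact hcardX B b hbB hbZ
  have hPcard : Nat.card P = Nat.card Z * p ^ 2 := by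
    rw [← hZidx]
    exact (Subgroup.card_mul_index Z).symm
  by_cases hCeq : C a = C b
  · -- the good case
    rw [hCeq, inf_idem] at hcenter_card
    have h1 := Subgroup.card_mul_index (Subgroup.center P)
    rw [hcenter_card, hPcard, ← hCb] at h1
    have h2 : Nat.card (C b) * (Subgroup.center P).index = Nat.card (C b) * p ^ 3 := by
      rw [h1]; ring
    exact Nat.eq_of_mul_eq_mul_left Nat.card_pos h2
  · exfalso
    have hcardeq : Nat.card (C a) = Nat.card (C b) := by
      have : Nat.card (C a) * p = Nat.card (C b) * p := by rw [hCa, hCb]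
      exact Nat.eq_of_mul_eq_mul_right hp0 this
    have hnle1 : ¬ C b ≤ C a := by
      intro h
      exact hCeq (Subgroup.eq_of_le_of_card_ge h (le_of_eq hcardeq)).symm
    have hnle2 : ¬ C a ≤ C b := by
      intro h
      exact hCeq (Subgroup.eq_of_le_of_card_ge h (le_of_eq hcardeq.symm))
    obtain ⟨z₁, hz₁b, hz₁a⟩ := SetLike.not_le_iff_exists.mp hnle1
    obtain ⟨z₂, hz₂a, hz₂b⟩ := SetLike.not_le_iff_exists.mp hnle2
    rw [hC] at hz₁b hz₁a hz₂a hz₂b
    -- D a = D (a * b)
    have hcmem : a * b ∈ C'.1 := by rw [hab]; exact hcC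
    have hcnZ : a * b ∉ Z := by rw [hab]; exact hcZ
    have hDac : D a = D (a * b) := by
      have hu : a * z₁ * a⁻¹ * (z₁ : P)⁻¹ ∈ Z :=
        Z.mul_mem (hZ.conj_mem z₁ z₁.2 a) (Z.inv_mem z₁.2)
      apply eq_of_prime_card_of_mem hp (hcardDg A a haA haZ) (hcardDg C' (a * b) hcmem hcnZ)
        (u := ⟨_, hu⟩)
      · rw [hD]
        exact ⟨z₁, rfl⟩
      · rw [hD]
        refine ⟨z₁, ?_⟩
        show a * z₁ * a⁻¹ * (z₁ : P)⁻¹ = a * b * z₁ * (a * b)⁻¹ * (z₁ : P)⁻¹
        have h5 : a * b * z₁ * (a * b)⁻¹ = a * (b * z₁) * b⁻¹ * a⁻¹ := by group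
        rw [h5, hz₁b]
        group
      · intro h
        apply hz₁a
        have h5 := congrArg Subtype.val h
        simp only [Subgroup.coe_one] at h5
        calc a * z₁ = (a * z₁ * a⁻¹ * (z₁ : P)⁻¹) * (z₁ * a) := by group
          _ = z₁ * a := by rw [h5, one_mul]
    have hDbc : D b = D (b * a) := by
      have hu : b * z₂ * b⁻¹ * (z₂ : P)⁻¹ ∈ Z :=
        Z.mul_mem (hZ.conj_mem z₂ z₂.2 b) (Z.inv_mem z₂.2)
      apply eq_of_prime_card_of_mem hp (hcardDg B b hbB hbZ) (hcardDg C' (b * a) hc'C hc'Z)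
        (u := ⟨_, hu⟩)
      · rw [hD]
        exact ⟨z₂, rfl⟩
      · rw [hD]
        refine ⟨z₂, ?_⟩
        show b * z₂ * b⁻¹ * (z₂ : P)⁻¹ = b * a * z₂ * (b * a)⁻¹ * (z₂ : P)⁻¹
        have h5 : b * a * z₂ * (b * a)⁻¹ = b * (a * z₂) * a⁻¹ * b⁻¹ := by group
        rw [h5, hz₂a]
        group
      · intro h
        apply hz₂b
        have h5 := congrArg Subtype.val h
        simp only [Subgroup.coe_one] at h5
        calc b * z₂ = (b * z₂ * b⁻¹ * (z₂ : P)⁻¹) * (z₂ * b) := by group
          _ = z₂ * b := by rw [h5, one_mul]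
    have hDcc : D (a * b) = D (b * a) := by
      apply hDinj
      rw [hXg C' (a * b) hcmem hcnZ, hXg C' (b * a) hc'C hc'Z]
    have hDab : D a = D b := by rw [hDac, hDcc, ← hDbc]
    have hXab : fixDual Z (A.1 : Set P) = fixDual Z (B.1 : Set P) := by
      rw [← hXg A a haA haZ, ← hXg B b hbB hbZ]
      ext φ
      rw [hDmem, hDmem, hDab]
    have h5 := hint A B hAB
    rw [← hXab, inf_idem] at h5
    have h6 := hXidx A
    rw [h5, hFidx] at h6
    have := hp.two_le
    nlinarith

end Center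

section Final

/-- **Isaacs, Theorem 12.11** for `p`-groups. -/
theorem degrees_one_p_pgroup {P : Type u} [Group P] [Finite P] (p : ℕ) (hp : p.Prime)
    (hP : IsPGroup p P)
    (hcd : ∀ χ : IrrCharacter P, charDegree (χ : P → ℂ) = 1 ∨ charDegree (χ : P → ℂ) = p)
    (hnonab : ∃ a b : P, a * b ≠ b * a) :
    (∃ A : Subgroup P, A.Normal ∧ (∀ a ∈ A, ∀ b ∈ A, a * b = b * a) ∧ A.index = p) ∨
      (Subgroup.center P).index = p ^ 3 := by
  by_cases hno : ∃ A : Subgroup P, A.Normal ∧ (∀ a ∈ A, ∀ b ∈ A, a * b = b * a) ∧ A.index = p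
  · left
    exact hno
  · right
    obtain ⟨Z, χ, hZn, hZidx, hcen, hcomm, hχ1, hχ0, hχZ⟩ :=
      exists_ramified_section p hp hP hcd hnonab
    haveI := hZn
    have hZab := abelian_of_ramified p hp hcd Z hZidx χ hχ1 hχ0 hχZ
    exact center_index_of_abelian_index_sq p hp hP hcd Z hZab hZidx hcen hcomm hno

variable {G : Type u} [Group G] [Finite G]

/-- The degree of an irreducible character divides the index of the centre. -/
theorem charDegree_dvd_index_center (χ : IrrCharacter G) :
    charDegree (χ : G → ℂ) ∣ (Subgroup.center G).index := by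
  obtain ⟨n, ρ, hirr, hρ⟩ := χ.2
  haveI := hirr
  have h1 := finrank_dvd_index_center ρ
  rw [Module.finrank_fin_fun] at h1
  have h2 := rep_character_one ρ
  rw [hρ, ← irr_charDegree_cast χ] at h2
  have h3 : charDegree (χ : G → ℂ) = n := by exact_mod_cast h2
  rw [h3]
  exact h1

/-- The square of the degree of an irreducible character is at most the index of the centre. -/
theorem charDegree_sq_le_index_center (χ : IrrCharacter G) :
    charDegree (χ : G → ℂ) ^ 2 ≤ (Subgroup.center G).index := by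
  classical
  have := Fintype.ofFinite G
  have hsum := irr_sum_norm_sq χ
  have h1 : ∑ g ∈ Finset.univ.filter (fun g : G => g ∈ Subgroup.center G),
      ‖(χ : G → ℂ) g‖ ^ 2 ≤ ∑ g : G, ‖(χ : G → ℂ) g‖ ^ 2 :=
    Finset.sum_le_sum_of_subset_of_nonneg (Finset.filter_subset _ _) (fun g _ _ => sq_nonneg _)
  have h2 : ∑ g ∈ Finset.univ.filter (fun g : G => g ∈ Subgroup.center G),
      ‖(χ : G → ℂ) g‖ ^ 2 =
      (Nat.card (Subgroup.center G) : ℝ) * ((charDegree (χ : G → ℂ) : ℕ) : ℝ) ^ 2 := by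
    rw [Finset.sum_congr rfl (fun g hg =>
      irr_norm_sq_of_mem_center χ g (Finset.mem_filter.mp hg).2), Finset.sum_const, nsmul_eq_mul]
    congr 2
    rw [Nat.card_eq_fintype_card, Fintype.card_subtype]
  rw [h2, hsum] at h1
  have h3 : Nat.card (Subgroup.center G) * charDegree (χ : G → ℂ) ^ 2 ≤
      Nat.card (Subgroup.center G) * (Subgroup.center G).index := by
    rw [Subgroup.card_mul_index]
    exact_mod_cast h1
  exact Nat.le_of_mul_le_mul_left h3 Nat.card_pos

end Final

end Cfsg.Agent.Lib.Helper80
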