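import Mathlib
import Cfsg.Agent.Lib.Helper41.OmBNDefs

/-! OmBN-EB (by helper80) for helper41's S2549 "OmBN" hive: `E(e_i, y) ∈ B` when `y` has no `f_j`-component
for `j ≤ i`. -/

set_option autoImplicit false
set_option linter.unusedVariables false

namespace Cfsg.Agent.Lib.Helper41.OmBN

open Matrix Cfsg Cfsg.Agent.Lib.Helper13 Cfsg.Agent.Lib.Helper8 Cfsg.Agent.Lib.Helper43
  Cfsg.Agent.Lib.Helper41.SpBN

variable {F : Type*} [Field F] {m : ℕ} {a b : F}

/-- the matrix entries as values of `mulVec` on the standard basis -/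
theorem eb_entry (g : OG F m a b) (r c : MIdx m) : mat g r c = (mat g *ᵥ Pi.single c 1) r := by
  rw [Matrix.mulVec_single_one]
  rfl

/-- LEAF EB. -/
theorem eichler_mem_B (i : Fin m) (y : MIdx m → F)
    (hy : ∀ j : Fin m, (j : ℕ) ≤ (i : ℕ) → y (Sum.inl (Sum.inr j)) = 0)
    (g : OG F m a b) (hg : ActsAs F m a b g (ve F i) y) : g ∈ Bo F m a b := by
  rw [mem_Bo_iff]
  intro r c hlt
  have hrc : r ≠ c := by
    rintro rfl
    exact lt_irrefl _ hlt
  rw [eb_entry, hg, eichlerLin_apply]
  have hB1 : QuadraticMap.polar (⇑(minusForm m F a b)) (ve F i) (Pi.single c 1)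
      = (Pi.single c 1 : MIdx m → F) (Sum.inl (Sum.inr i)) := polar_minusForm_inl m F a b i _
  simp only [Pi.add_apply, Pi.sub_apply, Pi.smul_apply, smul_eq_mul]
  rw [Pi.single_eq_of_ne hrc, hB1]
  by_cases hr : r = Sum.inl (Sum.inl i)
  · -- `r = e_i`, so `c = e_k` with `k < i`
    subst hr
    rw [oord_e] at hlt
    rcases c with (k | k) | k
    · rw [oord_e] at hlt
      have h2 : QuadraticMap.polar (⇑(minusForm m F a b)) y (Pi.single (Sum.inl (Sum.inl k)) 1)
          = 0 := by
        rw [QuadraticMap.polar_comm, polar_minusForm_inl]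
        exact hy k hlt.le
      rw [h2, Pi.single_eq_of_ne (by simp)]
      ring
    · rw [oord_f] at hlt
      have := i.2
      have := k.2
      omega
    · rw [oord_w] at hlt
      have := i.2
      omega
  · have hu : ve F i r = 0 := by
      unfold ve
      exact Pi.single_eq_of_ne hr _
    rw [hu]
    by_cases hc : c = Sum.inl (Sum.inr i)
    · subst hc
      rw [oord_f] at hlt
      rcases r with (k | k) | k
      · rw [oord_e] at hlt
        have := i.2
        have := k.2
        omega
      · rw [oord_f] at hlt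
        have h3 : y (Sum.inl (Sum.inr k)) = 0 := by
          apply hy
          have := i.2
          have := k.2
          omega
        rw [h3]
        ring
      · rw [oord_w] at hlt
        have := i.2
        omega
    · rw [Pi.single_eq_of_ne (Ne.symm hc)]
      ring

end Cfsg.Agent.Lib.Helper41.OmBN
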