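import Cfsg.Agent.Lib.Helper80.St_SW1
import Cfsg.Agent.Lib.Helper93.St_SG3

/-! # Steinberg project, wave 2, leaf T0: products of cells along reduced products; `B ∩ ẇ B ẇ⁻¹` -/

set_option autoImplicit false
set_option linter.unusedVariables false
set_option linter.unusedSectionVars false

namespace Cfsg.Agent.Lib.Helper6.St

open Cfsg Cfsg.Agent.Lib.Helper6 Cfsg.Agent.Lib.Helper6.Exch

variable {G : Type*} [Group G] (P : Cfsg.BNPair G)

theorem Cw_mul_superset (a b : Wg P) {z : G} (hz : z ∈ Cw P (a * b)) :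
    ∃ x ∈ Cw P a, ∃ y ∈ Cw P b, z = x * y := by
  obtain ⟨n, rfl⟩ := QuotientGroup.mk_surjective a
  obtain ⟨m, rfl⟩ := QuotientGroup.mk_surjective b
  have hmul : (QuotientGroup.mk n : Wg P) * (QuotientGroup.mk m : Wg P) = QuotientGroup.mk (n * m) :=
    rfl
  rw [hmul, Cw_mk] at hz
  obtain ⟨b1, hb1, b2, hb2, hzz⟩ := (mem_C P).mp hz
  refine ⟨b1 * (n : G), ?_, (m : G) * b2, ?_, ?_⟩
  · rw [Cw_mk]; exact mul_mem_C_left P hb1 (self_mem_C P _)
  · rw [Cw_mk]; exact mul_mem_C_right P hb2 (self_mem_C P _)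
  · rw [hzz]; simp only [Subgroup.coe_mul]; group

theorem t0_mul_of_add_word :
    ∀ (L : List P.S) (b : Wg P), IsRed (S0320.sig P) L →
      ell (S0320.sig P) (wp (S0320.sig P) L * b) =
        ell (S0320.sig P) (wp (S0320.sig P) L) + ell (S0320.sig P) b →
      ∀ {x y : G}, x ∈ Cw P (wp (S0320.sig P) L) → y ∈ Cw P b →
        x * y ∈ Cw P (wp (S0320.sig P) L * b) := by
  have h := exSys_sig P
  intro L
  induction L with
  | nil =>
    intro b _ _ x y hx hy
    rw [wp_nil, Cw_one] at hx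
    rw [wp_nil, one_mul]
    obtain ⟨m, rfl⟩ := QuotientGroup.mk_surjective b
    rw [Cw_mk] at hy ⊢
    exact mul_mem_C_left P hx hy
  | cons i L ih =>
    intro b hred hab x y hx hy
    have hL : IsRed (S0320.sig P) L := hred.tail
    have e1 : ell (S0320.sig P) (wp (S0320.sig P) (i :: L)) = L.length + 1 := by
      rw [(isRed_iff_ell _).mp hred, List.length_cons]
    have e2 : ell (S0320.sig P) (wp (S0320.sig P) L) = L.length := (isRed_iff_ell _).mp hL
    rw [wp_cons] at hab e1 hx ⊢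
    have h2 := ell_mul_le h (S0320.sig P i) (wp (S0320.sig P) L * b)
    rw [ell_gen h, ← mul_assoc] at h2
    have h3 := ell_mul_le h (wp (S0320.sig P) L) b
    have hab' : ell (S0320.sig P) (wp (S0320.sig P) L * b) =
        ell (S0320.sig P) (wp (S0320.sig P) L) + ell (S0320.sig P) b := by omega
    have hlt : ell (S0320.sig P) (wp (S0320.sig P) L * b) <
        ell (S0320.sig P) (S0320.sig P i * (wp (S0320.sig P) L * b)) := by
      rw [← mul_assoc]; omega
    obtain ⟨x1, hx1, x2, hx2, rfl⟩ := Cw_mul_superset P _ _ hx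
    rw [mul_assoc, mul_assoc]
    exact Cw_mul_of_lt P i _ hlt hx1 (ih b hL hab' hx2 hy)

theorem Cw_mul_of_add {a b : Wg P}
    (hab : ell (S0320.sig P) (a * b) = ell (S0320.sig P) a + ell (S0320.sig P) b)
    {x y : G} (hx : x ∈ Cw P a) (hy : y ∈ Cw P b) : x * y ∈ Cw P (a * b) := by
  obtain ⟨L, hL, hw, -⟩ := exists_isRed_eq (exSys_sig P) a
  subst hw
  exact t0_mul_of_add_word P L b hL hab hx hy

/-- `B ∩ ẇ B ẇ⁻¹` -/
noncomputable def Bw (w : Wg P) : Subgroup G :=
  P.B ⊓ P.B.map (MulAut.conj ((Quotient.out w : P.N) : G)).toMonoidHom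

theorem t0_map_conj_eq {g g' : G} (hgg : g⁻¹ * g' ∈ P.B) :
    P.B.map (MulAut.conj g').toMonoidHom = P.B.map (MulAut.conj g).toMonoidHom := by
  ext x
  rw [Subgroup.mem_map_equiv, Subgroup.mem_map_equiv, MulAut.conj_symm_apply,
    MulAut.conj_symm_apply]
  have e : g'⁻¹ * x * g' = (g⁻¹ * g')⁻¹ * (g⁻¹ * x * g) * (g⁻¹ * g') := by group
  rw [e]
  constructor
  · intro hx
    have := P.B.mul_mem (P.B.mul_mem hgg hx) (P.B.inv_mem hgg)
    have e2 : g⁻¹ * g' * ((g⁻¹ * g')⁻¹ * (g⁻¹ * x * g) * (g⁻¹ * g')) * (g⁻¹ * g')⁻¹ =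
        g⁻¹ * x * g := by group
    rwa [e2] at this
  · intro hx
    exact P.B.mul_mem (P.B.mul_mem (P.B.inv_mem hgg) hx) hgg

theorem Bw_mk (n : P.N) :
    Bw P (QuotientGroup.mk n : Wg P) = P.B ⊓ P.B.map (MulAut.conj (n : G)).toMonoidHom := by
  unfold Bw
  congr 1
  apply t0_map_conj_eq
  have hq : (QuotientGroup.mk (Quotient.out (QuotientGroup.mk n : Wg P)) : Wg P) =
      QuotientGroup.mk n := Quotient.out_eq _
  exact (S0320.mk_eq_iff P _ _).mp hq.symm

/-- the point `ḋ P_J` of `G ⧸ P_J` -/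
noncomputable def rJ (J : Set P.S) (d : Wg P) : G ⧸ P.parabolic (Subtype.val '' J) :=
  QuotientGroup.mk ((Quotient.out d : P.N) : G)

end Cfsg.Agent.Lib.Helper6.St
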