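import Cfsg.Agent.Lib.Helper6.St.GDefs

/-! # Steinberg project, leaf SG5: the indices `[B w B : B]` of the Bruhat cells -/

set_option autoImplicit false
set_option linter.unusedVariables false
set_option linter.unusedSectionVars false

namespace Cfsg.Agent.Lib.Helper6.St

open Cfsg Cfsg.Agent.Lib.Helper6 Cfsg.Agent.Lib.Helper6.Exch

variable {G : Type*} [Group G] (P : Cfsg.BNPair G)

/-- the index `[B w B : B]` -/
noncomputable def qidx (w : Wg P) : ℕ := Nat.card (Cw P w) / Nat.card P.B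

/-- a double coset is a union of left cosets of `B` -/
theorem sg5_C_eq_preimage (n : G) :
    C P n = (QuotientGroup.mk : G → G ⧸ P.B) ⁻¹' ((QuotientGroup.mk : G → G ⧸ P.B) '' C P n) := by
  ext g
  constructor
  · intro hg
    exact ⟨g, hg, rfl⟩
  · rintro ⟨g', hg', he⟩
    have h1 : g'⁻¹ * g ∈ P.B := QuotientGroup.eq.mp he
    have h2 : g = g' * (g'⁻¹ * g) := by group
    rw [h2]
    exact mul_mem_C_right P h1 hg'

theorem sg5_card_C (n : G) :
    Nat.card (C P n) = Nat.card P.B * Nat.card ((QuotientGroup.mk : G → G ⧸ P.B) '' C P n) := by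
  conv_lhs => rw [sg5_C_eq_preimage P n]
  exact QuotientGroup.card_preimage_mk P.B _

theorem sg5_Cw_eq (w : Wg P) : Cw P w = C P ((Quotient.out w : P.N) : G) := rfl

theorem card_Cw [Finite G] (w : Wg P) : Nat.card (Cw P w) = qidx P w * Nat.card P.B := by
  unfold qidx
  rw [Nat.div_mul_cancel]
  rw [sg5_Cw_eq, sg5_card_C]
  exact dvd_mul_right _ _

theorem sg5_Cw_one : Cw P (1 : Wg P) = (P.B : Set G) := by
  have h1 : (1 : Wg P) = QuotientGroup.mk (1 : P.N) := rfl
  rw [h1, Cw_mk]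
  ext x
  simp only [Subgroup.coe_one, SetLike.mem_coe]
  exact mem_C_one_iff P

theorem qidx_one [Finite G] : qidx P 1 = 1 := by
  unfold qidx
  rw [sg5_Cw_one]
  exact Nat.div_self Nat.card_pos

theorem sg5_Cw_sig (s : P.S) : Cw P (S0320.sig P s) = C P (s : G) := by
  have h1 : S0320.sig P s = QuotientGroup.mk (⟨(s : G), P.subset s.2⟩ : P.N) := rfl
  rw [h1, Cw_mk]

theorem two_le_qidx_sig [Finite G] (s : P.S) : 2 ≤ qidx P (S0320.sig P s) := by
  unfold qidx
  rw [sg5_Cw_sig, sg5_card_C, Nat.mul_div_cancel_left _ Nat.card_pos]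
  obtain ⟨b, hb, hbs⟩ := T4 P s.2
  set T := (QuotientGroup.mk : G → G ⧸ P.B) '' C P (s : G) with hT
  have h1 : (QuotientGroup.mk (s : G) : G ⧸ P.B) ∈ T := ⟨s, self_mem_C P _, rfl⟩
  have h2 : (QuotientGroup.mk (b * (s : G)) : G ⧸ P.B) ∈ T :=
    ⟨b * s, mul_mem_C_left P hb (self_mem_C P _), rfl⟩
  have hne : (QuotientGroup.mk (s : G) : G ⧸ P.B) ≠ QuotientGroup.mk (b * (s : G)) := by
    intro he
    have h3 : (s : G)⁻¹ * (b * s) ∈ P.B := QuotientGroup.eq.mp he
    apply hbs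
    have h4 : (s : G) * b * s = ((s : G) * s) * ((s : G)⁻¹ * (b * s)) := by group
    rw [h4]
    exact P.B.mul_mem (P.sq_mem s s.2) h3
  have : Nontrivial T := ⟨⟨⟨_, h1⟩, ⟨_, h2⟩, fun h => hne (congrArg Subtype.val h)⟩⟩
  exact Finite.one_lt_card_iff_nontrivial.mpr this

/-- `C(s) C(n) ⊆ C(s n)` when `len n ≤ len (s n)` -/
theorem sg5_mul_mem {s n : G} (hs : s ∈ P.S) (hn : n ∈ P.N)
    (hle : len P P.S n ≤ len P P.S (s * n)) {x y : G} (hx : x ∈ C P s) (hy : y ∈ C P n) :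
    x * y ∈ C P (s * n) := by
  rw [mem_C] at hx hy
  obtain ⟨a, ha, b, hb, rfl⟩ := hx
  obtain ⟨c, hc, d, hd, rfl⟩ := hy
  have h1 : s * (b * c) * n ∈ C P (s * n) :=
    lemmaA (J := P.S) subset_rfl (hasRep_of_mem_N hn) hs hle (P.B.mul_mem hb hc)
  have h2 : a * s * b * (c * n * d) = a * (s * (b * c) * n) * d := by group
  rw [h2]
  exact mul_mem_C_right P hd (mul_mem_C_left P ha h1)

/-- `C(s)⁻¹ C(s) ⊆ B ∪ C(s)` -/
theorem sg5_inv_mul_mem {s : G} (hs : s ∈ P.S) {x x' : G} (hx : x ∈ C P s) (hx' : x' ∈ C P s) :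
    x'⁻¹ * x ∈ P.B ∨ x'⁻¹ * x ∈ C P s := by
  have hsN := P.subset hs
  have h0 : C P s⁻¹ = C P s := by
    have h1 : s⁻¹ = (s * s)⁻¹ * s := by group
    rw [h1]
    exact C_mul_left P (P.B.inv_mem (P.sq_mem s hs))
  have hx'' : x'⁻¹ ∈ C P s := by rw [← h0]; exact inv_mem_C P hx'
  rw [mem_C] at hx hx''
  obtain ⟨a, ha, b, hb, hab⟩ := hx''
  obtain ⟨c, hc, d, hd, rfl⟩ := hx
  rw [hab]
  have h2 : a * s * b * (c * s * d) = a * (s * (b * c) * s) * d := by group
  rw [h2]
  rcases T3 P hs hsN (P.B.mul_mem hb hc) with h | h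
  · left
    have h3 : s * (b * c) * s ∈ P.B := (mem_C_of_B_iff P (P.sq_mem s hs)).mp h
    exact P.B.mul_mem (P.B.mul_mem ha h3) hd
  · right
    exact mul_mem_C_right P hd (mul_mem_C_left P ha h)

/-- the fibres of the product map `C(s) × C(n) → C(s n)` -/
theorem sg5_fibre {s n : G} (hs : s ∈ P.S) (hn : n ∈ P.N)
    (hlt : len P P.S n < len P P.S (s * n)) {x x' y y' : G} (hx : x ∈ C P s) (hx' : x' ∈ C P s)
    (hy : y ∈ C P n) (hy' : y' ∈ C P n) (he : x * y = x' * y') : x'⁻¹ * x ∈ P.B := by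
  rcases sg5_inv_mul_mem P hs hx hx' with h | h
  · exact h
  · exfalso
    have hsn : s * n ∈ P.N := P.N.mul_mem (P.subset hs) hn
    have h1 : y' = x'⁻¹ * x * y := by rw [mul_assoc, he]; group
    have h2 : y' ∈ C P (s * n) := by rw [h1]; exact sg5_mul_mem P hs hn hlt.le h hy
    have h3 : C P n = C P (s * n) := by rw [← C_eq_of_mem P hy', C_eq_of_mem P h2]
    have h4 := (C_eq_iff hn hsn).mp h3
    have h5 := len_congr (P := P) (J := P.S) hn hsn h4
    omega

theorem sg5_card_mul [Finite G] {s n : G} (hs : s ∈ P.S) (hn : n ∈ P.N)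
    (hlt : len P P.S n < len P P.S (s * n)) :
    Nat.card (C P s) * Nat.card (C P n) = Nat.card (C P (s * n)) * Nat.card P.B := by
  have hex : ∀ g : C P (s * n), ∃ (x : C P s) (y : C P n), (x : G) * (y : G) = (g : G) := by
    intro g
    obtain ⟨a, ha, b, hb, hab⟩ := (mem_C P).mp g.2
    refine ⟨⟨a * s, mul_mem_C_left P ha (self_mem_C P s)⟩,
      ⟨n * b, mul_mem_C_right P hb (self_mem_C P n)⟩, ?_⟩
    rw [hab]; simp only; group
  choose X Y hXY using hex
  let φ : C P (s * n) × P.B → C P s × C P n := fun gb =>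
    (⟨(X gb.1 : G) * (gb.2 : G), mul_mem_C_right P gb.2.2 (X gb.1).2⟩,
      ⟨(gb.2 : G)⁻¹ * (Y gb.1 : G), mul_mem_C_left P (P.B.inv_mem gb.2.2) (Y gb.1).2⟩)
  have hinj : Function.Injective φ := by
    rintro ⟨g, b⟩ ⟨g', b'⟩ he
    have h1 : (X g : G) * (b : G) = (X g' : G) * (b' : G) := by
      have := congrArg (fun z : C P s × C P n => (z.1 : G)) he
      simpa [φ] using this
    have h2 : (b : G)⁻¹ * (Y g : G) = (b' : G)⁻¹ * (Y g' : G) := by
      have := congrArg (fun z : C P s × C P n => (z.2 : G)) he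
      simpa [φ] using this
    have h3 : (g : G) = (g' : G) := by
      rw [← hXY g, ← hXY g']
      have e1 : (X g : G) * (Y g : G) = ((X g : G) * (b : G)) * ((b : G)⁻¹ * (Y g : G)) := by group
      have e2 : (X g' : G) * (Y g' : G) = ((X g' : G) * (b' : G)) * ((b' : G)⁻¹ * (Y g' : G)) := by
        group
      rw [e1, e2, h1, h2]
    have h4 : g = g' := Subtype.ext h3
    subst h4
    have h5 : (b : G) = (b' : G) := mul_left_cancel h1
    have h6 : b = b' := Subtype.ext h5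
    rw [h6]
  have hsurj : Function.Surjective φ := by
    rintro ⟨x, y⟩
    have hg : (x : G) * (y : G) ∈ C P (s * n) := sg5_mul_mem P hs hn hlt.le x.2 y.2
    set g : C P (s * n) := ⟨(x : G) * (y : G), hg⟩ with hgdef
    have hb : (X g : G)⁻¹ * (x : G) ∈ P.B :=
      sg5_fibre P hs hn hlt x.2 (X g).2 y.2 (Y g).2 (by rw [hXY g])
    refine ⟨(g, ⟨_, hb⟩), ?_⟩
    apply Prod.ext
    · apply Subtype.ext
      simp only [φ]
      group
    · apply Subtype.ext
      simp only [φ]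
      have hg' : (g : G) = (x : G) * (y : G) := rfl
      have h7 : (Y g : G) = (X g : G)⁻¹ * ((x : G) * (y : G)) := by
        rw [← hg', ← hXY g]; group
      rw [h7]; group
  have hcard := Nat.card_congr (Equiv.ofBijective φ ⟨hinj, hsurj⟩)
  rw [Nat.card_prod, Nat.card_prod] at hcard
  exact hcard.symm

theorem qidx_sig_mul [Finite G] (s : P.S) (w : Wg P)
    (hlt : ell (S0320.sig P) w < ell (S0320.sig P) (S0320.sig P s * w)) :
    qidx P (S0320.sig P s * w) = qidx P (S0320.sig P s) * qidx P w := by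
  obtain ⟨n, rfl⟩ := QuotientGroup.mk_surjective w
  have hsig : S0320.sig P s = QuotientGroup.mk (⟨(s : G), P.subset s.2⟩ : P.N) := rfl
  have hmul : S0320.sig P s * (QuotientGroup.mk n : Wg P) =
      QuotientGroup.mk ((⟨(s : G), P.subset s.2⟩ : P.N) * n) := by
    rw [hsig]; rfl
  have hlt' : len P P.S (n : G) < len P P.S ((s : G) * (n : G)) := by
    rw [hmul, ell_mk, ell_mk] at hlt
    exact hlt
  have h1 := sg5_card_mul P s.2 n.2 hlt'
  have c1 := card_Cw P (S0320.sig P s * (QuotientGroup.mk n : Wg P))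
  have c2 := card_Cw P (S0320.sig P s)
  have c3 := card_Cw P (QuotientGroup.mk n : Wg P)
  rw [hmul, Cw_mk] at c1
  rw [sg5_Cw_sig] at c2
  rw [Cw_mk] at c3
  have c1' : Nat.card (C P ((s : G) * (n : G))) =
      qidx P (S0320.sig P s * (QuotientGroup.mk n : Wg P)) * Nat.card P.B := by
    rw [hmul]; exact c1
  rw [c1', c2, c3] at h1
  have hB : 0 < Nat.card P.B := Nat.card_pos
  have h2 : qidx P (S0320.sig P s) * qidx P (QuotientGroup.mk n : Wg P) * (Nat.card P.B * Nat.card P.B)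
      = qidx P (S0320.sig P s * (QuotientGroup.mk n : Wg P)) * (Nat.card P.B * Nat.card P.B) := by
    rw [← mul_assoc, ← mul_assoc, ← h1]; ring
  exact (Nat.eq_of_mul_eq_mul_right (Nat.mul_pos hB hB) h2).symm

end Cfsg.Agent.Lib.Helper6.St
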