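import Cfsg.Agent.Lib.Helper80.St_SG5
import Cfsg.Agent.Lib.Helper31.St_SW3
import Cfsg.Agent.Lib.Helper93.St_SG2

/-! # Steinberg project, leaf SG6: orders and indices in terms of the cell indices -/

set_option autoImplicit false
set_option linter.unusedVariables false
set_option linter.unusedSectionVars false

namespace Cfsg.Agent.Lib.Helper6.St

open Cfsg Cfsg.Agent.Lib.Helper6 Cfsg.Agent.Lib.Helper6.Exch

section W
variable {W : Type*} [Group W] {ι : Type*} {σ : ι → W}

/-- multiplicativity along reduced products (own copy, to avoid depending on one of the several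
`mul_of_step` files) -/
theorem sg6_mul_of_step (h : ExSys σ) (f : W → ℕ) (h1 : f 1 = 1)
    (hstep : ∀ (i : ι) (w : W), ell σ w < ell σ (σ i * w) → f (σ i * w) = f (σ i) * f w) :
    ∀ (L : List ι) (b : W), IsRed σ L → ell σ (wp σ L * b) = ell σ (wp σ L) + ell σ b →
      f (wp σ L * b) = f (wp σ L) * f b := by
  intro L
  induction L with
  | nil =>
    intro b _ _
    rw [wp_nil, one_mul, h1, one_mul]
  | cons i L ih =>
    intro b hred hab
    have hL : IsRed σ L := hred.tail
    have e1 : ell σ (wp σ (i :: L)) = L.length + 1 := by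
      rw [(isRed_iff_ell _).mp hred, List.length_cons]
    have e2 : ell σ (wp σ L) = L.length := (isRed_iff_ell _).mp hL
    rw [wp_cons] at hab e1 ⊢
    have h2 := ell_mul_le h (σ i) (wp σ L * b)
    rw [ell_gen h, ← mul_assoc] at h2
    have h3 := ell_mul_le h (wp σ L) b
    have hab' : ell σ (wp σ L * b) = ell σ (wp σ L) + ell σ b := by omega
    have hlt : ell σ (wp σ L * b) < ell σ (σ i * (wp σ L * b)) := by
      rw [← mul_assoc]; omega
    have hlt2 : ell σ (wp σ L) < ell σ (σ i * wp σ L) := by omega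
    rw [mul_assoc, hstep i _ hlt, ih b hL hab', hstep i _ hlt2, mul_assoc]

end W

variable {G : Type*} [Group G] (P : Cfsg.BNPair G)

theorem sg6_cell_disjoint {w w' : Wg P} {g : G} (hw : g ∈ Cw P w) (hw' : g ∈ Cw P w') : w = w' :=
  (exists_unique_Cw P g).unique hw hw'

open Classical in
theorem sg6_card_biUnion [Fintype G] (A : Finset (Wg P)) :
    Nat.card (⋃ w ∈ A, Cw P w : Set G) = ∑ w ∈ A, Nat.card (Cw P w) := by
  have hdisj : ∀ w ∈ A, ∀ w' ∈ A, w ≠ w' →
      Disjoint (Cw P w).toFinset (Cw P w').toFinset := by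
    intro w _ w' _ hne
    rw [Finset.disjoint_left]
    intro g hg hg'
    rw [Set.mem_toFinset] at hg hg'
    exact hne (sg6_cell_disjoint P hg hg')
  have hU : (⋃ w ∈ A, Cw P w : Set G).toFinset = A.biUnion (fun w => (Cw P w).toFinset) := by
    ext g
    simp
  rw [Nat.card_eq_fintype_card, ← Set.toFinset_card, hU, Finset.card_biUnion hdisj]
  apply Finset.sum_congr rfl
  intro w _
  rw [Set.toFinset_card, Nat.card_eq_fintype_card]

open Classical in
theorem sg6_card_biUnion_qidx [Fintype G] (A : Finset (Wg P)) :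
    Nat.card (⋃ w ∈ A, Cw P w : Set G) = Nat.card P.B * ∑ w ∈ A, qidx P w := by
  rw [sg6_card_biUnion, Finset.mul_sum]
  apply Finset.sum_congr rfl
  intro w _
  rw [card_Cw, mul_comm]

open Classical in
theorem card_eq_sum_qidx [Fintype G] [Fintype (Wg P)] :
    Nat.card G = Nat.card P.B * ∑ w : Wg P, qidx P w := by
  rw [← sg6_card_biUnion_qidx P Finset.univ]
  have hU : (⋃ w ∈ (Finset.univ : Finset (Wg P)), Cw P w : Set G) = Set.univ := by
    ext g
    obtain ⟨w, hw, -⟩ := exists_unique_Cw P g
    simp only [Finset.mem_univ, Set.iUnion_true, Set.mem_iUnion, Set.mem_univ, iff_true]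
    exact ⟨w, hw⟩
  rw [hU]
  exact (Nat.card_congr (Equiv.Set.univ G)).symm

open Classical in
theorem card_parabolic_eq_sum_qidx [Fintype G] [Fintype (Wg P)] (J : Set P.S) :
    Nat.card (P.parabolic (Subtype.val '' J)) =
      Nat.card P.B * ∑ w ∈ Finset.univ.filter (fun w => w ∈ WJ (S0320.sig P) J), qidx P w := by
  rw [← sg6_card_biUnion_qidx P]
  have hU : (⋃ w ∈ Finset.univ.filter (fun w => w ∈ WJ (S0320.sig P) J), Cw P w : Set G) =
      (P.parabolic (Subtype.val '' J) : Set G) := by
    rw [parabolic_eq_iUnion]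
    ext g
    simp
  rw [hU]
  rfl

open Classical in
theorem index_parabolic [Fintype G] [Fintype (Wg P)] (J : Set P.S) :
    (P.parabolic (Subtype.val '' J)).index =
      ∑ d ∈ Finset.univ.filter (fun d => RRed (S0320.sig P) J d), qidx P d := by
  have h := exSys_sig P
  set σ := S0320.sig P with hσ
  set R := Finset.univ.filter (fun d => RRed σ J d) with hR
  set V := Finset.univ.filter (fun w => w ∈ WJ σ J) with hV
  -- multiplicativity of `qidx`
  have hmul : ∀ d ∈ R, ∀ v ∈ V, qidx P (d * v) = qidx P d * qidx P v := by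
    intro d hd v hv
    rw [hR, Finset.mem_filter] at hd
    rw [hV, Finset.mem_filter] at hv
    obtain ⟨L, hL, hw, -⟩ := exists_isRed_eq h d
    have hadd := rred_add h J hd.2 hv.2
    rw [← hw] at hadd ⊢
    exact sg6_mul_of_step h (qidx P) (qidx_one P)
      (fun i w hlt => qidx_sig_mul P i w hlt) L v hL hadd
  -- `W = R × V`
  have himage : (Finset.univ : Finset (Wg P)) = (R ×ˢ V).image (fun p => p.1 * p.2) := by
    ext w
    simp only [Finset.mem_univ, Finset.mem_image, Finset.mem_product, true_iff]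
    obtain ⟨d, v, hd, hv, hw⟩ := exists_rred h J w
    exact ⟨(d, v), ⟨by rw [hR, Finset.mem_filter]; exact ⟨Finset.mem_univ _, hd⟩,
      by rw [hV, Finset.mem_filter]; exact ⟨Finset.mem_univ _, hv⟩⟩, hw.symm⟩
  have hinj : Set.InjOn (fun p : Wg P × Wg P => p.1 * p.2) (R ×ˢ V : Finset (Wg P × Wg P)) := by
    rintro ⟨d, v⟩ hp ⟨d', v'⟩ hp' he
    simp only [Finset.coe_product, Set.mem_prod, Finset.mem_coe] at hp hp'
    have hd := (Finset.mem_filter.mp hp.1).2
    have hv := (Finset.mem_filter.mp hp.2).2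
    have hd' := (Finset.mem_filter.mp hp'.1).2
    have hv' := (Finset.mem_filter.mp hp'.2).2
    simp only at he
    have h1 : d⁻¹ * d' = v * v'⁻¹ := by
      have : d' = d * v * v'⁻¹ := by rw [he]; group
      rw [this]; group
    have h2 : d⁻¹ * d' ∈ WJ σ J := by
      rw [h1]; exact (WJ σ J).mul_mem hv ((WJ σ J).inv_mem hv')
    have h3 : d = d' := rred_unique h J hd hd' h2
    subst h3
    have h4 : v = v' := mul_left_cancel he
    rw [h4]
  have hsum : ∑ w : Wg P, qidx P w = (∑ d ∈ R, qidx P d) * ∑ v ∈ V, qidx P v := by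
    rw [himage, Finset.sum_image hinj, Finset.sum_product, Finset.sum_mul_sum]
    apply Finset.sum_congr rfl
    intro d hd
    apply Finset.sum_congr rfl
    intro v hv
    exact hmul d hd v hv
  have hG := card_eq_sum_qidx P
  have hPJ := card_parabolic_eq_sum_qidx P J
  rw [hsum] at hG
  have hidx := Subgroup.index_mul_card (P.parabolic (Subtype.val '' J))
  rw [hG, hPJ] at hidx
  have hpos : 0 < Nat.card P.B * ∑ v ∈ V, qidx P v := by
    rw [← hPJ]; exact Nat.card_pos
  have h5 : (P.parabolic (Subtype.val '' J)).index * (Nat.card P.B * ∑ v ∈ V, qidx P v) =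
      (∑ d ∈ R, qidx P d) * (Nat.card P.B * ∑ v ∈ V, qidx P v) := by
    rw [hidx]; ring
  exact Nat.eq_of_mul_eq_mul_right hpos h5

end Cfsg.Agent.Lib.Helper6.St
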