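import Mathlib
import Cfsg.Prelude.Def_Classical
import Cfsg.Prelude.Def_LieClassical
import Cfsg.Agent.Lib.Helper14.TuDefs

/-! TU-D1 (generic part, by helper80) for helper14's S5953 "Tu" hive: the block matrix
`diag(U, …, U, 1)` transported to `Fin n`, its powers, determinant, action on vectors, the hermitian
form in block coordinates and the bound on its fixed space. -/

set_option autoImplicit false

namespace Cfsg.Agent.Lib.Helper14.Tu

open Cfsg.Agent.Lib.Helper40.Herm Cfsg.Agent.Lib.Helper2.BG Polynomial Module Matrix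


section d1gen

variable {F : Type*} [Field F] {c t k n : ℕ}

/-- the block matrix `diag(U, …, U, 1)` on `(Fin c × Fin t) ⊕ Fin k` -/
def d1_X0 (t k : ℕ) (U : Matrix (Fin c) (Fin c) F) :
    Matrix ((Fin c × Fin t) ⊕ Fin k) ((Fin c × Fin t) ⊕ Fin k) F :=
  Matrix.fromBlocks (Matrix.blockDiagonal fun _ : Fin t => U) 0 0 1

/-- the same matrix transported to `Fin n` -/
def d1_X (e : (Fin c × Fin t) ⊕ Fin k ≃ Fin n) (U : Matrix (Fin c) (Fin c) F) :
    Matrix (Fin n) (Fin n) F :=
  (d1_X0 t k U).submatrix e.symm e.symm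

theorem d1_X0_mul (U U' : Matrix (Fin c) (Fin c) F) :
    d1_X0 t k U * d1_X0 t k U' = d1_X0 t k (U * U') := by
  unfold d1_X0
  rw [Matrix.fromBlocks_multiply, ← Matrix.blockDiagonal_mul]
  simp

theorem d1_X0_one : d1_X0 t k (1 : Matrix (Fin c) (Fin c) F) = 1 := by
  unfold d1_X0
  have : (fun _ : Fin t => (1 : Matrix (Fin c) (Fin c) F)) = 1 := rfl
  rw [this, Matrix.blockDiagonal_one, Matrix.fromBlocks_one]

theorem d1_X_mul (e : (Fin c × Fin t) ⊕ Fin k ≃ Fin n) (U U' : Matrix (Fin c) (Fin c) F) :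
    d1_X e U * d1_X e U' = d1_X e (U * U') := by
  unfold d1_X
  rw [Matrix.submatrix_mul_equiv, d1_X0_mul]

theorem d1_X_one (e : (Fin c × Fin t) ⊕ Fin k ≃ Fin n) :
    d1_X e (1 : Matrix (Fin c) (Fin c) F) = 1 := by
  unfold d1_X
  rw [d1_X0_one, Matrix.submatrix_one_equiv]

theorem d1_X_pow (e : (Fin c × Fin t) ⊕ Fin k ≃ Fin n) (U : Matrix (Fin c) (Fin c) F) (r : ℕ) :
    d1_X e U ^ r = d1_X e (U ^ r) := by
  induction r with
  | zero => rw [pow_zero, pow_zero, d1_X_one]
  | succ r ih => rw [pow_succ, pow_succ, ih, d1_X_mul]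

theorem d1_X_det (e : (Fin c × Fin t) ⊕ Fin k ≃ Fin n) (U : Matrix (Fin c) (Fin c) F) :
    (d1_X e U).det = U.det ^ t := by
  unfold d1_X d1_X0
  rw [Matrix.det_submatrix_equiv_self, Matrix.det_fromBlocks_zero₂₁, Matrix.det_blockDiagonal,
    Matrix.det_one, mul_one, Finset.prod_const, Finset.card_univ, Fintype.card_fin]

/-- the action on vectors, in block coordinates -/
theorem d1_X_mulVec (e : (Fin c × Fin t) ⊕ Fin k ≃ Fin n) (U : Matrix (Fin c) (Fin c) F)
    (v : Fin n → F) :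
    (∀ (a : Fin c) (s : Fin t), (d1_X e U *ᵥ v) (e (Sum.inl (a, s))) =
      (U *ᵥ fun a' => v (e (Sum.inl (a', s)))) a) ∧
    (∀ j : Fin k, (d1_X e U *ᵥ v) (e (Sum.inr j)) = v (e (Sum.inr j))) := by
  unfold d1_X d1_X0
  rw [Matrix.submatrix_mulVec_equiv, Matrix.fromBlocks_mulVec]
  constructor
  · intro a s
    simp only [Function.comp_apply, Equiv.symm_apply_apply, Sum.elim_inl, Equiv.symm_symm,
      Matrix.zero_mulVec, add_zero]
    simp only [Matrix.mulVec, dotProduct, Matrix.blockDiagonal_apply, Fintype.sum_prod_type,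
      Function.comp_apply]
    apply Finset.sum_congr rfl
    intro a' _
    rw [Finset.sum_eq_single s]
    · simp
    · intro s' _ hs'
      simp [Ne.symm hs']
    · intro h
      exact absurd (Finset.mem_univ s) h
  · intro j
    simp only [Function.comp_apply, Equiv.symm_apply_apply, Sum.elim_inr, Equiv.symm_symm,
      Matrix.zero_mulVec, zero_add, Matrix.one_mulVec]

theorem d1_X_entry (e : (Fin c × Fin t) ⊕ Fin k ≃ Fin n) (U : Matrix (Fin c) (Fin c) F)
    (a a' : Fin c) (s : Fin t) :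
    d1_X e U (e (Sum.inl (a, s))) (e (Sum.inl (a', s))) = U a a' := by
  unfold d1_X d1_X0
  simp [Matrix.blockDiagonal_apply]

/-- the hermitian form in block coordinates -/
theorem d1_herm_split (q : ℕ) (e : (Fin c × Fin t) ⊕ Fin k ≃ Fin n) (u v : Fin n → F) :
    Cfsg.hermForm n F q u v =
      ∑ s : Fin t, Cfsg.hermForm c F q (fun a => u (e (Sum.inl (a, s))))
        (fun a => v (e (Sum.inl (a, s)))) +
      ∑ j : Fin k, u (e (Sum.inr j)) * (v (e (Sum.inr j))) ^ q := by
  unfold Cfsg.hermForm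
  rw [← Equiv.sum_comp e, Fintype.sum_sum_type, Fintype.sum_prod_type_right]

theorem d1_preserves (q : ℕ) (e : (Fin c × Fin t) ⊕ Fin k ≃ Fin n) (U : Matrix (Fin c) (Fin c) F)
    (hU : ∀ u v : Fin c → F, Cfsg.hermForm c F q (U *ᵥ u) (U *ᵥ v) = Cfsg.hermForm c F q u v)
    (u v : Fin n → F) :
    Cfsg.hermForm n F q (d1_X e U *ᵥ u) (d1_X e U *ᵥ v) = Cfsg.hermForm n F q u v := by
  rw [d1_herm_split q e, d1_herm_split q e u v]
  congr 1
  · apply Finset.sum_congr rfl
    intro s _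
    have h1 : (fun a => (d1_X e U *ᵥ u) (e (Sum.inl (a, s)))) =
        U *ᵥ fun a' => u (e (Sum.inl (a', s))) := by
      funext a
      exact (d1_X_mulVec e U u).1 a s
    have h2 : (fun a => (d1_X e U *ᵥ v) (e (Sum.inl (a, s)))) =
        U *ᵥ fun a' => v (e (Sum.inl (a', s))) := by
      funext a
      exact (d1_X_mulVec e U v).1 a s
    rw [h1, h2, hU]
  · apply Finset.sum_congr rfl
    intro j _
    rw [(d1_X_mulVec e U u).2 j, (d1_X_mulVec e U v).2 j]

theorem d1_fixed (e : (Fin c × Fin t) ⊕ Fin k ≃ Fin n) (U : Matrix (Fin c) (Fin c) F)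
    (hfpf : ∀ w : Fin c → F, U *ᵥ w = w → w = 0) (v : Fin n → F) (hv : d1_X e U *ᵥ v = v)
    (a : Fin c) (s : Fin t) : v (e (Sum.inl (a, s))) = 0 := by
  have h1 : (U *ᵥ fun a' => v (e (Sum.inl (a', s)))) = fun a' => v (e (Sum.inl (a', s))) := by
    funext a'
    rw [← (d1_X_mulVec e U v).1 a' s, hv]
  exact congrFun (hfpf _ h1) a

theorem d1_finrank_ker_le (e : (Fin c × Fin t) ⊕ Fin k ≃ Fin n) (U : Matrix (Fin c) (Fin c) F)
    (hfpf : ∀ w : Fin c → F, U *ᵥ w = w → w = 0) :
    finrank F ↥(LinearMap.ker (Matrix.toLin' (d1_X e U) - 1)) ≤ k := by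
  have hker : ∀ v : Fin n → F, v ∈ LinearMap.ker (Matrix.toLin' (d1_X e U) - 1) →
      d1_X e U *ᵥ v = v := by
    intro v hv
    rw [LinearMap.mem_ker, LinearMap.sub_apply, Matrix.toLin'_apply, Module.End.one_apply,
      sub_eq_zero] at hv
    exact hv
  let φ : ↥(LinearMap.ker (Matrix.toLin' (d1_X e U) - 1)) →ₗ[F] (Fin k → F) :=
    (LinearMap.funLeft F F (fun j : Fin k => e (Sum.inr j))).comp (Submodule.subtype _)
  have hφ : ∀ v, φ v = fun j => v.1 (e (Sum.inr j)) := fun v => rfl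
  have hinj : Function.Injective φ := by
    rw [← LinearMap.ker_eq_bot, LinearMap.ker_eq_bot']
    intro v hv
    apply Subtype.ext
    funext i
    obtain ⟨j, rfl⟩ := e.surjective i
    rcases j with ⟨a, s⟩ | j
    · exact d1_fixed e U hfpf v.1 (hker v.1 v.2) a s
    · have := congrFun hv j
      rw [hφ] at this
      exact this
  have := LinearMap.finrank_le_finrank_of_injective hinj
  rwa [Module.finrank_fintype_fun_eq_card, Fintype.card_fin] at this

end d1gen


end Cfsg.Agent.Lib.Helper14.Tu
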