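import Cfsg.Agent.Lib.Helper41.StnDefs

/-! # Stn hive (S2401), leaf STN-BASIC: the defining relations for the total generators `xx` -/

set_option autoImplicit false

namespace Cfsg.Agent.Lib.Helper41.Stn

open Matrix

variable {K : Type*} [Field K] {n : ℕ}

theorem basic_xx_of {i j : Fin n} (h : i ≠ j) (t : K) :
    xx i j t = PresentedGroup.of (⟨(i, j), h⟩, t) := by
  unfold xx
  rw [dif_pos h]

theorem basic_of_eq_mk (a : Idx n) (t : K) :
    (PresentedGroup.of (a, t) : St K n) = PresentedGroup.mk (rels K n) (FreeGroup.of (a, t)) := rfl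

theorem xx_self (i : Fin n) (t : K) : xx i i t = 1 := by
  unfold xx
  rw [dif_neg (fun h => h rfl)]

theorem xx_add (i j : Fin n) (t u : K) : xx i j t * xx i j u = xx i j (t + u) := by
  by_cases h : i = j
  · subst h
    rw [xx_self, xx_self, xx_self, one_mul]
  · rw [basic_xx_of h, basic_xx_of h, basic_xx_of h]
    have hmem : FreeGroup.of ((⟨(i, j), h⟩ : Idx n), t) * FreeGroup.of ((⟨(i, j), h⟩ : Idx n), u) *
        (FreeGroup.of ((⟨(i, j), h⟩ : Idx n), t + u))⁻¹ ∈ rels K n :=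
      Or.inl (Or.inl ⟨⟨(i, j), h⟩, t, u, rfl⟩)
    have h1 := PresentedGroup.one_of_mem hmem
    rw [map_mul, map_mul, map_inv, mul_inv_eq_one] at h1
    exact h1

theorem xx_zero (i j : Fin n) : xx i j (0 : K) = 1 := by
  have h := xx_add i j (0 : K) 0
  rw [add_zero] at h
  exact mul_eq_left.mp h

theorem xx_inv (i j : Fin n) (t : K) : (xx i j t)⁻¹ = xx i j (-t) := by
  apply inv_eq_of_mul_eq_one_right
  rw [xx_add, add_neg_cancel, xx_zero]

/-- (R2) (true also when `i = j` or `k = l`, the element being `1`) -/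
theorem xx_comm {i j k l : Fin n} (hil : i ≠ l) (hjk : j ≠ k) (t u : K) :
    xx i j t * xx k l u = xx k l u * xx i j t := by
  by_cases hij : i = j
  · subst hij
    rw [xx_self, one_mul, mul_one]
  by_cases hkl : k = l
  · subst hkl
    rw [xx_self, one_mul, mul_one]
  rw [basic_xx_of hij, basic_xx_of hkl]
  have hmem : FreeGroup.of ((⟨(i, j), hij⟩ : Idx n), t) * FreeGroup.of ((⟨(k, l), hkl⟩ : Idx n), u) *
      (FreeGroup.of ((⟨(i, j), hij⟩ : Idx n), t))⁻¹ *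
      (FreeGroup.of ((⟨(k, l), hkl⟩ : Idx n), u))⁻¹ ∈ rels K n :=
    Or.inl (Or.inr ⟨⟨(i, j), hij⟩, ⟨(k, l), hkl⟩, t, u, hil, hjk, rfl⟩)
  have h1 := PresentedGroup.one_of_mem hmem
  rw [map_mul, map_mul, map_mul, map_inv, map_inv, mul_inv_eq_one, mul_inv_eq_iff_eq_mul] at h1
  exact h1

/-- (R3) -/
theorem xx_comm3 {i j l : Fin n} (hij : i ≠ j) (hjl : j ≠ l) (hil : i ≠ l) (t u : K) :
    xx i j t * xx j l u * (xx i j t)⁻¹ * (xx j l u)⁻¹ = xx i l (t * u) := by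
  rw [basic_xx_of hij, basic_xx_of hjl, basic_xx_of hil]
  have hmem : FreeGroup.of ((⟨(i, j), hij⟩ : Idx n), t) * FreeGroup.of ((⟨(j, l), hjl⟩ : Idx n), u) *
      (FreeGroup.of ((⟨(i, j), hij⟩ : Idx n), t))⁻¹ *
      (FreeGroup.of ((⟨(j, l), hjl⟩ : Idx n), u))⁻¹ *
      (FreeGroup.of ((⟨(i, l), hil⟩ : Idx n), t * u))⁻¹ ∈ rels K n :=
    Or.inr ⟨⟨(i, j), hij⟩, ⟨(j, l), hjl⟩, hil, t, u, rfl, rfl⟩
  have h1 := PresentedGroup.one_of_mem hmem
  rw [map_mul, map_mul, map_mul, map_mul, map_inv, map_inv, map_inv, mul_inv_eq_one] at h1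
  exact h1

theorem closure_xx :
    Subgroup.closure {g : St K n | ∃ (i j : Fin n) (t : K), i ≠ j ∧ g = xx i j t} = ⊤ := by
  rw [eq_top_iff, ← PresentedGroup.closure_range_of (rels K n)]
  apply Subgroup.closure_mono
  rintro _ ⟨⟨a, t⟩, rfl⟩
  exact ⟨a.1.1, a.1.2, t, a.2, (basic_xx_of a.2 t).symm ▸ rfl⟩

theorem std_xx (φ : St K n →* SpecialLinearGroup (Fin n) K) (hφ : IsStd φ) {i j : Fin n} (hij : i ≠ j)
    (t : K) : (φ (xx i j t)).1 = Matrix.transvection i j t := by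
  rw [basic_xx_of hij]
  exact hφ ⟨(i, j), hij⟩ t

end Cfsg.Agent.Lib.Helper41.Stn
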