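import Cfsg.Agent.Lib.Helper21.Lq.Defs
import Cfsg.Agent.Lib.Helper13.SpParabolic

set_option autoImplicit false

/-!
# Lq hive (helper21, S2333), leaf C-FIXT: `Sp` is transitive on ordered independent pairs of points of a
totally isotropic plane (Witt), phrased for the root subgroups (helper80).
-/

namespace Cfsg.Agent.Lib.Helper21.Lq

open Module Cfsg.Agent.Lib.Helper6.Ls Cfsg.Agent.Lib.Helper13

section concrete

variable {F : Type*} [Field F] [Fintype F]

/-- `g t_{e,c} g⁻¹ = t_{g e, c}` -/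
theorem cfixt_conj_transv {m : ℕ} (g : Spg F m) (e : Vec F m) (c : F) :
    g * sympTransvElt m e c * g⁻¹ =
      sympTransvElt m (Matrix.mulVec (g : Matrix (Fin m ⊕ Fin m) (Fin m ⊕ Fin m) F) e) c := by
  rw [mul_inv_eq_iff_eq_mul]
  apply Subtype.ext
  apply Matrix.toLin'.injective
  apply LinearMap.ext
  intro x
  show Matrix.mulVec ((g : Matrix (Fin m ⊕ Fin m) (Fin m ⊕ Fin m) F) * Cfsg.sympTransvection m e c) x =
    Matrix.mulVec (Cfsg.sympTransvection m (Matrix.mulVec (g : Matrix (Fin m ⊕ Fin m) (Fin m ⊕ Fin m) F) e) c *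
      (g : Matrix (Fin m ⊕ Fin m) (Fin m ⊕ Fin m) F)) x
  rw [← Matrix.mulVec_mulVec, ← Matrix.mulVec_mulVec, sympTransvection_mulVec, sympTransvection_mulVec,
    preserves_of_mem_symplectic m _ g.2, Matrix.mulVec_add, Matrix.mulVec_smul]

/-- conjugation by `g` maps the root set of `e` onto that of `g e`. -/
theorem cfixt_image_rootSet {m : ℕ} (g : Spg F m) (e : Vec F m) :
    (MulAut.conj g).toMonoidHom '' (rootSet e : Set (Spg F m)) =
      rootSet (Matrix.mulVec (g : Matrix (Fin m ⊕ Fin m) (Fin m ⊕ Fin m) F) e) := by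
  ext z
  constructor
  · rintro ⟨y, ⟨c, rfl⟩, rfl⟩
    exact ⟨c, cfixt_conj_transv g e c⟩
  · rintro ⟨c, rfl⟩
    exact ⟨sympTransvElt m e c, ⟨c, rfl⟩, cfixt_conj_transv g e c⟩

/-- conjugation by `g` maps `Z_e` onto `Z_{g e}`. -/
theorem cfixt_map_Zgrp {m : ℕ} (g : Spg F m) (e : Vec F m) :
    (Zgrp e).map (MulAut.conj g).toMonoidHom =
      Zgrp (Matrix.mulVec (g : Matrix (Fin m ⊕ Fin m) (Fin m ⊕ Fin m) F) e) := by
  unfold Zgrp
  rw [MonoidHom.map_closure, cfixt_image_rootSet]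

/-- the plane is totally isotropic. -/
theorem cfixt_isotropic {m : ℕ} (e1 e2 e3 : Vec F m) (h12 : Cfsg.sympForm m F e1 e2 = 0)
    (h13 : Cfsg.sympForm m F e1 e3 = 0) (h23 : Cfsg.sympForm m F e2 e3 = 0) (a b c a' b' c' : F) :
    Cfsg.sympForm m F (a • e1 + b • e2 + c • e3) (a' • e1 + b' • e2 + c' • e3) = 0 := by
  have h21 : Cfsg.sympForm m F e2 e1 = 0 := by rw [sympForm_swap, h12, neg_zero]
  have h31 : Cfsg.sympForm m F e3 e1 = 0 := by rw [sympForm_swap, h13, neg_zero]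
  have h32 : Cfsg.sympForm m F e3 e2 = 0 := by rw [sympForm_swap, h23, neg_zero]
  simp only [sympForm_add_left, sympForm_add_right, sympForm_smul_left, sympForm_smul_right,
    sympForm_self, h12, h13, h23, h21, h31, h32, mul_zero, add_zero]

/-- C-FIXT -/
theorem exists_conj_plane {m : ℕ} (e1 e2 e3 : Vec F m) (h12 : Cfsg.sympForm m F e1 e2 = 0)
    (h13 : Cfsg.sympForm m F e1 e3 = 0) (h23 : Cfsg.sympForm m F e2 e3 = 0)
    (hli : LinearIndependent F ![e1, e2, e3]) (v v' : PlanePt F) (hvv' : Indep v v') :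
    ∃ g : Spg F m,
      (Zgrp e1).map (MulAut.conj g).toMonoidHom = Zgrp (v.1.1 • e1 + v.1.2.1 • e2 + v.1.2.2 • e3) ∧
      (Zgrp e2).map (MulAut.conj g).toMonoidHom = Zgrp (v'.1.1 • e1 + v'.1.2.1 • e2 + v'.1.2.2 • e3) := by
  have hx : LinearIndependent F ![e1, e2] := by
    have h := hli.comp (Fin.castSucc : Fin 2 → Fin 3) (Fin.castSucc_injective 2)
    have he : (![e1, e2, e3] ∘ (Fin.castSucc : Fin 2 → Fin 3)) = ![e1, e2] := by
      funext i
      fin_cases i <;> rfl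
    rwa [he] at h
  have hy : LinearIndependent F ![v.1.1 • e1 + v.1.2.1 • e2 + v.1.2.2 • e3,
      v'.1.1 • e1 + v'.1.2.1 • e2 + v'.1.2.2 • e3] := by
    rw [LinearIndependent.pair_iff]
    intro s t hst
    have h3 := Fintype.linearIndependent_iff.mp hli
      ![s * v.1.1 + t * v'.1.1, s * v.1.2.1 + t * v'.1.2.1, s * v.1.2.2 + t * v'.1.2.2] (by
        rw [Fin.sum_univ_three]
        simp only [Matrix.cons_val_zero, Matrix.cons_val_one, Matrix.cons_val_two, Matrix.head_cons,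
          Matrix.tail_cons]
        rw [← hst]
        simp only [smul_add, smul_smul, add_smul]
        abel)
    have ha := h3 0
    have hb := h3 1
    have hc := h3 2
    simp only [Matrix.cons_val_zero, Matrix.cons_val_one, Matrix.cons_val_two, Matrix.head_cons,
      Matrix.tail_cons] at ha hb hc
    apply hvv' s t
    ext
    · simpa using ha
    · simpa using hb
    · simpa using hc
  obtain ⟨Q, hQ⟩ := exists_sp_frame m 2 ![e1, e2]
    ![v.1.1 • e1 + v.1.2.1 • e2 + v.1.2.2 • e3, v'.1.1 • e1 + v'.1.2.1 • e2 + v'.1.2.2 • e3] hx hy (by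
      have h21 : Cfsg.sympForm m F e2 e1 = 0 := by rw [sympForm_swap, h12, neg_zero]
      intro i j
      fin_cases i <;> fin_cases j <;>
        simp [cfixt_isotropic e1 e2 e3 h12 h13 h23, sympForm_self, h12, h21])
  have h0 : Matrix.mulVec (Q : Matrix (Fin m ⊕ Fin m) (Fin m ⊕ Fin m) F) e1 =
      v.1.1 • e1 + v.1.2.1 • e2 + v.1.2.2 • e3 := hQ 0
  have h1 : Matrix.mulVec (Q : Matrix (Fin m ⊕ Fin m) (Fin m ⊕ Fin m) F) e2 =
      v'.1.1 • e1 + v'.1.2.1 • e2 + v'.1.2.2 • e3 := hQ 1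
  refine ⟨Q, ?_, ?_⟩
  · rw [cfixt_map_Zgrp, h0]
  · rw [cfixt_map_Zgrp, h1]

end concrete

end Cfsg.Agent.Lib.Helper21.Lq
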