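import Mathlib
import Cfsg.Agent.Lib.Helper21.S11Defs

/-! # S11 mini-hive (S3911, helper21), leaf S11-EX: a minimal supplement exists. -/

set_option autoImplicit false

namespace Cfsg.Agent.Lib.Helper21.S11

variable {G : Type*} [Group G] [Finite G]

/-- S11-EX. A minimal supplement exists. -/
theorem exists_isMinSupp (M : Subgroup G) [M.Normal] (Ab : Subgroup (G ⧸ M)) :
    ∃ X : Subgroup G, IsMinSupp M Ab X := by
  classical
  have hne : ({Y : Subgroup G | Y.map (QuotientGroup.mk' M) = Ab}).Nonempty :=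
    ⟨Ab.comap (QuotientGroup.mk' M),
      Subgroup.map_comap_eq_self_of_surjective (QuotientGroup.mk'_surjective M) Ab⟩
  obtain ⟨X, hX⟩ := (Set.toFinite {Y : Subgroup G | Y.map (QuotientGroup.mk' M) = Ab}).exists_minimal hne
  refine ⟨X, hX.prop, ?_⟩
  intro Y hYX hY
  exact le_antisymm hYX (hX.le_of_le hY hYX)

end Cfsg.Agent.Lib.Helper21.S11
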