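import Mathlib
import Cfsg.Agent.Lib.Helper31.GenRank
import Cfsg.Agent.Lib.Helper22.KbDefs2

/-!
# Kb hive (S1299, owner helper22): leaf KB-GEN `kb_gen_over` (helper80).
Coprime generation over the hyperplanes of `A` containing `D`, from `Helper31.gen_rank`.
-/

set_option autoImplicit false

namespace Cfsg.Agent.Lib.Helper22.Kb

open Subgroup Cfsg
open scoped commutatorElement

variable {G : Type*} [Group G]

variable {p k : ℕ} {A : Subgroup G}

theorem kb_gen_over [Finite G] [Fact p.Prime] (hA : Cfsg.IsElementaryAbelian p A) {X D : Subgroup G}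
    (hAX : A ≤ normalizer (X : Set G)) (hX : ¬ p ∣ Nat.card X) (hDA : D ≤ A) (hDne : D ≠ A)
    (hDX : X ≤ centralizer (D : Set G)) :
    X ≤ ⨆ F ∈ {F : Subgroup G | D ≤ F ∧ F ≤ A ∧ p * Nat.card F = Nat.card A},
      X ⊓ centralizer (F : Set G) := by
  classical
  have hp : p.Prime := Fact.out
  obtain ⟨hAc, hAp⟩ := hA
  have hAc' : ∀ x ∈ A, ∀ y ∈ A, x * y = y * x := by
    intro x hx y hy
    have := hAc.is_comm.comm (⟨x, hx⟩ : A) ⟨y, hy⟩
    exact congrArg Subtype.val this
  have hAP : IsPGroup p A := by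
    intro a
    refine ⟨1, ?_⟩
    apply Subtype.ext
    simpa using hAp a a.2
  obtain ⟨n, hn⟩ := hAP.exists_card_eq
  -- cardinalities of subgroups of `A`
  have hcardsub : ∀ B : Subgroup G, B ≤ A → ∃ i, i ≤ n ∧ Nat.card B = p ^ i := by
    intro B hB
    have hdvd : Nat.card B ∣ p ^ n := by rw [← hn]; exact Subgroup.card_dvd_of_le hB
    obtain ⟨i, hi, hBi⟩ := (Nat.dvd_prime_pow hp).mp hdvd
    exact ⟨i, hi, hBi⟩
  -- `D` is a proper subgroup
  obtain ⟨m, hmn, hm⟩ := hcardsub D hDA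
  have hmlt : m < n := by
    rcases Nat.lt_or_ge m n with h | h
    · exact h
    · exfalso
      apply hDne
      apply Subgroup.eq_of_le_of_card_ge hDA
      rw [hn, hm]
      exact Nat.pow_le_pow_right hp.pos h
  have hn1 : 1 ≤ n := by omega
  -- a hyperplane `F₀` over `D`
  have hex : ∃ F₀ : Subgroup G, D ≤ F₀ ∧ F₀ ≤ A ∧ p * Nat.card F₀ = Nat.card A := by
    have hcardD : Nat.card (D.subgroupOf A) = p ^ m := by
      rw [← hm]
      exact Nat.card_congr (Subgroup.subgroupOfEquivOfLe hDA).toEquiv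
    obtain ⟨K, hK, hDK⟩ := Sylow.exists_subgroup_card_pow_prime_le p (G := A) (m := n - 1)
      (by rw [hn]; exact pow_dvd_pow p (Nat.sub_le n 1)) (D.subgroupOf A) hcardD (by omega)
    refine ⟨K.map A.subtype, ?_, ?_, ?_⟩
    · intro d hd
      exact ⟨⟨d, hDA hd⟩, hDK (by simpa [Subgroup.mem_subgroupOf] using hd), rfl⟩
    · rintro _ ⟨x, -, rfl⟩
      exact x.2
    · have : Nat.card (K.map A.subtype) = Nat.card K :=
        Nat.card_congr (K.equivMapOfInjective A.subtype A.subtype_injective).toEquiv.symm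
      rw [this, hK, hn, ← pow_succ', Nat.sub_add_cancel hn1]
  obtain ⟨F₀, hDF₀, hF₀A, hF₀c⟩ := hex
  have hgen := Cfsg.Agent.Lib.Helper31.gen_rank (E := A) (Y := X) hAc' hAp hAX hX (n - 1)
    (by rw [Nat.sub_add_cancel hn1, hn])
  refine hgen.trans (iSup_le ?_)
  rintro ⟨D', hD'A, hD'c⟩
  have h1 : X ⊓ centralizer ((D' : Subgroup G) : Set G) ≤
      X ⊓ centralizer ((D' ⊔ D : Subgroup G) : Set G) := by
    intro x hx
    refine mem_inf.mpr ⟨hx.1, ?_⟩
    have hle : D' ⊔ D ≤ centralizer ({x} : Set G) := by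
      refine sup_le ?_ ?_
      · intro d hd
        rw [mem_centralizer_iff]
        intro y hy
        rw [Set.mem_singleton_iff] at hy
        subst hy
        exact ((mem_centralizer_iff.mp hx.2) d hd).symm
      · intro d hd
        rw [mem_centralizer_iff]
        intro y hy
        rw [Set.mem_singleton_iff] at hy
        subst hy
        exact ((mem_centralizer_iff.mp (hDX hx.1)) d hd).symm
    rw [mem_centralizer_iff]
    intro h hh
    exact ((mem_centralizer_iff.mp (hle hh)) x rfl).symm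
  have hsupA : D' ⊔ D ≤ A := sup_le hD'A hDA
  obtain ⟨i, hin, hi⟩ := hcardsub (D' ⊔ D) hsupA
  have hige : n - 1 ≤ i := by
    have h2 : p ^ (n - 1) ≤ p ^ i := by
      rw [← hi]
      exact le_trans hD'c (Subgroup.card_le_of_le le_sup_left)
    exact (Nat.pow_le_pow_iff_right hp.one_lt).mp h2
  rcases Nat.lt_or_ge i n with hlt | hge
  · -- `D' ⊔ D` is a hyperplane over `D`
    have hi' : i = n - 1 := by omega
    refine le_trans h1 (le_iSup₂_of_le (D' ⊔ D) ⟨le_sup_right, hsupA, ?_⟩ le_rfl)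
    rw [hi, hn, hi', ← pow_succ', Nat.sub_add_cancel hn1]
  · -- `D' ⊔ D = A`
    have hi' : i = n := by omega
    have hEq : D' ⊔ D = A := by
      apply Subgroup.eq_of_le_of_card_ge hsupA
      rw [hn, hi, hi']
    refine le_trans h1 (le_iSup₂_of_le F₀ ⟨hDF₀, hF₀A, hF₀c⟩ ?_)
    rw [hEq]
    exact inf_le_inf_left X (Subgroup.centralizer_le (by exact_mod_cast hF₀A))

end Cfsg.Agent.Lib.Helper22.Kb
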