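import Mathlib
import Cfsg.Agent.S3072
import Cfsg.Agent.Lib.Helper22.LbA1E

/-! # Lb hive (S1301, owner helper22): leaf LB-A1 `exists_witness_of_not_isolated`,
reduction to `lba1e_witness` (helper22) through Alperin-Goldschmidt (`Cfsg.Agent.S3072.result`). -/

set_option autoImplicit false

namespace Cfsg.Agent.Lib.Helper22.Lb

open Subgroup Cfsg
open scoped commutatorElement

theorem exists_witness_of_not_isolated {H : Type*} [Group H] [Finite H] (K : Subgroup H)
    [K.Normal] (u : H) (hu : orderOf u = 2) (hKu : K ⊔ zpowers u = ⊤)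
    (R : Subgroup H) (hRK : R ≤ K)
    (hRsyl : ∃ S : Sylow 2 ↥K, (S : Subgroup ↥K).map K.subtype = R)
    (huR : u ∈ centralizer (R : Set H))
    (hni : ∃ g : H, g * u * g⁻¹ ∈ R ⊔ zpowers u ∧ g * u * g⁻¹ ≠ u) :
    ∃ D : Subgroup H, D ≤ R ∧ ∃ k ∈ K, k ∈ normalizer (D : Set H) ∧
      k⁻¹ * u * k * u⁻¹ ∈ D ∧ k⁻¹ * u * k * u⁻¹ ∈ centralizer (D : Set H) ∧
      k⁻¹ * u * k * u⁻¹ ≠ 1 ∧
      ∀ x ∈ K, x ∈ centralizer (D : Set H) → (∃ n : ℕ, x ^ 2 ^ n = 1) → x ∈ D := by
  classical
  have : Fact (Nat.Prime 2) := ⟨Nat.prime_two⟩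
  -- the 2-group `R ⊔ zpowers u` and a Sylow 2-subgroup `P` containing it
  have hR2 : IsPGroup 2 R := by
    obtain ⟨S, rfl⟩ := hRsyl
    exact S.2.map _
  have hu2 : IsPGroup 2 (zpowers u) := by
    apply IsPGroup.of_card (n := 1)
    rw [Nat.card_zpowers, hu, pow_one]
  have huN : zpowers u ≤ normalizer (R : Set H) := by
    rw [zpowers_le]
    exact Subgroup.centralizer_le_normalizer _ huR
  have hRu2 : IsPGroup 2 (zpowers u ⊔ R : Subgroup H) := hu2.to_sup_of_normal_right' hR2 huN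
  obtain ⟨P, hP⟩ := hRu2.exists_le_sylow
  have hRP : R ≤ (P : Subgroup H) := le_trans le_sup_right hP
  have huP : u ∈ (P : Subgroup H) := hP (mem_sup_left (mem_zpowers u))
  obtain ⟨g, hgP, hgu⟩ := hni
  have hgP' : g * u * g⁻¹ ∈ (P : Subgroup H) := by
    rw [sup_comm] at hgP
    exact hP hgP
  have hu1 : u ≠ 1 := by
    intro h
    rw [h, orderOf_one] at hu
    norm_num at hu
  -- Alperin-Goldschmidt
  obtain ⟨n, Hs, Xs, xs, c, y, hc, hy, hg, hall⟩ :=
    Cfsg.Agent.S3072.result P ({u} : Set H)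
      (by
        intro a ha
        rw [Set.mem_singleton_iff] at ha
        subst ha
        exact huP) ⟨u, rfl, hu1⟩ g⁻¹
      (by
        rintro _ ⟨a, ha, rfl⟩
        rw [Set.mem_singleton_iff] at ha
        subst ha
        show g⁻¹⁻¹ * a * g⁻¹ ∈ (P : Subgroup H)
        rw [inv_inv]
        exact hgP')
  by_contra hno
  -- the chain of conjugates stays at `u`
  have hchain : ∀ i : ℕ, i ≤ n →
      ((List.ofFn xs).take i).prod⁻¹ * u * ((List.ofFn xs).take i).prod = u := by
    intro i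
    induction i with
    | zero => intro _; simp
    | succ i ih =>
      intro hi
      have hi' : i < n := hi
      have hbi := ih hi'.le
      obtain ⟨hHP, hsyl, hcen, -, -, ⟨-, hXN, -, -, -⟩, hxX, himg⟩ := hall ⟨i, hi'⟩
      have huH : u ∈ Hs ⟨i, hi'⟩ := by
        have := himg ⟨u, rfl, rfl⟩
        simp only at this
        rw [hbi] at this
        exact this
      have hxN : xs ⟨i, hi'⟩ ∈ normalizer ((Hs ⟨i, hi'⟩ : Subgroup H) : Set H) := by
        obtain ⟨z, -, hz⟩ := hxX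
        rw [← hz]
        exact hXN z.2
      have hlen : i < (List.ofFn xs).length := by simpa using hi'
      rw [List.prod_take_succ _ _ hlen, List.getElem_ofFn]
      by_contra hne
      apply hno
      refine lba1e_witness K u hu hKu R hRK hRsyl huR P hRP huP (Hs ⟨i, hi'⟩) hHP huH hcen hsyl
        (xs ⟨i, hi'⟩) hxN ?_
      intro h
      apply hne
      calc (((List.ofFn xs).take i).prod * xs ⟨i, hi'⟩)⁻¹ * u *
            (((List.ofFn xs).take i).prod * xs ⟨i, hi'⟩)
          = (xs ⟨i, hi'⟩)⁻¹ * (((List.ofFn xs).take i).prod⁻¹ * u *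
              ((List.ofFn xs).take i).prod) * xs ⟨i, hi'⟩ := by group
        _ = u := by rw [hbi, h]
  have hT := hchain n le_rfl
  have htake : (List.ofFn xs).take n = List.ofFn xs := by
    apply List.take_of_length_le
    simp
  rw [htake] at hT
  -- so `g u g⁻¹ = y⁻¹ u y` with `y ∈ N(P)`
  have hcu : c⁻¹ * u * c = u := by
    have := (Subgroup.mem_centralizer_iff.mp hc) u rfl
    rw [mul_assoc, this]
    group
  have hgy : g * u * g⁻¹ = y⁻¹ * u * y := by
    have hg' : g = (c * (List.ofFn xs).prod * y)⁻¹ := by rw [← hg, inv_inv]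
    rw [hg']
    calc (c * (List.ofFn xs).prod * y)⁻¹ * u * (c * (List.ofFn xs).prod * y)⁻¹⁻¹
        = y⁻¹ * ((List.ofFn xs).prod⁻¹ * (c⁻¹ * u * c) * (List.ofFn xs).prod) * y := by group
      _ = y⁻¹ * u * y := by rw [hcu, hT]
  apply hno
  refine lba1e_witness K u hu hKu R hRK hRsyl huR P hRP huP (P : Subgroup H) le_rfl huP
    inf_le_left ?_ y hy ?_
  · rw [inf_eq_left.mpr Subgroup.le_normalizer]
    intro hdvd
    exact P.not_dvd_index (dvd_trans hdvd (Subgroup.relIndex_dvd_index_of_le Subgroup.le_normalizer))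
  · rw [← hgy]
    exact hgu

end Cfsg.Agent.Lib.Helper22.Lb
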