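import Mathlib
import Cfsg.Agent.Lib.Helper14.P4Defs

/-! # S6000 hive, leaf P4-O7 (exists_bad_large) -/

set_option autoImplicit false
set_option linter.unusedSectionVars false

namespace Cfsg.Agent.Lib.Helper14.P4

open Matrix

variable {F : Type*} [Field F] [Fintype F]

/-- a conjugate of a scalar matrix is the same scalar matrix -/
theorem o7_scalar_of_conj (x g : GL (Fin 4) F) (c : F)
    (h : ((g⁻¹ * x * g : GL (Fin 4) F) : Matrix (Fin 4) (Fin 4) F) = c • 1) :
    (x : Matrix (Fin 4) (Fin 4) F) = c • 1 := by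
  have e : x = g * (g⁻¹ * x * g) * g⁻¹ := by group
  rw [e]
  simp only [Matrix.GeneralLinearGroup.coe_mul] at h ⊢
  rw [h]
  rw [Matrix.mul_smul, Matrix.smul_mul, Matrix.mul_one, ← Matrix.GeneralLinearGroup.coe_mul,
    mul_inv_cancel]
  rfl

/-- P4-O7. -/
theorem exists_bad_large (N : Subgroup (GL (Fin 4) F))
    (r : ℕ) (hr : r.Prime) (hr5 : 5 ≤ r)
    (hN : ∀ y ∈ N, y ^ r = 1 → ∃ c : F, (y : Matrix (Fin 4) (Fin 4) F) = c • 1)
    (hdvd : r ∣ Nat.card (Matrix.GeneralLinearGroup.det : GL (Fin 4) F →* Fˣ).ker) :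
    ∃ x : GL (Fin 4) F, Matrix.GeneralLinearGroup.det x = 1 ∧ x ^ r = 1 ∧
      (∀ z : F, (x : Matrix (Fin 4) (Fin 4) F) ≠ z • 1) ∧
      ∀ g : GL (Fin 4) F, g⁻¹ * x * g ∉ N := by
  classical
  have : Fact r.Prime := ⟨hr⟩
  obtain ⟨x', hx'⟩ := exists_prime_orderOf_dvd_card' r hdvd
  have hdet : Matrix.GeneralLinearGroup.det (x' : GL (Fin 4) F) = 1 := MonoidHom.mem_ker.mp x'.2
  have hpow : (x' : GL (Fin 4) F) ^ r = 1 := by
    have h1 : x' ^ r = 1 := by rw [← hx']; exact pow_orderOf_eq_one x'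
    have := congrArg Subtype.val h1
    simpa using this
  have hne : (x' : GL (Fin 4) F) ≠ 1 := by
    intro h
    have h1 : x' = 1 := Subtype.ext h
    rw [h1, orderOf_one] at hx'
    exact hr.one_lt.ne hx'
  have hns : ∀ z : F, ((x' : GL (Fin 4) F) : Matrix (Fin 4) (Fin 4) F) ≠ z • 1 := by
    intro z hz
    have h4 : z ^ 4 = 1 := by
      have h1 := congrArg Units.val hdet
      rw [Matrix.GeneralLinearGroup.val_det_apply, hz, Matrix.det_smul, Matrix.det_one] at h1
      simpa using h1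
    have hrz : z ^ r = 1 := by
      have h1 := congrArg (fun y : GL (Fin 4) F => (y : Matrix (Fin 4) (Fin 4) F) 0 0) hpow
      simp only [Units.val_pow_eq_pow_val, hz] at h1
      rw [smul_pow, one_pow] at h1
      simpa using h1
    have hcop : Nat.gcd r 4 = 1 := by
      have : Nat.Coprime r 4 := (Nat.Prime.coprime_iff_not_dvd hr).mpr (fun h => by
        have := Nat.le_of_dvd (by norm_num) h
        omega)
      exact this
    have hz1 : z = 1 := by
      have := pow_gcd_eq_one.mpr ⟨hrz, h4⟩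
      rwa [hcop, pow_one] at this
    apply hne
    apply Matrix.GeneralLinearGroup.ext
    intro i j
    rw [hz, hz1, one_smul]
    rfl
  refine ⟨x', hdet, hpow, hns, ?_⟩
  intro g hg
  have h1 : (g⁻¹ * (x' : GL (Fin 4) F) * g) ^ r = 1 := by
    have e : g⁻¹ * (x' : GL (Fin 4) F) * g = g⁻¹ * (x' : GL (Fin 4) F) * g⁻¹⁻¹ := by rw [inv_inv]
    rw [e, conj_pow, hpow]
    group
  obtain ⟨c, hc⟩ := hN _ hg h1
  exact hns c (o7_scalar_of_conj _ g c hc)

end Cfsg.Agent.Lib.Helper14.P4
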