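import Mathlib
import Cfsg.Agent.Lib.Helper14.P4Defs
import Cfsg.Agent.Lib.Helper80.P4O7

/-! # S6000 hive, leaf P4-O3 (exists_bad_three) -/

set_option autoImplicit false
set_option linter.unusedSectionVars false

namespace Cfsg.Agent.Lib.Helper14.P4

open Matrix

variable {F : Type*} [Field F] [Fintype F]

/-- the trace test: an element whose `tr x * tr x⁻¹` is none of `0, 1, 2, 4, 8` and which is not scalar has no
conjugate in `N`. -/
theorem o3_bad_of_trace (N : Subgroup (GL (Fin 4) F))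
    (hN : ∀ y ∈ N,
      Matrix.trace (y : Matrix (Fin 4) (Fin 4) F) *
          Matrix.trace ((y⁻¹ : GL (Fin 4) F) : Matrix (Fin 4) (Fin 4) F) = 0 ∨
        Matrix.trace (y : Matrix (Fin 4) (Fin 4) F) *
          Matrix.trace ((y⁻¹ : GL (Fin 4) F) : Matrix (Fin 4) (Fin 4) F) = 1 ∨
        Matrix.trace (y : Matrix (Fin 4) (Fin 4) F) *
          Matrix.trace ((y⁻¹ : GL (Fin 4) F) : Matrix (Fin 4) (Fin 4) F) = 2 ∨
        Matrix.trace (y : Matrix (Fin 4) (Fin 4) F) *
          Matrix.trace ((y⁻¹ : GL (Fin 4) F) : Matrix (Fin 4) (Fin 4) F) = 4 ∨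
        Matrix.trace (y : Matrix (Fin 4) (Fin 4) F) *
          Matrix.trace ((y⁻¹ : GL (Fin 4) F) : Matrix (Fin 4) (Fin 4) F) = 8 ∨
        ∃ c : F, (y : Matrix (Fin 4) (Fin 4) F) = c • 1)
    (x : GL (Fin 4) F) (t : F)
    (ht : Matrix.trace (x : Matrix (Fin 4) (Fin 4) F) *
      Matrix.trace ((x⁻¹ : GL (Fin 4) F) : Matrix (Fin 4) (Fin 4) F) = t)
    (h0 : t ≠ 0) (h1 : t ≠ 1) (h2 : t ≠ 2) (h4 : t ≠ 4) (h8 : t ≠ 8)
    (hns : ∀ z : F, (x : Matrix (Fin 4) (Fin 4) F) ≠ z • 1) :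
    ∀ g : GL (Fin 4) F, g⁻¹ * x * g ∉ N := by
  intro g hg
  have e1 : Matrix.trace ((g⁻¹ * x * g : GL (Fin 4) F) : Matrix (Fin 4) (Fin 4) F) =
      Matrix.trace (x : Matrix (Fin 4) (Fin 4) F) := by
    have := Matrix.trace_units_conj' g (x : Matrix (Fin 4) (Fin 4) F)
    simpa using this
  have e2 : Matrix.trace (((g⁻¹ * x * g)⁻¹ : GL (Fin 4) F) : Matrix (Fin 4) (Fin 4) F) =
      Matrix.trace ((x⁻¹ : GL (Fin 4) F) : Matrix (Fin 4) (Fin 4) F) := by
    have e : (g⁻¹ * x * g)⁻¹ = g⁻¹ * x⁻¹ * g := by group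
    rw [e]
    have := Matrix.trace_units_conj' g ((x⁻¹ : GL (Fin 4) F) : Matrix (Fin 4) (Fin 4) F)
    simpa using this
  have h := hN _ hg
  rw [e1, e2, ht] at h
  rcases h with h | h | h | h | h | ⟨c, hc⟩
  · exact h0 h
  · exact h1 h
  · exact h2 h
  · exact h4 h
  · exact h8 h
  · exact hns c (o7_scalar_of_conj x g c hc)

/-- P4-O3. -/
theorem exists_bad_three (h2 : (2 : F) ≠ 0) (h3 : (3 : F) ≠ 0) (h5 : (5 : F) ≠ 0) (h7 : (7 : F) ≠ 0)
    (ω : F) (hω : ω * ω + ω + 1 = 0) (N : Subgroup (GL (Fin 4) F))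
    (hN : ∀ y ∈ N,
      Matrix.trace (y : Matrix (Fin 4) (Fin 4) F) *
          Matrix.trace ((y⁻¹ : GL (Fin 4) F) : Matrix (Fin 4) (Fin 4) F) = 0 ∨
        Matrix.trace (y : Matrix (Fin 4) (Fin 4) F) *
          Matrix.trace ((y⁻¹ : GL (Fin 4) F) : Matrix (Fin 4) (Fin 4) F) = 1 ∨
        Matrix.trace (y : Matrix (Fin 4) (Fin 4) F) *
          Matrix.trace ((y⁻¹ : GL (Fin 4) F) : Matrix (Fin 4) (Fin 4) F) = 2 ∨
        Matrix.trace (y : Matrix (Fin 4) (Fin 4) F) *
          Matrix.trace ((y⁻¹ : GL (Fin 4) F) : Matrix (Fin 4) (Fin 4) F) = 4 ∨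
        Matrix.trace (y : Matrix (Fin 4) (Fin 4) F) *
          Matrix.trace ((y⁻¹ : GL (Fin 4) F) : Matrix (Fin 4) (Fin 4) F) = 8 ∨
        ∃ c : F, (y : Matrix (Fin 4) (Fin 4) F) = c • 1) :
    ∃ x : GL (Fin 4) F, Matrix.GeneralLinearGroup.det x = 1 ∧ x ^ 3 = 1 ∧
      (∀ z : F, (x : Matrix (Fin 4) (Fin 4) F) ≠ z • 1) ∧
      ∀ g : GL (Fin 4) F, g⁻¹ * x * g ∉ N := by
  have hω3 : ω * ω * ω = 1 := by linear_combination (ω - 1) * hω
  have hAB : (Matrix.diagonal ![1, ω * ω, ω * ω, ω * ω] : Matrix (Fin 4) (Fin 4) F) *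
      Matrix.diagonal ![1, ω, ω, ω] = 1 := by
    rw [Matrix.diagonal_mul_diagonal, ← Matrix.diagonal_one]
    congr 1
    funext i
    fin_cases i <;> simp [hω3]
  have hBA : (Matrix.diagonal ![1, ω, ω, ω] : Matrix (Fin 4) (Fin 4) F) *
      Matrix.diagonal ![1, ω * ω, ω * ω, ω * ω] = 1 := by
    rw [Matrix.diagonal_mul_diagonal, ← Matrix.diagonal_one]
    congr 1
    funext i
    fin_cases i <;> simp [← mul_assoc, hω3]
  set x : GL (Fin 4) F := ⟨Matrix.diagonal ![1, ω * ω, ω * ω, ω * ω], Matrix.diagonal ![1, ω, ω, ω],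
    hAB, hBA⟩ with hx
  have hxc : (x : Matrix (Fin 4) (Fin 4) F) = Matrix.diagonal ![1, ω * ω, ω * ω, ω * ω] := rfl
  have hxi : ((x⁻¹ : GL (Fin 4) F) : Matrix (Fin 4) (Fin 4) F) = Matrix.diagonal ![1, ω, ω, ω] := rfl
  have hns : ∀ z : F, (x : Matrix (Fin 4) (Fin 4) F) ≠ z • 1 := by
    intro z hz
    have e0 := congrFun (congrFun hz 0) 0
    have e1 := congrFun (congrFun hz 1) 1
    rw [hxc] at e0 e1
    simp at e0 e1
    -- e0 : 1 = z, e1 : ω * ω = z
    have h1 : ω * ω = 1 := by rw [e1, ← e0]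
    have h2' : ω = 1 := by
      have := hω3
      rw [h1, one_mul] at this
      exact this
    rw [h2'] at hω
    apply h3
    linear_combination hω
  refine ⟨x, ?_, ?_, hns, ?_⟩
  · apply Units.ext
    rw [Matrix.GeneralLinearGroup.val_det_apply, hxc, Matrix.det_diagonal, Fin.prod_univ_four]
    simp
    linear_combination (ω * ω * ω + 1) * hω3
  · apply Units.ext
    rw [Units.val_pow_eq_pow_val, hxc, Matrix.diagonal_pow, Units.val_one, ← Matrix.diagonal_one]
    congr 1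
    funext i
    fin_cases i
    · simp
    · simp; linear_combination (ω * ω * ω + 1) * hω3
    · simp; linear_combination (ω * ω * ω + 1) * hω3
    · simp; linear_combination (ω * ω * ω + 1) * hω3
  · apply o3_bad_of_trace N hN x 7
    · rw [hxc, hxi, Matrix.trace_diagonal, Matrix.trace_diagonal, Fin.sum_univ_four,
        Fin.sum_univ_four]
      simp
      linear_combination (9 : F) * hω3 + 3 * hω
    · exact h7
    · intro h
      apply h2
      have : (2 : F) * 3 = 0 := by linear_combination h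
      rcases mul_eq_zero.mp this with h | h
      · exact h
      · exact absurd h h3
    · intro h
      apply h5
      linear_combination h
    · intro h
      apply h3
      linear_combination h
    · intro h
      have : (1 : F) = 0 := by linear_combination -h
      exact one_ne_zero this
    · exact hns

end Cfsg.Agent.Lib.Helper14.P4
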