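import Mathlib
import Cfsg.Agent.Lib.Helper29.PGroupNormal

set_option autoImplicit false

/-!
# Abelian subgroups of order 8 in a group with a self-centralizing normal `Q₈`/`D₈`

If `H ⊴ S` is nonabelian of order `8` (centre of order `2`) with `C_S(H) ≤ H`, then every abelian
subgroup of order `8` of `S` is cyclic.
-/

namespace Cfsg.Agent.Lib.Helper80.SmallTwoQ8D8

variable {S : Type*} [Group S]

/-- index-two membership: `K ≤ L`, `|L| = 2|K|`, `a, b ∈ L ∖ K` implies `a⁻¹ b ∈ K` -/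
theorem inv_mul_mem_of_card [Finite S] {K L : Subgroup S} (hKL : K ≤ L)
    (hcard : Nat.card L = 2 * Nat.card K) {a b : S} (ha : a ∈ L) (hb : b ∈ L) (ha' : a ∉ K)
    (hb' : b ∉ K) : a⁻¹ * b ∈ K := by
  have h1 : Nat.card (K.subgroupOf L) = Nat.card K :=
    Nat.card_congr (Subgroup.subgroupOfEquivOfLe hKL).toEquiv
  have h2 := Subgroup.card_mul_index (K.subgroupOf L)
  rw [h1, hcard] at h2
  have hKpos : 0 < Nat.card K := Nat.card_pos
  have hidx : (K.subgroupOf L).index = 2 := by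
    have : Nat.card K * (K.subgroupOf L).index = Nat.card K * 2 := by rw [h2]; ring
    exact Nat.eq_of_mul_eq_mul_left hKpos this
  have h3 := Subgroup.mul_mem_iff_of_index_two hidx (a := (⟨a, ha⟩ : L)⁻¹) (b := ⟨b, hb⟩)
  have h4 : ((⟨a, ha⟩ : L)⁻¹ ∈ K.subgroupOf L ↔ (⟨b, hb⟩ : L) ∈ K.subgroupOf L) := by
    rw [Subgroup.inv_mem_iff]
    simp only [Subgroup.mem_subgroupOf]
    exact ⟨fun h => absurd h ha', fun h => absurd h hb'⟩
  have h5 := h3.mpr h4
  simpa [Subgroup.mem_subgroupOf] using h5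

/-- The set-up: an `A`-invariant subgroup `M` of order `4` of `H` and a nontrivial `z ∈ M`
commuting with `A` and `H`. -/
theorem setup [Finite S] (H : Subgroup S) [H.Normal] (hH : Nat.card H = 8) (A : Subgroup S)
    (hA2 : IsPGroup 2 A) :
    ∃ (M : Subgroup S) (z : S), M ≤ H ∧ Nat.card M = 4 ∧ z ∈ M ∧ z ≠ 1 ∧
      (∀ a ∈ A, a * z = z * a) ∧ (∀ h ∈ H, h * z = z * h) ∧
      (∀ a ∈ A, ∀ m ∈ M, a * m * a⁻¹ ∈ M) := by
  have : Fact (Nat.Prime 2) := ⟨Nat.prime_two⟩
  have hH2 : IsPGroup 2 H := IsPGroup.of_card (n := 3) (by rw [hH]; norm_num)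
  set T : Subgroup S := A ⊔ H with hT
  have hTp : IsPGroup 2 T := IsPGroup.to_sup_of_normal_right hA2 hH2
  have hAT : A ≤ T := le_sup_left
  have hHT : H ≤ T := le_sup_right
  set H' : Subgroup T := H.subgroupOf T with hH'
  have hH'card : Nat.card H' = 8 := by
    rw [← hH]; exact Nat.card_congr (Subgroup.subgroupOfEquivOfLe hHT).toEquiv
  have hH'ne : H' ≠ ⊥ := by
    intro h
    rw [h, Subgroup.card_bot] at hH'card
    omega
  obtain ⟨M', hM'n, hM'lt, hM'idx⟩ :=
    Cfsg.Agent.Lib.Helper29.exists_normal_relIndex_prime hTp H' hH'ne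
  have hM'card : Nat.card M' = 4 := by
    have h1 := Subgroup.relIndex_mul_index hM'lt.le
    have h2 := Subgroup.card_mul_index M'
    have h3 := Subgroup.card_mul_index H'
    have hpos : 0 < H'.index := Nat.pos_of_ne_zero Subgroup.index_ne_zero_of_finite
    have h4 : Nat.card M' * 2 * H'.index = 8 * H'.index := by
      rw [← hM'idx, mul_assoc, h1, h2, ← h3, hH'card]
    have := Nat.eq_of_mul_eq_mul_right hpos h4
    omega
  have hM'ne : M' ≠ ⊥ := by
    intro h
    rw [h, Subgroup.card_bot] at hM'card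
    omega
  obtain ⟨m₀, hm₀M, hm₀Z, hm₀1⟩ :=
    Cfsg.Agent.Lib.Helper32.exists_ne_one_mem_normal_inf_center hTp M' hM'ne
  refine ⟨M'.map T.subtype, (m₀ : S), ?_, ?_, ?_, ?_, ?_, ?_, ?_⟩
  · rintro _ ⟨m, hm, rfl⟩
    have := hM'lt.le hm
    rw [hH', Subgroup.mem_subgroupOf] at this
    exact this
  · rw [Subgroup.card_map_of_injective T.subtype_injective, hM'card]
  · exact ⟨m₀, hm₀M, rfl⟩
  · intro h
    apply hm₀1
    exact Subtype.ext h
  · intro a ha
    have := Subgroup.mem_center_iff.mp hm₀Z ⟨a, hAT ha⟩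
    exact congrArg Subtype.val this
  · intro h hh
    have := Subgroup.mem_center_iff.mp hm₀Z ⟨h, hHT hh⟩
    exact congrArg Subtype.val this
  · rintro a ha _ ⟨m, hm, rfl⟩
    refine ⟨⟨a, hAT ha⟩ * m * ⟨a, hAT ha⟩⁻¹, hM'n.conj_mem m hm ⟨a, hAT ha⟩, rfl⟩

/-- the subgroup `{1, z}` for an involution `z` -/
def pairSubgroup (z : S) (hz : z * z = 1) : Subgroup S where
  carrier := {1, z}
  mul_mem' := by
    rintro a b (rfl | rfl) (rfl | rfl)
    · left; simp
    · right; simp
    · right; simp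
    · left; simpa using hz
  one_mem' := by left; rfl
  inv_mem' := by
    rintro a (rfl | rfl)
    · left; simp
    · right
      exact inv_eq_of_mul_eq_one_left hz

theorem mem_pairSubgroup {z : S} {hz : z * z = 1} {g : S} :
    g ∈ pairSubgroup z hz ↔ g = 1 ∨ g = z := Iff.rfl

theorem card_pairSubgroup {z : S} (hz : z * z = 1) (hz1 : z ≠ 1) :
    Nat.card (pairSubgroup z hz) = 2 := by
  have : ((pairSubgroup z hz : Subgroup S) : Set S) = {1, z} := rfl
  rw [← SetLike.coe_sort_coe, this, Nat.card_coe_set_eq, Set.ncard_pair (Ne.symm hz1)]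

theorem cyclic_of_normal_nonabelian_eight {S : Type*} [Group S] [Finite S] (H : Subgroup S)
    [hHn : H.Normal] (hH : Nat.card H = 8) (hZ : Nat.card (Subgroup.center H) = 2)
    (hC : Subgroup.centralizer (H : Set S) ≤ H) (A : Subgroup S) (hA : IsMulCommutative A)
    (hA8 : Nat.card A = 8) : IsCyclic A := by
  by_contra hnc
  have hp2 : Fact (Nat.Prime 2) := ⟨Nat.prime_two⟩
  have hA2 : IsPGroup 2 A := IsPGroup.of_card (n := 3) (by rw [hA8]; norm_num)
  -- every element of `A` has fourth power `1`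
  have h4 : ∀ a ∈ A, a ^ 4 = 1 := by
    intro a ha
    have hdvd : orderOf (⟨a, ha⟩ : A) ∣ 8 := by rw [← hA8]; exact orderOf_dvd_natCard _
    have hne : orderOf (⟨a, ha⟩ : A) ≠ 8 := by
      intro h
      exact hnc (isCyclic_of_orderOf_eq_card (⟨a, ha⟩ : A) (by rw [h, hA8]))
    have h8 : (8 : ℕ) = 2 ^ 3 := by norm_num
    rw [h8] at hdvd
    obtain ⟨k, hk, hk'⟩ := (Nat.dvd_prime_pow Nat.prime_two).mp hdvd
    have hk2 : k ≤ 2 := by
      rcases Nat.lt_or_ge k 3 with h | h
      · omega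
      · have : k = 3 := le_antisymm hk h
        rw [this] at hk'
        exact absurd hk' (by rw [← h8] at *; exact hne)
    have hd4 : orderOf (⟨a, ha⟩ : A) ∣ 4 := by
      rw [hk']
      exact (pow_dvd_pow 2 hk2)
    have := orderOf_dvd_iff_pow_eq_one.mp hd4
    exact congrArg Subtype.val this
  have commA : ∀ a ∈ A, ∀ b ∈ A, a * b = b * a := by
    intro a ha b hb
    exact congrArg Subtype.val (hA.is_comm.comm ⟨a, ha⟩ ⟨b, hb⟩)
  obtain ⟨M, z, hMH, hM4, hzM, hz1, hzA, hzH, hAM⟩ := setup H hH A hA2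
  have hzHm : z ∈ H := hMH hzM
  -- the centre of `H` is `{1, z}`
  have F2 : ∀ c ∈ H, (∀ h ∈ H, h * c = c * h) → c = 1 ∨ c = z := by
    intro c hc hcc
    obtain ⟨w, hw, huniq⟩ := (Nat.card_eq_two_iff' (1 : Subgroup.center H)).mp hZ
    have hzc : (⟨z, hzHm⟩ : H) ∈ Subgroup.center H := by
      rw [Subgroup.mem_center_iff]
      intro g
      exact Subtype.ext (hzH g g.2)
    have hcc' : (⟨c, hc⟩ : H) ∈ Subgroup.center H := by
      rw [Subgroup.mem_center_iff]
      intro g
      exact Subtype.ext (hcc g g.2)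
    by_cases h1 : c = 1
    · exact Or.inl h1
    · right
      have e1 : (⟨⟨c, hc⟩, hcc'⟩ : Subgroup.center H) = w := by
        apply huniq
        intro h
        apply h1
        have := congrArg (fun t : Subgroup.center H => ((t : H) : S)) h
        simpa using this
      have e2 : (⟨⟨z, hzHm⟩, hzc⟩ : Subgroup.center H) = w := by
        apply huniq
        intro h
        apply hz1
        have := congrArg (fun t : Subgroup.center H => ((t : H) : S)) h
        simpa using this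
      have := e1.trans e2.symm
      have := congrArg (fun t : Subgroup.center H => ((t : H) : S)) this
      simpa using this
  have hzz : z * z = 1 := by
    rcases F2 (z * z) (H.mul_mem hzHm hzHm) (by
      intro h hh
      calc h * (z * z) = (h * z) * z := by group
        _ = (z * h) * z := by rw [hzH h hh]
        _ = z * (h * z) := by group
        _ = z * (z * h) := by rw [hzH h hh]
        _ = z * z * h := by group) with h | h
    · exact h
    · exfalso; apply hz1
      calc z = z⁻¹ * (z * z) := by group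
        _ = z⁻¹ * z := by rw [h]
        _ = 1 := by group
  have hzinv : z⁻¹ = z := inv_eq_of_mul_eq_one_left hzz
  -- `K = {1, z}`
  set K : Subgroup S := pairSubgroup z hzz with hK
  have hKcard : Nat.card K = 2 := card_pairSubgroup hzz hz1
  have hKM : K ≤ M := by
    rintro g (rfl | rfl)
    · exact M.one_mem
    · exact hzM
  have memK : ∀ g, g ∈ K ↔ g = 1 ∨ g = z := fun g => Iff.rfl
  have hMK : Nat.card M = 2 * Nat.card K := by rw [hM4, hKcard]
  have hHM : Nat.card H = 2 * Nat.card M := by rw [hH, hM4]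
  -- `M` is abelian
  have commM : ∀ m ∈ M, ∀ n ∈ M, m * n = n * m := by
    intro m hm n hn
    have hc := IsPGroup.isMulCommutative_of_card_eq_prime_sq (p := 2) (G := M) (by rw [hM4]; norm_num)
    exact congrArg Subtype.val (hc.is_comm.comm ⟨m, hm⟩ ⟨n, hn⟩)
  -- `K` commutes with `A` and `H`
  have KA : ∀ k ∈ K, ∀ a ∈ A, a * k = k * a := by
    rintro k (rfl | rfl) a ha
    · simp
    · exact hzA a ha
  have KH : ∀ k ∈ K, ∀ h ∈ H, h * k = k * h := by
    rintro k (rfl | rfl) h hh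
    · simp
    · exact hzH h hh
  -- `H / Z(H)` is abelian
  have F7 : ∀ h ∈ H, ∀ k ∈ H, h * k * h⁻¹ * k⁻¹ ∈ K := by
    intro h hh k hk
    have hq : Nat.card (H ⧸ Subgroup.center H) = 2 ^ 2 := by
      have := Subgroup.card_eq_card_quotient_mul_card_subgroup (Subgroup.center H)
      rw [hH, hZ] at this
      omega
    have hcomm' := IsPGroup.isMulCommutative_of_card_eq_prime_sq (p := 2) hq
    have hcomm := hcomm'.is_comm.comm
    have h1 : ((⟨h, hh⟩ * ⟨k, hk⟩ * ⟨h, hh⟩⁻¹ * ⟨k, hk⟩⁻¹ : H) : H ⧸ Subgroup.center H) = 1 := by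
      have e := hcomm ((⟨h, hh⟩ : H) : H ⧸ Subgroup.center H) ((⟨k, hk⟩ : H) : H ⧸ Subgroup.center H)
      simp only [QuotientGroup.mk_mul, QuotientGroup.mk_inv]
      rw [e]
      group
    rw [QuotientGroup.eq_one_iff, Subgroup.mem_center_iff] at h1
    have hmem : h * k * h⁻¹ * k⁻¹ ∈ H :=
      H.mul_mem (H.mul_mem (H.mul_mem hh hk) (H.inv_mem hh)) (H.inv_mem hk)
    apply (memK _).mpr
    apply F2 _ hmem
    intro g hg
    have := h1 ⟨g, hg⟩
    exact congrArg Subtype.val this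
  -- non-commuting elements of `H`
  have comm_z : ∀ h ∈ H, ∀ k ∈ H, h * k ≠ k * h → h * k * h⁻¹ = k * z := by
    intro h hh k hk hne
    rcases F7 h hh k hk with e | e
    · exfalso; apply hne
      calc h * k = (h * k * h⁻¹ * k⁻¹) * (k * h) := by group
        _ = k * h := by rw [e, one_mul]
    · calc h * k * h⁻¹ = (h * k * h⁻¹ * k⁻¹) * k := by group
        _ = z * k := by rw [e]
        _ = k * z := (hzH k hk).symm
  -- existence of `y ∈ H ∖ M`
  obtain ⟨y, hyH, hyM⟩ : ∃ y ∈ H, y ∉ M := by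
    by_contra hcon
    push Not at hcon
    have : Nat.card H ≤ Nat.card M := Subgroup.card_le_of_le hcon
    omega
  -- an element commuting with `M` and `y` centralizes `H`
  have cent_of : ∀ s : S, (∀ m ∈ M, m * s = s * m) → y * s = s * y → s ∈ H := by
    intro s hsM hsy
    apply hC
    rw [Subgroup.mem_centralizer_iff]
    intro h hh
    by_cases hm : h ∈ M
    · exact hsM h hm
    · have := inv_mul_mem_of_card hMH hHM hyH hh hyM hm
      have e : h = y * (y⁻¹ * h) := by group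
      rw [e]
      calc y * (y⁻¹ * h) * s = y * ((y⁻¹ * h) * s) := by group
        _ = y * (s * (y⁻¹ * h)) := by rw [hsM _ this]
        _ = (y * s) * (y⁻¹ * h) := by group
        _ = (s * y) * (y⁻¹ * h) := by rw [hsy]
        _ = s * (y * (y⁻¹ * h)) := by group
  -- elements of `M ∖ K` do not commute with `y`
  have D2 : ∀ m ∈ M, m ∉ K → m * y ≠ y * m := by
    intro m hm hmK hcomm
    apply hmK
    apply (memK m).mpr
    apply F2 m (hMH hm)
    intro h hh
    by_cases hhm : h ∈ M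
    · exact commM h hhm m hm
    · have := inv_mul_mem_of_card hMH hHM hyH hh hyM hhm
      have e : h = y * (y⁻¹ * h) := by group
      rw [e]
      calc y * (y⁻¹ * h) * m = y * ((y⁻¹ * h) * m) := by group
        _ = y * (m * (y⁻¹ * h)) := by rw [commM _ this m hm]
        _ = (y * m) * (y⁻¹ * h) := by group
        _ = (m * y) * (y⁻¹ * h) := by rw [hcomm]
        _ = m * (y * (y⁻¹ * h)) := by group
  have R1 : ∀ m ∈ M, m ∉ K → m * y * m⁻¹ = y * z := fun m hm hmK =>
    comm_z m (hMH hm) y hyH (D2 m hm hmK)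
  have R3 : ∀ m ∈ M, m ∉ K → y * m * y⁻¹ = m * z := fun m hm hmK =>
    comm_z y hyH m (hMH hm) (fun h => D2 m hm hmK h.symm)
  have R4 : ∀ m ∈ M, m ∉ K → y⁻¹ * m * y⁻¹⁻¹ = m * z := fun m hm hmK =>
    comm_z y⁻¹ (H.inv_mem hyH) m (hMH hm) (fun h => D2 m hm hmK (by
      calc m * y = y * (y⁻¹ * m) * y := by group
        _ = y * (m * y⁻¹) * y := by rw [h]
        _ = y * m := by group))
  -- `A` acts on `M ∖ K`
  have AMK : ∀ a ∈ A, ∀ m ∈ M, m ∉ K → a * m * a⁻¹ ∉ K := by
    intro a ha m hm hmK hk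
    apply hmK
    have e : m = a⁻¹ * (a * m * a⁻¹) * a := by group
    rw [e]
    have h1 := KA _ hk a ha
    have e2 : a⁻¹ * (a * m * a⁻¹) * a = a * m * a⁻¹ := by
      calc a⁻¹ * (a * m * a⁻¹) * a = a⁻¹ * (a * (a * m * a⁻¹)) := by rw [h1]; group
        _ = a * m * a⁻¹ := by group
    rw [e2]; exact hk
  -- `a y a⁻¹ ∈ y M`
  have mA : ∀ a ∈ A, y⁻¹ * (a * y * a⁻¹) ∈ M := by
    intro a ha
    have h1 : a * y * a⁻¹ ∈ H := hHn.conj_mem y hyH a
    have h2 : a * y * a⁻¹ ∉ M := by
      intro h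
      apply hyM
      have := hAM a⁻¹ (A.inv_mem ha) _ h
      have e : a⁻¹ * (a * y * a⁻¹) * a⁻¹⁻¹ = y := by group
      rwa [e] at this
    exact inv_mul_mem_of_card hMH hHM hyH h1 hyM h2
  -- existence of `x₀ ∈ M ∖ K`
  obtain ⟨x₀, hx₀M, hx₀K⟩ : ∃ x ∈ M, x ∉ K := by
    by_contra hcon
    push Not at hcon
    have : Nat.card M ≤ Nat.card K := Subgroup.card_le_of_le hcon
    omega
  -- inner type implies membership in `H`
  have L1 : ∀ s : S, s * z = z * s → s * x₀ = x₀ * s → (y⁻¹ * (s * y * s⁻¹) ∈ K) → s ∈ H := by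
    intro s hsz hsx hsy
    have hsM : ∀ m ∈ M, m * s = s * m := by
      intro m hm
      by_cases hmK : m ∈ K
      · rcases hmK with rfl | rfl
        · simp
        · exact hsz.symm
      · have hk := inv_mul_mem_of_card hKM hMK hx₀M hm hx₀K hmK
        have e : m = x₀ * (x₀⁻¹ * m) := by group
        have hks : (x₀⁻¹ * m) * s = s * (x₀⁻¹ * m) := by
          rcases hk with h | h
          · rw [h]; simp
          · rw [h]; exact hsz.symm
        rw [e]
        calc x₀ * (x₀⁻¹ * m) * s = x₀ * ((x₀⁻¹ * m) * s) := by group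
          _ = x₀ * (s * (x₀⁻¹ * m)) := by rw [hks]
          _ = (x₀ * s) * (x₀⁻¹ * m) := by group
          _ = (s * x₀) * (x₀⁻¹ * m) := by rw [hsx]
          _ = s * (x₀ * (x₀⁻¹ * m)) := by group
    rcases hsy with h | h
    · -- `s` commutes with `y`
      apply cent_of s hsM
      have : s * y * s⁻¹ = y := by
        calc s * y * s⁻¹ = y * (y⁻¹ * (s * y * s⁻¹)) := by group
          _ = y := by rw [h, mul_one]
      calc y * s = (s * y * s⁻¹) * s := by rw [this]
        _ = s * y := by group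
    · -- `s y s⁻¹ = y z`: replace `s` by `x₀⁻¹ s`
      have hsy' : s * y * s⁻¹ = y * z := by
        calc s * y * s⁻¹ = y * (y⁻¹ * (s * y * s⁻¹)) := by group
          _ = y * z := by rw [h]
      have hx₀inv : x₀⁻¹ ∈ M := M.inv_mem hx₀M
      have hx₀invK : x₀⁻¹ ∉ K := fun hk => hx₀K (by simpa using K.inv_mem hk)
      have r := R1 x₀⁻¹ hx₀inv hx₀invK
      rw [inv_inv] at r
      have hs' : x₀⁻¹ * s ∈ H := by
        apply cent_of
        · intro m hm
          calc m * (x₀⁻¹ * s) = (m * x₀⁻¹) * s := by group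
            _ = (x₀⁻¹ * m) * s := by rw [commM m hm x₀⁻¹ hx₀inv]
            _ = x₀⁻¹ * (m * s) := by group
            _ = x₀⁻¹ * (s * m) := by rw [hsM m hm]
            _ = x₀⁻¹ * s * m := by group
        · have hzx : x₀⁻¹ * z = z * x₀⁻¹ := hzH _ (hMH hx₀inv)
          have e1 : (x₀⁻¹ * s) * y * (x₀⁻¹ * s)⁻¹ = y := by
            calc (x₀⁻¹ * s) * y * (x₀⁻¹ * s)⁻¹ = x₀⁻¹ * (s * y * s⁻¹) * x₀ := by group
              _ = x₀⁻¹ * (y * z) * x₀ := by rw [hsy']
              _ = (x₀⁻¹ * y * x₀) * (x₀⁻¹ * z * x₀) := by group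
              _ = (y * z) * (z * x₀⁻¹ * x₀) := by rw [r, hzx]
              _ = y * (z * z) := by group
              _ = y := by rw [hzz, mul_one]
          calc y * (x₀⁻¹ * s) = ((x₀⁻¹ * s) * y * (x₀⁻¹ * s)⁻¹) * (x₀⁻¹ * s) := by rw [e1]
            _ = (x₀⁻¹ * s) * y := by group
      have e : s = x₀ * (x₀⁻¹ * s) := by group
      rw [e]
      exact H.mul_mem (hMH hx₀M) hs'
  have E1 : ∀ s ∈ A, y⁻¹ * (s * y * s⁻¹) ∈ K → s ∈ H := by
    intro s hs hsy
    have hsz : s * z = z * s := hzA s hs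
    have hsx₀M : s * x₀ * s⁻¹ ∈ M := hAM s hs x₀ hx₀M
    have hsx₀K : s * x₀ * s⁻¹ ∉ K := AMK s hs x₀ hx₀M hx₀K
    have hk := inv_mul_mem_of_card hKM hMK hx₀M hsx₀M hx₀K hsx₀K
    rcases hk with h | h
    · -- `s` commutes with `x₀`
      apply L1 s hsz _ hsy
      have : s * x₀ * s⁻¹ = x₀ := by
        calc s * x₀ * s⁻¹ = x₀ * (x₀⁻¹ * (s * x₀ * s⁻¹)) := by group
          _ = x₀ := by rw [h, mul_one]
      calc s * x₀ = (s * x₀ * s⁻¹) * s := by group
        _ = x₀ * s := by rw [this]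
    · -- `s x₀ s⁻¹ = x₀ z`: replace `s` by `y⁻¹ s`
      have hsx : s * x₀ * s⁻¹ = x₀ * z := by
        calc s * x₀ * s⁻¹ = x₀ * (x₀⁻¹ * (s * x₀ * s⁻¹)) := by group
          _ = x₀ * z := by rw [h]
      have r4 := R4 x₀ hx₀M hx₀K
      rw [inv_inv] at r4
      have hyz : y⁻¹ * z = z * y⁻¹ := hzH _ (H.inv_mem hyH)
      have hs' : y⁻¹ * s ∈ H := by
        apply L1
        · calc y⁻¹ * s * z = y⁻¹ * (s * z) := by group
            _ = y⁻¹ * (z * s) := by rw [hsz]
            _ = (y⁻¹ * z) * s := by group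
            _ = (z * y⁻¹) * s := by rw [hyz]
            _ = z * (y⁻¹ * s) := by group
        · have e1 : (y⁻¹ * s) * x₀ * (y⁻¹ * s)⁻¹ = x₀ := by
            calc (y⁻¹ * s) * x₀ * (y⁻¹ * s)⁻¹ = y⁻¹ * (s * x₀ * s⁻¹) * y := by group
              _ = y⁻¹ * (x₀ * z) * y := by rw [hsx]
              _ = (y⁻¹ * x₀ * y) * (y⁻¹ * z * y) := by group
              _ = (x₀ * z) * (z * y⁻¹ * y) := by rw [r4, hyz]
              _ = x₀ * (z * z) := by group
              _ = x₀ := by rw [hzz, mul_one]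
          calc y⁻¹ * s * x₀ = ((y⁻¹ * s) * x₀ * (y⁻¹ * s)⁻¹) * (y⁻¹ * s) := by group
            _ = x₀ * (y⁻¹ * s) := by rw [e1]
        · have e2 : y⁻¹ * ((y⁻¹ * s) * y * (y⁻¹ * s)⁻¹) = y⁻¹ * (y⁻¹ * (s * y * s⁻¹)) * y := by
            group
          rw [e2]
          have := KH _ hsy y hyH
          have e3 : y⁻¹ * (y⁻¹ * (s * y * s⁻¹)) * y = y⁻¹ * (s * y * s⁻¹) := by
            calc y⁻¹ * (y⁻¹ * (s * y * s⁻¹)) * y = y⁻¹ * ((y⁻¹ * (s * y * s⁻¹)) * y) := by group
              _ = y⁻¹ * (y * (y⁻¹ * (s * y * s⁻¹))) := by rw [this]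
              _ = y⁻¹ * (s * y * s⁻¹) := by group
          rw [e3]; exact hsy
      have e : s = y * (y⁻¹ * s) := by group
      rw [e]
      exact H.mul_mem hyH hs'
  -- an element `a ∈ A ∖ H`
  obtain ⟨a, haA, haH⟩ : ∃ a ∈ A, a ∉ H := by
    by_contra hcon
    push Not at hcon
    have hAH : A = H := Subgroup.eq_of_le_of_card_ge hcon (by rw [hH, hA8])
    exact D2 x₀ hx₀M hx₀K (commA x₀ (hAH ▸ hMH hx₀M) y (hAH ▸ hyH))
  set x : S := y⁻¹ * (a * y * a⁻¹) with hx
  have hxM : x ∈ M := mA a haA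
  have hxK : x ∉ K := fun h => haH (E1 a haA h)
  have hay : a * y * a⁻¹ = y * x := by rw [hx]; group
  -- non-inner elements form one coset
  have E2 : ∀ a' ∈ A, a' ∉ H → a⁻¹ * a' ∈ H := by
    intro a' ha' ha'H
    have hm'M : y⁻¹ * (a' * y * a'⁻¹) ∈ M := mA a' ha'
    have hm'K : y⁻¹ * (a' * y * a'⁻¹) ∉ K := fun h => ha'H (E1 a' ha' h)
    have hw := inv_mul_mem_of_card hKM hMK hxM hm'M hxK hm'K
    set w : S := x⁻¹ * (y⁻¹ * (a' * y * a'⁻¹)) with hwdef
    have hwa : a * w = w * a := KA w hw a haA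
    have h1 : a' * y * a'⁻¹ = a * y * a⁻¹ * w := by
      rw [hwdef, hx]; group
    apply E1 _ (A.mul_mem (A.inv_mem haA) ha')
    have h2 : (a⁻¹ * a') * y * (a⁻¹ * a')⁻¹ = y * w := by
      calc (a⁻¹ * a') * y * (a⁻¹ * a')⁻¹ = a⁻¹ * (a' * y * a'⁻¹) * a := by group
        _ = a⁻¹ * (a * y * a⁻¹ * w) * a := by rw [h1]
        _ = y * a⁻¹ * (w * a) := by group
        _ = y * a⁻¹ * (a * w) := by rw [hwa]
        _ = y * w := by group
    rw [h2]
    have : y⁻¹ * (y * w) = w := by group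
    rw [this]; exact hw
  -- `A ∩ H ⊆ M`
  have BM : ∀ b ∈ A, b ∈ H → b ∈ M := by
    intro b hbA hbH
    by_contra hbM
    have hm₁ := inv_mul_mem_of_card hMH hHM hyH hbH hyM hbM
    set m₁ : S := y⁻¹ * b with hm₁def
    have hb : b = y * m₁ := by rw [hm₁def]; group
    have hab : a * b * a⁻¹ = b := by
      rw [commA a haA b hbA]; group
    have hcm₁M : a * m₁ * a⁻¹ ∈ M := hAM a haA m₁ hm₁
    -- `a m₁ a⁻¹ ∈ m₁ K`
    have hk : m₁⁻¹ * (a * m₁ * a⁻¹) ∈ K := by
      by_cases hmK : m₁ ∈ K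
      · have := KA m₁ hmK a haA
        have e : a * m₁ * a⁻¹ = m₁ := by rw [this]; group
        rw [e]; simp only [inv_mul_cancel]; exact K.one_mem
      · exact inv_mul_mem_of_card hKM hMK hm₁ hcm₁M hmK (AMK a haA m₁ hm₁ hmK)
    have h1 : y * m₁ = y * x * (a * m₁ * a⁻¹) := by
      calc y * m₁ = a * b * a⁻¹ := by rw [hab, hb]
        _ = (a * y * a⁻¹) * (a * m₁ * a⁻¹) := by rw [hb]; group
        _ = y * x * (a * m₁ * a⁻¹) := by rw [hay]
    have h2 : m₁ = x * (a * m₁ * a⁻¹) := by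
      have := congrArg (fun t => y⁻¹ * t) h1
      simpa [mul_assoc] using this
    apply hxK
    -- `x = m₁ (a m₁ a⁻¹)⁻¹ ∈ K`
    have h3 : x = (m₁⁻¹ * (a * m₁ * a⁻¹))⁻¹ := by
      have e : x = m₁ * (a * m₁ * a⁻¹)⁻¹ := by
        calc x = x * (a * m₁ * a⁻¹) * (a * m₁ * a⁻¹)⁻¹ := by group
          _ = m₁ * (a * m₁ * a⁻¹)⁻¹ := by rw [← h2]
      rw [e]
      have e3 : (m₁⁻¹ * (a * m₁ * a⁻¹))⁻¹ = (a * m₁ * a⁻¹)⁻¹ * m₁ := by group
      rw [e3]
      exact commM _ hm₁ _ (M.inv_mem hcm₁M)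
    rw [h3]
    exact K.inv_mem hk
  -- some element of `A ∩ H` lies outside `K`
  obtain ⟨b, hbA, hbH, hbK⟩ : ∃ b ∈ A, b ∈ H ∧ b ∉ K := by
    classical
    by_contra hcon
    push Not at hcon
    have hsub : (A : Set S) ⊆ (({1, z, a, a * z} : Finset S) : Set S) := by
      intro a' ha'
      simp only [Finset.coe_insert, Finset.coe_singleton, Set.mem_insert_iff, Set.mem_singleton_iff]
      by_cases h : a' ∈ H
      · rcases hcon a' ha' h with e | e
        · left; exact e
        · right; left; exact e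
      · have h1 := E2 a' ha' h
        rcases hcon _ (A.mul_mem (A.inv_mem haA) ha') h1 with e | e
        · right; right; left
          calc a' = a * (a⁻¹ * a') := by group
            _ = a := by rw [e, mul_one]
        · right; right; right
          calc a' = a * (a⁻¹ * a') := by group
            _ = a * z := by rw [e]
    have hcard : Nat.card A ≤ 4 := by
      classical
      rw [← SetLike.coe_sort_coe, Nat.card_coe_set_eq]
      calc (A : Set S).ncard ≤ ((({1, z, a, a * z} : Finset S) : Set S)).ncard :=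
            Set.ncard_le_ncard hsub (Finset.finite_toSet _)
        _ = ({1, z, a, a * z} : Finset S).card := Set.ncard_coe_finset _
        _ ≤ 4 := Finset.card_le_four
    omega
  have hbM : b ∈ M := BM b hbA hbH
  -- `a` commutes with `x`
  have hax : a * x = x * a := by
    have hk := inv_mul_mem_of_card hKM hMK hbM hxM hbK hxK
    have e : x = b * (b⁻¹ * x) := by group
    rw [e]
    calc a * (b * (b⁻¹ * x)) = (a * b) * (b⁻¹ * x) := by group
      _ = (b * a) * (b⁻¹ * x) := by rw [commA a haA b hbA]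
      _ = b * (a * (b⁻¹ * x)) := by group
      _ = b * ((b⁻¹ * x) * a) := by rw [KA _ hk a haA]
      _ = b * (b⁻¹ * x) * a := by group
  -- `a` commutes with `M`
  have haM : ∀ m ∈ M, a * m = m * a := by
    intro m hm
    by_cases hmK : m ∈ K
    · exact KA m hmK a haA
    · have hk := inv_mul_mem_of_card hKM hMK hxM hm hxK hmK
      have e : m = x * (x⁻¹ * m) := by group
      rw [e]
      calc a * (x * (x⁻¹ * m)) = (a * x) * (x⁻¹ * m) := by group
        _ = (x * a) * (x⁻¹ * m) := by rw [hax]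
        _ = x * (a * (x⁻¹ * m)) := by group
        _ = x * ((x⁻¹ * m) * a) := by rw [KA _ hk a haA]
        _ = x * (x⁻¹ * m) * a := by group
  -- `a² ∈ M`
  have ha2M : a * a ∈ M := by
    have hinvH : a⁻¹ ∉ H := fun h => haH (by simpa using H.inv_mem h)
    have h1 := E2 a⁻¹ (A.inv_mem haA) hinvH
    have h2 : a * a ∈ H := by
      have := H.inv_mem h1
      have e : (a⁻¹ * a⁻¹)⁻¹ = a * a := by rw [mul_inv_rev, inv_inv]
      rwa [e] at this
    exact BM _ (A.mul_mem haA haA) h2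
  -- `x² ∈ K`
  have r1x := R1 x hxM hxK
  have hx2K : x * x ∈ K := by
    apply (memK _).mpr
    apply F2 _ (hMH (M.mul_mem hxM hxM))
    intro h hh
    by_cases hhm : h ∈ M
    · exact commM h hhm _ (M.mul_mem hxM hxM)
    · have hm := inv_mul_mem_of_card hMH hHM hyH hh hyM hhm
      have hxy : y * (x * x) = (x * x) * y := by
        have e : (x * x) * y * (x * x)⁻¹ = y := by
          calc (x * x) * y * (x * x)⁻¹ = x * (x * y * x⁻¹) * x⁻¹ := by group
            _ = x * (y * z) * x⁻¹ := by rw [r1x]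
            _ = (x * y * x⁻¹) * (x * z * x⁻¹) := by group
            _ = (y * z) * (z * x * x⁻¹) := by rw [r1x, hzH x (hMH hxM)]
            _ = y * (z * z) := by group
            _ = y := by rw [hzz, mul_one]
        calc y * (x * x) = ((x * x) * y * (x * x)⁻¹) * (x * x) := by rw [e]
          _ = (x * x) * y := by group
      have e : h = y * (y⁻¹ * h) := by group
      rw [e]
      calc y * (y⁻¹ * h) * (x * x) = y * ((y⁻¹ * h) * (x * x)) := by group
        _ = y * ((x * x) * (y⁻¹ * h)) := by rw [commM _ hm _ (M.mul_mem hxM hxM)]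
        _ = (y * (x * x)) * (y⁻¹ * h) := by group
        _ = ((x * x) * y) * (y⁻¹ * h) := by rw [hxy]
        _ = (x * x) * (y * (y⁻¹ * h)) := by group
  -- `a² y a⁻² = y x²`
  have ha2y : (a * a) * y * (a * a)⁻¹ = y * (x * x) := by
    calc (a * a) * y * (a * a)⁻¹ = a * (a * y * a⁻¹) * a⁻¹ := by group
      _ = a * (y * x) * a⁻¹ := by rw [hay]
      _ = (a * y * a⁻¹) * (a * x) * a⁻¹ := by group
      _ = (y * x) * (x * a) * a⁻¹ := by rw [hay, hax]
      _ = y * (x * x) := by group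
  by_cases ha2K : a * a ∈ K
  · -- `a²` central: then `x² = 1`, and `y² = y² z`
    have hx2 : x * x = 1 := by
      have h1 : (a * a) * y * (a * a)⁻¹ = y := by
        have := KH _ ha2K y hyH
        calc (a * a) * y * (a * a)⁻¹ = (y * (a * a)) * (a * a)⁻¹ := by rw [this]
          _ = y := by group
      rw [h1] at ha2y
      have := congrArg (fun t => y⁻¹ * t) ha2y
      simpa using this.symm
    have hy2M : y * y ∈ M := by
      by_contra h
      have := inv_mul_mem_of_card hMH hHM hyH (H.mul_mem hyH hyH) hyM h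
      apply hyM
      have e : y⁻¹ * (y * y) = y := by group
      rwa [e] at this
    have h1 : a * (y * y) * a⁻¹ = y * y := by
      rw [haM _ hy2M]; group
    have h2 : a * (y * y) * a⁻¹ = y * y * z := by
      calc a * (y * y) * a⁻¹ = (a * y * a⁻¹) * (a * y * a⁻¹) := by group
        _ = (y * x) * (y * x) := by rw [hay]
        _ = y * (x * y * x⁻¹) * (x * x) := by group
        _ = y * (y * z) * 1 := by rw [r1x, hx2]
        _ = y * y * z := by group
    apply hz1
    have h3 : y * y = y * y * z := h1.symm.trans h2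
    calc z = (y * y)⁻¹ * (y * y * z) := by group
      _ = (y * y)⁻¹ * (y * y) := by rw [← h3]
      _ = 1 := by group
  · -- `a² ∈ M ∖ K`: then `x² = z` and `a⁴ = z ≠ 1`
    have r := R1 _ ha2M ha2K
    rw [ha2y] at r
    have hx2 : x * x = z := by
      have := congrArg (fun t => y⁻¹ * t) r
      simpa using this
    have hk := inv_mul_mem_of_card hKM hMK hxM ha2M hxK ha2K
    have hkk : (x⁻¹ * (a * a)) * (x⁻¹ * (a * a)) = 1 := by
      rcases hk with h | h
      · rw [h]; simp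
      · rw [h]; exact hzz
    have h5 : a ^ 4 = z := by
      have e : a ^ 4 = (a * a) * (a * a) := by
        rw [show (4 : ℕ) = 2 + 2 by norm_num, pow_add, pow_two]
      have e2 : a * a = x * (x⁻¹ * (a * a)) := by group
      have hkM : x⁻¹ * (a * a) ∈ M := hKM hk
      rw [e, e2]
      calc x * (x⁻¹ * (a * a)) * (x * (x⁻¹ * (a * a)))
          = x * ((x⁻¹ * (a * a)) * x) * (x⁻¹ * (a * a)) := by group
        _ = x * (x * (x⁻¹ * (a * a))) * (x⁻¹ * (a * a)) := by rw [commM _ hkM x hxM]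
        _ = (x * x) * ((x⁻¹ * (a * a)) * (x⁻¹ * (a * a))) := by group
        _ = z := by rw [hkk, hx2, mul_one]
    apply hz1
    rw [← h5, h4 a haA]

end Cfsg.Agent.Lib.Helper80.SmallTwoQ8D8
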