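import Cfsg.Agent.Lib.Helper80.Orthogonality
import Cfsg.Agent.Lib.Helper75.BurnsideGallagher

set_option autoImplicit false

namespace Cfsg.Agent.Lib.Helper80

open Cfsg
open scoped ComplexConjugate

section Zeros

variable {G : Type*} [Group G] [Fintype G]

/-- First orthogonality relation, real form: `∑ |χ g|² = |G|`. -/
theorem irr_sum_norm_sq (χ : Cfsg.IrrCharacter G) :
    ∑ g : G, ‖(χ : G → ℂ) g‖ ^ 2 = (Nat.card G : ℝ) := by
  have h := irr_row_orthogonality χ χ
  rw [if_pos rfl] at h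
  have h2 : ((∑ g : G, ‖(χ : G → ℂ) g‖ ^ 2 : ℝ) : ℂ) = ((Nat.card G : ℝ) : ℂ) := by
    rw [Complex.ofReal_sum, Complex.ofReal_natCast, ← h]
    refine Finset.sum_congr rfl fun g _ => ?_
    rw [Complex.mul_conj, Complex.normSq_eq_norm_sq]
  exact_mod_cast h2

omit [Fintype G] in
/-- If `k` is coprime to `|G|` and `g ^ k` lies in a subgroup then so does `g`. -/
theorem mem_of_pow_mem_of_coprime (H : Subgroup G) {g : G} {k : ℕ}
    (hk : Nat.Coprime k (Nat.card G)) (h : g ^ k ∈ H) : g ∈ H := by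
  have hk' : Nat.Coprime k (orderOf g) :=
    Nat.Coprime.coprime_dvd_right (orderOf_dvd_natCard g) hk
  obtain ⟨m, hm⟩ := exists_pow_eq_self_of_coprime hk'
  rw [← hm]
  exact H.pow_mem h m

/-- Burnside–Gallagher for a power-closed set `T`: the number of elements of `T` on which `χ` does
not vanish is at most `∑_{g ∈ T} |χ g|²`. -/
theorem card_nonvanishing_le [DecidableEq G] {χ : G → ℂ} (hχ : IsCharacter G χ) (T : Finset G)
    (hT : ∀ g ∈ T, ∀ k : ℕ, Nat.Coprime k (Nat.card G) → g ^ k ∈ T) :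
    ((T.filter (fun g => χ g ≠ 0)).card : ℝ) ≤ ∑ g ∈ T, ‖χ g‖ ^ 2 := by
  have h1 := Cfsg.Agent.Lib.Helper75.card_le_sum_norm_sq_of_pow_closed hχ
    (T.filter (fun g => χ g ≠ 0)) ?_ ?_
  · refine h1.trans ?_
    exact Finset.sum_le_sum_of_subset_of_nonneg (Finset.filter_subset _ _)
      (fun _ _ _ => by positivity)
  · intro g hg k hk
    rw [Finset.mem_filter] at hg ⊢
    exact ⟨hT g hg.1 k hk, Cfsg.Agent.Lib.Helper75.character_pow_ne_zero hχ hg.2 k hk⟩
  · intro g hg
    exact (Finset.mem_filter.mp hg).2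

end Zeros

section Center

variable {G : Type*} [Group G] [Finite G]

/-- Unit complex numbers whose sum has maximal norm all coincide, so all power sums have
maximal norm as well. -/
theorem norm_sum_pow_eq_card {ι : Type*} [Fintype ι] (μ : ι → ℂ) (hμn : ∀ i, ‖μ i‖ = 1)
    (hs : ‖∑ i, μ i‖ = (Fintype.card ι : ℝ)) (j : ℕ) :
    ‖∑ i, μ i ^ j‖ = (Fintype.card ι : ℝ) := by
  rcases Nat.eq_zero_or_pos (Fintype.card ι) with h0 | hpos
  · have : IsEmpty ι := Fintype.card_eq_zero_iff.mp h0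
    rw [h0]
    simp
  · have hnC : (Fintype.card ι : ℂ) ≠ 0 := by exact_mod_cast hpos.ne'
    have hnR : (Fintype.card ι : ℝ) ≠ 0 := by exact_mod_cast hpos.ne'
    obtain ⟨c, hc⟩ : ∃ c : ℂ, c = (∑ i, μ i) / (Fintype.card ι : ℂ) := ⟨_, rfl⟩
    have hcn : ‖c‖ = 1 := by
      rw [hc, norm_div, hs, Complex.norm_natCast]
      exact div_self hnR
    have hc0 : c ≠ 0 := fun h0 => by rw [h0, norm_zero] at hcn; exact zero_ne_one hcn
    have hz : ∀ i, μ i / c = 1 := by
      apply Cfsg.Agent.Lib.Helper3.eq_one_of_norm_one_of_sum_eq_card (fun i => μ i / c)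
      · intro i
        rw [norm_div, hμn i, hcn, div_one]
      · have hsum : ∑ i, μ i = c * (Fintype.card ι : ℂ) := by
          rw [hc]; field_simp
        rw [← Finset.sum_div, hsum]
        field_simp
    have hμc : ∀ i, μ i = c := fun i => by
      have := hz i
      field_simp at this
      exact this
    simp only [hμc]
    rw [Finset.sum_const, Finset.card_univ, nsmul_eq_mul, norm_mul, norm_pow,
      hcn, one_pow, mul_one, Complex.norm_natCast]

/-- If `|χ h| = χ 1` then all eigenvalues coincide, hence `|χ (h ^ j)| = χ 1` for all `j`. -/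
theorem norm_character_pow_eq {V : Type*} [AddCommGroup V] [Module ℂ V] [FiniteDimensional ℂ V]
    (ρ : Representation ℂ G V) (h : G) (hh : ‖ρ.character h‖ = (Module.finrank ℂ V : ℝ))
    (j : ℕ) : ‖ρ.character (h ^ j)‖ = (Module.finrank ℂ V : ℝ) := by
  classical
  obtain ⟨b, μ, h1, h2⟩ := Cfsg.Agent.Lib.Helper3.exists_eigenbasis_rep ρ h
  have hμ0 : ∀ i, μ i ≠ 0 := fun i h0 => by
    have := h2 i
    rw [h0, zero_pow (orderOf_pos h).ne'] at this
    exact zero_ne_one this
  have hμn : ∀ i, ‖μ i‖ = 1 := fun i =>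
    Complex.norm_eq_one_of_pow_eq_one (h2 i) (orderOf_pos h).ne'
  have hχ := Cfsg.Agent.Lib.Helper3.character_eq_sum_eigen ρ h b μ h1
  have hχj := Cfsg.Agent.Lib.Helper3.character_zpow_eq_sum_eigen ρ h b μ hμ0 h1 (j : ℤ)
  simp only [zpow_natCast] at hχj
  have key := norm_sum_pow_eq_card μ hμn (by rw [← hχ, hh, Fintype.card_fin]) j
  rw [hχj, key, Fintype.card_fin]

/-- The centre of a character is closed under coprime power maps (in the contrapositive form
needed for Burnside–Gallagher). -/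
theorem norm_character_eq_of_pow {V : Type*} [AddCommGroup V] [Module ℂ V]
    [FiniteDimensional ℂ V] (ρ : Representation ℂ G V) (g : G) (k : ℕ)
    (hk : Nat.Coprime k (Nat.card G))
    (hh : ‖ρ.character (g ^ k)‖ = (Module.finrank ℂ V : ℝ)) :
    ‖ρ.character g‖ = (Module.finrank ℂ V : ℝ) := by
  have hk' : Nat.Coprime k (orderOf g) :=
    Nat.Coprime.coprime_dvd_right (orderOf_dvd_natCard g) hk
  obtain ⟨m, hm⟩ := exists_pow_eq_self_of_coprime hk'
  have := norm_character_pow_eq ρ (g ^ k) hh m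
  rwa [hm] at this

/-- Unit complex numbers whose sum has maximal norm all coincide. -/
theorem exists_const_of_norm_sum_eq_card {ι : Type*} [Fintype ι] (μ : ι → ℂ)
    (hμn : ∀ i, ‖μ i‖ = 1) (hs : ‖∑ i, μ i‖ = (Fintype.card ι : ℝ)) :
    ∃ c : ℂ, ‖c‖ = 1 ∧ ∀ i, μ i = c := by
  rcases Nat.eq_zero_or_pos (Fintype.card ι) with h0 | hpos
  · have : IsEmpty ι := Fintype.card_eq_zero_iff.mp h0
    exact ⟨1, norm_one, fun i => isEmptyElim i⟩
  · have hnC : (Fintype.card ι : ℂ) ≠ 0 := by exact_mod_cast hpos.ne'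
    have hnR : (Fintype.card ι : ℝ) ≠ 0 := by exact_mod_cast hpos.ne'
    obtain ⟨c, hc⟩ : ∃ c : ℂ, c = (∑ i, μ i) / (Fintype.card ι : ℂ) := ⟨_, rfl⟩
    have hcn : ‖c‖ = 1 := by
      rw [hc, norm_div, hs, Complex.norm_natCast]
      exact div_self hnR
    have hc0 : c ≠ 0 := fun h0 => by rw [h0, norm_zero] at hcn; exact zero_ne_one hcn
    have hz : ∀ i, μ i / c = 1 := by
      apply Cfsg.Agent.Lib.Helper3.eq_one_of_norm_one_of_sum_eq_card (fun i => μ i / c)
      · intro i
        rw [norm_div, hμn i, hcn, div_one]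
      · have hsum : ∑ i, μ i = c * (Fintype.card ι : ℂ) := by
          rw [hc]; field_simp
        rw [← Finset.sum_div, hsum]
        field_simp
    refine ⟨c, hcn, fun i => ?_⟩
    have := hz i
    field_simp at this
    exact this

/-- If `|χ g| = χ 1` then `ρ g` is a scalar. -/
theorem exists_scalar_of_norm_character_eq {V : Type*} [AddCommGroup V] [Module ℂ V]
    [FiniteDimensional ℂ V] (ρ : Representation ℂ G V) (g : G)
    (hh : ‖ρ.character g‖ = (Module.finrank ℂ V : ℝ)) :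
    ∃ c : ℂ, ‖c‖ = 1 ∧ ρ g = c • LinearMap.id := by
  classical
  obtain ⟨b, μ, h1, h2⟩ := Cfsg.Agent.Lib.Helper3.exists_eigenbasis_rep ρ g
  have hμn : ∀ i, ‖μ i‖ = 1 := fun i =>
    Complex.norm_eq_one_of_pow_eq_one (h2 i) (orderOf_pos g).ne'
  have hχ := Cfsg.Agent.Lib.Helper3.character_eq_sum_eigen ρ g b μ h1
  obtain ⟨c, hc, hμc⟩ := exists_const_of_norm_sum_eq_card μ hμn
    (by rw [← hχ, hh, Fintype.card_fin])
  refine ⟨c, hc, ?_⟩
  apply b.ext
  intro i
  rw [h1 i, hμc i]
  rfl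

/-- In a faithful representation, elements with `|χ g| = χ 1` are central. -/
theorem mem_center_of_norm_character_eq {V : Type*} [AddCommGroup V] [Module ℂ V]
    [FiniteDimensional ℂ V] (ρ : Representation ℂ G V) (hinj : Function.Injective ρ) (g : G)
    (hh : ‖ρ.character g‖ = (Module.finrank ℂ V : ℝ)) : g ∈ Subgroup.center G := by
  obtain ⟨c, -, hc⟩ := exists_scalar_of_norm_character_eq ρ g hh
  rw [Subgroup.mem_center_iff]
  intro h
  apply hinj
  rw [map_mul, map_mul, hc]
  ext v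
  simp

end Center

end Cfsg.Agent.Lib.Helper80
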