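import Cfsg.Agent.Lib.Helper80.OneNonlinear
import Cfsg.Agent.Lib.Helper15.LinearChar

/-!
# Characters of a class-two `2`-group with elementary abelian centre: abstract lemmas for S0347-B2
-/

set_option autoImplicit false
set_option linter.unusedVariables false
set_option linter.unusedSectionVars false

namespace Cfsg.Agent.Lib.Helper80.SzB2

open Cfsg
open scoped ComplexConjugate

universe u

variable {K : Type u} [Group K]

theorem isCharacter_of_irr {θ : K → ℂ} (h : IsIrrCharacter K θ) : IsCharacter K θ := by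
  obtain ⟨n, ρ, _, hρ⟩ := h
  exact ⟨n, ρ, hρ⟩

/-- a linear character is trivial on commutators -/
theorem linear_comm {θ : K → ℂ} (hθ : IsIrrCharacter K θ) (hdeg : θ 1 = 1) (x y : K) :
    θ (x⁻¹ * y⁻¹ * x * y) = 1 := by
  have hlin : IsCharacter K θ ∧ θ 1 = 1 := ⟨isCharacter_of_irr hθ, hdeg⟩
  have hx := Cfsg.Agent.Lib.Helper15.linChar_ne_zero hlin x
  have hy := Cfsg.Agent.Lib.Helper15.linChar_ne_zero hlin y
  rw [Cfsg.Agent.Lib.Helper15.linChar_mul hlin, Cfsg.Agent.Lib.Helper15.linChar_mul hlin,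
    Cfsg.Agent.Lib.Helper15.linChar_mul hlin, Cfsg.Agent.Lib.Helper15.linChar_inv hlin,
    Cfsg.Agent.Lib.Helper15.linChar_inv hlin]
  field_simp

variable [Finite K]

/-- many linear characters when the derived subgroup is central -/
theorem card_linear_ge (hcomm : commutator K ≤ Subgroup.center K) :
    (Subgroup.center K).index - 1 ≤
      Nat.card {θ : IrrCharacter K // (θ : K → ℂ) 1 = 1 ∧ (θ : K → ℂ) ≠ fun _ => 1} := by
  have h1 := Cfsg.Agent.S0894.card_linear (G := K)
  have h2 : (Subgroup.center K).index ≤ (commutator K).index :=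
    Nat.le_of_dvd (Nat.pos_of_ne_zero Subgroup.index_ne_zero_of_finite)
      (Subgroup.index_dvd_of_le hcomm)
  have : Finite (IrrCharacter K) := Cfsg.Agent.Lib.Helper3.irrCharacter_finite
  classical
  let f : {θ : IrrCharacter K // (θ : K → ℂ) 1 = 1} →
      Option {θ : IrrCharacter K // (θ : K → ℂ) 1 = 1 ∧ (θ : K → ℂ) ≠ fun _ => 1} := fun θ =>
    if h : (θ.1 : K → ℂ) ≠ fun _ => 1 then some ⟨θ.1, θ.2, h⟩ else none
  have hf : Function.Injective f := by
    intro θ θ' he
    by_cases h : (θ.1 : K → ℂ) ≠ fun _ => 1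
    · by_cases h' : (θ'.1 : K → ℂ) ≠ fun _ => 1
      · simp only [f, dif_pos h, dif_pos h', Option.some.injEq, Subtype.mk.injEq] at he
        exact Subtype.ext he
      · simp only [f, dif_pos h, dif_neg h'] at he
        exact absurd he (by simp)
    · by_cases h' : (θ'.1 : K → ℂ) ≠ fun _ => 1
      · simp only [f, dif_neg h, dif_pos h'] at he
        exact absurd he (by simp)
      · push Not at h h'
        exact Subtype.ext (Subtype.ext (h.trans h'.symm))
  have h3 := Nat.card_le_card_of_injective f hf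
  rw [Finite.card_option] at h3
  omega

/-- the degree of an irreducible character is bounded by the index of the centre -/
theorem deg_sq_mul_center_le {θ : K → ℂ} (hθ : IsIrrCharacter K θ) :
    ∃ d : ℕ, θ 1 = (d : ℂ) ∧ d ∣ Nat.card K ∧ d ≠ 0 ∧
      d ^ 2 * Nat.card (Subgroup.center K) ≤ Nat.card K := by
  have := Fintype.ofFinite K
  classical
  obtain ⟨d, hd, hdvd, hd0⟩ := Cfsg.Agent.Lib.Helper3.IsIrrCharacter.apply_one_dvd_card hθ
  refine ⟨d, hd, hdvd, hd0, ?_⟩
  set χ : IrrCharacter K := ⟨θ, hθ⟩ with hχ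
  have hcd : charDegree (χ : K → ℂ) = d := by
    have h1 := Cfsg.Agent.Lib.Helper80.irr_charDegree_cast χ
    rw [show (χ : K → ℂ) 1 = (d : ℂ) from hd] at h1
    exact_mod_cast h1
  have h1 := Cfsg.Agent.Lib.Helper80.irr_sum_norm_sq χ
  have h2 : ∑ g ∈ Finset.univ.filter (fun g : K => g ∈ Subgroup.center K),
      ‖(χ : K → ℂ) g‖ ^ 2 ≤ ∑ g : K, ‖(χ : K → ℂ) g‖ ^ 2 :=
    Finset.sum_le_sum_of_subset_of_nonneg (Finset.filter_subset _ _)
      (fun g _ _ => by positivity)
  have h3 : ∑ g ∈ Finset.univ.filter (fun g : K => g ∈ Subgroup.center K),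
      ‖(χ : K → ℂ) g‖ ^ 2 = (Nat.card (Subgroup.center K) : ℝ) * ((d : ℕ) : ℝ) ^ 2 := by
    rw [Finset.sum_congr rfl (fun g hg =>
      Cfsg.Agent.Lib.Helper80.irr_norm_sq_of_mem_center χ g (Finset.mem_filter.mp hg).2),
      Finset.sum_const, nsmul_eq_mul, hcd]
    congr 2
    rw [Nat.card_eq_fintype_card, Fintype.card_subtype]
  rw [h3, h1] at h2
  have h4 : ((d ^ 2 * Nat.card (Subgroup.center K) : ℕ) : ℝ) ≤ ((Nat.card K : ℕ) : ℝ) := by
    push_cast
    linarith
  exact_mod_cast h4

/-- a character of full degree vanishes off the centre -/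
theorem vanish_off_center {θ : K → ℂ} (hθ : IsIrrCharacter K θ) {d : ℕ} (hd : θ 1 = (d : ℂ))
    (hfull : d ^ 2 * Nat.card (Subgroup.center K) = Nat.card K) {g : K}
    (hg : g ∉ Subgroup.center K) : θ g = 0 := by
  have := Fintype.ofFinite K
  classical
  set χ : IrrCharacter K := ⟨θ, hθ⟩ with hχ
  have hcd : charDegree (χ : K → ℂ) = d := by
    have h1 := Cfsg.Agent.Lib.Helper80.irr_charDegree_cast χ
    rw [show (χ : K → ℂ) 1 = (d : ℂ) from hd] at h1
    exact_mod_cast h1
  have h1 := Cfsg.Agent.Lib.Helper80.irr_sum_norm_sq χ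
  have h3 : ∑ g ∈ Finset.univ.filter (fun g : K => g ∈ Subgroup.center K),
      ‖(χ : K → ℂ) g‖ ^ 2 = (Nat.card (Subgroup.center K) : ℝ) * ((d : ℕ) : ℝ) ^ 2 := by
    rw [Finset.sum_congr rfl (fun g hg =>
      Cfsg.Agent.Lib.Helper80.irr_norm_sq_of_mem_center χ g (Finset.mem_filter.mp hg).2),
      Finset.sum_const, nsmul_eq_mul, hcd]
    congr 2
    rw [Nat.card_eq_fintype_card, Fintype.card_subtype]
  have h4 : (Nat.card (Subgroup.center K) : ℝ) * ((d : ℕ) : ℝ) ^ 2 = (Nat.card K : ℝ) := by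
    have : ((d ^ 2 * Nat.card (Subgroup.center K) : ℕ) : ℝ) = ((Nat.card K : ℕ) : ℝ) := by
      rw [hfull]
    push_cast at this
    linarith
  have h5 := Finset.sum_filter_add_sum_filter_not Finset.univ
    (fun g : K => g ∈ Subgroup.center K) (fun g => ‖(χ : K → ℂ) g‖ ^ 2)
  rw [h1, h3, h4] at h5
  have h6 : ∑ g ∈ Finset.univ.filter (fun g : K => ¬ g ∈ Subgroup.center K),
      ‖(χ : K → ℂ) g‖ ^ 2 = 0 := by linarith
  have h7 := (Finset.sum_eq_zero_iff_of_nonneg (fun g _ => by positivity)).mp h6 g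
    (Finset.mem_filter.mpr ⟨Finset.mem_univ g, hg⟩)
  have h8 : ‖(χ : K → ℂ) g‖ = 0 := by
    have := pow_eq_zero_iff (n := 2) (by norm_num) |>.mp h7
    exact this
  exact norm_eq_zero.mp h8

/-- the sum of a nonprincipal irreducible character is zero -/
theorem sum_eq_zero_of_ne_one {θ : K → ℂ} (hθ : IsIrrCharacter K θ) (h1 : θ ≠ fun _ => 1)
    [Fintype K] : ∑ g : K, θ g = 0 := by
  have htriv : IsIrrCharacter K (fun _ : K => (1 : ℂ)) := by
    have := Cfsg.Agent.Lib.Helper79.isIrrCharacter_of_monoidHom (1 : K →* ℂˣ)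
    simpa using this
  have h := Cfsg.Agent.Lib.Helper80.irr_row_orthogonality (⟨θ, hθ⟩ : IrrCharacter K) ⟨_, htriv⟩
  rw [if_neg (fun he => h1 (congrArg Subtype.val he))] at h
  simpa using h


/-- linear characters are trivial on the centre, when the automorphisms are transitive on the nontrivial central
elements and the commutators are central -/
theorem linear_center_abs {θ : K → ℂ} (hθ : IsIrrCharacter K θ) (hdeg : θ 1 = 1)
    (hcomm : ∀ x y : K, x⁻¹ * y⁻¹ * x * y ∈ Subgroup.center K)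
    (hnonab : ∃ x y : K, x * y ≠ y * x)
    (htrans : ∀ z w : K, z ∈ Subgroup.center K → z ≠ 1 → w ∈ Subgroup.center K → w ≠ 1 →
      ∃ φ : K ≃* K, φ z = w)
    (z : K) (hz : z ∈ Subgroup.center K) : θ z = 1 := by
  by_cases hz1 : z = 1
  · rw [hz1, hdeg]
  obtain ⟨x, y, hxy⟩ := hnonab
  have hw1 : x⁻¹ * y⁻¹ * x * y ≠ 1 := by
    intro h
    apply hxy
    have : x * y = y * x * (x⁻¹ * y⁻¹ * x * y) := by group
    rw [this, h, mul_one]
  obtain ⟨φ, hφ⟩ := htrans _ z (hcomm x y) hw1 hz hz1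
  rw [← hφ]
  simp only [map_mul, map_inv]
  exact linear_comm hθ hdeg (φ x) (φ y)

/-- the Frobenius–Schur sum of a fully ramified character of a Suzuki `2`-group of order `q³` -/
theorem sum_sq_eq_neg_card [Fintype K] {θ : K → ℂ} (hθ : IsIrrCharacter K θ) {q : ℕ} (hq : 2 ≤ q)
    (hdeg : θ 1 = (q : ℂ)) (hZ : Nat.card (Subgroup.center K) = q) (hK : Nat.card K = q ^ 3)
    (hsq : ∀ x : K, x * x ∈ Subgroup.center K)
    (hinv : ∀ x : K, x * x = 1 ↔ x ∈ Subgroup.center K)
    (htrans : ∀ z w : K, z ∈ Subgroup.center K → z ≠ 1 → w ∈ Subgroup.center K → w ≠ 1 →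
      ∃ φ : K ≃* K, φ z = w) :
    ∑ u : K, θ (u * u) = -(Nat.card K : ℂ) := by
  classical
  have hvan : ∀ g, g ∉ Subgroup.center K → θ g = 0 := fun g hg =>
    vanish_off_center hθ hdeg (by rw [hZ, hK]; ring) hg
  have hne : θ ≠ fun _ => 1 := by
    intro h
    have h1 := congrFun h 1
    rw [hdeg] at h1
    have : q = 1 := by exact_mod_cast h1
    omega
  have hsum : ∑ g, θ g = 0 := sum_eq_zero_of_ne_one hθ hne
  set f : K → ℕ := fun z => (Finset.univ.filter (fun u : K => u * u = z)).card with hf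
  have h1 : ∑ u, θ (u * u) = ∑ z, (f z : ℂ) * θ z := by
    rw [← Finset.sum_fiberwise (Finset.univ) (fun u : K => u * u) (fun u => θ (u * u))]
    apply Finset.sum_congr rfl
    intro z _
    rw [Finset.sum_congr rfl (fun u hu => by rw [(Finset.mem_filter.mp hu).2] :
      ∀ u ∈ Finset.univ.filter (fun u : K => u * u = z), θ (u * u) = θ z)]
    rw [Finset.sum_const, nsmul_eq_mul]
  have hcount : ∑ z, f z = Fintype.card K := by
    rw [← Finset.card_univ]
    exact (Finset.card_eq_sum_card_fiberwise (f := fun u : K => u * u) (s := Finset.univ)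
      (t := Finset.univ) (fun _ _ => Finset.mem_univ _)).symm
  have hZcard : (Finset.univ.filter (fun u : K => u ∈ Subgroup.center K)).card = q := by
    rw [← hZ, Nat.card_eq_fintype_card, Fintype.card_subtype]
  obtain ⟨z₀, hz₀Z, hz₀1⟩ : ∃ z₀ ∈ Subgroup.center K, z₀ ≠ 1 := by
    by_contra hcon
    push Not at hcon
    have : Finset.univ.filter (fun u : K => u ∈ Subgroup.center K) ⊆ {1} := by
      intro u hu
      rw [Finset.mem_singleton]
      exact hcon u (Finset.mem_filter.mp hu).2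
    have := Finset.card_le_card this
    rw [hZcard, Finset.card_singleton] at this
    omega
  have hconst : ∀ z ∈ Subgroup.center K, z ≠ 1 → f z = f z₀ := by
    intro z hz hz1
    obtain ⟨φ, hφ⟩ := htrans z z₀ hz hz1 hz₀Z hz₀1
    apply Finset.card_bij (fun u _ => φ u)
    · intro u hu
      rw [Finset.mem_filter] at hu ⊢
      refine ⟨Finset.mem_univ _, ?_⟩
      rw [← map_mul, hu.2, hφ]
    · intro u _ v _ h
      exact φ.injective h
    · intro v hv
      rw [Finset.mem_filter] at hv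
      refine ⟨φ.symm v, ?_, by simp⟩
      rw [Finset.mem_filter]
      refine ⟨Finset.mem_univ _, ?_⟩
      apply φ.injective
      rw [map_mul, MulEquiv.apply_symm_apply, hv.2, hφ]
  have hf1 : f 1 = q := by
    rw [← hZcard]
    show (Finset.univ.filter (fun u : K => u * u = 1)).card = _
    congr 1
    ext u
    simp only [Finset.mem_filter, Finset.mem_univ, true_and]
    exact hinv u
  have hfoff : ∀ z, z ∉ Subgroup.center K → f z = 0 := by
    intro z hz
    rw [hf]
    simp only [Finset.card_eq_zero]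
    apply Finset.filter_eq_empty_iff.mpr
    intro u _ hu
    exact hz (hu ▸ hsq u)
  set r := f z₀ with hr
  have h2 : ∀ z, z ≠ 1 → (f z : ℂ) * θ z = (r : ℂ) * θ z := by
    intro z hz1
    by_cases hz : z ∈ Subgroup.center K
    · rw [hconst z hz hz1]
    · rw [hvan z hz]; simp
  have h3 : ∑ z, (f z : ℂ) * θ z = (f 1 : ℂ) * θ 1 + ∑ z ∈ Finset.univ.erase 1, (r : ℂ) * θ z := by
    rw [← Finset.add_sum_erase _ _ (Finset.mem_univ (1 : K))]
    congr 1
    apply Finset.sum_congr rfl
    intro z hz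
    exact h2 z (Finset.ne_of_mem_erase hz)
  have h4 : ∑ z ∈ Finset.univ.erase (1 : K), θ z = - θ 1 := by
    have := Finset.add_sum_erase Finset.univ θ (Finset.mem_univ (1 : K))
    rw [hsum] at this
    linear_combination this
  have h5 : ∑ z ∈ Finset.univ.erase (1 : K), f z = r * (q - 1) := by
    have e1 : ∀ z ∈ Finset.univ.erase (1 : K), f z = if z ∈ Subgroup.center K then r else 0 := by
      intro z hz
      split_ifs with h
      · exact hconst z h (Finset.ne_of_mem_erase hz)
      · exact hfoff z h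
    rw [Finset.sum_congr rfl e1, Finset.sum_ite, Finset.sum_const_zero, add_zero, Finset.sum_const,
      smul_eq_mul, mul_comm]
    congr 1
    have e2 : (Finset.univ.erase (1 : K)).filter (fun z => z ∈ Subgroup.center K) =
        (Finset.univ.filter (fun u : K => u ∈ Subgroup.center K)).erase 1 := by
      ext z
      simp only [Finset.mem_filter, Finset.mem_erase, Finset.mem_univ, true_and, and_true]
    rw [e2, Finset.card_erase_of_mem (by simp), hZcard]
  have h6 : q + r * (q - 1) = q ^ 3 := by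
    rw [← h5, ← hf1, Finset.add_sum_erase _ _ (Finset.mem_univ (1 : K)), hcount,
      ← Nat.card_eq_fintype_card, hK]
    rw [hf1]
  have h7 : r = q * (q + 1) := by
    obtain ⟨m, rfl⟩ : ∃ m, q = m + 2 := ⟨q - 2, by omega⟩
    have : r * (m + 1) = (m + 2) * (m + 2 + 1) * (m + 1) := by
      have e : m + 2 - 1 = m + 1 := by omega
      rw [e] at h6
      nlinarith [h6]
    exact Nat.eq_of_mul_eq_mul_right (by omega) this
  rw [h1, h3, ← Finset.mul_sum, h4, hf1, hdeg, hK, h7]
  push_cast
  ring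

end Cfsg.Agent.Lib.Helper80.SzB2
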