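import Mathlib
import Cfsg.Agent.Lib.Helper3.SzB0
import Cfsg.Agent.Lib.Helper80.SzB2Abs

set_option autoImplicit false
set_option linter.style.haveILetI false
set_option linter.unusedSectionVars false
set_option linter.unusedVariables false

/-! # S0347 part B, leaves B2a–B2e: characters of the Suzuki `2`-group `Q`. -/

namespace Cfsg.Agent.Lib.Helper3.Sz

open Cfsg MulAction
open Cfsg.Agent.Lib.Helper97.Zass
open Cfsg.Agent.Lib.Helper3.ZassOdd
open Cfsg.Agent.Lib.Helper3.ZassFeit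
open scoped ComplexConjugate

variable {G Ω : Type*} [Group G] [MulAction G Ω] [Fintype Ω] {a b : Ω} {Q : Subgroup G} {q : ℕ}
variable [Fintype G] [Fintype Q] [Fintype (twoStab G a b)] [IsSimpleGroup G]

/-- conjugation by an element of the two point stabiliser, as an automorphism of `Q`. -/
noncomputable def b2_conjEquiv (c : Ctx G a b Q q) {g : G} (hg : g ∈ twoStab G a b) : Q ≃* Q where
  toFun u := ⟨g * u * g⁻¹, c.ker.conj_mem c.hy (mem_twoStab.mp hg).1 u.2⟩
  invFun u := ⟨g⁻¹ * u * g, by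
    have h := c.ker.conj_mem c.hy (g := g⁻¹)
      (by rw [inv_smul_eq_iff, (mem_twoStab.mp hg).1]) u.2
    simpa using h⟩
  left_inv u := by
    apply Subtype.ext
    simp [mul_assoc]
  right_inv u := by
    apply Subtype.ext
    simp [mul_assoc]
  map_mul' u v := by
    apply Subtype.ext
    simp [mul_assoc]

theorem b2_trans (c : Ctx G a b Q q) (z w : Q) (hz : z ∈ Subgroup.center Q) (hz1 : z ≠ 1)
    (hw : w ∈ Subgroup.center Q) (hw1 : w ≠ 1) : ∃ φ : Q ≃* Q, φ z = w := by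
  have hz2 : (z : G) * z = 1 := by
    have := c.center_sq z hz
    exact_mod_cast congrArg Subtype.val this
  have hw2 : (w : G) * w = 1 := by
    have := c.center_sq w hw
    exact_mod_cast congrArg Subtype.val this
  have hz1' : (z : G) ≠ 1 := fun h => hz1 (Subtype.ext h)
  have hw1' : (w : G) ≠ 1 := fun h => hw1 (Subtype.ext h)
  obtain ⟨g, hg, hgz⟩ := c.trans z.2 hz1' hz2 w.2 hw1' hw2
  exact ⟨b2_conjEquiv c hg, Subtype.ext hgz⟩

theorem b2_nonab (c : Ctx G a b Q q) : ∃ x y : Q, x * y ≠ y * x := by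
  by_contra hcon
  push Not at hcon
  have htop : Subgroup.center Q = ⊤ := by
    rw [eq_top_iff]
    intro x _
    rw [Subgroup.mem_center_iff]
    intro g
    exact hcon g x
  have h1 : Nat.card (Subgroup.center Q) = Nat.card Q := by
    rw [htop, Subgroup.card_top]
  rw [c.card_center] at h1
  have h4 := c.four_le
  rcases c.card_cases with h | h
  · rw [h] at h1
    have h16 : 4 * q ≤ q * q := Nat.mul_le_mul_right q h4
    have e : q ^ 2 = q * q := by ring
    linarith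
  · rw [h] at h1
    have h16 : 4 * 4 ≤ q * q := Nat.mul_le_mul h4 h4
    have h17 : 4 * 4 * q ≤ q * q * q := Nat.mul_le_mul_right q h16
    have e : q ^ 3 = q * q * q := by ring
    linarith

theorem b2_comm_le (c : Ctx G a b Q q) : commutator Q ≤ Subgroup.center Q := by
  rw [commutator_def, Subgroup.commutator_le]
  intro g₁ _ g₂ _
  have := c.comm_mem g₁⁻¹ g₂⁻¹
  simpa [commutatorElement_def] using this

theorem b2_inv (c : Ctx G a b Q q) (x : Q) : x * x = 1 ↔ x ∈ Subgroup.center Q := by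
  by_cases hx : x = 1
  · subst hx
    simp
  · constructor
    · intro h
      exact ((c.inv_iff x).mp ⟨hx, h⟩).1
    · intro h
      exact ((c.inv_iff x).mpr ⟨h, hx⟩).2

/-- B2a. -/
theorem linear_center (c : Ctx G a b Q q) {θ : Q → ℂ} (hθ : IsIrrCharacter Q θ) (hdeg : θ 1 = 1)
    (z : Q) (hz : z ∈ Subgroup.center Q) : θ z = 1 :=
  Cfsg.Agent.Lib.Helper80.SzB2.linear_center_abs hθ hdeg c.comm_mem (b2_nonab c) (b2_trans c) z hz

/-- B2b. -/
theorem card_linear (c : Ctx G a b Q q) (hQ : Nat.card Q = q ^ 3) :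
    q ^ 2 - 1 ≤ Nat.card {θ : IrrCharacter Q // (θ : Q → ℂ) 1 = 1 ∧ (θ : Q → ℂ) ≠ fun _ => 1} := by
  have h := Cfsg.Agent.Lib.Helper80.SzB2.card_linear_ge (b2_comm_le c)
  have h1 := Subgroup.card_mul_index (Subgroup.center Q)
  rw [c.card_center, hQ] at h1
  have h4 := c.four_le
  have h2 : (Subgroup.center Q).index = q ^ 2 := by
    have : q * (Subgroup.center Q).index = q * q ^ 2 := by rw [h1]; ring
    exact Nat.eq_of_mul_eq_mul_left (by omega) this
  rw [h2] at h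
  exact h

/-- B2c. -/
theorem deg_le (c : Ctx G a b Q q) (hQ : Nat.card Q = q ^ 3) {θ : Q → ℂ}
    (hθ : IsIrrCharacter Q θ) : ∃ j : ℕ, θ 1 = ((2 ^ j : ℕ) : ℂ) ∧ 2 ^ j ≤ q := by
  obtain ⟨d, hd, hdvd, hd0, hle⟩ := Cfsg.Agent.Lib.Helper80.SzB2.deg_sq_mul_center_le hθ
  obtain ⟨j, hj2, hqj⟩ := c.q_pow
  rw [hQ, hqj, ← pow_mul] at hdvd
  obtain ⟨i, -, hi⟩ := (Nat.dvd_prime_pow Nat.prime_two).mp hdvd
  refine ⟨i, by rw [hd, hi], ?_⟩
  rw [c.card_center, hQ] at hle
  have h4 := c.four_le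
  rw [← hi]
  by_contra hlt
  push Not at hlt
  have : q ^ 2 < d ^ 2 := by nlinarith
  have : q ^ 2 * q < d ^ 2 * q := by nlinarith
  have e : q ^ 3 = q ^ 2 * q := by ring
  omega

/-- B2d. -/
theorem linear_sq (c : Ctx G a b Q q) {θ : Q → ℂ} (hθ : IsIrrCharacter Q θ) (hdeg : θ 1 = 1)
    (u : Q) : θ (u * u) = 1 :=
  linear_center c hθ hdeg (u * u) (c.sq_mem u)

/-- B2e. -/
theorem full_ram (c : Ctx G a b Q q) (hQ : Nat.card Q = q ^ 3) {θ : Q → ℂ}
    (hθ : IsIrrCharacter Q θ) (hdeg : θ 1 = (q : ℂ)) :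
    ∑ u : Q, θ (u * u) = -(Nat.card Q : ℂ) := by
  have h4 := c.four_le
  exact Cfsg.Agent.Lib.Helper80.SzB2.sum_sq_eq_neg_card hθ (by omega) hdeg c.card_center hQ
    c.sq_mem (b2_inv c) (b2_trans c)

end Cfsg.Agent.Lib.Helper3.Sz
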