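import Cfsg.Agent.Lib.Helper34.TateDefs

set_option autoImplicit false

/-!
# Tate project, task T17: invariance of an invariant subsystem under conjugation by `S`
-/

namespace Cfsg.Agent.Lib.Helper34.Tate

open Cfsg Cfsg.FusionSystem

/-- conjugation by `g⁻¹` on a subgroup `T` stable under it, as an automorphism of `T` -/
def cjInvT {Ω : Type*} [Group Ω] (T : Subgroup Ω) (g : Ω)
    (h1 : ∀ t ∈ T, g⁻¹ * t * g ∈ T) (h2 : ∀ t ∈ T, g * t * g⁻¹ ∈ T) : T ≃* T where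
  toFun t := ⟨g⁻¹ * t * g, h1 t t.2⟩
  invFun t := ⟨g * t * g⁻¹, h2 t t.2⟩
  left_inv t := by
    apply Subtype.ext
    show g * (g⁻¹ * (t : Ω) * g) * g⁻¹ = t
    group
  right_inv t := by
    apply Subtype.ext
    show g⁻¹ * (g * (t : Ω) * g⁻¹) * g = t
    group
  map_mul' a b := by
    apply Subtype.ext
    show g⁻¹ * ((a : Ω) * b) * g = g⁻¹ * a * g * (g⁻¹ * b * g)
    group

theorem conj_invariant_of_invariantIn {Ω : Type*} [Group Ω] {S : Subgroup Ω} (F : FusionSystem S)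
    {T : Subgroup Ω} (E : FusionSystem T) (hE : E.IsInvariantIn F) (g : Ω) (hg : g ∈ S) :
    ∀ (Q : Subgroup Ω) (ψ : Q →* Ω), ψ ∈ E.Hom Q →
      ∃ χ ∈ E.Hom (Q.map (MulAut.conj g⁻¹).toMonoidHom),
        ∀ (x : Q) (hx : g⁻¹ * (x : Ω) * g ∈ Q.map (MulAut.conj g⁻¹).toMonoidHom),
          χ ⟨g⁻¹ * x * g, hx⟩ = g⁻¹ * ψ x * g := by
  intro Q ψ hψ
  obtain ⟨-, ⟨hTS, hsc⟩, hinv, -⟩ := hE
  have hQT : Q ≤ T := (E.le_of_mem hψ).1
  have hginv : g⁻¹ ∈ S := S.inv_mem hg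
  have h1 : ∀ t ∈ T, g⁻¹ * t * g ∈ T := by
    intro t ht
    have hmem : Cfsg.conjHom T g⁻¹ ∈ F.Hom T := F.conj_mem hTS hginv
    have := hsc T le_rfl _ hmem ⟨t, ht⟩
    simpa [Cfsg.conjHom] using this
  have h2 : ∀ t ∈ T, g * t * g⁻¹ ∈ T := by
    intro t ht
    have hmem : Cfsg.conjHom T g ∈ F.Hom T := F.conj_mem hTS hg
    have := hsc T le_rfl _ hmem ⟨t, ht⟩
    simpa [Cfsg.conjHom] using this
  set α : MulAut T := cjInvT T g h1 h2 with hαdef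
  have hα : α ∈ F.autGroup T := by
    apply Subgroup.subset_closure
    show T.subtype.comp α.toMonoidHom ∈ F.Hom T
    have hmem : Cfsg.conjHom T g⁻¹ ∈ F.Hom T := F.conj_mem hTS hginv
    have heq : T.subtype.comp α.toMonoidHom = Cfsg.conjHom T g⁻¹ := by
      ext t
      simp [Cfsg.conjHom, hαdef, cjInvT]
    rw [heq]; exact hmem
  obtain ⟨χ₀, hχ₀, hχ₀'⟩ := hinv Q hQT ψ hψ α hα
  have key : ∀ (B : Subgroup Ω), (Q.subgroupOf T).map (T.subtype.comp α.toMonoidHom) = B →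
      ∃ χ ∈ E.Hom B, ∀ (x : Q) (hx : g⁻¹ * (x : Ω) * g ∈ B),
        χ ⟨g⁻¹ * x * g, hx⟩ = g⁻¹ * ψ x * g := by
    intro B hB
    subst hB
    refine ⟨χ₀, hχ₀, ?_⟩
    intro x hx
    have hψx : ψ x ∈ T := (E.le_of_mem hψ).2 x
    exact hχ₀' x hψx hx
  apply key
  ext y
  constructor
  · rintro ⟨t, ht, rfl⟩
    refine ⟨(t : Ω), ht, ?_⟩
    simp [hαdef, cjInvT]
  · rintro ⟨q, hq, rfl⟩
    refine ⟨⟨q, hQT hq⟩, ?_, ?_⟩
    · exact hq
    · simp [hαdef, cjInvT]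

end Cfsg.Agent.Lib.Helper34.Tate
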