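import Cfsg.Agent.Lib.Helper34.TateDefs

set_option autoImplicit false

namespace Cfsg.Agent.Lib.Helper34.Tate

open Cfsg Cfsg.FusionSystem
open Cfsg.Agent.Lib.Helper87 (hom_le hom_mem_S)

variable {Ω : Type*} [Group Ω] {S : Subgroup Ω}

/-! ## [T9] stable characters are those killing the focal subgroup -/
theorem stab_iff_focal (F : FusionSystem S) {A : Type*} [Group A] (lam : S →* A) :
    Stab F lam ↔ ∀ (x : Ω) (hx : x ∈ F.focalSubgroup) (hxS : x ∈ S), lam ⟨x, hxS⟩ = 1 := by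
  constructor
  · intro hst
    have hle : F.focalSubgroup ≤ (lam.ker).map S.subtype := by
      unfold FusionSystem.focalSubgroup
      rw [Subgroup.closure_le]
      rintro y ⟨P, φ, x, hφ, rfl⟩
      have hxS : (x : Ω) ∈ S := hom_le F hφ x.2
      have hφS : φ x ∈ S := hom_mem_S F hφ x
      refine ⟨⟨(x : Ω)⁻¹ * φ x, S.mul_mem (S.inv_mem hxS) hφS⟩, ?_, rfl⟩
      rw [SetLike.mem_coe, MonoidHom.mem_ker]
      have h1 : (⟨(x : Ω)⁻¹ * φ x, S.mul_mem (S.inv_mem hxS) hφS⟩ : S)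
          = (⟨(x : Ω), hxS⟩ : S)⁻¹ * ⟨φ x, hφS⟩ := rfl
      rw [h1, map_mul, map_inv, hst P φ hφ x, inv_mul_cancel]
    intro x hx hxS
    obtain ⟨s, hs, hsx⟩ := hle hx
    have : (⟨x, hxS⟩ : S) = s := Subtype.ext hsx.symm
    rw [this]
    exact MonoidHom.mem_ker.mp hs
  · intro h Q ψ hψ v
    have hvS : (v : Ω) ∈ S := hom_le F hψ v.2
    have hψS : ψ v ∈ S := hom_mem_S F hψ v
    have hy : (v : Ω)⁻¹ * ψ v ∈ F.focalSubgroup :=
      Subgroup.subset_closure ⟨Q, ψ, v, hψ, rfl⟩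
    have h1 := h _ hy (S.mul_mem (S.inv_mem hvS) hψS)
    have h2 : (⟨(v : Ω)⁻¹ * ψ v, S.mul_mem (S.inv_mem hvS) hψS⟩ : S)
        = (⟨(v : Ω), hvS⟩ : S)⁻¹ * ⟨ψ v, hψS⟩ := rfl
    rw [h2, map_mul, map_inv] at h1
    exact (inv_mul_eq_one.mp h1).symm

end Cfsg.Agent.Lib.Helper34.Tate
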