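import Mathlib
import Cfsg.Agent.Lib.Helper37.TwoGenDefs
import Cfsg.Agent.Lib.Helper40.SpGen3
import Cfsg.Agent.Lib.Helper8.OmegaPoints
import Cfsg.Agent.Lib.Helper8.SylowMeet

/-!
# Tg hive (S2414), leaf TG-Z, part 1: the order-3 element in characteristic 2

`z = E(e₂,f₃) E(e₃,f₂) E(e₂,e₃) E(f₃,f₂)` (indices `i2`, `i3`), explicit coordinate action `tgz_T`.
-/

set_option autoImplicit false
set_option linter.unusedSectionVars false
set_option linter.unusedVariables false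
set_option linter.unusedSimpArgs false

namespace Cfsg.Agent.Lib.Helper37.TwoGen

open Matrix Module QuadraticMap
open Cfsg.Agent.Lib.Helper8 Cfsg.Agent.Lib.Helper13 Cfsg.Agent.Lib.Helper37

section tgz

variable (F : Type*) [Field F]

/-- basis vectors of the plus form -/
abbrev tgz_e (m : ℕ) (i : Fin m) : Fin m ⊕ Fin m → F := Pi.single (Sum.inl i) 1
abbrev tgz_f (m : ℕ) (i : Fin m) : Fin m ⊕ Fin m → F := Pi.single (Sum.inr i) 1

theorem tgz_polar_e (m : ℕ) (i : Fin m) (x : Fin m ⊕ Fin m → F) :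
    polar ⇑(plusForm m F) (tgz_e F m i) x = x (Sum.inr i) := by
  rw [polar_plusForm]
  simp [Pi.single_apply]

theorem tgz_polar_f (m : ℕ) (i : Fin m) (x : Fin m ⊕ Fin m → F) :
    polar ⇑(plusForm m F) (tgz_f F m i) x = x (Sum.inl i) := by
  rw [polar_plusForm]
  simp [Pi.single_apply]

theorem tgz_qe (m : ℕ) (i : Fin m) : plusForm m F (tgz_e F m i) = 0 :=
  (OrthField.plus_hypFam37 m F).qe i

theorem tgz_qf (m : ℕ) (i : Fin m) : plusForm m F (tgz_f F m i) = 0 :=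
  (OrthField.plus_hypFam37 m F).qf i

theorem tgz_ef (m : ℕ) (i j : Fin m) (hij : i ≠ j) :
    polar ⇑(plusForm m F) (tgz_e F m i) (tgz_f F m j) = 0 := by
  rw [tgz_polar_e]; simp [Pi.single_apply, hij]

theorem tgz_ee (m : ℕ) (i j : Fin m) :
    polar ⇑(plusForm m F) (tgz_e F m i) (tgz_e F m j) = 0 := by
  rw [tgz_polar_e]; simp [Pi.single_apply]

theorem tgz_ff (m : ℕ) (i j : Fin m) :
    polar ⇑(plusForm m F) (tgz_f F m i) (tgz_f F m j) = 0 := by
  rw [tgz_polar_f]; simp [Pi.single_apply]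

/-- `A₁ = E(e₂, f₃)` -/
noncomputable def tgz_A1 (m : ℕ) (i2 i3 : Fin m) (h23 : i2 ≠ i3) :
    ↥(Cfsg.isometryGroup F ⇑(plusForm m F)) :=
  eichlerElt (plusForm m F) (plusForm_nondegenerate m F) (tgz_e F m i2) (tgz_f F m i3)
    (tgz_qe F m i2) (tgz_ef F m i2 i3 h23)

/-- `A₂ = E(e₃, f₂)` -/
noncomputable def tgz_A2 (m : ℕ) (i2 i3 : Fin m) (h23 : i2 ≠ i3) :
    ↥(Cfsg.isometryGroup F ⇑(plusForm m F)) :=
  eichlerElt (plusForm m F) (plusForm_nondegenerate m F) (tgz_e F m i3) (tgz_f F m i2)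
    (tgz_qe F m i3) (tgz_ef F m i3 i2 (Ne.symm h23))

/-- `B₁ = E(e₂, e₃)` -/
noncomputable def tgz_B1 (m : ℕ) (i2 i3 : Fin m) :
    ↥(Cfsg.isometryGroup F ⇑(plusForm m F)) :=
  eichlerElt (plusForm m F) (plusForm_nondegenerate m F) (tgz_e F m i2) (tgz_e F m i3)
    (tgz_qe F m i2) (tgz_ee F m i2 i3)

/-- `B₂ = E(f₃, f₂)` -/
noncomputable def tgz_B2 (m : ℕ) (i2 i3 : Fin m) :
    ↥(Cfsg.isometryGroup F ⇑(plusForm m F)) :=
  eichlerElt (plusForm m F) (plusForm_nondegenerate m F) (tgz_f F m i3) (tgz_f F m i2)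
    (tgz_qf F m i3) (tgz_ff F m i3 i2)

theorem tgz_act_A1 (m : ℕ) (i2 i3 : Fin m) (h23 : i2 ≠ i3) (x : Fin m ⊕ Fin m → F) :
    act (plusForm m F) (tgz_A1 F m i2 i3 h23) x
      = x + x (Sum.inr i2) • tgz_f F m i3 - x (Sum.inl i3) • tgz_e F m i2 := by
  unfold tgz_A1
  rw [act_eichlerElt, tgz_polar_e, tgz_polar_f, tgz_qf, zero_mul, zero_smul, sub_zero]

theorem tgz_act_A2 (m : ℕ) (i2 i3 : Fin m) (h23 : i2 ≠ i3) (x : Fin m ⊕ Fin m → F) :
    act (plusForm m F) (tgz_A2 F m i2 i3 h23) x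
      = x + x (Sum.inr i3) • tgz_f F m i2 - x (Sum.inl i2) • tgz_e F m i3 := by
  unfold tgz_A2
  rw [act_eichlerElt, tgz_polar_e, tgz_polar_f, tgz_qf, zero_mul, zero_smul, sub_zero]

theorem tgz_act_B1 (m : ℕ) (i2 i3 : Fin m) (x : Fin m ⊕ Fin m → F) :
    act (plusForm m F) (tgz_B1 F m i2 i3) x
      = x + x (Sum.inr i2) • tgz_e F m i3 - x (Sum.inr i3) • tgz_e F m i2 := by
  unfold tgz_B1
  rw [act_eichlerElt, tgz_polar_e, tgz_polar_e, tgz_qe, zero_mul, zero_smul, sub_zero]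

theorem tgz_act_B2 (m : ℕ) (i2 i3 : Fin m) (x : Fin m ⊕ Fin m → F) :
    act (plusForm m F) (tgz_B2 F m i2 i3) x
      = x + x (Sum.inl i3) • tgz_f F m i2 - x (Sum.inl i2) • tgz_f F m i3 := by
  unfold tgz_B2
  rw [act_eichlerElt, tgz_polar_f, tgz_polar_f, tgz_qf, zero_mul, zero_smul, sub_zero]

/-- `z = A₁ A₂ B₁ B₂` -/
noncomputable def tgz_z (m : ℕ) (i2 i3 : Fin m) (h23 : i2 ≠ i3) :
    ↥(Cfsg.isometryGroup F ⇑(plusForm m F)) :=
  tgz_A1 F m i2 i3 h23 * tgz_A2 F m i2 i3 h23 * tgz_B1 F m i2 i3 * tgz_B2 F m i2 i3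

/-- the explicit action of `z` on coordinates (valid over any field) -/
def tgz_T (m : ℕ) (i2 i3 : Fin m) (x : Fin m ⊕ Fin m → F) : Fin m ⊕ Fin m → F :=
  fun j => match j with
  | Sum.inl i =>
      if i = i2 then
        4 * x (Sum.inl i2) - x (Sum.inr i2) - 2 * x (Sum.inl i3) - 2 * x (Sum.inr i3)
      else if i = i3 then
        -2 * x (Sum.inl i2) + x (Sum.inr i2) + 2 * x (Sum.inl i3) + x (Sum.inr i3)
      else x (Sum.inl i)
  | Sum.inr i =>
      if i = i2 then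
        - x (Sum.inl i2) + x (Sum.inr i2) + x (Sum.inl i3) + x (Sum.inr i3)
      else if i = i3 then
        -2 * x (Sum.inl i2) + x (Sum.inr i2) + x (Sum.inl i3) + 2 * x (Sum.inr i3)
      else x (Sum.inr i)

theorem tgz_act_z (m : ℕ) (i2 i3 : Fin m) (h23 : i2 ≠ i3) (x : Fin m ⊕ Fin m → F) :
    act (plusForm m F) (tgz_z F m i2 i3 h23) x = tgz_T F m i2 i3 x := by
  unfold tgz_z
  rw [act_mul, act_mul, act_mul, tgz_act_A1, tgz_act_A2, tgz_act_B1, tgz_act_B2]
  have h32 : i3 ≠ i2 := Ne.symm h23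
  funext j
  rcases j with i | i
  · by_cases hi2 : i = i2
    · subst hi2
      simp [tgz_T, Pi.single_apply, h23, h32]
      ring
    · by_cases hi3 : i = i3
      · subst hi3
        simp [tgz_T, Pi.single_apply, h23, h32]
        ring
      · simp [tgz_T, Pi.single_apply, h23, h32, hi2, hi3]
  · by_cases hi2 : i = i2
    · subst hi2
      simp [tgz_T, Pi.single_apply, h23, h32]
      ring
    · by_cases hi3 : i = i3
      · subst hi3
        simp [tgz_T, Pi.single_apply, h23, h32]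
        ring
      · simp [tgz_T, Pi.single_apply, h23, h32, hi2, hi3]

theorem tgz_T3 (h2 : (2 : F) = 0) (m : ℕ) (i2 i3 : Fin m) (h23 : i2 ≠ i3)
    (x : Fin m ⊕ Fin m → F) :
    tgz_T F m i2 i3 (tgz_T F m i2 i3 (tgz_T F m i2 i3 x)) = x := by
  have h32 : i3 ≠ i2 := Ne.symm h23
  funext j
  rcases j with i | i
  · by_cases hi2 : i = i2
    · subst hi2
      simp only [tgz_T, if_true, h32, if_false]
      linear_combination (84 * x (Sum.inl i) - 32 * x (Sum.inr i) - 52 * x (Sum.inl i3)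
        - 52 * x (Sum.inr i3)) * h2
    · by_cases hi3 : i = i3
      · subst hi3
        simp only [tgz_T, if_true, h32, if_false]
        linear_combination (-52 * x (Sum.inl i2) + 20 * x (Sum.inr i2) + 32 * x (Sum.inl i)
          + 32 * x (Sum.inr i)) * h2
      · simp [tgz_T, hi2, hi3]
  · by_cases hi2 : i = i2
    · subst hi2
      simp only [tgz_T, if_true, h32, if_false]
      linear_combination (-32 * x (Sum.inl i) + 12 * x (Sum.inr i) + 20 * x (Sum.inl i3)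
        + 20 * x (Sum.inr i3)) * h2
    · by_cases hi3 : i = i3
      · subst hi3
        simp only [tgz_T, if_true, h32, if_false]
        linear_combination (-52 * x (Sum.inl i2) + 20 * x (Sum.inr i2) + 32 * x (Sum.inl i)
          + 32 * x (Sum.inr i)) * h2
      · simp [tgz_T, hi2, hi3]

theorem tgz_pow_three (h2 : (2 : F) = 0) (m : ℕ) (i2 i3 : Fin m) (h23 : i2 ≠ i3) :
    tgz_z F m i2 i3 h23 ^ 3 = 1 := by
  apply iso_ext
  intro x
  have h3 : tgz_z F m i2 i3 h23 ^ 3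
      = tgz_z F m i2 i3 h23 * (tgz_z F m i2 i3 h23 * tgz_z F m i2 i3 h23) := by
    simp only [pow_succ, pow_zero, one_mul, mul_assoc]
  have key : act (plusForm m F) (tgz_z F m i2 i3 h23 ^ 3) x = act (plusForm m F) 1 x := by
    rw [h3, act_mul, act_mul, tgz_act_z, tgz_act_z, tgz_act_z, tgz_T3 F h2 m i2 i3 h23, act_one]
  exact key

theorem tgz_mem [Fintype F] (m : ℕ) (hm : 4 ≤ m) (i2 i3 : Fin m) (h23 : i2 ≠ i3) :
    tgz_z F m i2 i3 h23 ∈ commutator ↥(Cfsg.isometryGroup F ⇑(plusForm m F)) := by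
  have hV : finrank F (Fin m ⊕ Fin m → F) = 2 * m := OrthField.plus_hV
  have hn : 5 ≤ finrank F (Fin m ⊕ Fin m → F) := by omega
  have hn2 : (2 : F) = 0 → 7 ≤ finrank F (Fin m ⊕ Fin m → F) := fun _ => by omega
  have h1 : tgz_A1 F m i2 i3 h23 ∈ commutator ↥(Cfsg.isometryGroup F ⇑(plusForm m F)) :=
    eichlerElt_mem_omega _ _ hn hn2 _ _ _ _
  have h2 : tgz_A2 F m i2 i3 h23 ∈ commutator ↥(Cfsg.isometryGroup F ⇑(plusForm m F)) :=
    eichlerElt_mem_omega _ _ hn hn2 _ _ _ _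
  have h3 : tgz_B1 F m i2 i3 ∈ commutator ↥(Cfsg.isometryGroup F ⇑(plusForm m F)) :=
    eichlerElt_mem_omega _ _ hn hn2 _ _ _ _
  have h4 : tgz_B2 F m i2 i3 ∈ commutator ↥(Cfsg.isometryGroup F ⇑(plusForm m F)) :=
    eichlerElt_mem_omega _ _ hn hn2 _ _ _ _
  exact Subgroup.mul_mem _ (Subgroup.mul_mem _ (Subgroup.mul_mem _ h1 h2) h3) h4

/-- `z` fixes the basis vectors with index `≠ i2, i3` -/
theorem tgz_T_fix_e (m : ℕ) (i2 i3 i : Fin m) (hi2 : i ≠ i2) (hi3 : i ≠ i3) :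
    tgz_T F m i2 i3 (tgz_e F m i) = tgz_e F m i := by
  funext j
  rcases j with l | l
  · by_cases hl2 : l = i2
    · subst hl2
      simp [tgz_T, Pi.single_apply, hi2, Ne.symm hi2, hi3, Ne.symm hi3]
    · by_cases hl3 : l = i3
      · subst hl3
        simp [tgz_T, Pi.single_apply, hi2, Ne.symm hi2, hi3, Ne.symm hi3, hl2]
      · simp [tgz_T, Pi.single_apply, hl2, hl3]
  · by_cases hl2 : l = i2
    · subst hl2
      simp [tgz_T, Pi.single_apply, hi2, Ne.symm hi2, hi3, Ne.symm hi3]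
    · by_cases hl3 : l = i3
      · subst hl3
        simp [tgz_T, Pi.single_apply, hi2, Ne.symm hi2, hi3, Ne.symm hi3, hl2]
      · simp [tgz_T, Pi.single_apply, hl2, hl3]

theorem tgz_T_fix_f (m : ℕ) (i2 i3 i : Fin m) (hi2 : i ≠ i2) (hi3 : i ≠ i3) :
    tgz_T F m i2 i3 (tgz_f F m i) = tgz_f F m i := by
  funext j
  rcases j with l | l
  · by_cases hl2 : l = i2
    · subst hl2
      simp [tgz_T, Pi.single_apply, hi2, Ne.symm hi2, hi3, Ne.symm hi3]
    · by_cases hl3 : l = i3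
      · subst hl3
        simp [tgz_T, Pi.single_apply, hi2, Ne.symm hi2, hi3, Ne.symm hi3, hl2]
      · simp [tgz_T, Pi.single_apply, hl2, hl3]
  · by_cases hl2 : l = i2
    · subst hl2
      simp [tgz_T, Pi.single_apply, hi2, Ne.symm hi2, hi3, Ne.symm hi3]
    · by_cases hl3 : l = i3
      · subst hl3
        simp [tgz_T, Pi.single_apply, hi2, Ne.symm hi2, hi3, Ne.symm hi3, hl2]
      · simp [tgz_T, Pi.single_apply, hl2, hl3]

/-- in characteristic 2: `z e₂ = -f₂` -/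
theorem tgz_T_e2 (h2 : (2 : F) = 0) (m : ℕ) (i2 i3 : Fin m) (h23 : i2 ≠ i3) :
    tgz_T F m i2 i3 (tgz_e F m i2) = - tgz_f F m i2 := by
  have h32 : i3 ≠ i2 := Ne.symm h23
  have h4 : (4 : F) = 0 := by linear_combination 2 * h2
  funext j
  rcases j with l | l
  · by_cases hl2 : l = i2
    · subst hl2
      simp [tgz_T, Pi.single_apply, h23, h32, h4]
    · by_cases hl3 : l = i3
      · subst hl3
        simp [tgz_T, Pi.single_apply, h23, h32, h2]
      · simp [tgz_T, Pi.single_apply, hl2, hl3]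
  · by_cases hl2 : l = i2
    · subst hl2
      simp [tgz_T, Pi.single_apply, h23, h32]
    · by_cases hl3 : l = i3
      · subst hl3
        simp [tgz_T, Pi.single_apply, h23, h32, h2, hl2]
      · simp [tgz_T, Pi.single_apply, hl2, hl3]

/-- in characteristic 2: `z e₃ = f₂ - f₃` -/
theorem tgz_T_e3 (h2 : (2 : F) = 0) (m : ℕ) (i2 i3 : Fin m) (h23 : i2 ≠ i3) :
    tgz_T F m i2 i3 (tgz_e F m i3) = (1 : F) • tgz_f F m i2 - tgz_f F m i3 := by
  have h32 : i3 ≠ i2 := Ne.symm h23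
  have hneg : (-1 : F) = 1 := by linear_combination (-1 : F) * h2
  funext j
  rcases j with l | l
  · by_cases hl2 : l = i2
    · subst hl2
      simp [tgz_T, Pi.single_apply, h23, h32, h2]
    · by_cases hl3 : l = i3
      · subst hl3
        simp [tgz_T, Pi.single_apply, h23, h32, h2]
      · simp [tgz_T, Pi.single_apply, hl2, hl3]
  · by_cases hl2 : l = i2
    · subst hl2
      simp [tgz_T, Pi.single_apply, h23, h32]
    · by_cases hl3 : l = i3
      · subst hl3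
        simp [tgz_T, Pi.single_apply, h23, h32, hl2, hneg]
      · simp [tgz_T, Pi.single_apply, hl2, hl3]

end tgz

end Cfsg.Agent.Lib.Helper37.TwoGen
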