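import Mathlib
import Cfsg.Agent.Lib.Helper80.TgZ2

/-!
# Tg hive (S2414), leaf TG-Z, part 2: the flip (product of two reflections) in odd characteristic
-/

set_option autoImplicit false
set_option linter.unusedSectionVars false
set_option linter.unusedVariables false
set_option linter.unusedSimpArgs false

namespace Cfsg.Agent.Lib.Helper37.TwoGen

open Matrix Module QuadraticMap
open Cfsg.Agent.Lib.Helper8 Cfsg.Agent.Lib.Helper13 Cfsg.Agent.Lib.Helper37

section tgz

variable (F : Type*) [Field F]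

theorem tgz_q_ef (m : ℕ) (i : Fin m) : plusForm m F (tgz_e F m i + tgz_f F m i) = 1 := by
  have := (OrthField.plus_hypFam37 m F).Q_comb i 1 1
  simpa using this

theorem tgz_q_ef_ne (m : ℕ) (i : Fin m) : plusForm m F (tgz_e F m i + tgz_f F m i) ≠ 0 := by
  rw [tgz_q_ef]; exact one_ne_zero

/-- the flip `w = r_{e₂+f₂} r_{e₃+f₃}` -/
noncomputable def tgz_w (m : ℕ) (i2 i3 : Fin m) : ↥(Cfsg.isometryGroup F ⇑(plusForm m F)) :=
  reflElt (plusForm m F) (tgz_e F m i2 + tgz_f F m i2) (tgz_q_ef_ne F m i2) *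
    reflElt (plusForm m F) (tgz_e F m i3 + tgz_f F m i3) (tgz_q_ef_ne F m i3)

/-- the explicit action of the flip on coordinates -/
def tgz_S (m : ℕ) (i2 i3 : Fin m) (x : Fin m ⊕ Fin m → F) : Fin m ⊕ Fin m → F :=
  fun j => match j with
  | Sum.inl i =>
      if i = i2 then - x (Sum.inr i2) else if i = i3 then - x (Sum.inr i3) else x (Sum.inl i)
  | Sum.inr i =>
      if i = i2 then - x (Sum.inl i2) else if i = i3 then - x (Sum.inl i3) else x (Sum.inr i)

theorem tgz_act_w (m : ℕ) (i2 i3 : Fin m) (h23 : i2 ≠ i3) (x : Fin m ⊕ Fin m → F) :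
    act (plusForm m F) (tgz_w F m i2 i3) x = tgz_S F m i2 i3 x := by
  unfold tgz_w
  rw [act_mul, act_refl, act_refl, tgz_q_ef, tgz_q_ef, inv_one, one_mul, one_mul,
    polar_add_left, polar_add_left, tgz_polar_e, tgz_polar_f, tgz_polar_e, tgz_polar_f]
  have h32 : i3 ≠ i2 := Ne.symm h23
  funext j
  rcases j with i | i
  · by_cases hi2 : i = i2
    · subst hi2
      simp [tgz_S, Pi.single_apply, h23, h32]
    · by_cases hi3 : i = i3
      · subst hi3
        simp [tgz_S, Pi.single_apply, h23, h32]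
      · simp [tgz_S, Pi.single_apply, h23, h32, hi2, hi3]
  · by_cases hi2 : i = i2
    · subst hi2
      simp [tgz_S, Pi.single_apply, h23, h32]
    · by_cases hi3 : i = i3
      · subst hi3
        simp [tgz_S, Pi.single_apply, h23, h32]
      · simp [tgz_S, Pi.single_apply, h23, h32, hi2, hi3]

theorem tgz_S2 (m : ℕ) (i2 i3 : Fin m) (h23 : i2 ≠ i3) (x : Fin m ⊕ Fin m → F) :
    tgz_S F m i2 i3 (tgz_S F m i2 i3 x) = x := by
  have h32 : i3 ≠ i2 := Ne.symm h23
  funext j
  rcases j with i | i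
  · by_cases hi2 : i = i2
    · subst hi2
      simp [tgz_S, h23, h32]
    · by_cases hi3 : i = i3
      · subst hi3
        simp [tgz_S, h23, h32]
      · simp [tgz_S, hi2, hi3]
  · by_cases hi2 : i = i2
    · subst hi2
      simp [tgz_S, h23, h32]
    · by_cases hi3 : i = i3
      · subst hi3
        simp [tgz_S, h23, h32]
      · simp [tgz_S, hi2, hi3]

theorem tgz_w_pow_two (m : ℕ) (i2 i3 : Fin m) (h23 : i2 ≠ i3) : tgz_w F m i2 i3 ^ 2 = 1 := by
  apply iso_ext
  intro x
  have key : act (plusForm m F) (tgz_w F m i2 i3 ^ 2) x = act (plusForm m F) 1 x := by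
    rw [pow_two, act_mul, tgz_act_w F m i2 i3 h23, tgz_act_w F m i2 i3 h23, tgz_S2 F m i2 i3 h23,
      act_one]
  exact key

theorem tgz_w_mem (m : ℕ) (i2 i3 : Fin m) :
    tgz_w F m i2 i3 ∈ commutator ↥(Cfsg.isometryGroup F ⇑(plusForm m F)) :=
  refl_mul_refl_mem_omega (plusForm m F) (plusForm_nondegenerate m F) _ _ _ _
    (by rw [tgz_q_ef, tgz_q_ef])

theorem tgz_S_fix_e (m : ℕ) (i2 i3 i : Fin m) (hi2 : i ≠ i2) (hi3 : i ≠ i3) :
    tgz_S F m i2 i3 (tgz_e F m i) = tgz_e F m i := by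
  funext j
  rcases j with l | l
  · by_cases hl2 : l = i2
    · subst hl2
      simp [tgz_S, Pi.single_apply, hi2, Ne.symm hi2, hi3, Ne.symm hi3]
    · by_cases hl3 : l = i3
      · subst hl3
        simp [tgz_S, Pi.single_apply, hi2, Ne.symm hi2, hi3, Ne.symm hi3, hl2]
      · simp [tgz_S, Pi.single_apply, hl2, hl3]
  · by_cases hl2 : l = i2
    · subst hl2
      simp [tgz_S, Pi.single_apply, hi2, Ne.symm hi2, hi3, Ne.symm hi3]
    · by_cases hl3 : l = i3
      · subst hl3
        simp [tgz_S, Pi.single_apply, hi2, Ne.symm hi2, hi3, Ne.symm hi3, hl2]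
      · simp [tgz_S, Pi.single_apply, hl2, hl3]

theorem tgz_S_fix_f (m : ℕ) (i2 i3 i : Fin m) (hi2 : i ≠ i2) (hi3 : i ≠ i3) :
    tgz_S F m i2 i3 (tgz_f F m i) = tgz_f F m i := by
  funext j
  rcases j with l | l
  · by_cases hl2 : l = i2
    · subst hl2
      simp [tgz_S, Pi.single_apply, hi2, Ne.symm hi2, hi3, Ne.symm hi3]
    · by_cases hl3 : l = i3
      · subst hl3
        simp [tgz_S, Pi.single_apply, hi2, Ne.symm hi2, hi3, Ne.symm hi3, hl2]
      · simp [tgz_S, Pi.single_apply, hl2, hl3]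
  · by_cases hl2 : l = i2
    · subst hl2
      simp [tgz_S, Pi.single_apply, hi2, Ne.symm hi2, hi3, Ne.symm hi3]
    · by_cases hl3 : l = i3
      · subst hl3
        simp [tgz_S, Pi.single_apply, hi2, Ne.symm hi2, hi3, Ne.symm hi3, hl2]
      · simp [tgz_S, Pi.single_apply, hl2, hl3]

theorem tgz_S_e2 (m : ℕ) (i2 i3 : Fin m) (h23 : i2 ≠ i3) :
    tgz_S F m i2 i3 (tgz_e F m i2) = - tgz_f F m i2 := by
  have h32 : i3 ≠ i2 := Ne.symm h23
  funext j
  rcases j with l | l
  · by_cases hl2 : l = i2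
    · subst hl2
      simp [tgz_S, Pi.single_apply, h23, h32]
    · by_cases hl3 : l = i3
      · subst hl3
        simp [tgz_S, Pi.single_apply, h23, h32]
      · simp [tgz_S, Pi.single_apply, hl2, hl3]
  · by_cases hl2 : l = i2
    · subst hl2
      simp [tgz_S, Pi.single_apply, h23, h32]
    · by_cases hl3 : l = i3
      · subst hl3
        simp [tgz_S, Pi.single_apply, h23, h32, hl2]
      · simp [tgz_S, Pi.single_apply, hl2, hl3]

theorem tgz_S_e3 (m : ℕ) (i2 i3 : Fin m) (h23 : i2 ≠ i3) :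
    tgz_S F m i2 i3 (tgz_e F m i3) = (0 : F) • tgz_f F m i2 - tgz_f F m i3 := by
  have h32 : i3 ≠ i2 := Ne.symm h23
  funext j
  rcases j with l | l
  · by_cases hl2 : l = i2
    · subst hl2
      simp [tgz_S, Pi.single_apply, h23, h32]
    · by_cases hl3 : l = i3
      · subst hl3
        simp [tgz_S, Pi.single_apply, h23, h32]
      · simp [tgz_S, Pi.single_apply, hl2, hl3]
  · by_cases hl2 : l = i2
    · subst hl2
      simp [tgz_S, Pi.single_apply, h23, h32]
    · by_cases hl3 : l = i3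
      · subst hl3
        simp [tgz_S, Pi.single_apply, h23, h32, hl2]
      · simp [tgz_S, Pi.single_apply, hl2, hl3]

end tgz

end Cfsg.Agent.Lib.Helper37.TwoGen
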