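import Mathlib
import Cfsg.Agent.Lib.Helper37.TwoGenDefs
import Cfsg.Agent.Lib.Helper40.SpGen3
import Cfsg.Agent.Lib.Helper80.TgZ2
import Cfsg.Agent.Lib.Helper80.TgZodd

/-!
# Tg hive (S2414), leaf TG-Z `exists_zElt`
-/

set_option autoImplicit false
set_option linter.unusedSectionVars false
set_option linter.unusedVariables false
set_option linter.unusedSimpArgs false

namespace Cfsg.Agent.Lib.Helper37.TwoGen

open Matrix Module QuadraticMap
open Cfsg.Agent.Lib.Helper8 Cfsg.Agent.Lib.Helper13 Cfsg.Agent.Lib.Helper37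

section leaves
variable {F : Type*} [Field F]

theorem tgz_pM_single (n : ℕ) (i : Fin n) :
    pM F n (Pi.single i 1) = tgz_e F (n + 2) i.succ.succ := by
  funext s
  rcases s with j | j
  · refine Fin.cases ?_ (fun j => ?_) j
    · simp [pM, Pi.single_apply, Fin.ext_iff]
    · refine Fin.cases ?_ (fun k => ?_) j
      · simp [pM, Pi.single_apply, Fin.ext_iff]
      · simp [pM, Pi.single_apply]
  · simp [pM, Pi.single_apply]

theorem tgz_pM'_single (n : ℕ) (i : Fin n) :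
    pM' F n (Pi.single i 1) = tgz_f F (n + 2) i.succ.succ := by
  funext s
  rcases s with j | j
  · simp [pM', Pi.single_apply]
  · refine Fin.cases ?_ (fun j => ?_) j
    · simp [pM', Pi.single_apply, Fin.ext_iff]
    · refine Fin.cases ?_ (fun k => ?_) j
      · simp [pM', Pi.single_apply, Fin.ext_iff]
      · simp [pM', Pi.single_apply]

/-- TG-Z: the element `z` (on the coordinates `1` and `3`, 0-based: `⟨e_1,f_1,e_3,f_3⟩`):
`p` odd: `z = ` flip (`dd = 0`, `o = 2`; product of the reflections in `e_1+f_1`, `e_3+f_3`);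
`p = 2`: `z = E(e₁,f₃) E(e₃,f₁) E(e₁,e₃) E(f₃,f₁)` of order 3 (`dd = 1`). -/
theorem exists_zElt [Fintype F] (n : ℕ) (hn : 2 ≤ n) :
    ∃ (z : ↥(Cfsg.isometryGroup F ⇑(plusForm (n + 2) F))) (o : ℕ) (dd : F),
      z ∈ commutator ↥(Cfsg.isometryGroup F ⇑(plusForm (n + 2) F)) ∧ z ^ o = 1 ∧
      Nat.Coprime o (ringChar F) ∧
      act (plusForm (n + 2) F) z (pe1 F n) = pe1 F n ∧
      act (plusForm (n + 2) F) z (pM F n (Pi.single ⟨0, by omega⟩ 1)) = pM F n (Pi.single ⟨0, by omega⟩ 1) ∧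
      act (plusForm (n + 2) F) z (pM' F n (Pi.single ⟨0, by omega⟩ 1)) = pM' F n (Pi.single ⟨0, by omega⟩ 1) ∧
      act (plusForm (n + 2) F) z (pe2 F n) = - pf2 F n ∧
      act (plusForm (n + 2) F) z (pM F n (Pi.single ⟨1, by omega⟩ 1))
        = dd • pf2 F n - pM' F n (Pi.single ⟨1, by omega⟩ 1) := by
  have e1 : pe1 F n = tgz_e F (n + 2) 0 := rfl
  have e2 : pe2 F n = tgz_e F (n + 2) 1 := rfl
  have f2 : pf2 F n = tgz_f F (n + 2) 1 := rfl
  have hM0 := tgz_pM_single (F := F) n ⟨0, by omega⟩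
  have hM1 := tgz_pM_single (F := F) n ⟨1, by omega⟩
  have hM'0 := tgz_pM'_single (F := F) n ⟨0, by omega⟩
  have hM'1 := tgz_pM'_single (F := F) n ⟨1, by omega⟩
  have h23 : (1 : Fin (n + 2)) ≠ (⟨1, by omega⟩ : Fin n).succ.succ := by
    simp [Fin.ext_iff]
  have h02 : (0 : Fin (n + 2)) ≠ 1 := by simp [Fin.ext_iff]
  have h03 : (0 : Fin (n + 2)) ≠ (⟨1, by omega⟩ : Fin n).succ.succ := by simp [Fin.ext_iff]
  have hj2 : (⟨0, by omega⟩ : Fin n).succ.succ ≠ (1 : Fin (n + 2)) := by simp [Fin.ext_iff]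
  have hj3 : (⟨0, by omega⟩ : Fin n).succ.succ ≠ (⟨1, by omega⟩ : Fin n).succ.succ := by
    simp [Fin.ext_iff]
  by_cases h2 : (2 : F) = 0
  · refine ⟨tgz_z F (n + 2) 1 _ h23, 3, 1, tgz_mem F (n + 2) (by omega) _ _ h23,
      tgz_pow_three F h2 _ _ _ h23, ?_, ?_, ?_, ?_, ?_, ?_⟩
    · have : ringChar F = 2 :=
        CharP.ringChar_of_prime_eq_zero Nat.prime_two (by exact_mod_cast h2)
      rw [this]; decide
    · rw [e1, tgz_act_z, tgz_T_fix_e F _ _ _ _ h02 h03]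
    · rw [hM0, tgz_act_z, tgz_T_fix_e F _ _ _ _ hj2 hj3]
    · rw [hM'0, tgz_act_z, tgz_T_fix_f F _ _ _ _ hj2 hj3]
    · rw [e2, f2, tgz_act_z, tgz_T_e2 F h2 _ _ _ h23]
    · rw [hM1, hM'1, f2, tgz_act_z, tgz_T_e3 F h2 _ _ _ h23]
  · refine ⟨tgz_w F (n + 2) 1 (⟨1, by omega⟩ : Fin n).succ.succ, 2, 0, tgz_w_mem F (n + 2) _ _,
      tgz_w_pow_two F _ _ _ h23, ?_, ?_, ?_, ?_, ?_, ?_⟩
    · have hp : (ringChar F).Prime := CharP.char_is_prime F (ringChar F)
      have hne : ringChar F ≠ 2 := by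
        intro h
        apply h2
        have := (ringChar.spec F 2).mpr (by rw [h])
        exact_mod_cast this
      exact (Nat.coprime_primes Nat.prime_two hp).mpr (Ne.symm hne)
    · rw [e1, tgz_act_w F _ _ _ h23, tgz_S_fix_e F _ _ _ _ h02 h03]
    · rw [hM0, tgz_act_w F _ _ _ h23, tgz_S_fix_e F _ _ _ _ hj2 hj3]
    · rw [hM'0, tgz_act_w F _ _ _ h23, tgz_S_fix_f F _ _ _ _ hj2 hj3]
    · rw [e2, f2, tgz_act_w F _ _ _ h23, tgz_S_e2 F _ _ _ h23]
    · rw [hM1, hM'1, f2, tgz_act_w F _ _ _ h23, tgz_S_e3 F _ _ _ h23]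

end leaves

end Cfsg.Agent.Lib.Helper37.TwoGen
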