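import Cfsg.Agent.Lib.Helper6.FH.ADefs

/-! # Feit–Higman hive (helper6), leaf FH-A0: basics on the alternating product `altP` -/

set_option autoImplicit false

namespace Cfsg.Agent.Lib.Helper6.FH

open Matrix

theorem altP_succ' {M : Type*} [Monoid M] (l : ℕ) (x y : M) :
    altP (l + 1) x y = altP l x y * (if Even l then x else y) := by
  induction l generalizing x y with
  | zero => simp [altP_succ]
  | succ l ih =>
    rw [altP_succ (l + 1) x y, ih y x, altP_succ l x y, mul_assoc]
    congr 1
    congr 1
    by_cases h : Even l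
    · have h' : ¬ Even (l + 1) := by rw [Nat.even_add_one]; exact not_not.mpr h
      rw [if_pos h, if_neg h']
    · have h' : Even (l + 1) := by rw [Nat.even_add_one]; exact h
      rw [if_neg h, if_pos h']

theorem altP_add_two {M : Type*} [Monoid M] (l : ℕ) (x y : M) : altP (l + 2) x y = x * y * altP l x y := by
  rw [altP_succ (l + 1) x y, altP_succ l y x, mul_assoc]

theorem altP_two_mul {M : Type*} [Monoid M] (k : ℕ) (x y : M) : altP (2 * k) x y = (x * y) ^ k := by
  induction k with
  | zero => simp
  | succ k ih =>
    have e : 2 * (k + 1) = 2 * k + 2 := by ring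
    rw [e, altP_add_two, ih, pow_succ']

theorem altP_two_mul_add_one {M : Type*} [Monoid M] (k : ℕ) (x y : M) :
    altP (2 * k + 1) x y = (x * y) ^ k * x := by
  induction k with
  | zero => simp [altP_succ]
  | succ k ih =>
    have e : 2 * (k + 1) + 1 = (2 * k + 1) + 2 := by ring
    rw [e, altP_add_two, ih, pow_succ']
    simp only [mul_assoc]

theorem altP_map {M M' : Type*} [Monoid M] [Monoid M'] (f : M →* M') (l : ℕ) (x y : M) :
    f (altP l x y) = altP l (f x) (f y) := by
  induction l generalizing x y with
  | zero => simp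
  | succ l ih => rw [altP_succ, altP_succ, map_mul, ih]

theorem altP_inv {W : Type*} [Group W] {x y : W} (hx : x * x = 1) (hy : y * y = 1) (l : ℕ) :
    (altP l x y)⁻¹ = if Even l then altP l y x else altP l x y := by
  have hxi : x⁻¹ = x := inv_eq_of_mul_eq_one_right hx
  have hyi : y⁻¹ = y := inv_eq_of_mul_eq_one_right hy
  induction l with
  | zero => simp
  | succ l ih =>
    rw [altP_succ' l x y, _root_.mul_inv_rev, ih]
    by_cases h : Even l
    · have h' : ¬ Even (l + 1) := by rw [Nat.even_add_one]; exact not_not.mpr h
      rw [if_pos h, if_pos h, if_neg h', hxi, ← altP_succ, altP_succ' l x y, if_pos h]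
    · have h' : Even (l + 1) := by rw [Nat.even_add_one]; exact h
      rw [if_neg h, if_neg h, if_pos h', hyi, ← altP_succ]

theorem altP_comm_even {k : ℕ} (u v : ℂ) : altP (2 * k) u v = altP (2 * k) v u := by
  rw [altP_two_mul, altP_two_mul, mul_comm]

end Cfsg.Agent.Lib.Helper6.FH
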