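import Cfsg.Agent.Lib.Helper6.St.WDefs

/-! # Steinberg project, leaf SW1: basics of the length function of an exchange system -/

set_option autoImplicit false
set_option linter.unusedVariables false

namespace Cfsg.Agent.Lib.Helper6.St

open Cfsg.Agent.Lib.Helper6 Cfsg.Agent.Lib.Helper6.Exch

variable {W : Type*} [Group W] {ι : Type*} {σ : ι → W}

theorem sw1_inv_gen (h : ExSys σ) (i : ι) : (σ i)⁻¹ = σ i :=
  inv_eq_of_mul_eq_one_right (h.sq i)

theorem wp_reverse (h : ExSys σ) (L : List ι) : wp σ L.reverse = (wp σ L)⁻¹ := by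
  induction L with
  | nil => simp
  | cons i L ih =>
    rw [List.reverse_cons, wp_append, ih, wp_singleton, wp_cons, mul_inv_rev, sw1_inv_gen h]

theorem ell_one (h : ExSys σ) : ell σ (1 : W) = 0 := by
  have h1 := ell_wp_le σ ([] : List ι)
  rw [wp_nil] at h1
  exact Nat.le_zero.mp h1

theorem ell_eq_zero_iff (h : ExSys σ) {w : W} : ell σ w = 0 ↔ w = 1 := by
  constructor
  · intro h0
    obtain ⟨L, hw, hL⟩ := exists_wp_eq_ell h w
    rw [h0, List.length_eq_zero_iff] at hL
    rw [← hw, hL, wp_nil]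
  · intro h1
    rw [h1]; exact ell_one h

theorem sw1_ell_inv_le (h : ExSys σ) (w : W) : ell σ w⁻¹ ≤ ell σ w := by
  obtain ⟨L, hw, hL⟩ := exists_wp_eq_ell h w
  have h1 := ell_wp_le σ L.reverse
  rw [wp_reverse h, hw, List.length_reverse, hL] at h1
  exact h1

theorem ell_inv (h : ExSys σ) (w : W) : ell σ w⁻¹ = ell σ w := by
  apply le_antisymm (sw1_ell_inv_le h w)
  have h1 := sw1_ell_inv_le h w⁻¹
  rwa [inv_inv] at h1

theorem ell_mul_le (h : ExSys σ) (a b : W) : ell σ (a * b) ≤ ell σ a + ell σ b := by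
  obtain ⟨La, hwa, hLa⟩ := exists_wp_eq_ell h a
  obtain ⟨Lb, hwb, hLb⟩ := exists_wp_eq_ell h b
  have h1 := ell_wp_le σ (La ++ Lb)
  rw [wp_append, hwa, hwb, List.length_append, hLa, hLb] at h1
  exact h1

theorem ell_gen (h : ExSys σ) (i : ι) : ell σ (σ i) = 1 := by
  have h1 := ell_wp_le σ [i]
  rw [wp_singleton, List.length_singleton] at h1
  rcases Nat.eq_zero_or_pos (ell σ (σ i)) with h0 | hpos
  · exfalso
    have h2 : σ i = 1 := (ell_eq_zero_iff h).mp h0
    have hnot : ¬ IsRed σ (i :: ([] : List ι)) := by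
      intro hred
      have := hred [] (by rw [wp_nil, wp_cons, wp_nil, mul_one, h2])
      simp at this
    obtain ⟨j, hj, -⟩ := h.exch [] i isRed_nil hnot
    simp at hj
  · omega

/-- the exchange condition in the form "delete one letter" -/
theorem sw1_exch_eraseIdx (h : ExSys σ) {L : List ι} {i : ι} (hL : IsRed σ L)
    (hnot : ¬ IsRed σ (i :: L)) : ∃ j < L.length, σ i * wp σ L = wp σ (L.eraseIdx j) := by
  obtain ⟨j, hj, he⟩ := h.exch L i hL hnot
  refine ⟨j, hj, ?_⟩
  rw [List.eraseIdx_eq_take_drop_succ, wp_append]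
  rw [wp_cons, List.take_succ_eq_append_getElem hj, wp_append, wp_singleton] at he
  have h1 : wp σ L = wp σ (L.take j) * (σ L[j] * wp σ (L.drop (j + 1))) := by
    rw [← wp_cons, ← List.drop_eq_getElem_cons hj, wp_take_mul_drop]
  rw [h1, ← mul_assoc, he, mul_assoc, ← mul_assoc (σ L[j]), h.sq, one_mul]

theorem ell_gen_mul (h : ExSys σ) (i : ι) (w : W) :
    ell σ (σ i * w) = ell σ w + 1 ∨ ell σ (σ i * w) + 1 = ell σ w := by
  obtain ⟨L, hL, hw, hlen⟩ := exists_isRed_eq h w
  by_cases hred : IsRed σ (i :: L)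
  · left
    have h1 := (isRed_iff_ell _).mp hred
    rw [wp_cons, hw, List.length_cons, hlen] at h1
    exact h1
  · right
    obtain ⟨j, hj, he⟩ := sw1_exch_eraseIdx h hL hred
    have h1 := ell_wp_le σ (L.eraseIdx j)
    rw [← he, hw, List.length_eraseIdx, if_pos hj, hlen] at h1
    have h2 := ell_mul_le h (σ i) (σ i * w)
    rw [← mul_assoc, h.sq, one_mul, ell_gen h] at h2
    have h3 : 0 < ell σ w := by rw [← hlen]; omega
    omega

theorem ell_mul_gen (h : ExSys σ) (w : W) (i : ι) :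
    ell σ (w * σ i) = ell σ w + 1 ∨ ell σ (w * σ i) + 1 = ell σ w := by
  have h1 := ell_gen_mul h i w⁻¹
  have h2 : σ i * w⁻¹ = (w * σ i)⁻¹ := by rw [mul_inv_rev, sw1_inv_gen h]
  rw [h2, ell_inv h, ell_inv h] at h1
  exact h1

theorem isRed_reverse (h : ExSys σ) {L : List ι} (hL : IsRed σ L) : IsRed σ L.reverse := by
  rw [isRed_iff_ell, wp_reverse h, ell_inv h, List.length_reverse]
  exact (isRed_iff_ell _).mp hL

end Cfsg.Agent.Lib.Helper6.St
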