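import Cfsg.Agent.Lib.Helper6.EqD.Defs

/-! # S5958-FO3 (CYCLE): a moved piece of a permuted decomposition bounds `ker (y-1)`, `range (y-1)` -/

set_option autoImplicit false

namespace Cfsg.Agent.Lib.Helper6.EqD

open Module

section general
variable {F V : Type*} [Field F] [AddCommGroup V] [Module F V] [FiniteDimensional F V]

omit [FiniteDimensional F V] in
theorem fo3_map_pow {ι : Type*} {y : Module.End F V} {a : ℕ} {M : Submodule F V}
    {D : ι → Submodule F V} {σ : Equiv.Perm ι} (hD : Dec y a M D σ) (n : ℕ) (i : ι) :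
    (D i).map (y ^ n) = D ((σ ^ n) i) := by
  induction n with
  | zero =>
    rw [pow_zero, pow_zero, Module.End.one_eq_id, Submodule.map_id]
    rfl
  | succ n ih =>
    rw [pow_succ', Module.End.mul_eq_comp, Submodule.map_comp, ih, hD.map_eq, pow_succ',
      Equiv.Perm.mul_apply]

omit [FiniteDimensional F V] in
theorem fo3_key {ι : Type*} {y : Module.End F V} {r : ℕ} (hr : r.Prime) (hy : y ^ r = 1) {a : ℕ}
    (ha : 1 ≤ a) {D : ι → Submodule F V} {σ : Equiv.Perm ι} (hD : Dec y a ⊤ D σ) (j : ι)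
    (hj : σ j ≠ j) (w : ℕ → V) (hw : ∀ i < r, w i ∈ D j)
    (hsum : ∑ i ∈ Finset.range r, (y ^ i) (w i) = 0) : ∀ i < r, w i = 0 := by
  classical
  -- `D` is injective
  have hDinj : Function.Injective D := by
    apply hD.indep.injective
    intro i hi
    have h1 := hD.finrank_eq i
    rw [hi, finrank_bot] at h1
    omega
  -- `σ ^ r` fixes `j`
  have hσr : (σ ^ r) j = j := by
    apply hDinj
    rw [← fo3_map_pow hD r j, hy, Module.End.one_eq_id, Submodule.map_id]
  have hper : Function.IsPeriodicPt σ r j := by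
    show (⇑σ)^[r] j = j
    rw [Equiv.Perm.iterate_eq_pow]
    exact hσr
  have hmin : Function.minimalPeriod σ j = r := by
    rcases (Nat.dvd_prime hr).mp hper.minimalPeriod_dvd with h1 | h1
    · exact absurd (Function.minimalPeriod_eq_one_iff_isFixedPt.mp h1) hj
    · exact h1
  have hinj : Function.Injective (fun i : Fin r => (σ ^ (i : ℕ)) j) := by
    intro i k hik
    have h2 := Function.iterate_injOn_Iio_minimalPeriod (f := σ) (x := j)
    rw [hmin] at h2
    apply Fin.ext
    apply h2 (Set.mem_Iio.mpr i.2) (Set.mem_Iio.mpr k.2)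
    show (⇑σ)^[i] j = (⇑σ)^[k] j
    rw [Equiv.Perm.iterate_eq_pow, Equiv.Perm.iterate_eq_pow]
    exact hik
  have hind : iSupIndep (fun i : Fin r => D ((σ ^ (i : ℕ)) j)) := hD.indep.comp hinj
  -- `y ^ n` is injective
  have hyinj : ∀ n : ℕ, Function.Injective ⇑(y ^ n) := by
    intro n
    have hr1 : r - 1 + 1 = r := Nat.sub_add_cancel hr.one_le
    have h1 : (y ^ (r - 1)) ^ n * y ^ n = 1 := by
      rw [← (Commute.pow_self y (r - 1)).mul_pow, ← pow_succ, hr1, hy, one_pow]
    intro u v huv
    have h2 : ((y ^ (r - 1)) ^ n * y ^ n) u = ((y ^ (r - 1)) ^ n * y ^ n) v := by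
      rw [Module.End.mul_apply, Module.End.mul_apply, huv]
    rw [h1] at h2
    exact h2
  have hmem : ∀ i ∈ (Finset.univ : Finset (Fin r)),
      (fun i : Fin r => (y ^ (i : ℕ)) (w i)) i ∈ (fun i : Fin r => D ((σ ^ (i : ℕ)) j)) i := by
    intro i _
    show (y ^ (i : ℕ)) (w i) ∈ D ((σ ^ (i : ℕ)) j)
    rw [← fo3_map_pow hD]
    exact Submodule.mem_map_of_mem (hw i i.2)
  have hs : ∑ i : Fin r, (fun i : Fin r => (y ^ (i : ℕ)) (w i)) i = 0 := by
    rw [Fin.sum_univ_eq_sum_range (fun i => (y ^ i) (w i)) r]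
    exact hsum
  have h3 := (iSupIndep_iff_finsetSum_eq_zero_imp_eq_zero _).mp hind Finset.univ
    (fun i : Fin r => (y ^ (i : ℕ)) (w i)) hmem hs
  intro i hi
  have h4 : (y ^ i) (w i) = 0 := h3 ⟨i, hi⟩ (Finset.mem_univ _)
  apply hyinj i
  rw [h4, map_zero]

/-! ## FO-3 (CYCLE) -/
theorem finrank_bounds_of_moved {ι : Type*} (y : Module.End F V) {r : ℕ} (hr : r.Prime)
    (hy : y ^ r = 1) {a : ℕ} (ha : 1 ≤ a) {D : ι → Submodule F V} {σ : Equiv.Perm ι}
    (hD : Dec y a ⊤ D σ) (j : ι) (hj : σ j ≠ j) :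
    a ≤ finrank F (LinearMap.ker (y - 1)) ∧ (r - 1) * a ≤ finrank F (LinearMap.range (y - 1)) := by
  classical
  have key := fo3_key hr hy ha hD j hj
  constructor
  · -- (a) `v ↦ ∑ y^i v` is an injection `D j → ker (y - 1)`
    have hN0 : (y - 1) * ∑ i ∈ Finset.range r, y ^ i = 0 := by
      rw [mul_geom_sum, hy, sub_self]
    have hmemker : ∀ v : D j, ((∑ i ∈ Finset.range r, y ^ i).comp (D j).subtype) v ∈
        LinearMap.ker (y - 1) := by
      intro v
      rw [LinearMap.mem_ker]
      show (y - 1) ((∑ i ∈ Finset.range r, y ^ i) (v : V)) = 0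
      rw [← Module.End.mul_apply, hN0]
      rfl
    have hLinj : Function.Injective
        (((∑ i ∈ Finset.range r, y ^ i).comp (D j).subtype).codRestrict _ hmemker) := by
      rw [← LinearMap.ker_eq_bot, LinearMap.ker_eq_bot']
      intro v hv
      have h1 : (∑ i ∈ Finset.range r, y ^ i) (v : V) = 0 := congrArg Subtype.val hv
      have h2 : ∑ i ∈ Finset.range r, (y ^ i) ((fun _ : ℕ => (v : V)) i) = 0 := by
        rw [← h1, LinearMap.sum_apply]
      have := key (fun _ => (v : V)) (fun _ _ => v.2) h2 0 hr.pos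
      exact Subtype.ext this
    have := LinearMap.finrank_le_finrank_of_injective hLinj
    rwa [hD.finrank_eq] at this
  · -- (b) `(v_k) ↦ ∑ (y^(k+1) - 1) v_k` is an injection `(Fin (r-1) → D j) → range (y - 1)`
    obtain ⟨m, hm⟩ : ∃ m, r = m + 1 := ⟨r - 1, (Nat.sub_add_cancel hr.one_le).symm⟩
    subst hm
    rw [Nat.add_sub_cancel]
    have hfac : ∀ k : ℕ, y ^ (k + 1) - 1 = (y - 1) * ∑ l ∈ Finset.range (k + 1), y ^ l :=
      fun k => (mul_geom_sum y (k + 1)).symm
    let T : (Fin m → D j) →ₗ[F] V :=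
      ∑ k : Fin m, ((y ^ ((k : ℕ) + 1) - 1).comp (D j).subtype).comp (LinearMap.proj k)
    have hT : ∀ v : Fin m → D j, T v = ∑ k : Fin m, (y ^ ((k : ℕ) + 1) - 1) ((v k : D j) : V) := by
      intro v
      simp [T, LinearMap.sum_apply]
    have hTrange : ∀ v, T v ∈ LinearMap.range (y - 1) := by
      intro v
      rw [hT]
      apply Submodule.sum_mem
      intro k _
      rw [hfac, Module.End.mul_apply]
      exact ⟨_, rfl⟩
    have hLinj : Function.Injective (T.codRestrict _ hTrange) := by
      rw [← LinearMap.ker_eq_bot, LinearMap.ker_eq_bot']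
      intro v hv
      have h1 : T v = 0 := congrArg Subtype.val hv
      obtain ⟨u, hu⟩ : ∃ u : ℕ → V, ∀ k, u k = if h : k < m then ((v ⟨k, h⟩ : D j) : V) else 0 :=
        ⟨_, fun _ => rfl⟩
      have huD : ∀ k, u k ∈ D j := by
        intro k
        rw [hu]
        split_ifs with h
        · exact (v ⟨k, h⟩).2
        · exact (D j).zero_mem
      have huv : ∀ k : Fin m, u k = ((v k : D j) : V) := by
        intro k
        rw [hu, dif_pos k.2]
      have hTu : T v = ∑ k ∈ Finset.range m, (y ^ (k + 1) - 1) (u k) := by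
        rw [hT, ← Fin.sum_univ_eq_sum_range (fun k => (y ^ (k + 1) - 1) (u k)) m]
        apply Finset.sum_congr rfl
        intro k _
        rw [huv]
      obtain ⟨w, hw0, hws⟩ : ∃ w : ℕ → V, w 0 = - ∑ k ∈ Finset.range m, u k ∧
          ∀ k, w (k + 1) = u k :=
        ⟨fun i => match i with
          | 0 => - ∑ k ∈ Finset.range m, u k
          | k + 1 => u k, rfl, fun _ => rfl⟩
      have hwD : ∀ i < m + 1, w i ∈ D j := by
        intro i _
        cases i with
        | zero =>
          rw [hw0]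
          exact (D j).neg_mem ((D j).sum_mem fun k _ => huD k)
        | succ k =>
          rw [hws]
          exact huD k
      have hsum : ∑ i ∈ Finset.range (m + 1), (y ^ i) (w i) = 0 := by
        rw [Finset.sum_range_succ', pow_zero, hw0]
        simp only [hws]
        rw [Module.End.one_apply, ← sub_eq_add_neg, ← Finset.sum_sub_distrib, ← h1, hTu]
        apply Finset.sum_congr rfl
        intro k _
        rw [LinearMap.sub_apply, Module.End.one_apply]
      have hall := key w hwD hsum
      funext k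
      apply Subtype.ext
      have h5 := hall ((k : ℕ) + 1) (by omega)
      rw [hws, huv] at h5
      exact h5
    have := LinearMap.finrank_le_finrank_of_injective hLinj
    rwa [Module.finrank_pi_fintype, Finset.sum_const, Finset.card_univ, Fintype.card_fin,
      smul_eq_mul, hD.finrank_eq] at this

end general

end Cfsg.Agent.Lib.Helper6.EqD
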