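import Cfsg.Agent.Lib.Helper6.EqD.Defs

/-! # S5958-FO8 (SUM): `∑ dim (D i ⊓ K) ≤ dim K` for an independent family `D` -/

set_option autoImplicit false

namespace Cfsg.Agent.Lib.Helper6.EqD

open Module

section general
variable {F V : Type*} [Field F] [AddCommGroup V] [Module F V] [FiniteDimensional F V]

/-- the dimension of a finite independent supremum is the sum of the dimensions -/
theorem fo8_finrank_sup {ι : Type*} {E : ι → Submodule F V} (hE : iSupIndep E) (s : Finset ι) :
    finrank F ↥(s.sup E) = ∑ i ∈ s, finrank F ↥(E i) := by
  classical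
  induction s using Finset.induction_on with
  | empty => simp
  | insert i s hi ih =>
    rw [Finset.sup_insert, Finset.sum_insert hi]
    have hind : (insert i s).SupIndep E := hE.supIndep' _
    have hdis : Disjoint (E i) (s.sup E) :=
      hind (Finset.subset_insert i s) (Finset.mem_insert_self i s) hi
    have := Submodule.finrank_sup_add_finrank_inf_eq (E i) (s.sup E)
    rw [disjoint_iff.mp hdis, finrank_bot, ih] at this
    omega

/-! ## FO-8 (SUM) -/
theorem sum_finrank_inf_le {ι : Type*} [Fintype ι] {D : ι → Submodule F V} (hD : iSupIndep D)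
    (K : Submodule F V) : ∑ i, finrank F ↥(D i ⊓ K) ≤ finrank F K := by
  classical
  have hE : iSupIndep (fun i => D i ⊓ K) := hD.mono (fun i => inf_le_left)
  have h1 := fo8_finrank_sup hE Finset.univ
  rw [← h1]
  apply Submodule.finrank_mono
  rw [Finset.sup_univ_eq_iSup]
  exact iSup_le fun i => inf_le_right

end general

end Cfsg.Agent.Lib.Helper6.EqD
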