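import Mathlib
import Cfsg.Agent.Lib.Helper41.OmBNDefs
import Cfsg.Agent.Lib.Helper97.OmBN_GENcore
import Cfsg.Agent.Lib.Helper97.OmBN_NSYMM

/-! OmBN-TORUS (by helper80) for helper41's S2549 "OmBN" hive: `B ∩ N` = the block diagonal isometries. -/

set_option autoImplicit false
set_option linter.unusedVariables false

namespace Cfsg.Agent.Lib.Helper41.OmBN

open Matrix Cfsg Cfsg.Agent.Lib.Helper13 Cfsg.Agent.Lib.Helper8 Cfsg.Agent.Lib.Helper43
  Cfsg.Agent.Lib.Helper41.SpBN

variable {F : Type*} [Field F] {m : ℕ} {a b : F}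

/-- the block order is injective on the `e_i`, `f_i` -/
theorem torus_oord_inj {s t : Idx m} (h : oord m (Sum.inl s) = oord m (Sum.inl t)) : s = t := by
  rcases s with i | i <;> rcases t with j | j
  · rw [oord_e, oord_e] at h
    rw [Fin.ext h]
  · rw [oord_e, oord_f] at h
    have := i.2
    have := j.2
    omega
  · rw [oord_f, oord_e] at h
    have := i.2
    have := j.2
    omega
  · rw [oord_f, oord_f] at h
    have := i.2
    have := j.2
    have : (i : ℕ) = j := by omega
    rw [Fin.ext this]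

/-- a permutation that does not increase an injective `ℕ`-valued function is the identity -/
theorem torus_perm_eq_one {ι : Type*} [Fintype ι] (f : ι → ℕ) (hf : Function.Injective f)
    (π : Equiv.Perm ι) (h : ∀ s, f (π s) ≤ f s) : π = 1 := by
  have hsum : ∑ s, f (π s) = ∑ s, f s := Equiv.sum_comp π f
  have := (Finset.sum_eq_sum_iff_of_le (s := Finset.univ) (fun s _ => h s)).1 hsum
  ext s
  exact hf (this s (Finset.mem_univ s))

/-- LEAF TORUS. -/
theorem mem_T_iff (g : OG F m a b) :
    g ∈ Bo F m a b ⊓ No F m a b ↔ ∃ d : Idx m → F, IsBMono (mat g) 1 d := by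
  constructor
  · intro hg
    obtain ⟨hB, π, d, hπ⟩ := Subgroup.mem_inf.1 hg
    have hd : ∀ s, d s ≠ 0 := by
      intro s h0
      have := (N_symm hπ).2 s
      rw [h0, zero_mul] at this
      exact zero_ne_one this
    have hle : ∀ s, oord m (Sum.inl (π s)) ≤ oord m (Sum.inl s) := by
      intro s
      by_contra hlt
      push Not at hlt
      have h0 := (mem_Bo_iff g).1 hB (Sum.inl (π s)) (Sum.inl s) hlt
      have h1 : mat g (Sum.inl (π s)) (Sum.inl s) = (mat g).toBlocks₁₁ (π s) s := rfl
      rw [h1, hπ.1 (π s) s, if_pos rfl] at h0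
      exact hd s h0
    have hπ1 : π = 1 :=
      torus_perm_eq_one (fun s : Idx m => oord m (Sum.inl s)) (fun s t h => torus_oord_inj h) π hle
    exact ⟨d, hπ1 ▸ hπ⟩
  · rintro ⟨d, hd⟩
    exact gen_diag_mem hd

end Cfsg.Agent.Lib.Helper41.OmBN
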