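import Mathlib
import Cfsg.Agent.Lib.Helper41.OmBNDefs
import Cfsg.Agent.Lib.Helper80.OmBN_TORUS

/-! OmBN-TCONJ (by helper80) for helper41's S2549 "OmBN" hive: `N` normalises `T = B ∩ N`. -/

set_option autoImplicit false
set_option linter.unusedVariables false

namespace Cfsg.Agent.Lib.Helper41.OmBN

open Matrix Cfsg Cfsg.Agent.Lib.Helper13 Cfsg.Agent.Lib.Helper8 Cfsg.Agent.Lib.Helper43
  Cfsg.Agent.Lib.Helper41.SpBN

variable {F : Type*} [Field F] {m : ℕ} {a b : F}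

/-- `n t n⁻¹ ∈ T` for `n ∈ N`, `t ∈ T` -/
theorem tconj_mem_T : ∀ n ∈ No F m a b, ∀ t ∈ Bo F m a b ⊓ No F m a b,
    n * t * n⁻¹ ∈ Bo F m a b ⊓ No F m a b := by
  rintro n ⟨π, d, hn⟩ t ht
  obtain ⟨e, he⟩ := (mem_T_iff t).1 ht
  have hni := isBMono_inv (mat_inv_mul n) (mat_mul_inv n) hn
  have h1 := isBMono_mul (isBMono_mul hn he) hni
  rw [← mat_mul, ← mat_mul] at h1
  have hπ : π * 1 * π.symm = 1 := by
    rw [mul_one]
    ext s
    simp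
  rw [hπ] at h1
  exact (mem_T_iff _).2 ⟨_, h1⟩

/-- LEAF TCONJ. -/
theorem T_conj : ∀ n ∈ No F m a b, ∀ t ∈ Bo F m a b ⊓ No F m a b, n * t * n⁻¹ ∈ Bo F m a b :=
  fun n hn t ht => (Subgroup.mem_inf.1 (tconj_mem_T n hn t ht)).1

end Cfsg.Agent.Lib.Helper41.OmBN
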