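import Mathlib
import Cfsg.Prelude.Def_GeometricClasses
import Cfsg.Prelude.Def_LieClassical
import Cfsg.Agent.Lib.Helper44.UfDefs
import Cfsg.Agent.Lib.Helper13.Herm

/-! # S5982 hive (helper44), leaf UF-HSPOW (pow_mem_GU) -/

set_option autoImplicit false
open scoped MatrixGroups
open Matrix

namespace Cfsg.Agent.Lib.Helper44.Uf

universe v

variable {F : Type v} [Field F]

theorem hspow_pow {n q₀ : ℕ} (h : GL (Fin n) F) (c : F)
    (hc : ∀ u v, Cfsg.hermForm n F q₀ ((h : Matrix (Fin n) (Fin n) F) *ᵥ u)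
      ((h : Matrix (Fin n) (Fin n) F) *ᵥ v) = c * Cfsg.hermForm n F q₀ u v) (m : ℕ) (u v : Fin n → F) :
    Cfsg.hermForm n F q₀ (((h : Matrix (Fin n) (Fin n) F) ^ m) *ᵥ u)
      (((h : Matrix (Fin n) (Fin n) F) ^ m) *ᵥ v) = c ^ m * Cfsg.hermForm n F q₀ u v := by
  induction m generalizing u v with
  | zero => simp
  | succ m ih =>
    rw [pow_succ, ← Matrix.mulVec_mulVec, ← Matrix.mulVec_mulVec, ih, hc, pow_succ, mul_assoc]

/-- UF-HSPOW -/
theorem pow_mem_GU [Fintype F] {n q₀ : ℕ} (hF : Fintype.card F = q₀ ^ 2) (hn : 1 ≤ n) (h : GL (Fin n) F)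
    (hh : h ∈ HS n F q₀) : h ^ (q₀ - 1) ∈ Cfsg.GU n F q₀ := by
  obtain ⟨c, hc⟩ := hh
  have hq0 : q₀ ≠ 0 := by
    rintro rfl
    have : 0 < Fintype.card F := Fintype.card_pos
    rw [hF] at this
    simp at this
  set e : Fin n → F := Pi.single ⟨0, hn⟩ 1 with he
  have hee : Cfsg.hermForm n F q₀ e e = 1 := by
    unfold Cfsg.hermForm
    rw [Finset.sum_eq_single (⟨0, hn⟩ : Fin n)]
    · simp [he]
    · intro b _ hb
      simp [he, hb]
    · intro hb
      exact absurd (Finset.mem_univ _) hb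
  have hcq : (c : F) ^ q₀ = c := by
    have h1 := hc e e
    rw [hee, mul_one] at h1
    have h2 := Cfsg.Agent.Lib.Helper13.hermForm_conj hF n
      ((h : Matrix (Fin n) (Fin n) F) *ᵥ e) ((h : Matrix (Fin n) (Fin n) F) *ᵥ e)
    rw [h1] at h2
    exact h2
  have hc1 : (c : F) ^ (q₀ - 1) = 1 := by
    have h1 : (c : F) ^ (q₀ - 1) * c = 1 * c := by
      rw [← pow_succ, Nat.sub_add_cancel (Nat.one_le_iff_ne_zero.mpr hq0), hcq, one_mul]
    exact mul_right_cancel₀ c.ne_zero h1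
  intro u v
  have h3 := hspow_pow h (c : F) hc (q₀ - 1) u v
  rw [hc1, one_mul] at h3
  have e1 : (Units.coeHom (Matrix (Fin n) (Fin n) F)) (h ^ (q₀ - 1)) =
      (h : Matrix (Fin n) (Fin n) F) ^ (q₀ - 1) := by
    simp
  rw [e1]
  exact h3

end Cfsg.Agent.Lib.Helper44.Uf
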