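import Mathlib
import Cfsg.Prelude.Def_GeometricClasses
import Cfsg.Agent.Lib.Helper44.UfDefs

/-! # S5982 hive (helper44), leaf UF-RK (rank_pow_sub_one) -/

set_option autoImplicit false
open scoped MatrixGroups
open Matrix

namespace Cfsg.Agent.Lib.Helper44.Uf

universe v

variable {F : Type v} [Field F]

theorem rk_le {n : ℕ} (A : Matrix (Fin n) (Fin n) F) (j : ℕ) : (A ^ j - 1).rank ≤ (A - 1).rank := by
  rw [← mul_geom_sum A j]
  exact Matrix.rank_mul_le_left _ _

/-- UF-RK -/
theorem rank_pow_sub_one {n : ℕ} (h : Matrix (Fin n) (Fin n) F) (r k : ℕ)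
    (hr : h ^ r = 1) (hk : Nat.Coprime k r) :
    (h ^ k - 1).rank = (h - 1).rank := by
  apply le_antisymm (rk_le h k)
  rcases Nat.lt_or_ge 1 r with h1 | h1
  · obtain ⟨m, -, hm⟩ := Nat.exists_mul_mod_eq_one_of_coprime hk h1
    have e : (h ^ k) ^ m = h := by
      rw [← pow_mul, ← Nat.div_add_mod (k * m) r, hm, pow_add, pow_mul, hr, one_pow, one_mul, pow_one]
    calc (h - 1).rank = ((h ^ k) ^ m - 1).rank := by rw [e]
      _ ≤ (h ^ k - 1).rank := rk_le (h ^ k) m
  · interval_cases r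
    · have : k = 1 := by simpa using hk
      rw [this, pow_one]
    · rw [pow_one] at hr
      rw [hr, one_pow]

end Cfsg.Agent.Lib.Helper44.Uf
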