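import Mathlib
import Cfsg.Prelude.Def_GeometricClasses
import Cfsg.Agent.Lib.Helper44.UfDefs

/-! # S5982 hive (helper44), leaf UF-SLADJ (exists_SL_conj_of_eigenbasis) -/

set_option autoImplicit false
set_option linter.unusedVariables false
open scoped MatrixGroups
open Matrix

namespace Cfsg.Agent.Lib.Helper44.Uf

universe v

variable {F : Type v} [Field F]

/-- the centraliser of a diagonalisable matrix contains elements of every non-zero determinant -/
theorem sladj_exists_commute {n : ℕ} (x : Matrix (Fin n) (Fin n) F) {I : Type} [Fintype I]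
    [DecidableEq I] [Nonempty I] (b : Module.Basis I F (Fin n → F)) (d : I → F)
    (hxb : ∀ i, x *ᵥ b i = d i • b i) (δ : Fˣ) :
    ∃ c : GL (Fin n) F, (c : Matrix (Fin n) (Fin n) F) * x = x * (c : Matrix (Fin n) (Fin n) F) ∧
      Matrix.GeneralLinearGroup.det c = δ := by
  classical
  obtain ⟨i₀⟩ := (inferInstance : Nonempty I)
  set P : Matrix (Fin n) I F := (Pi.basisFun F (Fin n)).toMatrix b with hP
  set Q : Matrix I (Fin n) F := b.toMatrix (Pi.basisFun F (Fin n)) with hQ
  have hPQ : P * Q = 1 := Module.Basis.toMatrix_mul_toMatrix_flip _ _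
  have hQP : Q * P = 1 := Module.Basis.toMatrix_mul_toMatrix_flip _ _
  have hxP : x * P = P * Matrix.diagonal d := by
    ext i j
    rw [Matrix.mul_diagonal]
    have h1 : (x * P) i j = (x *ᵥ b j) i := by
      rw [Matrix.mul_apply, Matrix.mulVec, dotProduct]
      apply Finset.sum_congr rfl
      intro k _
      rw [hP, Module.Basis.toMatrix_apply]
      simp
    rw [h1, hxb]
    rw [hP, Module.Basis.toMatrix_apply]
    simp [mul_comm]
  have hQx : Q * x = Matrix.diagonal d * Q := by
    have h1 : Q * (x * P) * Q = Q * (P * Matrix.diagonal d) * Q := by rw [hxP]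
    calc Q * x = Q * x * (P * Q) := by rw [hPQ, Matrix.mul_one]
      _ = Q * (x * P) * Q := by simp only [Matrix.mul_assoc]
      _ = Q * (P * Matrix.diagonal d) * Q := h1
      _ = (Q * P) * Matrix.diagonal d * Q := by simp only [Matrix.mul_assoc]
      _ = Matrix.diagonal d * Q := by rw [hQP, Matrix.one_mul]
  set e : I → F := Function.update (fun _ => (1 : F)) i₀ (δ : F) with he
  set e' : I → F := Function.update (fun _ => (1 : F)) i₀ ((δ⁻¹ : Fˣ) : F) with he'
  have hee' : Matrix.diagonal e * Matrix.diagonal e' = (1 : Matrix I I F) := by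
    rw [Matrix.diagonal_mul_diagonal, ← Matrix.diagonal_one]
    congr 1
    funext i
    by_cases hi : i = i₀
    · subst hi
      simp [he, he']
    · simp [he, he', hi]
  have he'e : Matrix.diagonal e' * Matrix.diagonal e = (1 : Matrix I I F) := by
    rw [Matrix.diagonal_mul_diagonal, ← Matrix.diagonal_one]
    congr 1
    funext i
    by_cases hi : i = i₀
    · subst hi
      simp [he, he']
    · simp [he, he', hi]
  set cm : Matrix (Fin n) (Fin n) F := P * Matrix.diagonal e * Q with hcm
  set cm' : Matrix (Fin n) (Fin n) F := P * Matrix.diagonal e' * Q with hcm'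
  have h1 : cm * cm' = 1 := by
    calc cm * cm' = P * Matrix.diagonal e * (Q * P) * Matrix.diagonal e' * Q := by
          simp only [hcm, hcm', Matrix.mul_assoc]
      _ = P * (Matrix.diagonal e * Matrix.diagonal e') * Q := by
          rw [hQP, Matrix.mul_one]; simp only [Matrix.mul_assoc]
      _ = 1 := by rw [hee', Matrix.mul_one, hPQ]
  have h2 : cm' * cm = 1 := by
    calc cm' * cm = P * Matrix.diagonal e' * (Q * P) * Matrix.diagonal e * Q := by
          simp only [hcm, hcm', Matrix.mul_assoc]
      _ = P * (Matrix.diagonal e' * Matrix.diagonal e) * Q := by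
          rw [hQP, Matrix.mul_one]; simp only [Matrix.mul_assoc]
      _ = 1 := by rw [he'e, Matrix.mul_one, hPQ]
  refine ⟨⟨cm, cm', h1, h2⟩, ?_, ?_⟩
  · show cm * x = x * cm
    have hdd : Matrix.diagonal e * Matrix.diagonal d = Matrix.diagonal d * Matrix.diagonal e := by
      rw [Matrix.diagonal_mul_diagonal, Matrix.diagonal_mul_diagonal]
      congr 1
      funext i
      exact mul_comm _ _
    calc cm * x = P * Matrix.diagonal e * (Q * x) := by simp only [hcm, Matrix.mul_assoc]
      _ = P * (Matrix.diagonal e * Matrix.diagonal d) * Q := by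
          rw [hQx]; simp only [Matrix.mul_assoc]
      _ = (P * Matrix.diagonal d) * Matrix.diagonal e * Q := by
          rw [hdd]; simp only [Matrix.mul_assoc]
      _ = x * cm := by rw [← hxP]; simp only [hcm, Matrix.mul_assoc]
  · apply Units.ext
    rw [Matrix.GeneralLinearGroup.val_det_apply]
    show cm.det = δ
    rw [hcm, Matrix.det_conj_of_mul_eq_one hPQ hQP, Matrix.det_diagonal, he,
      Finset.prod_update_of_mem (Finset.mem_univ i₀)]
    simp

/-- UF-SLADJ -/
theorem exists_SL_conj_of_eigenbasis {n : ℕ} (H : Subgroup (GL (Fin n) F)) (x : GL (Fin n) F)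
    (hx : x ∈ Cfsg.Geo.specialLinear (Fin n) F) {I : Type} [Fintype I] [DecidableEq I] [Nonempty I]
    (b : Module.Basis I F (Fin n → F)) (d : I → F)
    (hxb : ∀ i, (x : Matrix (Fin n) (Fin n) F) *ᵥ b i = d i • b i)
    (R : GL (Fin n) F) (hR : R * x * R⁻¹ ∈ H) :
    ∃ g ∈ Cfsg.Geo.specialLinear (Fin n) F, g⁻¹ * x * g ∈ H := by
  obtain ⟨c, hcx, hcd⟩ := sladj_exists_commute (x : Matrix (Fin n) (Fin n) F) b d hxb
    (Matrix.GeneralLinearGroup.det R)
  have hcx' : c * x = x * c := by
    apply Units.ext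
    exact hcx
  refine ⟨c * R⁻¹, ?_, ?_⟩
  · show c * R⁻¹ ∈ (Matrix.GeneralLinearGroup.det : GL (Fin n) F →* Fˣ).ker
    rw [MonoidHom.mem_ker, map_mul, map_inv, hcd, mul_inv_cancel]
  · have e : (c * R⁻¹)⁻¹ * x * (c * R⁻¹) = R * (c⁻¹ * (x * c)) * R⁻¹ := by group
    have e2 : c⁻¹ * (x * c) = x := by rw [← hcx', ← mul_assoc, inv_mul_cancel, one_mul]
    rw [e, e2]
    exact hR

end Cfsg.Agent.Lib.Helper44.Uf
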