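import Mathlib
import Cfsg.Prelude.Def_Classical
import Cfsg.Agent.Lib.Helper14.SU32

/-! # S2687 hive (BALU-FIELD, helper45), leaf FU-EXC: `O_{3'}(PSU_3(2)) = 1`

Route: `SU_3(2)` has a normal subgroup `P` of order `27` (`Helper14.SU32.P`) containing the centre `Z` (order `3`), and
`C_G(P) = Z` (`P` contains a diagonal matrix with distinct entries and a cyclic permutation matrix).  A normal subgroup
`M` of `G/Z` of order prime to `3` has preimage `N` with `[N, P] ≤ N ∩ P = Z`, and coprimality gives `[N, P] = 1`. -/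

set_option autoImplicit false
set_option linter.unusedSectionVars false
set_option linter.unusedVariables false

namespace Cfsg.Agent.Lib.Helper45.UBal

open Matrix

/-- abstract form -/
theorem exc_abs {G : Type*} [Group G] [Finite G] (P : Subgroup G) [hPn : P.Normal]
    (hP : Nat.card P = 27) (hZ : Nat.card (Subgroup.center G) = 3)
    (hC : ∀ g : G, (∀ x ∈ P, g * x = x * g) → g ∈ Subgroup.center G)
    (M : Subgroup (G ⧸ Subgroup.center G)) [hMn : M.Normal] (hc : (Nat.card ↥M).Coprime 3) :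
    M = ⊥ := by
  set Z := Subgroup.center G with hZdef
  set π := QuotientGroup.mk' Z with hπ
  set N : Subgroup G := M.comap π with hN
  have hNn : N.Normal := Subgroup.Normal.comap hMn π
  -- `N ⊓ P ≤ Z`
  have hK : ∀ c ∈ N ⊓ P, c ∈ Z := by
    intro c hcK
    have h1 : (N ⊓ P).map π ≤ M := by
      rintro _ ⟨y, hy, rfl⟩
      exact hy.1
    have h2 : Nat.card ((N ⊓ P).map π) ∣ Nat.card M := Subgroup.card_dvd_of_le h1
    have h3 : Nat.card ((N ⊓ P).map π) ∣ Nat.card (N ⊓ P : Subgroup G) := Subgroup.card_map_dvd _ _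
    have h4 : Nat.card (N ⊓ P : Subgroup G) ∣ 27 := by
      rw [← hP]
      exact Subgroup.card_dvd_of_le inf_le_right
    have h5 : Nat.Coprime (Nat.card M) 27 := by
      have : (27 : ℕ) = 3 ^ 3 := by norm_num
      rw [this]
      exact Nat.Coprime.pow_right 3 hc
    have h6 : Nat.card ((N ⊓ P).map π) = 1 :=
      Nat.eq_one_of_dvd_coprimes h5 h2 (h3.trans h4)
    have h7 : (N ⊓ P).map π = ⊥ := Subgroup.card_eq_one.mp h6
    have h8 : π c ∈ (N ⊓ P).map π := ⟨c, hcK, rfl⟩
    rw [h7, Subgroup.mem_bot] at h8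
    exact (QuotientGroup.eq_one_iff c).mp h8
  -- `N` centralizes `P`
  have hcent : ∀ n ∈ N, ∀ x ∈ P, n * x = x * n := by
    intro n hn x hx
    obtain ⟨z, hz⟩ : ∃ z, z = n * x * n⁻¹ * x⁻¹ := ⟨_, rfl⟩
    have hzZ : z ∈ Z := by
      apply hK
      refine ⟨?_, ?_⟩
      · have h1 : x * n⁻¹ * x⁻¹ ∈ N := hNn.conj_mem _ (N.inv_mem hn) x
        have : z = n * (x * n⁻¹ * x⁻¹) := by rw [hz]; group
        rw [this]
        exact N.mul_mem hn h1
      · have h1 : n * x * n⁻¹ ∈ P := hPn.conj_mem _ hx n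
        have h2 : z ∈ P := by rw [hz]; exact P.mul_mem h1 (P.inv_mem hx)
        exact h2
    have hzc : ∀ g : G, g * z = z * g := fun g => Subgroup.mem_center_iff.mp hzZ g
    have hconj : ∀ j : ℕ, n ^ j * x * (n ^ j)⁻¹ = z ^ j * x := by
      intro j
      induction j with
      | zero => simp
      | succ j ih =>
        have e : n ^ (j + 1) * x * (n ^ (j + 1))⁻¹ = n * (n ^ j * x * (n ^ j)⁻¹) * n⁻¹ := by
          rw [pow_succ']; group
        rw [e, ih]
        have e2 : n * (z ^ j * x) * n⁻¹ = z ^ j * (n * x * n⁻¹) := by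
          have hcj : n * z ^ j = z ^ j * n := by
            have : Commute n z := hzc n
            exact (this.pow_right j).eq
          calc n * (z ^ j * x) * n⁻¹ = (n * z ^ j) * x * n⁻¹ := by group
            _ = (z ^ j * n) * x * n⁻¹ := by rw [hcj]
            _ = z ^ j * (n * x * n⁻¹) := by group
        rw [e2]
        have e3 : n * x * n⁻¹ = z * x := by rw [hz]; group
        rw [e3, pow_succ, mul_assoc]
    set k := orderOf (π n) with hk
    have hkM : k ∣ Nat.card M := Subgroup.orderOf_dvd_natCard M hn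
    have hk3 : Nat.Coprime k 3 := Nat.Coprime.coprime_dvd_left hkM hc
    have hnk : n ^ k ∈ Z := by
      have : π (n ^ k) = 1 := by rw [map_pow, hk]; exact pow_orderOf_eq_one _
      exact (QuotientGroup.eq_one_iff _).mp this
    have hzk : z ^ k = 1 := by
      have h1 := hconj k
      have h2 : n ^ k * x * (n ^ k)⁻¹ = x := by
        have := Subgroup.mem_center_iff.mp hnk x
        rw [← this]; group
      rw [h2] at h1
      exact (mul_eq_right.mp h1.symm)
    have hz3 : z ^ 3 = 1 := by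
      have := pow_card_eq_one' (G := Z) (x := ⟨z, hzZ⟩)
      rw [hZ] at this
      exact congrArg Subtype.val this
    have hz1 : z = 1 := by
      have := pow_gcd_eq_one.mpr ⟨hzk, hz3⟩
      rwa [hk3, pow_one] at this
    have : n * x * n⁻¹ * x⁻¹ = 1 := by rw [← hz]; exact hz1
    calc n * x = (n * x * n⁻¹ * x⁻¹) * (x * n) := by group
      _ = x * n := by rw [this, one_mul]
  rw [eq_bot_iff]
  intro m hm
  obtain ⟨n, rfl⟩ := QuotientGroup.mk'_surjective Z m
  have hnN : n ∈ N := hm
  have hnZ : n ∈ Z := hC n (hcent n hnN)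
  rw [Subgroup.mem_bot]
  exact (QuotientGroup.eq_one_iff n).mpr hnZ


open Cfsg.Agent.Lib.Helper14.SU32 in
/-- the centralizer of `P` in `SU_3(2)` is the centre -/
theorem exc_cent {F : Type*} [Field F] [Fintype F] (hF : Fintype.card F = 4) (z : Cfsg.SU 3 F 2)
    (hz : ∀ x ∈ Cfsg.Agent.Lib.Helper14.SU32.P hF, z * x = x * z) :
    z ∈ Subgroup.center (Cfsg.SU 3 F 2) := by
  have hDm : mkG hF mD mD_good ∈ Cfsg.Agent.Lib.Helper14.SU32.P hF :=
    (mkG_mem_P_iff hF mD mD_good).mpr mD_mem
  have hCm : mkG hF mC mC_good ∈ Cfsg.Agent.Lib.Helper14.SU32.P hF :=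
    (mkG_mem_P_iff hF mC mC_good).mpr mC_mem
  have hD := congrArg Cfsg.Agent.Lib.Helper14.SU32.mat (hz _ hDm).symm
  have hC := congrArg Cfsg.Agent.Lib.Helper14.SU32.mat (hz _ hCm).symm
  rw [mat_mul, mat_mul, mat_mkG] at hD hC
  set M := Cfsg.Agent.Lib.Helper14.SU32.mat z with hM
  have hoff : ∀ a b, a ≠ b → M a b = 0 := by
    rw [toMatF_mD] at hD
    refine offdiag_of_comm _ ?_ M hD
    intro a b hab
    have h1 := (phi hF).injective hab
    revert h1
    fin_cases a <;> fin_cases b <;> simp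
  have f := fun a b => congrFun (congrFun hC a) b
  have c01 := f 0 1
  have c12 := f 1 2
  simp [toMatF, mC, Matrix.mul_apply, Fin.sum_univ_three, phi_o, phi_i] at c01 c12
  have hdiag : ∀ a, M a a = M 0 0 := by
    intro a
    fin_cases a
    · rfl
    · exact c01
    · exact c12.trans c01
  have hMc : M = toMatF hF (M3.scal ((phi hF).symm (M 0 0))) := by
    rw [toMatF_scal, RingEquiv.apply_symm_apply]
    ext a b
    rw [Matrix.smul_apply, Matrix.one_apply, smul_eq_mul]
    by_cases hab : a = b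
    · rw [if_pos hab, mul_one, ← hab, hdiag]
    · rw [if_neg hab, mul_zero, hoff a b hab]
  have hc3 : ((phi hF).symm (M 0 0)) ^ 3 = 1 := by
    have hdet : M.det = 1 := det_mat z
    rw [hMc, det_toMatF, scal_det] at hdet
    apply (phi hF).injective
    rw [hdet, map_one]
  have hzeq : z = mkG hF (M3.scal ((phi hF).symm (M 0 0))) (scal_good _ hc3) := by
    apply mat_inj
    rw [mat_mkG]
    exact hMc
  rw [hzeq]
  exact scal_mem_center hF _ hc3

variable {F : Type*} [Field F] [Fintype F]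

/-- FU-EXC: `O_{3'}(PSU_3(2)) = 1`. -/
theorem psu32_core (hF : Fintype.card F = 2 ^ 2) (M : Subgroup (Cfsg.PSU 3 F 2)) (hM : M.Normal)
    (hc : (Nat.card ↥M).Coprime 3) : M = ⊥ := by
  have hF4 : Fintype.card F = 4 := by rw [hF]; norm_num
  have hfin := Cfsg.Agent.Lib.Helper14.SU32.finite_G hF4
  have hPn := Cfsg.Agent.Lib.Helper14.SU32.P_normal hF4
  exact exc_abs (Cfsg.Agent.Lib.Helper14.SU32.P hF4) (Cfsg.Agent.Lib.Helper14.SU32.card_P hF4)
    (Cfsg.Agent.Lib.Helper14.SU32.card_center hF4) (exc_cent hF4) M hc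

end Cfsg.Agent.Lib.Helper45.UBal
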