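import Mathlib
import Cfsg.Prelude.Def_ClassicalGeometry
import Cfsg.Prelude.Def_GeometricClasses
import Cfsg.Agent.Lib.Helper81.OnDefs
import Cfsg.Agent.Lib.Helper8.SpBlkDec
import Cfsg.Agent.Lib.Helper43.OrthCardForms

/-! ON-E2 core (by helper80) for helper81's S5989 "On" hive: one elliptic block by Cauchy; the leaves
ON-MODFIX `mod_le_fix` and ON-BR (7) `isom_of_mem` enter as hypotheses. -/

set_option autoImplicit false
set_option linter.unusedVariables false

namespace Cfsg.Agent.Lib.Helper81.On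

open Polynomial Module
open Cfsg.Agent.Lib.Helper2.BG Cfsg.Agent.Lib.Helper99 Cfsg.Agent.Lib.Helper48.Ti
open Cfsg.Agent.Lib.Helper8.SpBlk (blk)

section concrete

variable {F : Type*} [Field F]

local notation "Mat" d => Matrix (Fin d ⊕ Fin d) (Fin d ⊕ Fin d) F

theorem e2_finrank_VP (d : ℕ) : finrank F (VP d F) = 2 * d := by
  rw [Module.finrank_fintype_fun_eq_card, Fintype.card_sum, Fintype.card_fin]
  ring

section elements

variable [Fintype F] {p : ℕ} [Fact p.Prime] [CharP F p] {r : ℕ} [Fact r.Prime]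

/-- `r` divides `q ^ i - 1` -/
theorem e2_dvd_pow_sub_one : r ∣ Fintype.card F ^ orderOf ((Fintype.card F : ℕ) : ZMod r) - 1 := by
  have h1 : ((Fintype.card F : ℕ) : ZMod r) ^ orderOf ((Fintype.card F : ℕ) : ZMod r) = 1 :=
    pow_orderOf_eq_one _
  have hpos : 1 ≤ Fintype.card F ^ orderOf ((Fintype.card F : ℕ) : ZMod r) :=
    Nat.one_le_pow _ _ Fintype.card_pos
  rw [← ZMod.natCast_eq_zero_iff, Nat.cast_sub hpos, Nat.cast_pow, h1, Nat.cast_one, sub_self]

/-- `r` divides the order of `O⁺_{2 n₁}(q)` -/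
theorem e2_dvd_card (n₁ : ℕ)
    (hev : Even (orderOf ((Fintype.card F : ℕ) : ZMod r)))
    (h0 : 0 < orderOf ((Fintype.card F : ℕ) : ZMod r))
    (h1 : orderOf ((Fintype.card F : ℕ) : ZMod r) + 2 ≤ 2 * n₁) :
    r ∣ Nat.card (Cfsg.isometryGroup F (Cfsg.quadFormPlus n₁ F)) := by
  obtain ⟨k, rfl⟩ : ∃ k, n₁ = k + 1 := ⟨n₁ - 1, by omega⟩
  rw [Cfsg.Agent.Lib.Helper43.card_isometryGroup_plus]
  obtain ⟨j, hj⟩ := hev
  have hjk : j - 1 ∈ Finset.range k := by
    rw [Finset.mem_range]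
    omega
  apply Dvd.dvd.mul_left
  apply dvd_trans _ (Finset.dvd_prod_of_mem _ hjk)
  have : 2 * (j - 1 + 1) = orderOf ((Fintype.card F : ℕ) : ZMod r) := by omega
  rw [this]
  exact e2_dvd_pow_sub_one

/-- ON-E2 core. -/
theorem e2_core (n₁ : ℕ)
    (hMOD : ∀ {f : Module.End F (VP n₁ F)}, Isom (plusB n₁) f → f ^ r = 1 →
      ∃ s : ℕ, finrank F (VP n₁ F) = finrank F (LinearMap.ker (f - 1)) + s * blk F r)
    (hISO : ∀ x : GL (Fin n₁ ⊕ Fin n₁) F, x ∈ Cfsg.isometryGroup F (Cfsg.quadFormPlus n₁ F) →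
      Isom (plusB n₁) (Matrix.toLin' (x : Mat n₁)))
    (hev : Even (orderOf ((Fintype.card F : ℕ) : ZMod r)))
    (h1 : orderOf ((Fintype.card F : ℕ) : ZMod r) + 2 ≤ 2 * n₁)
    (h2' : n₁ < orderOf ((Fintype.card F : ℕ) : ZMod r)) :
    ∃ x : GL (Fin n₁ ⊕ Fin n₁) F, x ∈ Cfsg.isometryGroup F (Cfsg.quadFormPlus n₁ F) ∧ x ^ r = 1 ∧
      finrank F (LinearMap.ker (Matrix.toLin' (x : Mat n₁) - 1))
        = 2 * n₁ - orderOf ((Fintype.card F : ℕ) : ZMod r) := by
  classical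
  have h0 : 0 < orderOf ((Fintype.card F : ℕ) : ZMod r) := by omega
  have hdvd := e2_dvd_card (F := F) (r := r) n₁ hev h0 h1
  obtain ⟨⟨x, hx⟩, hxo⟩ := exists_prime_orderOf_dvd_card' r hdvd
  have hxr : x ^ r = 1 := by
    have := pow_orderOf_eq_one (⟨x, hx⟩ : Cfsg.isometryGroup F (Cfsg.quadFormPlus n₁ F))
    rw [hxo] at this
    exact congrArg Subtype.val this
  have hx1 : x ≠ 1 := by
    rintro rfl
    have : orderOf (⟨1, hx⟩ : Cfsg.isometryGroup F (Cfsg.quadFormPlus n₁ F)) = 1 := by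
      rw [orderOf_eq_one_iff]
      rfl
    rw [hxo] at this
    exact (Fact.out : r.Prime).one_lt.ne' this
  refine ⟨x, hx, hxr, ?_⟩
  have hfr : (Matrix.toLin' (x : Mat n₁)) ^ r = 1 := by
    rw [← Matrix.toLin'_pow]
    have : ((x : Mat n₁)) ^ r = 1 := by
      have := congrArg (fun y : GL (Fin n₁ ⊕ Fin n₁) F => (y : Mat n₁)) hxr
      simpa using this
    rw [this, Matrix.toLin'_one]
    rfl
  obtain ⟨s, hs⟩ := hMOD (hISO x hx) hfr
  have hblk : blk F r = orderOf ((Fintype.card F : ℕ) : ZMod r) := by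
    unfold blk
    rw [if_pos hev]
  rw [e2_finrank_VP, hblk] at hs
  have hs0 : s ≠ 0 := by
    rintro rfl
    rw [zero_mul, add_zero] at hs
    apply hx1
    have hker : LinearMap.ker (Matrix.toLin' (x : Mat n₁) - 1) = ⊤ := by
      apply Submodule.eq_top_of_finrank_eq
      rw [← hs, e2_finrank_VP]
    have hf1 : Matrix.toLin' (x : Mat n₁) = 1 := by
      have := LinearMap.ker_eq_top.1 hker
      exact sub_eq_zero.1 this
    apply Units.ext
    have h3 : Matrix.toLin' (x : Mat n₁) = Matrix.toLin' (1 : Mat n₁) := by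
      rw [hf1, Matrix.toLin'_one]
      rfl
    exact Matrix.toLin'.injective h3
  have hs1 : s = 1 := by
    by_contra hne
    have hs2 : 2 ≤ s := by omega
    have : 2 * orderOf ((Fintype.card F : ℕ) : ZMod r)
        ≤ s * orderOf ((Fintype.card F : ℕ) : ZMod r) := Nat.mul_le_mul_right _ hs2
    omega
  rw [hs1, one_mul] at hs
  exact (Nat.sub_eq_of_eq_add hs).symm

end elements

end concrete

end Cfsg.Agent.Lib.Helper81.On
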