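import Mathlib
import Cfsg.Prelude.Def_ClassicalGeometry
import Cfsg.Prelude.Def_GeometricClasses
import Cfsg.Agent.Lib.Helper81.OnDefs
import Cfsg.Agent.Lib.Helper8.SpBlkDec
import Cfsg.Agent.Lib.Helper81.OnBR
import Cfsg.Agent.Lib.Helper81.OnNOFIX
import Cfsg.Agent.Lib.Helper80.OnE2core

/-! ON-E2 (by helper80) for helper81's S5989 "On" hive: one elliptic block. -/

set_option autoImplicit false
set_option linter.unusedVariables false

namespace Cfsg.Agent.Lib.Helper81.On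

open Polynomial Module
open Cfsg.Agent.Lib.Helper2.BG Cfsg.Agent.Lib.Helper99 Cfsg.Agent.Lib.Helper48.Ti
open Cfsg.Agent.Lib.Helper8.SpBlk (blk)

section concrete

variable {F : Type*} [Field F]

local notation "Mat" d => Matrix (Fin d ⊕ Fin d) (Fin d ⊕ Fin d) F

section elements

variable [Fintype F] {p : ℕ} [Fact p.Prime] [CharP F p] {r : ℕ} [Fact r.Prime]

/-- ON-E2. -/
theorem exists_single_elt (h2 : (2 : F) ≠ 0) (hr2 : r ≠ 2) (hrp : r ≠ p) (n₁ : ℕ)
    (hev : Even (orderOf ((Fintype.card F : ℕ) : ZMod r)))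
    (h1 : orderOf ((Fintype.card F : ℕ) : ZMod r) + 2 ≤ 2 * n₁)
    (h2' : n₁ < orderOf ((Fintype.card F : ℕ) : ZMod r)) :
    ∃ x : GL (Fin n₁ ⊕ Fin n₁) F, x ∈ Cfsg.isometryGroup F (Cfsg.quadFormPlus n₁ F) ∧ x ^ r = 1 ∧
      finrank F (LinearMap.ker (Matrix.toLin' (x : Mat n₁) - 1))
        = 2 * n₁ - orderOf ((Fintype.card F : ℕ) : ZMod r) :=
  e2_core n₁
    (fun {_} hf hfr => mod_le_fix (p := p) h2 (plusB_symm n₁) (plusB_nd n₁) hr2 hrp hf hfr)
    (fun x hx => isom_of_mem n₁ x hx) hev h1 h2'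

end elements
end concrete
end Cfsg.Agent.Lib.Helper81.On
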