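import Mathlib
import Cfsg.Prelude.Def_ClassicalGeometry
import Cfsg.Prelude.Def_GeometricClasses
import Cfsg.Agent.Lib.Helper81.OnDefs
import Cfsg.Agent.Lib.Helper8.SpBlkDec

/-! ON-E core (by helper80) for helper81's S5989 "On" hive: the arithmetic glue of ON-E1 / ON-E2 / ON-E3 /
ON-ODDMEM (which enter as hypotheses). -/

set_option autoImplicit false
set_option linter.unusedVariables false

namespace Cfsg.Agent.Lib.Helper81.On

open Polynomial Module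
open Cfsg.Agent.Lib.Helper2.BG Cfsg.Agent.Lib.Helper99 Cfsg.Agent.Lib.Helper48.Ti
open Cfsg.Agent.Lib.Helper8.SpBlk (blk)

section concrete

variable {F : Type*} [Field F]

local notation "Mat" d => Matrix (Fin d ⊕ Fin d) (Fin d ⊕ Fin d) F

section elements

variable [Fintype F] {r : ℕ} [Fact r.Prime]

omit [Fintype F] [Fact r.Prime] in
/-- the conclusion of ON-E for a dimension given as a sum -/
theorem e_sum (hr2 : r ≠ 2) (i : ℕ)
    (hE3 : ∀ (n₁ n₂ k : ℕ) (x₁ : GL (Fin n₁ ⊕ Fin n₁) F)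
      (h₁ : x₁ ∈ Cfsg.isometryGroup F (Cfsg.quadFormPlus n₁ F)) (hx₁ : x₁ ^ k = 1)
      (x₂ : GL (Fin n₂ ⊕ Fin n₂) F)
      (h₂ : x₂ ∈ Cfsg.isometryGroup F (Cfsg.quadFormPlus n₂ F)) (hx₂ : x₂ ^ k = 1),
      ∃ x : GL (Fin (n₁ + n₂) ⊕ Fin (n₁ + n₂)) F,
        x ∈ Cfsg.isometryGroup F (Cfsg.quadFormPlus (n₁ + n₂) F) ∧ x ^ k = 1 ∧
        finrank F (LinearMap.ker (Matrix.toLin' (x : Mat (n₁ + n₂)) - 1))
          = finrank F (LinearMap.ker (Matrix.toLin' (x₁ : Mat n₁) - 1))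
            + finrank F (LinearMap.ker (Matrix.toLin' (x₂ : Mat n₂) - 1)))
    (d n₁ n₂ t : ℕ) (hd : d = n₁ + n₂)
    (x₁ : GL (Fin n₁ ⊕ Fin n₁) F)
    (h₁ : x₁ ∈ Cfsg.isometryGroup F (Cfsg.quadFormPlus n₁ F)) (hx₁ : x₁ ^ r = 1)
    (hf₁ : finrank F (LinearMap.ker (Matrix.toLin' (x₁ : Mat n₁) - 1)) = t)
    (x₂ : GL (Fin n₂ ⊕ Fin n₂) F)
    (h₂ : x₂ ∈ Cfsg.isometryGroup F (Cfsg.quadFormPlus n₂ F)) (hx₂ : x₂ ^ r = 1)
    (hf₂ : finrank F (LinearMap.ker (Matrix.toLin' (x₂ : Mat n₂) - 1)) = 0) :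
    ∃ x : GL (Fin d ⊕ Fin d) F, x ∈ Cfsg.isometryGroup F (Cfsg.quadFormPlus d F) ∧ x ^ r = 1 ∧
      finrank F (LinearMap.ker (Matrix.toLin' (x : Mat d) - 1)) = t := by
  subst hd
  obtain ⟨x, hx, hxr, hxf⟩ := hE3 n₁ n₂ r x₁ h₁ hx₁ x₂ h₂ hx₂
  exact ⟨x, hx, hxr, by rw [hxf, hf₁, hf₂, add_zero]⟩

/-- ON-E core. -/
theorem e_core (hr2 : r ≠ 2) (d : ℕ) (hd : 1 ≤ d)
    (hE1 : ∀ d n : ℕ, n * orderOf ((Fintype.card F : ℕ) : ZMod r) ≤ d →
      ∃ x : GL (Fin d ⊕ Fin d) F, x ∈ Cfsg.isometryGroup F (Cfsg.quadFormPlus d F) ∧ x ^ r = 1 ∧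
        finrank F (LinearMap.ker (Matrix.toLin' (x : Mat d) - 1))
          = 2 * d - 2 * (n * orderOf ((Fintype.card F : ℕ) : ZMod r)))
    (hE2 : ∀ n₁ : ℕ, Even (orderOf ((Fintype.card F : ℕ) : ZMod r)) →
      orderOf ((Fintype.card F : ℕ) : ZMod r) + 2 ≤ 2 * n₁ →
      n₁ < orderOf ((Fintype.card F : ℕ) : ZMod r) →
      ∃ x : GL (Fin n₁ ⊕ Fin n₁) F, x ∈ Cfsg.isometryGroup F (Cfsg.quadFormPlus n₁ F) ∧ x ^ r = 1 ∧
        finrank F (LinearMap.ker (Matrix.toLin' (x : Mat n₁) - 1))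
          = 2 * n₁ - orderOf ((Fintype.card F : ℕ) : ZMod r))
    (hE3 : ∀ (n₁ n₂ k : ℕ) (x₁ : GL (Fin n₁ ⊕ Fin n₁) F)
      (h₁ : x₁ ∈ Cfsg.isometryGroup F (Cfsg.quadFormPlus n₁ F)) (hx₁ : x₁ ^ k = 1)
      (x₂ : GL (Fin n₂ ⊕ Fin n₂) F)
      (h₂ : x₂ ∈ Cfsg.isometryGroup F (Cfsg.quadFormPlus n₂ F)) (hx₂ : x₂ ^ k = 1),
      ∃ x : GL (Fin (n₁ + n₂) ⊕ Fin (n₁ + n₂)) F,
        x ∈ Cfsg.isometryGroup F (Cfsg.quadFormPlus (n₁ + n₂) F) ∧ x ^ k = 1 ∧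
        finrank F (LinearMap.ker (Matrix.toLin' (x : Mat (n₁ + n₂)) - 1))
          = finrank F (LinearMap.ker (Matrix.toLin' (x₁ : Mat n₁) - 1))
            + finrank F (LinearMap.ker (Matrix.toLin' (x₂ : Mat n₂) - 1)))
    (hODD : ∀ (d : ℕ) (x : GL (Fin d ⊕ Fin d) F),
      x ∈ Cfsg.isometryGroup F (Cfsg.quadFormPlus d F) → Odd (orderOf x) →
      x ∈ Cfsg.Geo.omegaGL (Cfsg.quadFormPlus d F))
    (hc : blk F r ≤ 2 * d)
    (hside : Odd (orderOf ((Fintype.card F : ℕ) : ZMod r)) ∨ (2 * d) % blk F r ≠ 0 ∨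
      Even ((2 * d) / blk F r)) :
    ∃ x : GL (Fin d ⊕ Fin d) F, x ∈ Cfsg.Geo.omegaGL (Cfsg.quadFormPlus d F) ∧ x ^ r = 1 ∧
      finrank F (LinearMap.ker (Matrix.toLin' (x : Mat d) - 1)) = (2 * d) % blk F r := by
  have hr : r.Prime := Fact.out
  have hrodd : Odd r := hr.odd_of_ne_two hr2
  -- it is enough to find the element in the isometry group
  suffices hmain : ∃ x : GL (Fin d ⊕ Fin d) F,
      x ∈ Cfsg.isometryGroup F (Cfsg.quadFormPlus d F) ∧ x ^ r = 1 ∧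
      finrank F (LinearMap.ker (Matrix.toLin' (x : Mat d) - 1)) = (2 * d) % blk F r by
    obtain ⟨x, hx, hxr, hxf⟩ := hmain
    refine ⟨x, hODD d x hx ?_, hxr, hxf⟩
    rcases (Nat.dvd_prime hr).1 (orderOf_dvd_of_pow_eq_one hxr) with h | h
    · rw [h]
      exact odd_one
    · rw [h]
      exact hrodd
  have hblk : blk F r = if Even (orderOf ((Fintype.card F : ℕ) : ZMod r))
      then orderOf ((Fintype.card F : ℕ) : ZMod r)
      else 2 * orderOf ((Fintype.card F : ℕ) : ZMod r) := rfl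
  obtain ⟨i, hi⟩ : ∃ i, i = orderOf ((Fintype.card F : ℕ) : ZMod r) := ⟨_, rfl⟩
  rw [← hi] at hE1 hE2 hside hblk
  by_cases hev : Even i
  · -- `blk = i`
    rw [if_pos hev] at hblk
    rw [hblk] at hc hside ⊢
    have hnodd : ¬ Odd i := Nat.not_odd_iff_even.2 hev
    have hdiv : (2 * d) % i + i * ((2 * d) / i) = 2 * d := Nat.mod_add_div _ _
    by_cases hk : Even ((2 * d) / i)
    · obtain ⟨n, hn⟩ := hk
      have h1 : i * ((2 * d) / i) = 2 * (n * i) := by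
        rw [hn]
        ring
      obtain ⟨x, hx, hxr, hxf⟩ := hE1 d n (by omega)
      exact ⟨x, hx, hxr, by rw [hxf]; omega⟩
    · have hkodd : Odd ((2 * d) / i) := Nat.not_even_iff_odd.1 hk
      have hm0 : (2 * d) % i ≠ 0 := by
        rcases hside with h' | h' | h'
        · exact absurd h' hnodd
        · exact h'
        · exact absurd h' hk
      have hi0 : 0 < i := by
        rcases Nat.eq_zero_or_pos i with h | h
        · exfalso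
          rw [h, Nat.div_zero] at hk
          exact hk (by decide)
        · exact h
      have hmlt : (2 * d) % i < i := Nat.mod_lt _ hi0
      obtain ⟨j, hj⟩ := hev
      obtain ⟨n, hn⟩ := hkodd
      have h1 : i * ((2 * d) / i) = 2 * (n * i) + i := by
        rw [hn]
        ring
      obtain ⟨μ, hμ⟩ : ∃ μ, (2 * d) % i = 2 * μ := ⟨(2 * d) % i / 2, by omega⟩
      obtain ⟨x₁, hx₁, hxr₁, hxf₁⟩ := hE2 (j + μ) ⟨j, hj⟩ (by omega) (by omega)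
      obtain ⟨x₂, hx₂, hxr₂, hxf₂⟩ := hE1 (n * i) n le_rfl
      exact e_sum hr2 i hE3 d (j + μ) (n * i) ((2 * d) % i) (by omega) x₁ hx₁ hxr₁
        (by rw [hxf₁]; omega) x₂ hx₂ hxr₂ (by rw [hxf₂]; omega)
  · -- `blk = 2 i`
    rw [if_neg hev] at hblk
    rw [hblk] at hc hside ⊢
    have hdiv : d % i + i * (d / i) = d := Nat.mod_add_div _ _
    have h1 : (d / i) * i = i * (d / i) := mul_comm _ _
    obtain ⟨x, hx, hxr, hxf⟩ := hE1 d (d / i) (Nat.div_mul_le_self d i)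
    refine ⟨x, hx, hxr, ?_⟩
    rw [hxf, Nat.mul_mod_mul_left]
    omega

end elements

end concrete

end Cfsg.Agent.Lib.Helper81.On
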