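import Mathlib
import Cfsg.Prelude.Def_ClassicalGeometry
import Cfsg.Prelude.Def_GeometricClasses
import Cfsg.Agent.Lib.Helper81.OnDefs
import Cfsg.Agent.Lib.Helper8.SpBlkDec
import Cfsg.Agent.Lib.Helper9.OnODDMEM
import Cfsg.Agent.Lib.Helper19.OnE1
import Cfsg.Agent.Lib.Helper1.OnE3
import Cfsg.Agent.Lib.Helper80.OnE2
import Cfsg.Agent.Lib.Helper80.OnEcore

/-! ON-E (by helper80) for helper81's S5989 "On" hive: an element of `Ω` of order `r` with the smallest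
possible fixed space. -/

set_option autoImplicit false
set_option linter.unusedVariables false

namespace Cfsg.Agent.Lib.Helper81.On

open Polynomial Module
open Cfsg.Agent.Lib.Helper2.BG Cfsg.Agent.Lib.Helper99 Cfsg.Agent.Lib.Helper48.Ti
open Cfsg.Agent.Lib.Helper8.SpBlk (blk)

section concrete

variable {F : Type*} [Field F]

local notation "Mat" d => Matrix (Fin d ⊕ Fin d) (Fin d ⊕ Fin d) F

section elements

variable [Fintype F] {p : ℕ} [Fact p.Prime] [CharP F p] {r : ℕ} [Fact r.Prime]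

/-- ON-E. -/
theorem exists_max_elt (h2 : (2 : F) ≠ 0) (hr2 : r ≠ 2) (hrp : r ≠ p) (d : ℕ) (hd : 1 ≤ d)
    (hc : blk F r ≤ 2 * d)
    (hside : Odd (orderOf ((Fintype.card F : ℕ) : ZMod r)) ∨ (2 * d) % blk F r ≠ 0 ∨
      Even ((2 * d) / blk F r)) :
    ∃ x : GL (Fin d ⊕ Fin d) F, x ∈ Cfsg.Geo.omegaGL (Cfsg.quadFormPlus d F) ∧ x ^ r = 1 ∧
      finrank F (LinearMap.ker (Matrix.toLin' (x : Mat d) - 1)) = (2 * d) % blk F r :=
  e_core hr2 d hd (fun d n hn => exists_split_elt (p := p) hrp d n hn)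
    (fun n₁ hev h1 h2' => exists_single_elt (p := p) h2 hr2 hrp n₁ hev h1 h2')
    (fun n₁ n₂ k x₁ h₁ hx₁ x₂ h₂ hx₂ => exists_block_sum n₁ n₂ k x₁ h₁ hx₁ x₂ h₂ hx₂)
    (fun d x hx hodd => mem_omegaGL_of_odd_order h2 d x hx hodd) hc hside

end elements
end concrete
end Cfsg.Agent.Lib.Helper81.On
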