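import Mathlib
import Cfsg.Agent.Lib.Helper87.AltModel

/-! # S5165 hive (helper87), leaf U1': `uu 1 = 1` and `uu g ≠ 0` on `N(Bs)` -/

set_option autoImplicit false

namespace Cfsg.Agent.Lib.Helper87.AltF

open Equiv Subgroup

/-- the elements of the base group are translations on every block and fix the extra points -/
theorem u1p_Bs_form {I : Type} [DecidableEq I] (p a0 : ℕ) (x : Perm (PtI I p a0))
    (hx : x ∈ Bs (I := I) p a0) :
    ∃ f : I → ZMod p, (∀ j s, x (Sum.inl (j, s)) = Sum.inl (j, s + f j)) ∧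
      ∀ y, x (Sum.inr y) = Sum.inr y := by
  unfold Bs at hx
  induction hx using Subgroup.closure_induction with
  | mem y hy =>
    obtain ⟨k, rfl⟩ := hy
    refine ⟨fun j => if j = k then 1 else 0, ?_, ?_⟩
    · intro j s
      by_cases h : j = k
      · subst h
        rw [cyc_inl_self]
        simp
      · rw [cyc_inl_of_ne p a0 h]
        simp [h]
    · intro y
      rfl
  | one =>
    exact ⟨fun _ => 0, fun j s => by simp, fun y => rfl⟩
  | mul y z hy hz ihy ihz =>
    obtain ⟨f, hf1, hf2⟩ := ihy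
    obtain ⟨g, hg1, hg2⟩ := ihz
    refine ⟨fun j => g j + f j, ?_, ?_⟩
    · intro j s
      rw [Perm.mul_apply, hg1, hf1, add_assoc]
    · intro w
      rw [Perm.mul_apply, hg2, hf2]
  | inv y hy ihy =>
    obtain ⟨f, hf1, hf2⟩ := ihy
    refine ⟨fun j => - f j, ?_, ?_⟩
    · intro j s
      rw [Perm.inv_eq_iff_eq, hf1]
      congr 2
      ring
    · intro w
      rw [Perm.inv_eq_iff_eq, hf2]

/-- [U1'] `uu 1 = 1`. -/
theorem uu_one {I : Type} [Fintype I] [DecidableEq I] (p a0 : ℕ) [Fact p.Prime] :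
    uu (I := I) p a0 1 = 1 := by
  unfold uu mulOf snd2
  simp

theorem u1p_mulOf_ne_zero {I : Type} [Fintype I] [DecidableEq I] (p a0 : ℕ) [Fact p.Prime]
    (g : Perm (PtI I p a0))
    (hg : g ∈ normalizer ((Bs (I := I) p a0 : Subgroup (Perm (PtI I p a0))) : Set (Perm (PtI I p a0))))
    (k : I) : mulOf p a0 g k ≠ 0 := by
  have hc : g * cyc p a0 k * g⁻¹ ∈ Bs (I := I) p a0 :=
    (Subgroup.mem_normalizer_iff.mp hg (cyc p a0 k)).mp (Subgroup.subset_closure ⟨k, rfl⟩)
  obtain ⟨f, hf1, hf2⟩ := u1p_Bs_form p a0 _ hc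
  have h01 : (Sum.inl (k, (0 : ZMod p)) : PtI I p a0) ≠ Sum.inl (k, 1) := by
    intro h
    have := (Prod.ext_iff.mp (Sum.inl_injective h)).2
    exact zero_ne_one this
  have hgne : g (Sum.inl (k, 0)) ≠ g (Sum.inl (k, 1)) := fun h => h01 (g.injective h)
  have hc1 : (g * cyc p a0 k * g⁻¹) (g (Sum.inl (k, 0))) = g (Sum.inl (k, 1)) := by
    simp only [Perm.mul_apply]
    rw [show g⁻¹ (g (Sum.inl (k, 0))) = Sum.inl (k, 0) from by simp, cyc_inl_self, zero_add]
  unfold mulOf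
  rcases hg0 : g (Sum.inl (k, 0)) with ⟨j, s⟩ | y
  · rw [hg0, hf1] at hc1
    rw [← hc1]
    simp only [snd2, Sum.elim_inl]
    intro h
    have hfj : f j = 0 := by linear_combination h
    apply hgne
    rw [hg0, ← hc1, hfj, add_zero]
  · rw [hg0, hf2] at hc1
    exact absurd (hg0.trans hc1) hgne

theorem uu_ne_zero {I : Type} [Fintype I] [DecidableEq I] (p a0 : ℕ) [Fact p.Prime]
    (g : Perm (PtI I p a0))
    (hg : g ∈ normalizer ((Bs (I := I) p a0 : Subgroup (Perm (PtI I p a0))) : Set (Perm (PtI I p a0)))) :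
    uu p a0 g ≠ 0 := by
  unfold uu
  rw [Finset.prod_ne_zero_iff]
  intro k _
  exact u1p_mulOf_ne_zero p a0 g hg k

end Cfsg.Agent.Lib.Helper87.AltF
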