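import Mathlib
import Cfsg.Prelude.Def_ClassicalGeometry
import Cfsg.Agent.Lib.Helper99.SympForm
import Cfsg.Agent.Lib.Helper5.TwoSubspaces

/-! TI-COUNT1 for helper48's S5955 hive (by helper80): the number of totally isotropic
`m`-subspaces of the symplectic space `F^(2d)`, via isotropic frames counted two ways. -/

set_option autoImplicit false
set_option linter.unusedSectionVars false
set_option linter.unusedVariables false

namespace Cfsg.Agent.Lib.Helper48.Ti

open Module

section count1gen

universe u v

variable {F : Type u} [Field F] [Fintype F] {V : Type v} [AddCommGroup V] [Module F V] [Finite V]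
variable (B : LinearMap.BilinForm F V)

/-- isotropic frames of length `k` -/
abbrev count1_Fr (k : ℕ) : Type v :=
  {w : Fin k → V // (∀ a b, B (w a) (w b) = 0) ∧ LinearIndependent F w}

/-- the extensions of an isotropic frame by one more vector -/
abbrev count1_Ext {k : ℕ} (w : Fin k → V) : Type v :=
  {v : V // (∀ a, B (w a) v = 0) ∧ v ∉ Submodule.span F (Set.range w)}

theorem count1_skew (hB : ∀ v, B v v = 0) (u v : V) (h : B u v = 0) : B v u = 0 := by
  have h1 := hB (u + v)
  simp only [map_add, LinearMap.add_apply, hB u, hB v, h] at h1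
  simpa using h1

/-- the frames with a given tail are the extensions of the tail -/
theorem count1_fr_fiber (hB : ∀ v, B v v = 0) (k : ℕ) (w : count1_Fr B k) :
    Nat.card {w' : count1_Fr B (k + 1) // Fin.tail w'.1 = w.1} =
      Nat.card (count1_Ext B w.1) := by
  apply Nat.card_congr
  refine
    { toFun := fun w' => ⟨w'.1.1 0, ?_, ?_⟩
      invFun := fun v => ⟨⟨Fin.cons v.1 w.1, ?_, ?_⟩, ?_⟩
      left_inv := ?_
      right_inv := ?_ }
  · intro a
    have h := w'.1.2.1 a.succ 0
    have ht : w'.1.1 a.succ = w.1 a := congrFun w'.2 a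
    rw [ht] at h
    exact h
  · have h := w'.1.2.2
    rw [← Fin.cons_self_tail w'.1.1, linearIndependent_finCons, w'.2] at h
    exact h.2
  · intro a b
    refine Fin.cases ?_ (fun a' => ?_) a <;> refine Fin.cases ?_ (fun b' => ?_) b
    · rw [Fin.cons_zero]
      exact hB _
    · rw [Fin.cons_zero, Fin.cons_succ]
      exact count1_skew B hB _ _ (v.2.1 b')
    · rw [Fin.cons_zero, Fin.cons_succ]
      exact v.2.1 a'
    · rw [Fin.cons_succ, Fin.cons_succ]
      exact w.2.1 a' b'
  · rw [linearIndependent_finCons]
    exact ⟨w.2.2, v.2.2⟩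
  · funext a
    rfl
  · intro w'
    apply Subtype.ext
    apply Subtype.ext
    show Fin.cons (w'.1.1 0) w.1 = w'.1.1
    funext a
    refine Fin.cases ?_ (fun a' => ?_) a
    · rfl
    · rw [Fin.cons_succ]
      exact (congrFun w'.2 a').symm
  · intro v
    apply Subtype.ext
    rfl

/-- the recursion for the number of frames -/
theorem count1_fr_succ (hB : ∀ v, B v v = 0) (k c : ℕ)
    (hc : ∀ w : count1_Fr B k, Nat.card (count1_Ext B w.1) = c) :
    Nat.card (count1_Fr B (k + 1)) = Nat.card (count1_Fr B k) * c := by
  classical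
  have hfin1 : Finite (count1_Fr B k) := inferInstance
  have hfin2 : Finite (count1_Fr B (k + 1)) := inferInstance
  have : Fintype (count1_Fr B k) := Fintype.ofFinite _
  have e := Equiv.sigmaFiberEquiv (fun w' : count1_Fr B (k + 1) => (⟨Fin.tail w'.1,
    fun a b => w'.2.1 a.succ b.succ, by
      have h := w'.2.2
      rw [← Fin.cons_self_tail w'.1, linearIndependent_finCons] at h
      exact h.1⟩ : count1_Fr B k))
  rw [← Nat.card_congr e, Nat.card_sigma]
  have hfib : ∀ w : count1_Fr B k, Nat.card {w' : count1_Fr B (k + 1) // (⟨Fin.tail w'.1,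
    fun a b => w'.2.1 a.succ b.succ, by
      have h := w'.2.2
      rw [← Fin.cons_self_tail w'.1, linearIndependent_finCons] at h
      exact h.1⟩ : count1_Fr B k) = w} = c := by
    intro w
    rw [← hc w, ← count1_fr_fiber B hB k w]
    apply Nat.card_congr
    apply Equiv.subtypeEquivRight
    intro w'
    constructor
    · intro h
      exact congrArg Subtype.val h
    · intro h
      exact Subtype.ext h
  simp only [hfib]
  rw [Finset.sum_const, smul_eq_mul, Finset.card_univ, Nat.card_eq_fintype_card]

theorem count1_fr_zero : Nat.card (count1_Fr B 0) = 1 := by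
  have : Unique (count1_Fr B 0) :=
    { default := ⟨Fin.elim0, fun a => a.elim0, linearIndependent_empty_type⟩
      uniq := fun e => Subtype.ext (funext fun i => i.elim0) }
  exact Nat.card_unique

/-- the number of extensions of an isotropic frame -/
theorem count1_card_ext (hnd : B.Nondegenerate) {k : ℕ} (w : count1_Fr B k) :
    Nat.card (count1_Ext B w.1) =
      Fintype.card F ^ (finrank F V - k) - Fintype.card F ^ k := by
  have : Module.Finite F V := Module.Finite.of_finite
  have hmem : ∀ v : V, (∀ a, B (w.1 a) v = 0) ↔
      v ∈ B.orthogonal (Submodule.span F (Set.range w.1)) := by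
    intro v
    rw [LinearMap.BilinForm.mem_orthogonal_iff]
    constructor
    · intro h n hn
      induction hn using Submodule.span_induction with
      | mem x hx =>
        obtain ⟨a, rfl⟩ := hx
        exact h a
      | zero => simp
      | add x y _ _ hx hy => rw [map_add, LinearMap.add_apply, hx, hy, add_zero]
      | smul c x _ hx => rw [map_smul, LinearMap.smul_apply, hx, smul_zero]
    · intro h a
      exact h (w.1 a) (Submodule.subset_span ⟨a, rfl⟩)
  have hperp : Nat.card {v : V // ∀ a, B (w.1 a) v = 0} =
      Fintype.card F ^ (finrank F V - k) := by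
    have h1 := LinearMap.BilinForm.finrank_orthogonal hnd (Submodule.span F (Set.range w.1))
    rw [finrank_span_eq_card w.2.2, Fintype.card_fin] at h1
    have h2 := Cfsg.Agent.Lib.Helper5.natCard_submodule (F := F)
      (B.orthogonal (Submodule.span F (Set.range w.1)))
    rw [h1] at h2
    rw [← h2]
    apply Nat.card_congr
    apply Equiv.subtypeEquivRight
    intro v
    exact hmem v
  have hS : Nat.card (Submodule.span F (Set.range w.1)) = Fintype.card F ^ k := by
    rw [Cfsg.Agent.Lib.Helper5.natCard_submodule, finrank_span_eq_card w.2.2, Fintype.card_fin]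
  have hT : ∀ v ∈ Submodule.span F (Set.range w.1), ∀ a, B (w.1 a) v = 0 := by
    intro v hv a
    induction hv using Submodule.span_induction with
    | mem x hx =>
      obtain ⟨b, rfl⟩ := hx
      exact w.2.1 a b
    | zero => simp
    | add x y _ _ hx hy => rw [map_add, hx, hy, add_zero]
    | smul c x _ hx => rw [map_smul, hx, smul_zero]
  have hadd := Cfsg.Agent.Lib.Helper5.card_not_mem_add (F := F)
    (Submodule.span F (Set.range w.1)) (fun v => ∀ a, B (w.1 a) v = 0) hT
  rw [hS, hperp] at hadd
  have hE : Nat.card (count1_Ext B w.1) =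
      Nat.card {v : V // v ∉ Submodule.span F (Set.range w.1) ∧ ∀ a, B (w.1 a) v = 0} := by
    apply Nat.card_congr
    apply Equiv.subtypeEquivRight
    intro v
    exact and_comm
  rw [hE]
  omega

/-- the number of isotropic frames -/
theorem count1_card_fr (hB : ∀ v, B v v = 0) (hnd : B.Nondegenerate) (k : ℕ) :
    Nat.card (count1_Fr B k) =
      ∏ j ∈ Finset.range k, (Fintype.card F ^ (finrank F V - j) - Fintype.card F ^ j) := by
  induction k with
  | zero => rw [count1_fr_zero, Finset.prod_range_zero]
  | succ k ih =>
    rw [count1_fr_succ B hB k _ (fun w => count1_card_ext B hnd w), ih, Finset.prod_range_succ]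

/-- the fibre of `s ↦ span (range s)` over an `m`-dimensional subspace -/
noncomputable def count1_fiberEquiv (m : ℕ) (W : Submodule F V) (hW : finrank F W = m) :
    {s : Fin m → V // LinearIndependent F s ∧ Submodule.span F (Set.range s) = W} ≃
      {t : Fin m → W // LinearIndependent F t} where
  toFun s := ⟨fun i => ⟨s.1 i, by
      have h := s.2.2
      have h2 : s.1 i ∈ Submodule.span F (Set.range s.1) :=
        Submodule.subset_span (Set.mem_range_self i)
      rw [h] at h2
      exact h2⟩, by
      apply LinearIndependent.of_comp W.subtype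
      exact s.2.1⟩
  invFun t := ⟨fun i => (t.1 i : V), by
      have : Module.Finite F V := Module.Finite.of_finite
      have hli : LinearIndependent F (fun i => (t.1 i : V)) :=
        t.2.map' W.subtype (Submodule.ker_subtype W)
      refine ⟨hli, ?_⟩
      apply Submodule.eq_of_le_of_finrank_eq
      · rw [Submodule.span_le]
        rintro _ ⟨i, rfl⟩
        exact (t.1 i).2
      · rw [finrank_span_eq_card hli, hW, Fintype.card_fin]⟩
  left_inv s := by
    apply Subtype.ext
    rfl
  right_inv t := by
    apply Subtype.ext
    rfl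

theorem count1_card_fiber (m : ℕ) (W : Submodule F V) (hW : finrank F W = m) :
    Nat.card {s : Fin m → V // LinearIndependent F s ∧ Submodule.span F (Set.range s) = W} =
      ∏ j ∈ Finset.range m, (Fintype.card F ^ m - Fintype.card F ^ j) := by
  rw [Nat.card_congr (count1_fiberEquiv m W hW), card_linearIndependent (by rw [hW]), hW,
    Fin.prod_univ_eq_prod_range (fun j => Fintype.card F ^ m - Fintype.card F ^ j) m]

/-- frames counted through the subspace they span -/
theorem count1_card_fr_eq (hB : ∀ v, B v v = 0) (m : ℕ) :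
    Nat.card (count1_Fr B m) =
      Nat.card {W : Submodule F V // finrank F W = m ∧ ∀ u ∈ W, ∀ v ∈ W, B u v = 0} *
        ∏ j ∈ Finset.range m, (Fintype.card F ^ m - Fintype.card F ^ j) := by
  classical
  have : Module.Finite F V := Module.Finite.of_finite
  have : Finite (Submodule F V) := Finite.of_injective (fun W => (W : Set V)) SetLike.coe_injective
  have hTI : ∀ s : count1_Fr B m, ∀ u ∈ Submodule.span F (Set.range s.1),
      ∀ v ∈ Submodule.span F (Set.range s.1), B u v = 0 := by
    intro s
    have h1 : ∀ a, ∀ v ∈ Submodule.span F (Set.range s.1), B (s.1 a) v = 0 := by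
      intro a v hv
      induction hv using Submodule.span_induction with
      | mem x hx =>
        obtain ⟨b, rfl⟩ := hx
        exact s.2.1 a b
      | zero => simp
      | add x y _ _ hx hy => rw [map_add, hx, hy, add_zero]
      | smul c x _ hx => rw [map_smul, hx, smul_zero]
    intro u hu v hv
    induction hu using Submodule.span_induction with
    | mem x hx =>
      obtain ⟨a, rfl⟩ := hx
      exact h1 a v hv
    | zero => simp
    | add x y _ _ hx hy => rw [map_add, LinearMap.add_apply, hx, hy, add_zero]
    | smul c x _ hx => rw [map_smul, LinearMap.smul_apply, hx, smul_zero]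
  let f : count1_Fr B m →
      {W : Submodule F V // finrank F W = m ∧ ∀ u ∈ W, ∀ v ∈ W, B u v = 0} := fun s =>
    ⟨Submodule.span F (Set.range s.1), by
      rw [finrank_span_eq_card s.2.2, Fintype.card_fin], hTI s⟩
  have e := Equiv.sigmaFiberEquiv f
  rw [← Nat.card_congr e]
  have : Fintype {W : Submodule F V // finrank F W = m ∧ ∀ u ∈ W, ∀ v ∈ W, B u v = 0} :=
    Fintype.ofFinite _
  rw [Nat.card_sigma]
  have hfib : ∀ W : {W : Submodule F V // finrank F W = m ∧ ∀ u ∈ W, ∀ v ∈ W, B u v = 0},
      Nat.card {s // f s = W} =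
        ∏ j ∈ Finset.range m, (Fintype.card F ^ m - Fintype.card F ^ j) := by
    intro W
    rw [← count1_card_fiber m W.1 W.2.1]
    apply Nat.card_congr
    refine
      { toFun := fun s => ⟨s.1.1, s.1.2.2, congrArg Subtype.val s.2⟩
        invFun := fun s => ⟨⟨s.1, ?_, s.2.1⟩, Subtype.ext s.2.2⟩
        left_inv := fun s => rfl
        right_inv := fun s => rfl }
    intro a b
    have hs := s.2.2
    have ha : s.1 a ∈ Submodule.span F (Set.range s.1) :=
      Submodule.subset_span (Set.mem_range_self a)
    have hb : s.1 b ∈ Submodule.span F (Set.range s.1) :=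
      Submodule.subset_span (Set.mem_range_self b)
    rw [hs] at ha hb
    exact W.2.2 _ ha _ hb
  simp only [hfib, Finset.sum_const, Finset.card_univ, smul_eq_mul, Nat.card_eq_fintype_card]

end count1gen

section concrete

variable {F : Type*} [Field F]

/-- TI-COUNT1: the isotropic frame count -/
theorem card_ti_mul [Fintype F] (d m : ℕ) (hmd : m ≤ d) :
    Nat.card {W : Submodule F (Fin d ⊕ Fin d → F) //
        finrank F W = m ∧ ∀ u ∈ W, ∀ v ∈ W, Cfsg.sympForm d F u v = 0}
      * ∏ j ∈ Finset.range m, (Fintype.card F ^ m - Fintype.card F ^ j)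
    = ∏ j ∈ Finset.range m, (Fintype.card F ^ (2 * d - j) - Fintype.card F ^ j) := by
  classical
  have hB : ∀ v, Cfsg.Agent.Lib.Helper99.sympB (F := F) d v v = 0 :=
    Cfsg.Agent.Lib.Helper99.sympB_self d
  have hleft : ∀ a, (∀ b, Cfsg.Agent.Lib.Helper99.sympB (F := F) d a b = 0) → a = 0 := by
    intro a ha
    exact Cfsg.Agent.Lib.Helper99.sympB_nd (F := F) d a Submodule.mem_top (fun b _ => ha b)
  have hnd : LinearMap.BilinForm.Nondegenerate (Cfsg.Agent.Lib.Helper99.sympB (F := F) d) := by
    refine ⟨hleft, fun b hb => hleft b (fun a => ?_)⟩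
    exact count1_skew _ hB _ _ (hb a)
  have hfr : finrank F (Fin d ⊕ Fin d → F) = 2 * d := by
    rw [Module.finrank_fintype_fun_eq_card, Fintype.card_sum, Fintype.card_fin]
    ring
  have h1 := count1_card_fr (Cfsg.Agent.Lib.Helper99.sympB (F := F) d) hB hnd m
  have h2 := count1_card_fr_eq (Cfsg.Agent.Lib.Helper99.sympB (F := F) d) hB m
  rw [h1, hfr] at h2
  rw [h2]
  congr 1
  apply Nat.card_congr
  apply Equiv.subtypeEquivRight
  intro W
  simp only [Cfsg.Agent.Lib.Helper99.sympB_apply]

end concrete

end Cfsg.Agent.Lib.Helper48.Ti
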