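import Cfsg.Agent.Lib.Helper6.FH.ADefs

/-! # Feit–Higman hive (helper6), leaf FH-A3: traces and determinants of the generators in dimension two -/

set_option autoImplicit false

namespace Cfsg.Agent.Lib.Helper6.FH

open Matrix

/-- Cayley–Hamilton for `2 × 2` matrices -/
theorem a3_cayley (a : Matrix (Fin 2) (Fin 2) ℂ) :
    a * a = a.trace • a - a.det • (1 : Matrix (Fin 2) (Fin 2) ℂ) := by
  ext i j
  fin_cases i <;> fin_cases j <;>
    simp [Matrix.mul_apply, Fin.sum_univ_two, Matrix.trace_fin_two, Matrix.det_fin_two] <;> ring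

/-- a scalar first generator is impossible in dimension two -/
theorem a3_not_scalar {a b : Matrix (Fin 2) (Fin 2) ℂ}
    (hs : ∀ U : Submodule ℂ (Fin 2 → ℂ), (∀ x ∈ U, a *ᵥ x ∈ U) → (∀ x ∈ U, b *ᵥ x ∈ U) → U = ⊥ ∨ U = ⊤)
    (c : ℂ) : a ≠ c • (1 : Matrix (Fin 2) (Fin 2) ℂ) := by
  intro hac
  obtain ⟨μ, hμ⟩ := Module.End.exists_eigenvalue (Matrix.toLin' b)
  obtain ⟨x, hx⟩ := hμ.exists_hasEigenvector
  have hbx : b *ᵥ x = μ • x := by
    have := hx.apply_eq_smul
    rwa [Matrix.toLin'_apply] at this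
  have hx0 : x ≠ 0 := hx.2
  have hU := hs (Submodule.span ℂ {x}) ?_ ?_
  · rcases hU with hU | hU
    · have : x ∈ Submodule.span ℂ {x} := Submodule.mem_span_singleton_self x
      rw [hU, Submodule.mem_bot] at this
      exact hx0 this
    · have h1 : Module.finrank ℂ (Submodule.span ℂ {x}) = 1 := finrank_span_singleton hx0
      rw [hU, finrank_top, Module.finrank_fin_fun] at h1
      omega
  · intro y hy
    rw [hac, Matrix.smul_mulVec, Matrix.one_mulVec]
    exact Submodule.smul_mem _ _ hy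
  · intro y hy
    obtain ⟨d, rfl⟩ := Submodule.mem_span_singleton.mp hy
    rw [Matrix.mulVec_smul, hbx]
    exact Submodule.smul_mem _ _ (Submodule.smul_mem _ _ (Submodule.mem_span_singleton_self x))

theorem a3_aux {u : ℂ} {a b : Matrix (Fin 2) (Fin 2) ℂ}
    (hq : a * a = u • (1 : Matrix (Fin 2) (Fin 2) ℂ) + (u - 1) • a)
    (hs : ∀ U : Submodule ℂ (Fin 2 → ℂ), (∀ x ∈ U, a *ᵥ x ∈ U) → (∀ x ∈ U, b *ᵥ x ∈ U) → U = ⊥ ∨ U = ⊤) :
    a.trace = u - 1 ∧ a.det = -u := by
  have hch := a3_cayley a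
  have h1 : (a.trace - (u - 1)) • a = (a.det + u) • (1 : Matrix (Fin 2) (Fin 2) ℂ) := by
    have : a.trace • a - a.det • (1 : Matrix (Fin 2) (Fin 2) ℂ) =
        u • (1 : Matrix (Fin 2) (Fin 2) ℂ) + (u - 1) • a := by rw [← hch, hq]
    rw [sub_smul, add_smul]
    rw [sub_eq_iff_eq_add] at this
    rw [this]
    abel
  have htr : a.trace = u - 1 := by
    by_contra hne
    have hk : a.trace - (u - 1) ≠ 0 := sub_ne_zero.mpr hne
    apply a3_not_scalar hs ((a.trace - (u - 1))⁻¹ * (a.det + u))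
    rw [mul_smul, ← h1, smul_smul, inv_mul_cancel₀ hk, one_smul]
  refine ⟨htr, ?_⟩
  rw [htr, sub_self, zero_smul] at h1
  have := congrFun (congrFun h1 0) 0
  simp at this
  linear_combination -this

theorem dim_two_basic {n : ℕ} {u v : ℂ} {a b : Matrix (Fin 2) (Fin 2) ℂ} (h : HeckeRep n u v a b) :
    a.trace = u - 1 ∧ a.det = -u ∧ b.trace = v - 1 ∧ b.det = -v := by
  have h1 := a3_aux h.quadA h.simple
  have h2 := a3_aux h.quadB (fun U hb ha => h.simple U ha hb)
  exact ⟨h1.1, h1.2, h2.1, h2.2⟩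

end Cfsg.Agent.Lib.Helper6.FH
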