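import Cfsg.Agent.Lib.Helper6.FH.ADefs
import Cfsg.Agent.Lib.Helper80.FH_A0

/-! # Feit–Higman hive (helper6), leaf FH-A2: one-dimensional representations -/

set_option autoImplicit false

namespace Cfsg.Agent.Lib.Helper6.FH

open Matrix

/-- the entry of a `1 × 1` matrix, as a monoid homomorphism -/
def a2_hom : Matrix (Fin 1) (Fin 1) ℂ →* ℂ where
  toFun M := M 0 0
  map_one' := by simp
  map_mul' M N := by simp [Matrix.mul_apply]

theorem a2_hom_apply (M : Matrix (Fin 1) (Fin 1) ℂ) : a2_hom M = M 0 0 := rfl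

theorem a2_quad {u ε : ℂ} (h : ε * ε = u + (u - 1) * ε) : ε = u ∨ ε = -1 := by
  have h1 : (ε - u) * (ε + 1) = 0 := by linear_combination h
  rcases mul_eq_zero.mp h1 with h2 | h2
  · left; linear_combination h2
  · right; linear_combination h2

theorem dim_one {n : ℕ} {u v : ℂ} {a b : Matrix (Fin 1) (Fin 1) ℂ} (h : HeckeRep n u v a b) :
    (a 0 0 = u ∨ a 0 0 = -1) ∧ (b 0 0 = v ∨ b 0 0 = -1) ∧
    (∀ l, (altP l a b).trace = altP l (a 0 0) (b 0 0)) ∧ (∀ l, (altP l b a).trace = altP l (b 0 0) (a 0 0)) ∧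
    (Odd n → u = v → u ≠ 0 → a 0 0 = b 0 0) := by
  have ha : a 0 0 = u ∨ a 0 0 = -1 := by
    apply a2_quad
    have := congrFun (congrFun h.quadA 0) 0
    simpa [Matrix.mul_apply] using this
  have hb : b 0 0 = v ∨ b 0 0 = -1 := by
    apply a2_quad
    have := congrFun (congrFun h.quadB 0) 0
    simpa [Matrix.mul_apply] using this
  refine ⟨ha, hb, ?_, ?_, ?_⟩
  · intro l
    rw [Matrix.trace_fin_one]
    exact altP_map a2_hom l a b
  · intro l
    rw [Matrix.trace_fin_one]
    exact altP_map a2_hom l b a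
  · intro hodd huv hu0
    obtain ⟨k, rfl⟩ := hodd
    have hbr := congrArg a2_hom h.braid
    rw [altP_map, altP_map, a2_hom_apply, a2_hom_apply, altP_two_mul_add_one,
      altP_two_mul_add_one, mul_comm (b 0 0) (a 0 0)] at hbr
    have ha0 : a 0 0 ≠ 0 := by
      rcases ha with h1 | h1 <;> rw [h1]
      · exact hu0
      · norm_num
    have hb0 : b 0 0 ≠ 0 := by
      rcases hb with h1 | h1 <;> rw [h1]
      · rw [← huv]; exact hu0
      · norm_num
    exact mul_left_cancel₀ (pow_ne_zero k (mul_ne_zero ha0 hb0)) hbr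

end Cfsg.Agent.Lib.Helper6.FH
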