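import Cfsg.Agent.Lib.Helper80.St_SW1

/-! # Steinberg project, leaf SW2: exchange (left/right) and deletion -/

set_option autoImplicit false
set_option linter.unusedVariables false

namespace Cfsg.Agent.Lib.Helper6.St

open Cfsg.Agent.Lib.Helper6 Cfsg.Agent.Lib.Helper6.Exch

variable {W : Type*} [Group W] {ι : Type*} {σ : ι → W}

theorem exchange_left (h : ExSys σ) {L : List ι} {i : ι} (hL : IsRed σ L)
    (hlt : ell σ (σ i * wp σ L) < ell σ (wp σ L)) :
    ∃ j < L.length, σ i * wp σ L = wp σ (L.eraseIdx j) := by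
  apply sw1_exch_eraseIdx h hL
  intro hred
  have h1 := (isRed_iff_ell _).mp hred
  have h2 := (isRed_iff_ell _).mp hL
  rw [wp_cons, List.length_cons] at h1
  omega

theorem sw2_reverse_eraseIdx {α : Type*} (L : List α) {j : ℕ} (hj : j < L.length) :
    (L.reverse.eraseIdx j).reverse = L.eraseIdx (L.length - 1 - j) := by
  rw [List.eraseIdx_eq_take_drop_succ, List.eraseIdx_eq_take_drop_succ, List.reverse_append,
    List.take_reverse, List.drop_reverse, List.reverse_reverse, List.reverse_reverse]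
  have h1 : L.length - (j + 1) = L.length - 1 - j := by omega
  have h2 : L.length - j = L.length - 1 - j + 1 := by omega
  rw [h1, h2]

theorem exchange_right (h : ExSys σ) {L : List ι} {i : ι} (hL : IsRed σ L)
    (hlt : ell σ (wp σ L * σ i) < ell σ (wp σ L)) :
    ∃ j < L.length, wp σ L * σ i = wp σ (L.eraseIdx j) := by
  have hinv : σ i * wp σ L.reverse = (wp σ L * σ i)⁻¹ := by
    rw [wp_reverse h, mul_inv_rev, sw1_inv_gen h]
  have hlt' : ell σ (σ i * wp σ L.reverse) < ell σ (wp σ L.reverse) := by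
    rw [hinv, ell_inv h, wp_reverse h, ell_inv h]
    exact hlt
  obtain ⟨j, hj, he⟩ := exchange_left h (isRed_reverse h hL) hlt'
  rw [List.length_reverse] at hj
  refine ⟨L.length - 1 - j, by omega, ?_⟩
  rw [← sw2_reverse_eraseIdx L hj, wp_reverse h, ← he, hinv, inv_inv]

theorem deletion (h : ExSys σ) {L : List ι} (hL : ¬ IsRed σ L) :
    ∃ a b, a < b ∧ b < L.length ∧ wp σ L = wp σ ((L.eraseIdx b).eraseIdx a) := by
  induction L with
  | nil => exact absurd isRed_nil hL
  | cons i L ih =>
    by_cases hL' : IsRed σ L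
    · obtain ⟨j, hj, he⟩ := sw1_exch_eraseIdx h hL' hL
      refine ⟨0, j + 1, Nat.succ_pos j, by rw [List.length_cons]; omega, ?_⟩
      rw [List.eraseIdx_cons_succ, List.eraseIdx_cons_zero, wp_cons, he]
    · obtain ⟨a, b, hab, hb, he⟩ := ih hL'
      refine ⟨a + 1, b + 1, by omega, by rw [List.length_cons]; omega, ?_⟩
      rw [List.eraseIdx_cons_succ, List.eraseIdx_cons_succ, wp_cons, wp_cons, he]

end Cfsg.Agent.Lib.Helper6.St
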