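import Cfsg.Agent.Lib.Helper80.Zeros
import Cfsg.Agent.Lib.Helper80.Kernel
import Cfsg.Agent.Lib.Helper80.JointEigen
import Cfsg.Agent.Lib.Helper81.ProdIrr
import Cfsg.Agent.Lib.Helper96.NilpMax
import Cfsg.Agent.Lib.Helper79.Basic
import Cfsg.Agent.Lib.Helper3.OddOrder
import Cfsg.Agent.Lib.Helper3.Ortho
import Cfsg.Agent.Lib.Helper2.PGroup
import Cfsg.Agent.Lib.Helper47.Frattini
import Cfsg.Agent.S0894

set_option autoImplicit false

namespace Cfsg.Agent.Lib.Helper80

open Cfsg
open scoped ComplexConjugate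
open scoped commutatorElement

section OneNonlinear

universe u

/-- Transport of irreducible characters along a group isomorphism. -/
noncomputable def irrOfEquiv {G H : Type u} [Group G] [Group H] (E : G ≃* H)
    (χ : IrrCharacter H) : IrrCharacter G :=
  ⟨fun g => (χ : H → ℂ) (E g),
    Cfsg.Agent.Lib.Helper79.isIrrCharacter_comp_surjective χ.2 E.toMonoidHom E.surjective⟩

theorem irrOfEquiv_apply {G H : Type u} [Group G] [Group H] (E : G ≃* H)
    (χ : IrrCharacter H) (g : G) : (irrOfEquiv E χ : G → ℂ) g = (χ : H → ℂ) (E g) := rfl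

theorem irrOfEquiv_injective {G H : Type u} [Group G] [Group H] (E : G ≃* H) :
    Function.Injective (irrOfEquiv E) := by
  intro χ ψ h
  apply Subtype.ext
  funext x
  have := congrFun (congrArg Subtype.val h) (E.symm x)
  simpa [irrOfEquiv] using this

theorem irrOfEquiv_surjective {G H : Type u} [Group G] [Group H] (E : G ≃* H) :
    Function.Surjective (irrOfEquiv E) := by
  intro χ
  refine ⟨irrOfEquiv E.symm χ, ?_⟩
  apply Subtype.ext
  funext g
  simp [irrOfEquiv]

theorem charDegree_irrOfEquiv {G H : Type u} [Group G] [Group H] (E : G ≃* H)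
    (χ : IrrCharacter H) :
    charDegree (irrOfEquiv E χ : G → ℂ) = charDegree (χ : H → ℂ) := by
  unfold charDegree
  rw [irrOfEquiv_apply, map_one]

/-- A finite group with a normal Sylow `p`-subgroup `P` and a normal complement `N` is
isomorphic to `P × N`. -/
theorem exists_mulEquiv_prod {G : Type u} [Group G] [Finite G] (P N : Subgroup G)
    [hP : P.Normal] [hN : N.Normal] (hc : N.IsComplement' P) :
    Nonempty (G ≃* (P × N)) := by
  let e2 : G ⧸ N ≃* P := hc.symm.QuotientMulEquiv
  let e1 : G ⧸ P ≃* N := hc.QuotientMulEquiv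
  let φ : G →* P × N := MonoidHom.prod (e2.toMonoidHom.comp (QuotientGroup.mk' N))
    (e1.toMonoidHom.comp (QuotientGroup.mk' P))
  have hinj : Function.Injective φ := by
    rw [injective_iff_map_eq_one]
    intro g hg
    have h1 : e2 (QuotientGroup.mk' N g) = 1 := congrArg Prod.fst hg
    have h2 : e1 (QuotientGroup.mk' P g) = 1 := congrArg Prod.snd hg
    have h3 : g ∈ N := by
      have := (MulEquiv.map_eq_one_iff e2).mp h1
      exact (QuotientGroup.eq_one_iff g).mp this
    have h4 : g ∈ P := by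
      have := (MulEquiv.map_eq_one_iff e1).mp h2
      exact (QuotientGroup.eq_one_iff g).mp this
    have h5 : g ∈ N ⊓ P := ⟨h3, h4⟩
    rw [hc.disjoint.eq_bot] at h5
    exact h5
  have hcard : Nat.card (P × N) = Nat.card G := by
    rw [Nat.card_prod, mul_comm]
    exact hc.card_mul_card
  have hbij : Function.Bijective φ :=
    (Nat.bijective_iff_injective_and_card φ).mpr ⟨hinj, hcard.symm⟩
  exact ⟨MulEquiv.ofBijective φ hbij⟩

/-- A finite nilpotent group with exactly one irreducible character of degree divisible by `p`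
is a `p`-group. -/
theorem isPGroup_of_nilpotent_of_unique {G : Type u} [Group G] [Finite G] [hnil : Group.IsNilpotent G]
    (p : ℕ) [hp : Fact p.Prime]
    (h : Nat.card {χ : IrrCharacter G // p ∣ charDegree (χ : G → ℂ)} = 1) : IsPGroup p G := by
  classical
  obtain ⟨P, N, hNn, hc⟩ := Cfsg.Agent.Lib.Helper96.hasNormalPComplement_of_isNilpotent hnil p
  have hPn : (P : Subgroup G).Normal := inferInstance
  obtain ⟨E⟩ := exists_mulEquiv_prod (P : Subgroup G) N hc
  -- the unique character
  rw [Nat.card_eq_one_iff_unique] at h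
  obtain ⟨hsub, ⟨⟨χ₀, hχ₀⟩⟩⟩ := h
  obtain ⟨θ, hθ⟩ := irrOfEquiv_surjective E χ₀
  obtain ⟨⟨α₀, β₀⟩, hαβ⟩ := Cfsg.Agent.Lib.Helper81.irrProd_surjective θ
  have hdeg : ∀ (α : IrrCharacter ↥(P : Subgroup G)) (β : IrrCharacter N),
      charDegree (irrOfEquiv E (Cfsg.Agent.Lib.Helper81.irrProd (α, β)) : G → ℂ) =
        charDegree (α : ↥(P : Subgroup G) → ℂ) * charDegree (β : N → ℂ) := by
    intro α β
    rw [charDegree_irrOfEquiv, Cfsg.Agent.Lib.Helper81.charDegree_irrProd]
  -- |N| is coprime to p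
  have hNcop : (Nat.card N).Coprime p := by
    have h1 : Nat.card N = (P : Subgroup G).index := hc.index_eq_card.symm
    rw [h1]
    exact ((Nat.Prime.coprime_iff_not_dvd hp.out).mpr P.not_dvd_index).symm
  have hβcop : ∀ β : IrrCharacter N, (charDegree (β : N → ℂ)).Coprime p := by
    intro β
    have := Fintype.ofFinite N
    obtain ⟨n, hn1, hn2, _⟩ := Cfsg.Agent.Lib.Helper3.IsIrrCharacter.apply_one_dvd_card β.2
    rw [Cfsg.Agent.Lib.Helper81.charDegree_eq_of_apply_one hn1]
    exact Nat.Coprime.coprime_dvd_left hn2 hNcop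
  have hα₀ : p ∣ charDegree (α₀ : ↥(P : Subgroup G) → ℂ) := by
    have h1 : p ∣ charDegree (α₀ : ↥(P : Subgroup G) → ℂ) * charDegree (β₀ : N → ℂ) := by
      rw [← hdeg, hαβ, hθ]; exact hχ₀
    exact (Nat.Coprime.dvd_mul_right (hβcop β₀).symm).mp h1
  -- all irreducible characters of `N` coincide
  have hβ : ∀ β : IrrCharacter N, β = β₀ := by
    intro β
    have h1 : p ∣ charDegree (irrOfEquiv E (Cfsg.Agent.Lib.Helper81.irrProd (α₀, β)) : G → ℂ) := by
      rw [hdeg]; exact Dvd.dvd.mul_right hα₀ _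
    have h2 : p ∣ charDegree (irrOfEquiv E (Cfsg.Agent.Lib.Helper81.irrProd (α₀, β₀)) : G → ℂ) := by
      rw [hdeg]; exact Dvd.dvd.mul_right hα₀ _
    have h3 := congrArg Subtype.val (hsub.elim ⟨_, h1⟩ ⟨_, h2⟩)
    have h4 := Cfsg.Agent.Lib.Helper81.irrProd_injective (irrOfEquiv_injective E h3)
    exact congrArg Prod.snd h4
  -- hence `N` has one conjugacy class and is trivial
  have hNtriv : Nat.card N = 1 := by
    have h1 : Nat.card (IrrCharacter N) = 1 := by
      rw [Nat.card_eq_one_iff_unique]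
      exact ⟨⟨fun a b => (hβ a).trans (hβ b).symm⟩, ⟨β₀⟩⟩
    rw [Cfsg.Agent.Lib.Helper3.card_irrCharacter, Nat.card_eq_one_iff_unique] at h1
    obtain ⟨hs, _⟩ := h1
    rw [Nat.card_eq_one_iff_unique]
    refine ⟨⟨fun a b => ?_⟩, ⟨1⟩⟩
    have ha : ConjClasses.mk a = ConjClasses.mk (1 : N) := hs.elim _ _
    have hb : ConjClasses.mk b = ConjClasses.mk (1 : N) := hs.elim _ _
    rw [ConjClasses.mk_eq_mk_iff_isConj] at ha hb
    rw [isConj_one_left.mp ha, isConj_one_left.mp hb]
  have hcardG : Nat.card G = Nat.card (P : Subgroup G) := by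
    rw [← hc.card_mul_card, hNtriv, one_mul]
  obtain ⟨n, hn⟩ := (P.isPGroup').exists_card_eq
  exact IsPGroup.of_card (n := n) (by rw [hcardG, hn])

/-- Number theory: `idx * (p^k - 1) = (p^b)^2` with `k ≥ 1` forces `p^k = 2`. -/
theorem pow_eq_two_of_mul_eq {p k b idx : ℕ} (hp : p.Prime) (hk : 1 ≤ k)
    (h : idx * (p ^ k - 1) = (p ^ b) ^ 2) : p ^ k = 2 ∧ p = 2 := by
  have hdvd : p ^ k - 1 ∣ p ^ (b * 2) := by
    rw [pow_mul]
    exact Dvd.intro_left idx h
  obtain ⟨j, _, hj⟩ := (Nat.dvd_prime_pow hp).mp hdvd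
  have hpk : 1 ≤ p ^ k := Nat.one_le_pow _ _ hp.pos
  have hpdvd : p ∣ p ^ k := dvd_pow_self p (by omega)
  have hj0 : j = 0 := by
    by_contra hne
    have h1 : p ∣ p ^ j := dvd_pow_self p hne
    have h2 : p ∣ p ^ k - (p ^ k - 1) := by
      rw [hj]
      exact Nat.dvd_sub hpdvd h1
    have h3 : p ^ k - (p ^ k - 1) = 1 := by omega
    rw [h3] at h2
    exact hp.one_lt.ne' (Nat.dvd_one.mp h2)
  rw [hj0, pow_zero] at hj
  have h2 : p ^ k = 2 := by omega
  refine ⟨h2, ?_⟩
  rw [h2] at hpdvd
  exact (Nat.prime_dvd_prime_iff_eq hp Nat.prime_two).mp hpdvd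

/-- A normal subgroup of order two is central. -/
theorem le_center_of_normal_of_card_two {G : Type u} [Group G] (H : Subgroup G) [hH : H.Normal]
    (hcard : Nat.card H = 2) : H ≤ Subgroup.center G := by
  intro g hg
  rw [Subgroup.mem_center_iff]
  intro x
  by_cases hg1 : g = 1
  · rw [hg1, mul_one, one_mul]
  · obtain ⟨y, _, hy⟩ := (Nat.card_eq_two_iff' (1 : H)).mp hcard
    have h1 : (⟨g, hg⟩ : H) = y := hy _ (fun h => hg1 (congrArg Subtype.val h))
    have h2 : (⟨x * g * x⁻¹, hH.conj_mem g hg x⟩ : H) = y := by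
      apply hy
      intro h
      apply hg1
      have h3 : x * g * x⁻¹ = 1 := congrArg Subtype.val h
      have : g = x⁻¹ * (x * g * x⁻¹) * x := by group
      rw [this, h3]; group
    have h3 : x * g * x⁻¹ = g := congrArg Subtype.val (h2.trans h1.symm)
    calc x * g = x * g * x⁻¹ * x := by group
      _ = g * x := by rw [h3]

/-- A finite `p`-group with exactly one irreducible character of degree divisible by `p` is an
extraspecial `2`-group. -/
theorem extraspecial_of_pgroup_of_unique {G : Type u} [Group G] [Finite G] (p : ℕ)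
    [hp : Fact p.Prime] (hG : IsPGroup p G)
    (h : Nat.card {χ : IrrCharacter G // p ∣ charDegree (χ : G → ℂ)} = 1) :
    p = 2 ∧ Cfsg.IsExtraspecial 2 G := by
  classical
  have := Fintype.ofFinite G
  have := Cfsg.Agent.Lib.Helper81.finite_irrCharacter (G := G)
  have := Fintype.ofFinite (IrrCharacter G)
  rw [Nat.card_eq_one_iff_unique] at h
  obtain ⟨hsub, ⟨⟨χ₀, hχ₀⟩⟩⟩ := h
  have huniq : ∀ χ : IrrCharacter G, p ∣ charDegree (χ : G → ℂ) → χ = χ₀ := fun χ hχ =>
    congrArg Subtype.val (hsub.elim ⟨χ, hχ⟩ ⟨χ₀, hχ₀⟩)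
  obtain ⟨n, hn⟩ := hG.exists_card_eq
  -- degrees are powers of p
  have hdegpow : ∀ χ : IrrCharacter G, ∃ k, charDegree (χ : G → ℂ) = p ^ k := by
    intro χ
    obtain ⟨m, hm1, hm2, _⟩ := Cfsg.Agent.Lib.Helper3.IsIrrCharacter.apply_one_dvd_card χ.2
    rw [Cfsg.Agent.Lib.Helper81.charDegree_eq_of_apply_one hm1]
    rw [hn] at hm2
    obtain ⟨k, _, hk⟩ := (Nat.dvd_prime_pow hp.out).mp hm2
    exact ⟨k, hk⟩
  have hlin : ∀ χ : IrrCharacter G, χ ≠ χ₀ → charDegree (χ : G → ℂ) = 1 := by
    intro χ hχ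
    obtain ⟨k, hk⟩ := hdegpow χ
    rcases Nat.eq_zero_or_pos k with h0 | h0
    · rw [hk, h0, pow_zero]
    · exfalso
      apply hχ
      apply huniq
      rw [hk]
      exact dvd_pow_self p (by omega)
  obtain ⟨b, hb⟩ := hdegpow χ₀
  have hb1 : 1 ≤ b := by
    rcases Nat.eq_zero_or_pos b with h0 | h0
    · rw [hb, h0, pow_zero] at hχ₀
      exact absurd (Nat.dvd_one.mp hχ₀) hp.out.one_lt.ne'
    · exact h0
  -- the number of linear characters
  have hcardlin : (Finset.univ.erase χ₀).card = (commutator G).index := by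
    rw [← Cfsg.Agent.S0894.card_linear, Nat.card_eq_fintype_card, Fintype.card_subtype]
    congr 1
    ext χ
    simp only [Finset.mem_erase, Finset.mem_univ, and_true, Finset.mem_filter, true_and]
    constructor
    · intro hχ
      rw [← irr_charDegree_cast, hlin χ hχ, Nat.cast_one]
    · intro hχ hχ0
      rw [hχ0, ← irr_charDegree_cast, hb] at hχ
      have : p ^ b = 1 := by exact_mod_cast hχ
      have h2 : 1 < p ^ b := Nat.one_lt_pow (by omega) hp.out.one_lt
      omega
  -- sum of squares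
  have hsum : (commutator G).index + (p ^ b) ^ 2 = Nat.card G := by
    rw [← Cfsg.Agent.Lib.Helper81.sum_charDegree_sq (G := G), ← Finset.sum_erase_add _ _
      (Finset.mem_univ χ₀), hb, ← hcardlin]
    congr 1
    rw [Finset.card_eq_sum_ones]
    refine Finset.sum_congr rfl fun χ hχ => ?_
    rw [hlin χ (Finset.ne_of_mem_erase hχ), one_pow]
  obtain ⟨k, hk⟩ := (hG.to_subgroup (commutator G)).exists_card_eq
  have hmul := Subgroup.index_mul_card (commutator G)
  have hk1 : 1 ≤ k := by
    rcases Nat.eq_zero_or_pos k with h0 | h0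
    · exfalso
      rw [hk, h0, pow_zero, mul_one] at hmul
      rw [hmul] at hsum
      have : 0 < (p ^ b) ^ 2 := by
        have := hp.out.pos
        positivity
      omega
    · exact h0
  have hkey : (commutator G).index * (p ^ k - 1) = (p ^ b) ^ 2 := by
    rw [hk] at hmul
    have hpk : 1 ≤ p ^ k := Nat.one_le_pow _ _ hp.out.pos
    have h1 : (commutator G).index * (p ^ k - 1) + (commutator G).index =
        (commutator G).index + (p ^ b) ^ 2 := by
      rw [hsum, ← hmul]
      have : p ^ k = (p ^ k - 1) + 1 := by omega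
      conv_rhs => rw [this]
      ring
    omega
  obtain ⟨hc2, hp2⟩ := pow_eq_two_of_mul_eq hp.out hk1 hkey
  refine ⟨hp2, ?_⟩
  have hcomm2 : Nat.card (commutator G) = 2 := by rw [hk, hc2]
  have hidx : (commutator G).index = (p ^ b) ^ 2 := by
    rw [hc2] at hkey
    simpa using hkey
  have hcardG : Nat.card G = 2 * (p ^ b) ^ 2 := by
    rw [← hsum, hidx]; ring
  -- G' is central
  have hcomm_le : commutator G ≤ Subgroup.center G :=
    le_center_of_normal_of_card_two (commutator G) hcomm2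
  -- the centre has order at most 2
  have hnorm : ∀ z ∈ Subgroup.center G, ‖(χ₀ : G → ℂ) z‖ ^ 2 = ((p ^ b : ℕ) : ℝ) ^ 2 := by
    intro z hz
    have h1 := Cfsg.Agent.S0894.central_mul χ₀ z⁻¹ z hz
    rw [inv_mul_cancel, irr_conj_inv, ← irr_charDegree_cast, hb] at h1
    have h2 : ((‖(χ₀ : G → ℂ) z‖ ^ 2 : ℝ) : ℂ) = (((p ^ b : ℕ) : ℝ) ^ 2 : ℝ) := by
      rw [Complex.ofReal_pow, ← Complex.conj_mul', ← h1]
      push_cast
      ring
    exact_mod_cast h2
  have hZle : Nat.card (Subgroup.center G) ≤ 2 := by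
    have h1 := irr_sum_norm_sq χ₀
    have h2 : ∑ g ∈ Finset.univ.filter (fun g : G => g ∈ Subgroup.center G),
        ‖(χ₀ : G → ℂ) g‖ ^ 2 ≤ ∑ g : G, ‖(χ₀ : G → ℂ) g‖ ^ 2 :=
      Finset.sum_le_sum_of_subset_of_nonneg (Finset.filter_subset _ _)
        (fun g _ _ => by positivity)
    have h3 : ∑ g ∈ Finset.univ.filter (fun g : G => g ∈ Subgroup.center G),
        ‖(χ₀ : G → ℂ) g‖ ^ 2 = (Nat.card (Subgroup.center G) : ℝ) * ((p ^ b : ℕ) : ℝ) ^ 2 := by
      rw [Finset.sum_congr rfl (fun g hg => hnorm g (Finset.mem_filter.mp hg).2),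
        Finset.sum_const, nsmul_eq_mul]
      congr 2
      rw [Nat.card_eq_fintype_card, Fintype.card_subtype]
    rw [h3, h1, hcardG] at h2
    have hpos : (0 : ℝ) < ((p ^ b : ℕ) : ℝ) ^ 2 := by
      have := hp.out.pos
      positivity
    have h4 : (Nat.card (Subgroup.center G) : ℝ) ≤ 2 := by
      push_cast at h2
      have := le_of_mul_le_mul_right h2 (by push_cast at hpos; exact hpos)
      exact this
    exact_mod_cast h4
  have hZeq : commutator G = Subgroup.center G :=
    Subgroup.eq_of_le_of_card_ge hcomm_le (by rw [hcomm2]; exact hZle)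
  have hZ2 : Nat.card (Subgroup.center G) = 2 := by rw [← hZeq, hcomm2]
  subst hp2
  -- the Frattini subgroup
  have hfrat : frattini G = Subgroup.center G := by
    apply le_antisymm
    · apply Cfsg.Agent.Lib.Helper47.frattini_le_of_elementary_abelian_quotient 2
      · intro x y
        rw [← hZeq, commutator_def]
        exact Subgroup.commutator_mem_commutator (Subgroup.mem_top x) (Subgroup.mem_top y)
      · intro x
        rw [Subgroup.mem_center_iff]
        intro y
        have hc : ⁅x, y⁆ ∈ Subgroup.center G := by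
          rw [← hZeq, commutator_def]
          exact Subgroup.commutator_mem_commutator (Subgroup.mem_top x) (Subgroup.mem_top y)
        have hc2' : ⁅x, y⁆ * ⁅x, y⁆ = 1 := by
          have h1 : (⟨⁅x, y⁆, hc⟩ : Subgroup.center G) ^ Nat.card (Subgroup.center G) = 1 :=
            pow_card_eq_one'
          rw [hZ2] at h1
          have h2 := congrArg Subtype.val h1
          simpa [pow_two] using h2
        have hxy : x * y = ⁅x, y⁆ * y * x := by
          rw [commutatorElement_def]; group
        have hcc := Subgroup.mem_center_iff.mp hc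
        calc y * x ^ 2 = ⁅x, y⁆ * ⁅x, y⁆ * y * x ^ 2 := by rw [hc2', one_mul]
          _ = ⁅x, y⁆ * (⁅x, y⁆ * y * x) * x := by rw [pow_two]; group
          _ = ⁅x, y⁆ * (x * y) * x := by rw [← hxy]
          _ = x * (⁅x, y⁆ * y * x) := by
              rw [← mul_assoc, ← hcc x]; group
          _ = x * (x * y) := by rw [← hxy]
          _ = x ^ 2 * y := by rw [pow_two]; group
    · rw [← hZeq]
      exact Cfsg.Agent.Lib.Helper2.commutator_le_frattini hG
  exact ⟨⟨hG, hfrat, hZeq⟩, hZ2⟩

/-- An irreducible character with the commutator subgroup in its kernel is linear. -/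
theorem irr_one_eq_one_of_commutator_le {G : Type u} [Group G] [Finite G] (χ : IrrCharacter G)
    (hker : ∀ x ∈ commutator G, (χ : G → ℂ) x = (χ : G → ℂ) 1) : (χ : G → ℂ) 1 = 1 := by
  obtain ⟨ψ, hψ, hval⟩ :=
    Cfsg.Agent.Lib.Helper79.isIrrCharacter_deflate χ.2 (commutator G) hker
  have hcomm : IsMulCommutative (G ⧸ commutator G) :=
    ⟨⟨fun a b => mul_comm (G := Abelianization G) a b⟩⟩
  have h1 := irr_one_eq_one_of_comm (A := G ⧸ commutator G) ⟨ψ, hψ⟩
  have h2 := hval 1
  rw [← h2]
  exact h1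

/-- The norm of an irreducible character at a central element. -/
theorem irr_norm_sq_of_mem_center {G : Type u} [Group G] [Finite G] (χ : IrrCharacter G) (z : G)
    (hz : z ∈ Subgroup.center G) :
    ‖(χ : G → ℂ) z‖ ^ 2 = ((charDegree (χ : G → ℂ) : ℕ) : ℝ) ^ 2 := by
  have := Fintype.ofFinite G
  have h1 := Cfsg.Agent.S0894.central_mul χ z⁻¹ z hz
  rw [inv_mul_cancel, irr_conj_inv, ← irr_charDegree_cast] at h1
  have h2 : ((‖(χ : G → ℂ) z‖ ^ 2 : ℝ) : ℂ) =
      (((charDegree (χ : G → ℂ) : ℕ) : ℝ) ^ 2 : ℝ) := by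
    rw [Complex.ofReal_pow, ← Complex.conj_mul', ← h1]
    push_cast
    ring
  exact_mod_cast h2

/-- An extraspecial `2`-group has exactly one irreducible character of even degree. -/
theorem unique_of_extraspecial {G : Type u} [Group G] [Finite G] (hG : Cfsg.IsExtraspecial 2 G) :
    Nat.card {χ : IrrCharacter G // 2 ∣ charDegree (χ : G → ℂ)} = 1 := by
  classical
  have := Fintype.ofFinite G
  have := Cfsg.Agent.Lib.Helper81.finite_irrCharacter (G := G)
  have := Fintype.ofFinite (IrrCharacter G)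
  obtain ⟨⟨hP, hfrat, hcomm⟩, hZ2⟩ := hG
  have hp2 : Fact (Nat.Prime 2) := ⟨Nat.prime_two⟩
  obtain ⟨n, hn⟩ := hP.exists_card_eq
  obtain ⟨⟨z, hzZ⟩, hz1', hzuniq⟩ := (Nat.card_eq_two_iff' (1 : Subgroup.center G)).mp hZ2
  have hz1 : z ≠ 1 := fun h => hz1' (Subtype.ext h)
  have hzu : ∀ w ∈ Subgroup.center G, w ≠ 1 → w = z := by
    intro w hw hw1
    have := hzuniq ⟨w, hw⟩ (fun h => hw1 (congrArg Subtype.val h))
    exact congrArg Subtype.val this
  have hzz : z * z = 1 := by
    have h1 : (⟨z, hzZ⟩ : Subgroup.center G) ^ Nat.card (Subgroup.center G) = 1 :=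
      pow_card_eq_one'
    rw [hZ2] at h1
    have h2 := congrArg Subtype.val h1
    simpa [pow_two] using h2
  -- degrees are powers of 2
  have hdegpow : ∀ χ : IrrCharacter G, ∃ k, charDegree (χ : G → ℂ) = 2 ^ k := by
    intro χ
    obtain ⟨m, hm1, hm2, _⟩ := Cfsg.Agent.Lib.Helper3.IsIrrCharacter.apply_one_dvd_card χ.2
    rw [Cfsg.Agent.Lib.Helper81.charDegree_eq_of_apply_one hm1]
    rw [hn] at hm2
    obtain ⟨k, _, hk⟩ := (Nat.dvd_prime_pow Nat.prime_two).mp hm2
    exact ⟨k, hk⟩
  have hdvd_iff : ∀ χ : IrrCharacter G, 2 ∣ charDegree (χ : G → ℂ) ↔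
      charDegree (χ : G → ℂ) ≠ 1 := by
    intro χ
    obtain ⟨k, hk⟩ := hdegpow χ
    rw [hk]
    constructor
    · intro h h1
      rw [h1] at h
      omega
    · intro h
      rcases Nat.eq_zero_or_pos k with h0 | h0
      · rw [h0, pow_zero] at h; exact absurd rfl h
      · exact dvd_pow_self 2 (by omega)
  -- nonlinear characters take the value -χ(1) at z
  have hχz : ∀ χ : IrrCharacter G, charDegree (χ : G → ℂ) ≠ 1 →
      (χ : G → ℂ) z = -(χ : G → ℂ) 1 := by
    intro χ hχ
    have h1 := Cfsg.Agent.S0894.central_mul χ z z hzZ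
    rw [hzz] at h1
    have h2 : ((χ : G → ℂ) z - (χ : G → ℂ) 1) * ((χ : G → ℂ) z + (χ : G → ℂ) 1) = 0 := by
      linear_combination -h1
    rcases mul_eq_zero.mp h2 with h3 | h3
    · exfalso
      apply hχ
      have h4 : (χ : G → ℂ) z = (χ : G → ℂ) 1 := sub_eq_zero.mp h3
      have h5 : (χ : G → ℂ) 1 = 1 := by
        apply irr_one_eq_one_of_commutator_le χ
        intro x hx
        rw [hcomm] at hx
        by_cases hx1 : x = 1
        · rw [hx1]
        · rw [hzu x hx hx1, h4]
      have h6 := irr_charDegree_cast χ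
      rw [h5] at h6
      exact_mod_cast h6
    · exact eq_neg_of_add_eq_zero_left h3
  -- nonlinear characters vanish outside the centre
  have hvanish : ∀ χ : IrrCharacter G, charDegree (χ : G → ℂ) ≠ 1 → ∀ g : G,
      g ∉ Subgroup.center G → (χ : G → ℂ) g = 0 := by
    intro χ hχ g hg
    rw [Subgroup.mem_center_iff] at hg
    push Not at hg
    obtain ⟨h, hh⟩ := hg
    have hc : ⁅h, g⁆ ∈ Subgroup.center G := by
      rw [← hcomm, commutator_def]
      exact Subgroup.commutator_mem_commutator (Subgroup.mem_top h) (Subgroup.mem_top g)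
    have hc1 : ⁅h, g⁆ ≠ 1 := by
      intro h1
      apply hh
      rw [commutatorElement_def] at h1
      have : h * g = (h * g * h⁻¹ * g⁻¹) * (g * h) := by group
      rw [this, h1, one_mul]
    have hcz := hzu _ hc hc1
    have h1 : h * g * h⁻¹ = g * z := by
      rw [← hcz, commutatorElement_def]
      have hcc := Subgroup.mem_center_iff.mp hc g
      rw [commutatorElement_def] at hcc
      rw [hcc]; group
    have h2 : (χ : G → ℂ) (g * z) = (χ : G → ℂ) g := by
      rw [← h1, irr_class]
    have h3 := Cfsg.Agent.S0894.central_mul χ g z hzZ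
    rw [h2, hχz χ hχ] at h3
    have h4 : (χ : G → ℂ) 1 ≠ 0 := irr_one_ne_zero χ
    have h5 : (χ : G → ℂ) 1 * ((χ : G → ℂ) g * 2) = 0 := by linear_combination h3
    rcases mul_eq_zero.mp h5 with h6 | h6
    · exact absurd h6 h4
    · rcases mul_eq_zero.mp h6 with h7 | h7
      · exact h7
      · norm_num at h7
  -- the degree of a nonlinear character
  have hdeg : ∀ χ : IrrCharacter G, charDegree (χ : G → ℂ) ≠ 1 →
      2 * (charDegree (χ : G → ℂ)) ^ 2 = Nat.card G := by
    intro χ hχ
    have h1 := irr_sum_norm_sq χ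
    have h2 : ∑ g : G, ‖(χ : G → ℂ) g‖ ^ 2 =
        ∑ g ∈ Finset.univ.filter (fun g : G => g ∈ Subgroup.center G),
          ‖(χ : G → ℂ) g‖ ^ 2 := by
      symm
      apply Finset.sum_subset (Finset.filter_subset _ _)
      intro g _ hg
      have hg' : g ∉ Subgroup.center G := fun h => hg (Finset.mem_filter.mpr ⟨Finset.mem_univ g, h⟩)
      rw [hvanish χ hχ g hg', norm_zero]
      norm_num
    have h3 : ∑ g ∈ Finset.univ.filter (fun g : G => g ∈ Subgroup.center G),
        ‖(χ : G → ℂ) g‖ ^ 2 =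
        (Nat.card (Subgroup.center G) : ℝ) * ((charDegree (χ : G → ℂ) : ℕ) : ℝ) ^ 2 := by
      rw [Finset.sum_congr rfl
        (fun g hg => irr_norm_sq_of_mem_center χ g (Finset.mem_filter.mp hg).2),
        Finset.sum_const, nsmul_eq_mul]
      congr 2
      rw [Nat.card_eq_fintype_card, Fintype.card_subtype]
    rw [h2, h3, hZ2] at h1
    exact_mod_cast h1
  -- counting
  have hidx : (commutator G).index * 2 = Nat.card G := by
    have := Subgroup.index_mul_card (commutator G)
    rwa [hcomm, hZ2, ← hcomm] at this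
  have hL : (Finset.univ.filter (fun χ : IrrCharacter G => charDegree (χ : G → ℂ) = 1)).card =
      (commutator G).index := by
    rw [← Cfsg.Agent.S0894.card_linear, Nat.card_eq_fintype_card, Fintype.card_subtype]
    congr 1
    ext χ
    simp only [Finset.mem_filter, Finset.mem_univ, true_and]
    constructor
    · intro hχ
      rw [← irr_charDegree_cast, hχ, Nat.cast_one]
    · intro hχ
      have h6 := irr_charDegree_cast χ
      rw [hχ] at h6
      exact_mod_cast h6
  have hsum := Cfsg.Agent.Lib.Helper81.sum_charDegree_sq (G := G)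
  rw [← Finset.sum_filter_add_sum_filter_not Finset.univ
    (fun χ : IrrCharacter G => charDegree (χ : G → ℂ) = 1)] at hsum
  have hs1 : ∑ χ ∈ Finset.univ.filter (fun χ : IrrCharacter G => charDegree (χ : G → ℂ) = 1),
      (charDegree (χ : G → ℂ)) ^ 2 = (commutator G).index := by
    rw [← hL, Finset.card_eq_sum_ones]
    refine Finset.sum_congr rfl fun χ hχ => ?_
    rw [(Finset.mem_filter.mp hχ).2, one_pow]
  have hs2 : 2 * ∑ χ ∈ Finset.univ.filter (fun χ : IrrCharacter G => ¬ charDegree (χ : G → ℂ) = 1),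
      (charDegree (χ : G → ℂ)) ^ 2 =
      (Finset.univ.filter (fun χ : IrrCharacter G => ¬ charDegree (χ : G → ℂ) = 1)).card *
        Nat.card G := by
    rw [Finset.mul_sum, Finset.sum_congr rfl (fun χ hχ => hdeg χ (Finset.mem_filter.mp hχ).2),
      Finset.sum_const, smul_eq_mul]
  have hGpos : 0 < Nat.card G := Nat.card_pos
  have hcard1 : (Finset.univ.filter
      (fun χ : IrrCharacter G => ¬ charDegree (χ : G → ℂ) = 1)).card = 1 := by
    have h1 : 2 * Nat.card G = Nat.card G + (Finset.univ.filter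
        (fun χ : IrrCharacter G => ¬ charDegree (χ : G → ℂ) = 1)).card * Nat.card G := by
      rw [← hs2]
      rw [hs1] at hsum
      omega
    have h2 : (Finset.univ.filter
        (fun χ : IrrCharacter G => ¬ charDegree (χ : G → ℂ) = 1)).card * Nat.card G =
        1 * Nat.card G := by linarith
    exact Nat.eq_of_mul_eq_mul_right hGpos h2
  rw [Nat.card_eq_fintype_card, Fintype.card_subtype, ← hcard1]
  congr 1
  ext χ
  simp only [Finset.mem_filter, Finset.mem_univ, true_and]
  exact hdvd_iff χ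

end OneNonlinear

end Cfsg.Agent.Lib.Helper80
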