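import Cfsg.Agent.Lib.Helper80.TwoDegrees
import Cfsg.Agent.Lib.Helper80.OneNonlinear
import Cfsg.Agent.Lib.Helper79.CenterIndex

set_option autoImplicit false
set_option linter.style.haveILetI false
set_option linter.unusedSectionVars false

/-!
# Groups with character degrees `1` and `p` (Isaacs, Theorem 12.11)
-/

namespace Cfsg.Agent.Lib.Helper80

open Cfsg
open Cfsg.Agent.Lib.Helper75 Cfsg.Agent.Lib.Helper79
open scoped ComplexConjugate commutatorElement

universe u

section FullyRamified

variable {Q : Type u} [Group Q] [Finite Q]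

/-- If every nontrivial normal subgroup of `Q` contains the commutator subgroup and the centre is
nontrivial, then every nonlinear irreducible character vanishes off the centre and the square of
its degree is the index of the centre. -/
theorem vanish_off_center_of_commutator_le
    (hmin : ∀ N : Subgroup Q, N.Normal → N ≠ ⊥ → commutator Q ≤ N)
    (hcen : Subgroup.center Q ≠ ⊥) (ψ : IrrCharacter Q) (hψ : (ψ : Q → ℂ) 1 ≠ 1) :
    (∀ g : Q, g ∉ Subgroup.center Q → (ψ : Q → ℂ) g = 0) ∧
      (charDegree (ψ : Q → ℂ)) ^ 2 = (Subgroup.center Q).index := by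
  classical
  have := Fintype.ofFinite Q
  have hcomm_le : commutator Q ≤ Subgroup.center Q := hmin _ inferInstance hcen
  obtain ⟨K, hKn, hK, -⟩ := irr_exists_ker ψ
  have hKbot : K = ⊥ := by
    by_contra h
    have h1 := hmin K hKn h
    apply hψ
    exact irr_one_eq_one_of_commutator_le ψ (fun x hx => (hK x).1 (h1 hx))
  have hvan : ∀ g : Q, g ∉ Subgroup.center Q → (ψ : Q → ℂ) g = 0 := by
    intro g hg
    rw [Subgroup.mem_center_iff] at hg
    push Not at hg
    obtain ⟨y, hy⟩ := hg
    set c : Q := ⁅g⁻¹, y⁻¹⁆ with hc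
    have hcmem : c ∈ Subgroup.center Q :=
      hcomm_le (Subgroup.commutator_mem_commutator (Subgroup.mem_top _) (Subgroup.mem_top _))
    have hc1 : c ≠ 1 := by
      intro h
      rw [hc, commutatorElement_eq_one_iff_mul_comm] at h
      apply hy
      have : y * g = g * y := by
        have h2 : (g⁻¹ * y⁻¹)⁻¹ = (y⁻¹ * g⁻¹)⁻¹ := by rw [h]
        simpa using h2
      exact this
    have hgc : y⁻¹ * g * y⁻¹⁻¹ = g * c := by
      rw [hc, commutatorElement_def]
      group
    have h1 : (ψ : Q → ℂ) (g * c) = (ψ : Q → ℂ) g := by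
      rw [← hgc]
      exact irr_class ψ g y⁻¹
    have h2 := Cfsg.Agent.S0894.central_mul ψ g c hcmem
    rw [h1] at h2
    have h3 : (ψ : Q → ℂ) c ≠ (ψ : Q → ℂ) 1 := by
      intro h
      have : c ∈ K := (hK c).2 h
      rw [hKbot, Subgroup.mem_bot] at this
      exact hc1 this
    by_contra hne
    apply h3
    have : (ψ : Q → ℂ) g * (ψ : Q → ℂ) 1 = (ψ : Q → ℂ) g * (ψ : Q → ℂ) c := by
      rw [← h2, mul_comm]
    exact (mul_left_cancel₀ hne this).symm
  refine ⟨hvan, ?_⟩
  have hsum := irr_sum_norm_sq ψ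
  have h1 : ∀ g : Q, ‖(ψ : Q → ℂ) g‖ ^ 2 =
      if g ∈ Subgroup.center Q then ((charDegree (ψ : Q → ℂ) : ℕ) : ℝ) ^ 2 else 0 := by
    intro g
    split_ifs with h
    · exact irr_norm_sq_of_mem_center ψ g h
    · rw [hvan g h]; simp
  rw [Finset.sum_congr rfl (fun g _ => h1 g), Finset.sum_ite, Finset.sum_const_zero, add_zero,
    Finset.sum_const, nsmul_eq_mul] at hsum
  have h2 : (Finset.univ.filter (fun g : Q => g ∈ Subgroup.center Q)).card =
      Nat.card (Subgroup.center Q) := by
    rw [Nat.card_eq_fintype_card, Fintype.card_subtype]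
  rw [h2] at hsum
  have h3 : Nat.card (Subgroup.center Q) * (charDegree (ψ : Q → ℂ)) ^ 2 =
      Nat.card (Subgroup.center Q) * (Subgroup.center Q).index := by
    rw [Subgroup.card_mul_index]
    exact_mod_cast hsum
  exact Nat.eq_of_mul_eq_mul_left Nat.card_pos h3

end FullyRamified

end Cfsg.Agent.Lib.Helper80
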