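import Mathlib
import Cfsg.Prelude.Def_Classical
import Cfsg.Prelude.Def_LieClassical
import Cfsg.Agent.Lib.Helper14.TuDefs
import Cfsg.Agent.Lib.Helper65.UndDefs
import Cfsg.Agent.Lib.Helper80.TuD1gen
import Cfsg.Agent.Lib.Helper19.TuFPF

/-! UND-E1 (by helper80) for helper65's S5954 "Und" hive: the test element made of `n / c`
fixed-point-free blocks and the identity on `n % c` coordinates. -/

set_option autoImplicit false
set_option linter.unusedVariables false

namespace Cfsg.Agent.Lib.Helper65.Und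

open Cfsg.Agent.Lib.Helper40.Herm Cfsg.Agent.Lib.Helper2.BG Cfsg.Agent.Lib.Helper14.Tu
open Polynomial Module Matrix

section e1gen

variable {F : Type*} [Field F] {c t k n : ℕ}

/-- the fixed space of `diag(U, …, U, 1)` for a fixed-point-free `U` has dimension exactly `k` -/
theorem e1_finrank_ker (e : (Fin c × Fin t) ⊕ Fin k ≃ Fin n) (U : Matrix (Fin c) (Fin c) F)
    (hfpf : ∀ w : Fin c → F, U *ᵥ w = w → w = 0) :
    finrank F ↥(LinearMap.ker (Matrix.toLin' (d1_X e U) - 1)) = k := by
  classical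
  have hker : ∀ v : Fin n → F, v ∈ LinearMap.ker (Matrix.toLin' (d1_X e U) - 1) ↔
      d1_X e U *ᵥ v = v := by
    intro v
    rw [LinearMap.mem_ker, LinearMap.sub_apply, Matrix.toLin'_apply, Module.End.one_apply,
      sub_eq_zero]
  let φ : ↥(LinearMap.ker (Matrix.toLin' (d1_X e U) - 1)) →ₗ[F] (Fin k → F) :=
    (LinearMap.funLeft F F (fun j : Fin k => e (Sum.inr j))).comp (Submodule.subtype _)
  have hφ : ∀ v, φ v = fun j => v.1 (e (Sum.inr j)) := fun v => rfl
  have hinj : Function.Injective φ := by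
    rw [← LinearMap.ker_eq_bot, LinearMap.ker_eq_bot']
    intro v hv
    apply Subtype.ext
    funext i
    obtain ⟨j, rfl⟩ := e.surjective i
    rcases j with ⟨a, s⟩ | j
    · exact d1_fixed e U hfpf v.1 ((hker v.1).1 v.2) a s
    · have := congrFun hv j
      rw [hφ] at this
      exact this
  have hsurj : Function.Surjective φ := by
    intro y
    have hv : (fun i : Fin n => Sum.elim (fun _ => (0 : F)) y (e.symm i)) ∈
        LinearMap.ker (Matrix.toLin' (d1_X e U) - 1) := by
      rw [hker]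
      funext i
      obtain ⟨j, rfl⟩ := e.surjective i
      rcases j with ⟨a, s⟩ | j
      · rw [(d1_X_mulVec e U _).1 a s]
        simp only [Equiv.symm_apply_apply, Sum.elim_inl]
        have : (fun a' : Fin c => (0 : F)) = 0 := rfl
        rw [this, Matrix.mulVec_zero]
        rfl
      · rw [(d1_X_mulVec e U _).2 j]
    refine ⟨⟨_, hv⟩, ?_⟩
    rw [hφ]
    funext j
    simp only [Equiv.symm_apply_apply, Sum.elim_inr]
  have := LinearEquiv.finrank_eq (LinearEquiv.ofBijective φ ⟨hinj, hsurj⟩)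
  rwa [Module.finrank_fintype_fun_eq_card, Fintype.card_fin] at this

end e1gen

section ex
variable {F : Type*} [Field F] [Fintype F] {p : ℕ} [Fact p.Prime] [CharP F p] {q : ℕ}

/-- UND-E1. -/
theorem exists_test (hq : Fintype.card F = q ^ 2) (r : ℕ) (hr : r.Prime) (hr2 : r ≠ 2)
    (hrp : r ≠ p) (hrq : ¬ r ∣ q + 1) (n c : ℕ) (hc : c = cOf (orderOf (q : ZMod r)))
    (hcn : c ≤ n) :
    ∃ A : Matrix (Fin n) (Fin n) F, IsU n q A ∧ A.det = 1 ∧ A ^ r = 1 ∧
      (∀ z : F, A ≠ z • (1 : Matrix (Fin n) (Fin n) F)) ∧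
      finrank F ↥(LinearMap.ker (Matrix.toLin' A - 1)) = n % c := by
  classical
  have : Fact r.Prime := ⟨hr⟩
  have hp : p.Prime := Fact.out
  obtain ⟨f, hf0, hqf⟩ := q_eq_pow (F := F) (p := p) hq
  have hrq' : ¬ r ∣ q := by
    intro h
    rw [hqf] at h
    have := hr.dvd_of_dvd_pow h
    exact hrp ((Nat.prime_dvd_prime_iff_eq hr hp).mp this)
  have hq0 : (q : ZMod r) ≠ 0 := by
    intro h
    exact hrq' ((ZMod.natCast_eq_zero_iff q r).mp h)
  have hord : orderOf (-(q : ZMod r)) = c := by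
    rw [hc]
    exact arc_orderOf_neg r hr hr2 _ hq0
  have hnq0 : -(q : ZMod r) ≠ 0 := neg_ne_zero.mpr hq0
  have hc0 : 0 < c := by
    rw [← hord]
    apply orderOf_pos_iff.mpr
    exact isOfFinOrder_iff_pow_eq_one.mpr
      ⟨r - 1, by have := hr.two_le; omega, ZMod.pow_card_sub_one_eq_one hnq0⟩
  obtain ⟨u, huGU, hur, hufpf, hudet⟩ := exists_fpf hq r hr hr2 hrp c hc
  have hudet1 : (u : Matrix (Fin c) (Fin c) F).det = 1 := by
    have := hudet hrq
    have h2 := Matrix.GeneralLinearGroup.val_det_apply u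
    rw [this, Units.val_one] at h2
    exact h2.symm
  have hUr : (u : Matrix (Fin c) (Fin c) F) ^ r = 1 := by
    rw [← Units.val_pow_eq_pow_val, hur, Units.val_one]
  have hcard : Fintype.card ((Fin c × Fin (n / c)) ⊕ Fin (n % c)) = n := by
    rw [Fintype.card_sum, Fintype.card_prod, Fintype.card_fin, Fintype.card_fin, Fintype.card_fin]
    exact Nat.div_add_mod n c
  have e : (Fin c × Fin (n / c)) ⊕ Fin (n % c) ≃ Fin n := Fintype.equivFinOfCardEq hcard
  have ht : 0 < n / c := Nat.div_pos hcn hc0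
  refine ⟨d1_X e (u : Matrix (Fin c) (Fin c) F), ?_, ?_, ?_, ?_, ?_⟩
  · intro a b
    exact d1_preserves q e _ huGU a b
  · rw [d1_X_det, hudet1, one_pow]
  · rw [d1_X_pow, hUr, d1_X_one]
  · -- not scalar
    intro z hz
    have hUz : (u : Matrix (Fin c) (Fin c) F) = z • (1 : Matrix (Fin c) (Fin c) F) := by
      ext a a'
      have h1 := d1_X_entry e (u : Matrix (Fin c) (Fin c) F) a a' ⟨0, ht⟩
      rw [hz] at h1
      rw [← h1, Matrix.smul_apply, Matrix.smul_apply, Matrix.one_apply, Matrix.one_apply]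
      by_cases haa : a = a'
      · subst haa
        simp
      · have : e (Sum.inl (a, ⟨0, ht⟩)) ≠ e (Sum.inl (a', ⟨0, ht⟩)) := by
          intro h2
          apply haa
          have h3 := e.injective h2
          simpa using h3
        simp [haa, this]
    have hzr : z ^ r = 1 := by
      have h1 := hUr
      rw [hUz, _root_.smul_pow, one_pow] at h1
      have h2 := congrFun (congrFun h1 ⟨0, hc0⟩) ⟨0, hc0⟩
      simpa using h2
    have hz1 : z ≠ 1 := by
      rintro rfl
      have h1 := hufpf (Pi.single ⟨0, hc0⟩ 1) (by rw [hUz, one_smul, Matrix.one_mulVec])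
      have h2 := congrFun h1 ⟨0, hc0⟩
      simp at h2
    -- `z ^ (q + 1) = 1` since `u` is unitary
    have hzq : z ^ (q + 1) = 1 := by
      have h1 := huGU (Pi.single ⟨0, hc0⟩ 1) (Pi.single ⟨0, hc0⟩ 1)
      have h2 : ((Units.coeHom (Matrix (Fin c) (Fin c) F)) u) = z • (1 : Matrix (Fin c) (Fin c) F) :=
        hUz
      rw [h2, Matrix.smul_mulVec, Matrix.one_mulVec] at h1
      unfold Cfsg.hermForm at h1
      rw [Finset.sum_eq_single (⟨0, hc0⟩ : Fin c), Finset.sum_eq_single (⟨0, hc0⟩ : Fin c)] at h1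
      · simp only [Pi.smul_apply, Pi.single_eq_same, smul_eq_mul, mul_one, one_pow] at h1
        rw [pow_succ, mul_comm]
        exact h1
      · intro j _ hj
        simp [Pi.single_eq_of_ne hj]
      · intro h; exact absurd (Finset.mem_univ _) h
      · intro j _ hj
        simp [Pi.single_eq_of_ne hj]
      · intro h; exact absurd (Finset.mem_univ _) h
    have hcop : Nat.gcd r (q + 1) = 1 := (Nat.Prime.coprime_iff_not_dvd hr).2 hrq
    have := (pow_gcd_eq_one (a := z) (m := r) (n := q + 1)).2 ⟨hzr, hzq⟩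
    rw [hcop, pow_one] at this
    exact hz1 this
  · exact e1_finrank_ker e _ hufpf

end ex

end Cfsg.Agent.Lib.Helper65.Und
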