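import Cfsg.Agent.Lib.Helper66.TpDefs

/-!
# Tp hive (S4017, owner helper66), leaf TP-I7b: `card_invol_eq`

The involutions commuting with `b ∈ Q \ {1}` are the `p` elements of `Q \ {1}` (`C(b) = Q`); the involutions `t` not
commuting with `b` correspond, by `t ↦ t * b`, to the non-identity elements of the Sylow `p`-subgroups inverted by `b`,
and such an element `z` lies in exactly one of them, namely `C(z)`.
-/

set_option autoImplicit false

namespace Cfsg.Agent.Lib.Helper66.Tp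

section ctx

variable {p : ℕ} {G : Type*} [Group G] [Finite G]

omit [Finite G] in
/-- an element of square one in a `p`-group, `p` odd, is trivial. -/
theorem tpi7b_sq_one (hp : p.Prime) (hp2 : p ≠ 2) (A : Sylow p G) (y : G) (hy : y ∈ (A : Subgroup G))
    (hyy : y * y = 1) : y = 1 := by
  obtain ⟨k, hk⟩ := A.2 ⟨y, hy⟩
  have hk' : y ^ p ^ k = 1 := by
    have := congrArg Subtype.val hk
    simpa using this
  have h2 : y ^ 2 = 1 := by rw [sq]; exact hyy
  have hcop : Nat.Coprime 2 (p ^ k) :=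
    Nat.Coprime.pow_right k ((Nat.coprime_primes Nat.prime_two hp).2 (Ne.symm hp2))
  have : y ^ Nat.gcd 2 (p ^ k) = 1 := pow_gcd_eq_one.2 ⟨h2, hk'⟩
  rwa [hcop, pow_one] at this

variable (s : Setup p G)
include s

theorem tpi7b_key
    (h4 : ∀ a b : G, orderOf a = 2 → orderOf b = 2 → a * b ≠ b * a →
      ∃ A : Sylow p G, (A : Subgroup G) = Subgroup.centralizer ({a * b} : Set G) ∧
        ∀ z ∈ (A : Subgroup G), b * z * b⁻¹ = z⁻¹)
    {b : G} (hb2 : b * b = 1) (hb1 : b ≠ 1) (A : Sylow p G)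
    (hA : ∀ y ∈ (A : Subgroup G), b * y * b⁻¹ = y⁻¹) (z : G) (hz : z ∈ (A : Subgroup G))
    (hz1 : z ≠ 1) :
    orderOf (z * b) = 2 ∧ (z * b) * b ≠ b * (z * b) ∧
      (A : Subgroup G) = Subgroup.centralizer ({z} : Set G) := by
  have hp := s.ctx.hp
  have hp2 := s.ctx.hp2
  have : Fact (Nat.Prime 2) := ⟨Nat.prime_two⟩
  have : Fact p.Prime := ⟨hp⟩
  have hbinv : b⁻¹ = b := inv_eq_of_mul_eq_one_right hb2
  have hob : orderOf b = 2 := orderOf_eq_prime (by rw [sq]; exact hb2) hb1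
  have hinv := hA z hz
  rw [hbinv] at hinv
  have hzb2 : (z * b) * (z * b) = 1 := by
    calc (z * b) * (z * b) = z * (b * z * b) := by group
      _ = 1 := by rw [hinv]; group
  have hzb1 : z * b ≠ 1 := by
    intro h
    have hzb : z = b := by
      have : z = b⁻¹ := eq_inv_of_mul_eq_one_left h
      rw [this, hbinv]
    exact hb1 (tpi7b_sq_one hp hp2 A b (hzb ▸ hz) hb2)
  have ho : orderOf (z * b) = 2 := orderOf_eq_prime (by rw [sq]; exact hzb2) hzb1
  have hnc : (z * b) * b ≠ b * (z * b) := by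
    intro h
    have h1 : z * b * b = z := by rw [mul_assoc, hb2, mul_one]
    have h2 : b * (z * b) = z⁻¹ := by rw [← mul_assoc]; exact hinv
    rw [h1, h2] at h
    have : z * z = 1 := by
      nth_rewrite 2 [h]
      exact mul_inv_cancel z
    exact hz1 (tpi7b_sq_one hp hp2 A z hz this)
  refine ⟨ho, hnc, ?_⟩
  obtain ⟨A', hA', -⟩ := h4 (z * b) b ho hob hnc
  have hzbb : z * b * b = z := by rw [mul_assoc, hb2, mul_one]
  rw [hzbb] at hA'
  rw [← hA']
  have hcomm := s.ctx.abel A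
  have hle : (A : Subgroup G) ≤ (A' : Subgroup G) := by
    rw [hA']
    intro y hy
    rw [Subgroup.mem_centralizer_singleton_iff]
    have := mul_comm' (⟨y, hy⟩ : ↥(A : Subgroup G)) ⟨z, hz⟩
    exact congrArg Subtype.val this
  exact Subgroup.eq_of_le_of_card_ge hle (by
    rw [Sylow.card_eq_multiplicity, Sylow.card_eq_multiplicity])

/-! ## TP-I7b -/
theorem card_invol_eq
    (hcent : ∀ t : G, orderOf t = 2 → Nat.card (Subgroup.centralizer ({t} : Set G)) = p + 1)
    (h4 : ∀ a b : G, orderOf a = 2 → orderOf b = 2 → a * b ≠ b * a →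
      ∃ A : Sylow p G, (A : Subgroup G) = Subgroup.centralizer ({a * b} : Set G) ∧
        ∀ z ∈ (A : Subgroup G), b * z * b⁻¹ = z⁻¹)
    {b : G} (hb : b ∈ (s.Q : Subgroup G)) (hb1 : b ≠ 1) :
    Nat.card {t : G // orderOf t = 2} =
      p + Nat.card {A : Sylow p G // ∀ z ∈ (A : Subgroup G), b * z * b⁻¹ = z⁻¹} *
        (p ^ (Nat.card G).factorization p - 1) := by
  classical
  have hp := s.ctx.hp
  have hp2 := s.ctx.hp2
  have : Fact (Nat.Prime 2) := ⟨Nat.prime_two⟩
  have : Fact p.Prime := ⟨hp⟩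
  have hb2 : b * b = 1 := s.hexp b hb
  have hbinv : b⁻¹ = b := inv_eq_of_mul_eq_one_right hb2
  have hob : orderOf b = 2 := orderOf_eq_prime (by rw [sq]; exact hb2) hb1
  -- `Q` is abelian
  have hQcomm : ∀ u ∈ (s.Q : Subgroup G), ∀ v ∈ (s.Q : Subgroup G), u * v = v * u := by
    intro u hu v hv
    have h1 := s.hexp (u * v) (Subgroup.mul_mem _ hu hv)
    have hu2 := s.hexp u hu
    have hv2 := s.hexp v hv
    symm
    calc v * u = (u * u) * (v * u) * (v * v) := by rw [hu2, hv2]; group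
      _ = u * ((u * v) * (u * v)) * v := by group
      _ = u * v := by rw [h1]; group
  -- `C(b) = Q`
  have hQcard : Nat.card (s.Q : Subgroup G) = p + 1 := by
    rw [Sylow.card_eq_multiplicity, s.ctx.two_part]
  have hCQ : (s.Q : Subgroup G) = Subgroup.centralizer ({b} : Set G) := by
    apply Subgroup.eq_of_le_of_card_ge
    · intro u hu
      rw [Subgroup.mem_centralizer_singleton_iff]
      exact hQcomm u hu b hb
    · rw [hQcard, hcent b hob]
  -- the three sets
  have hT : Nat.card {t : G // orderOf t = 2} = {t : G | orderOf t = 2}.ncard := by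
    rw [← Nat.card_coe_set_eq]; rfl
  have hsplit : {t : G | orderOf t = 2} =
      {t : G | orderOf t = 2 ∧ t * b = b * t} ∪ {t : G | orderOf t = 2 ∧ t * b ≠ b * t} := by
    ext t
    constructor
    · intro ht
      by_cases h : t * b = b * t
      · exact Or.inl ⟨ht, h⟩
      · exact Or.inr ⟨ht, h⟩
    · rintro (h | h)
      · exact h.1
      · exact h.1
  have hdisj : Disjoint {t : G | orderOf t = 2 ∧ t * b = b * t}
      {t : G | orderOf t = 2 ∧ t * b ≠ b * t} := by
    rw [Set.disjoint_left]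
    intro t h1 h2
    exact h2.2 h1.2
  -- first set: `Q \ {1}`
  have hT1 : {t : G | orderOf t = 2 ∧ t * b = b * t} = ((s.Q : Subgroup G) : Set G) \ {1} := by
    ext t
    constructor
    · rintro ⟨ht, htb⟩
      refine ⟨?_, ?_⟩
      · rw [SetLike.mem_coe, hCQ, Subgroup.mem_centralizer_singleton_iff]
        exact htb
      · intro h
        rw [Set.mem_singleton_iff] at h
        rw [h, orderOf_one] at ht
        omega
    · rintro ⟨ht, ht1⟩
      have ht1' : t ≠ 1 := ht1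
      refine ⟨orderOf_eq_prime (by rw [sq]; exact s.hexp t ht) ht1', hQcomm t ht b hb⟩
  have hT1card : {t : G | orderOf t = 2 ∧ t * b = b * t}.ncard = p := by
    rw [hT1, Set.ncard_sdiff_singleton_of_mem (Subgroup.one_mem _)]
    have : ((s.Q : Subgroup G) : Set G).ncard = p + 1 := by
      rw [← hQcard, ← Nat.card_coe_set_eq]; rfl
    rw [this, Nat.add_sub_cancel]
  -- second set: image of `Z`
  obtain ⟨Z, hZ⟩ : ∃ Z : Set G, Z = {z : G | z ≠ 1 ∧ ∃ A : Sylow p G,
      (∀ y ∈ (A : Subgroup G), b * y * b⁻¹ = y⁻¹) ∧ z ∈ (A : Subgroup G)} := ⟨_, rfl⟩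
  have hT2 : Z = (fun t => t * b) '' {t : G | orderOf t = 2 ∧ t * b ≠ b * t} := by
    rw [hZ]
    ext z
    constructor
    · rintro ⟨hz1, A, hA, hzA⟩
      obtain ⟨h1, h2, -⟩ := tpi7b_key s h4 hb2 hb1 A hA z hzA hz1
      exact ⟨z * b, ⟨h1, h2⟩, by show z * b * b = z; rw [mul_assoc, hb2, mul_one]⟩
    · rintro ⟨t, ⟨ht, htb⟩, rfl⟩
      obtain ⟨A, hA, hAinv⟩ := h4 t b ht hob htb
      refine ⟨?_, A, hAinv, ?_⟩
      · intro h
        apply htb
        have : t = b := by
          have : t = b⁻¹ := eq_inv_of_mul_eq_one_left h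
          rw [this, hbinv]
        rw [this]
      · rw [hA, Subgroup.mem_centralizer_singleton_iff]
  have hT2card : {t : G | orderOf t = 2 ∧ t * b ≠ b * t}.ncard = Z.ncard := by
    rw [hT2, Set.ncard_image_of_injective _ (mul_left_injective b)]
  -- count `Z`
  have hZcard : Z.ncard = Nat.card {A : Sylow p G // ∀ z ∈ (A : Subgroup G), b * z * b⁻¹ = z⁻¹} *
      (p ^ (Nat.card G).factorization p - 1) := by
    have hfin := Fintype.ofFinite {A : Sylow p G // ∀ z ∈ (A : Subgroup G), b * z * b⁻¹ = z⁻¹}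
    obtain ⟨f, hf⟩ : ∃ f : (Σ A : {A : Sylow p G // ∀ z ∈ (A : Subgroup G), b * z * b⁻¹ = z⁻¹},
        {z : ↥(A.1 : Subgroup G) // z ≠ 1}) → G, f = fun x => ((x.2.1 : ↥(x.1.1 : Subgroup G)) : G) :=
      ⟨_, rfl⟩
    have hfinj : Function.Injective f := by
      rintro ⟨⟨A, hA⟩, ⟨⟨z, hzA⟩, hz1⟩⟩ ⟨⟨A', hA'⟩, ⟨⟨z', hzA'⟩, hz1'⟩⟩ h
      rw [hf] at h
      have hzz : z = z' := h
      subst hzz
      have hz1g : z ≠ 1 := fun h => hz1 (Subtype.ext h)
      obtain ⟨-, -, e1⟩ := tpi7b_key s h4 hb2 hb1 A hA z hzA hz1g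
      obtain ⟨-, -, e2⟩ := tpi7b_key s h4 hb2 hb1 A' hA' z hzA' hz1g
      have hAA : A = A' := Sylow.ext (e1.trans e2.symm)
      subst hAA
      rfl
    have hrange : Z = f '' Set.univ := by
      rw [hZ, hf]
      ext z
      constructor
      · rintro ⟨hz1, A, hA, hzA⟩
        exact ⟨⟨⟨A, hA⟩, ⟨⟨z, hzA⟩, fun h => hz1 (congrArg Subtype.val h)⟩⟩, trivial, rfl⟩
      · rintro ⟨⟨⟨A, hA⟩, ⟨⟨z', hzA⟩, hz1⟩⟩, -, rfl⟩
        exact ⟨fun h => hz1 (Subtype.ext h), A, hA, hzA⟩
    rw [hrange, Set.ncard_image_of_injective _ hfinj, Set.ncard_univ, Nat.card_sigma]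
    rw [Finset.sum_congr rfl (g := fun _ => p ^ (Nat.card G).factorization p - 1)]
    · rw [Finset.sum_const, Finset.card_univ, smul_eq_mul, ← Nat.card_eq_fintype_card]
    · intro A _
      have h1 : Nat.card {z : ↥(A.1 : Subgroup G) // z ≠ 1} =
          ((Set.univ : Set ↥(A.1 : Subgroup G)) \ {1}).ncard := by
        rw [← Nat.card_coe_set_eq]
        apply Nat.card_congr
        exact ⟨fun z => ⟨z.1, trivial, z.2⟩, fun z => ⟨z.1, z.2.2⟩, fun _ => rfl, fun _ => rfl⟩
      rw [h1, Set.ncard_sdiff_singleton_of_mem (Set.mem_univ _), Set.ncard_univ,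
        Sylow.card_eq_multiplicity]
  rw [hT, hsplit, Set.ncard_union_eq hdisj, hT1card, hT2card, hZcard]

end ctx

end Cfsg.Agent.Lib.Helper66.Tp
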