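import Mathlib
import Cfsg.Agent.Lib.Helper67.OgDefs
import Cfsg.Agent.Lib.Helper37.OrthMinus
import Cfsg.Agent.Lib.Helper43.OrthCardMinus
import Cfsg.Agent.Lib.Helper39.SLPerfect

/-!
# Og hive (S2413-15), leaf OG-O-LEVI (core): the Levi datum `A ↦ diag(1, A, A⁻ᵀ)` for `oddForm`,
stated with the families written out.
-/

set_option autoImplicit false
set_option linter.unusedSectionVars false
set_option linter.unusedVariables false

namespace Cfsg.Agent.Lib.Helper67.Og

open Matrix Module QuadraticMap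
open Cfsg.Agent.Lib.Helper37 Cfsg.Agent.Lib.Helper8 Cfsg.Agent.Lib.Helper43
open Cfsg.Agent.Lib.Helper37.OrthField
open scoped commutatorElement

section concrete

variable (F : Type*) [Field F]

/-- the block matrix `diag(1, A, A⁻ᵀ)` -/
def olevi_mat (m : ℕ) (A : Matrix.SpecialLinearGroup (Fin m) F) :
    Matrix (Unit ⊕ (Fin m ⊕ Fin m)) (Unit ⊕ (Fin m ⊕ Fin m)) F :=
  Matrix.fromBlocks (1 : Matrix Unit Unit F) 0 0
    (Matrix.fromBlocks (A : Matrix (Fin m) (Fin m) F) 0 0
      ((A⁻¹ : Matrix.SpecialLinearGroup (Fin m) F) : Matrix (Fin m) (Fin m) F)ᵀ)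

theorem olevi_mat_one (m : ℕ) : olevi_mat F m 1 = 1 := by
  unfold olevi_mat
  rw [inv_one, Matrix.SpecialLinearGroup.coe_one, Matrix.transpose_one, Matrix.fromBlocks_one,
    Matrix.fromBlocks_one]

theorem olevi_mat_mul (m : ℕ) (A B : Matrix.SpecialLinearGroup (Fin m) F) :
    olevi_mat F m (A * B) = olevi_mat F m A * olevi_mat F m B := by
  unfold olevi_mat
  rw [Matrix.fromBlocks_multiply, Matrix.fromBlocks_multiply]
  simp only [Matrix.mul_zero, Matrix.zero_mul, add_zero, zero_add, mul_one, _root_.mul_inv_rev,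
    Matrix.SpecialLinearGroup.coe_mul, Matrix.transpose_mul]

/-- the monoid hom `SL_m → Matrix` -/
def olevi_matHom (m : ℕ) :
    Matrix.SpecialLinearGroup (Fin m) F →* Matrix (Unit ⊕ (Fin m ⊕ Fin m)) (Unit ⊕ (Fin m ⊕ Fin m)) F where
  toFun := olevi_mat F m
  map_one' := olevi_mat_one F m
  map_mul' := olevi_mat_mul F m

theorem olevi_mulVec (m : ℕ) (A : Matrix.SpecialLinearGroup (Fin m) F)
    (v : Unit ⊕ (Fin m ⊕ Fin m) → F) :
    olevi_mat F m A *ᵥ v = Sum.elim (fun _ => v (Sum.inl ()))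
      (Sum.elim ((A : Matrix (Fin m) (Fin m) F) *ᵥ fun i => v (Sum.inr (Sum.inl i)))
        (((A⁻¹ : Matrix.SpecialLinearGroup (Fin m) F) : Matrix (Fin m) (Fin m) F)ᵀ *ᵥ
          fun i => v (Sum.inr (Sum.inr i)))) := by
  unfold olevi_mat
  rw [Matrix.fromBlocks_mulVec, Matrix.fromBlocks_mulVec]
  simp only [Matrix.zero_mulVec, add_zero, zero_add, Matrix.one_mulVec]
  funext t
  rcases t with ⟨⟩ | t | t <;> rfl

theorem olevi_preserves (m : ℕ) (A : Matrix.SpecialLinearGroup (Fin m) F)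
    (v : Unit ⊕ (Fin m ⊕ Fin m) → F) :
    oddForm m F (olevi_mat F m A *ᵥ v) = oddForm m F v := by
  rw [← oddForm_coe, olevi_mulVec]
  unfold Cfsg.quadFormOdd
  simp only [Sum.elim_inl, Sum.elim_inr]
  congr 1
  have h1 : (((A⁻¹ : Matrix.SpecialLinearGroup (Fin m) F) : Matrix (Fin m) (Fin m) F)) *
      (A : Matrix (Fin m) (Fin m) F) = 1 := by
    rw [← Matrix.SpecialLinearGroup.coe_mul, inv_mul_cancel, Matrix.SpecialLinearGroup.coe_one]
  change ((A : Matrix (Fin m) (Fin m) F) *ᵥ fun i => v (Sum.inr (Sum.inl i))) ⬝ᵥ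
      ((((A⁻¹ : Matrix.SpecialLinearGroup (Fin m) F) : Matrix (Fin m) (Fin m) F))ᵀ *ᵥ
        fun i => v (Sum.inr (Sum.inr i))) =
      (fun i => v (Sum.inr (Sum.inl i))) ⬝ᵥ (fun i => v (Sum.inr (Sum.inr i)))
  rw [dotProduct_comm, Matrix.dotProduct_mulVec, Matrix.mulVec_transpose, Matrix.vecMul_vecMul, h1,
    Matrix.vecMul_one, dotProduct_comm]

/-- the Levi homomorphism for the odd form -/
noncomputable def olevi_hom (m : ℕ) :
    Matrix.SpecialLinearGroup (Fin m) F →* ↥(Cfsg.isometryGroup F ⇑(oddForm m F)) :=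
  MonoidHom.codRestrict (olevi_matHom F m).toHomUnits (Cfsg.isometryGroup F ⇑(oddForm m F))
    (fun A u _ => olevi_preserves F m A u)

theorem olevi_act (m : ℕ) (A : Matrix.SpecialLinearGroup (Fin m) F)
    (v : Unit ⊕ (Fin m ⊕ Fin m) → F) :
    act (oddForm m F) (olevi_hom F m A) v = olevi_mat F m A *ᵥ v := rfl

/-- OG-O-LEVI with the families written out -/
theorem olevi_main (m : ℕ) :
    ∃ L : Matrix.SpecialLinearGroup (Fin m) F →* ↥(Cfsg.isometryGroup F ⇑(oddForm m F)),
      LeviData (oddForm m F) m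
        (fun i => (Pi.single (Sum.inr (Sum.inl i)) 1 : Unit ⊕ (Fin m ⊕ Fin m) → F))
        (fun i => (Pi.single (Sum.inr (Sum.inr i)) 1 : Unit ⊕ (Fin m ⊕ Fin m) → F))
        L := by
  classical
  have hfam := odd_family m F
  refine ⟨olevi_hom F m, ⟨hfam.qe, hfam.qf, hfam.ee, hfam.ff, hfam.ef⟩, ?_, ?_, ?_⟩
  · intro A i
    rw [olevi_act, olevi_mulVec]
    funext t
    rcases t with ⟨⟩ | t | t
    · simp [Finset.sum_apply]
    · simp [Finset.sum_apply, Matrix.mulVec, dotProduct, Pi.single_apply]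
    · simp [Finset.sum_apply, Matrix.mulVec, dotProduct, Pi.single_apply]
  · intro A i
    rw [olevi_act, olevi_mulVec]
    funext t
    rcases t with ⟨⟩ | t | t
    · simp [Finset.sum_apply]
    · simp [Finset.sum_apply, Matrix.mulVec, dotProduct, Pi.single_apply]
    · simp [Finset.sum_apply, Matrix.mulVec, dotProduct, Pi.single_apply]
  · intro A w hw
    have h1 : ∀ i, w (Sum.inr (Sum.inr i)) = 0 := by
      intro i
      have := (hw i).1
      rw [polar_oddForm_inl] at this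
      exact this
    have h2 : ∀ i, w (Sum.inr (Sum.inl i)) = 0 := by
      intro i
      have := (hw i).2
      rw [polar_oddForm_inr] at this
      exact this
    rw [olevi_act, olevi_mulVec]
    funext t
    rcases t with ⟨⟩ | t | t
    · rfl
    · simp [h1, h2, Matrix.mulVec, dotProduct]
    · simp [h1, h2, Matrix.mulVec, dotProduct]

end concrete

end Cfsg.Agent.Lib.Helper67.Og
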