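import Mathlib
import Cfsg.Agent.Lib.Helper67.OgDefs
import Cfsg.Agent.Lib.Helper67.OgFam
import Cfsg.Agent.Lib.Helper37.OrthMinus
import Cfsg.Agent.Lib.Helper43.OrthCardMinus
import Cfsg.Agent.Lib.Helper39.SLPerfect
import Cfsg.Agent.Lib.Helper80.OgOLEVIcore

/-!
# Og hive (S2413-15), leaf OG-O-LEVI `exists_levi_odd`.
-/

set_option autoImplicit false
set_option linter.unusedSectionVars false
set_option linter.unusedVariables false

namespace Cfsg.Agent.Lib.Helper67.Og

open Matrix Module QuadraticMap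
open Cfsg.Agent.Lib.Helper37 Cfsg.Agent.Lib.Helper8 Cfsg.Agent.Lib.Helper43
open Cfsg.Agent.Lib.Helper37.OrthField
open scoped commutatorElement

section concrete

variable (F : Type*) [Field F]

theorem exists_levi_odd (m : ℕ) :
    ∃ L : Matrix.SpecialLinearGroup (Fin m) F →* ↥(Cfsg.isometryGroup F ⇑(oddForm m F)),
      LeviData (oddForm m F) m (eO F m) (fO F m) L :=
  olevi_main F m

end concrete

end Cfsg.Agent.Lib.Helper67.Og
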