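import Cfsg.Agent.Lib.Helper92.Sz8.Defs

/-! Sz8-PK (by helper80) for helper92's S2112 "Sz8" hive: packed multiplication is matrix multiplication. -/

set_option autoImplicit false
set_option linter.unusedVariables false

namespace Cfsg.Agent.Lib.Helper92.Sz8

open Cfsg.Agent.Lib.Helper6.Sz Cfsg.Agent.Lib.Helper89.CosetCert

theorem pk_add (a b : ℕ) : Nat.add a b = a + b := rfl
theorem pk_mul (a b : ℕ) : Nat.mul a b = a * b := rfl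
theorem pk_mod (a b : ℕ) : Nat.mod a b = a % b := rfl
theorem pk_shr (a b : ℕ) : Nat.shiftRight a b = a >>> b := rfl
theorem pk_shl (a b : ℕ) : Nat.shiftLeft a b = a <<< b := rfl
theorem pk_xor (a b : ℕ) : Nat.xor a b = a ^^^ b := rfl

theorem pk_ent_lt (P i j : ℕ) : ent P i j < 8 := Nat.mod_lt _ (by decide)

theorem pk_mul8_lt (x y : ℕ) : mul8 x y < 8 := Nat.mod_lt _ (by decide)

theorem pk_xor_lt {a b : ℕ} (ha : a < 8) (hb : b < 8) : Nat.xor a b < 8 := by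
  rw [pk_xor]
  exact Nat.xor_lt_two_pow (n := 3) ha hb

theorem pk_prodEnt_lt (P Q i j : ℕ) : prodEnt P Q i j < 8 := by
  unfold prodEnt
  exact pk_xor_lt (pk_xor_lt (pk_mul8_lt _ _) (pk_mul8_lt _ _))
    (pk_xor_lt (pk_mul8_lt _ _) (pk_mul8_lt _ _))

/-- extraction of the digits of a packed number -/
theorem pk_digits (d0 d1 d2 d3 d4 d5 d6 d7 d8 d9 d10 d11 d12 d13 d14 d15 : ℕ)
    (h0 : d0 < 8) (h1 : d1 < 8) (h2 : d2 < 8) (h3 : d3 < 8) (h4 : d4 < 8) (h5 : d5 < 8)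
    (h6 : d6 < 8) (h7 : d7 < 8) (h8 : d8 < 8) (h9 : d9 < 8) (h10 : d10 < 8) (h11 : d11 < 8)
    (h12 : d12 < 8) (h13 : d13 < 8) (h14 : d14 < 8) (h15 : d15 < 8) (i j : Fin 4) :
    ent (Nat.add (Nat.add (Nat.add (Nat.add (Nat.add (Nat.add (Nat.add (Nat.add (Nat.add (Nat.add (Nat.add (Nat.add (Nat.add (Nat.add (Nat.add ((Nat.shiftLeft d0 0)) (Nat.shiftLeft d1 3)) (Nat.shiftLeft d2 6)) (Nat.shiftLeft d3 9)) (Nat.shiftLeft d4 12)) (Nat.shiftLeft d5 15)) (Nat.shiftLeft d6 18)) (Nat.shiftLeft d7 21)) (Nat.shiftLeft d8 24)) (Nat.shiftLeft d9 27)) (Nat.shiftLeft d10 30)) (Nat.shiftLeft d11 33)) (Nat.shiftLeft d12 36)) (Nat.shiftLeft d13 39)) (Nat.shiftLeft d14 42)) (Nat.shiftLeft d15 45)) i.1 j.1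
      = ![![d0, d1, d2, d3], ![d4, d5, d6, d7], ![d8, d9, d10, d11], ![d12, d13, d14, d15]] i j := by
  unfold ent
  simp only [pk_add, pk_mul, pk_mod, pk_shr, pk_shl, Nat.shiftLeft_eq, Nat.shiftRight_eq_div_pow]
  fin_cases i <;> fin_cases j <;> simp <;> omega

theorem pk_ent_mulP (P Q : ℕ) (i j : Fin 4) : ent (mulP P Q) i.1 j.1 = prodEnt P Q i.1 j.1 := by
  unfold mulP
  rw [pk_digits _ _ _ _ _ _ _ _ _ _ _ _ _ _ _ _ (pk_prodEnt_lt _ _ _ _) (pk_prodEnt_lt _ _ _ _)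
    (pk_prodEnt_lt _ _ _ _) (pk_prodEnt_lt _ _ _ _) (pk_prodEnt_lt _ _ _ _) (pk_prodEnt_lt _ _ _ _)
    (pk_prodEnt_lt _ _ _ _) (pk_prodEnt_lt _ _ _ _) (pk_prodEnt_lt _ _ _ _) (pk_prodEnt_lt _ _ _ _)
    (pk_prodEnt_lt _ _ _ _) (pk_prodEnt_lt _ _ _ _) (pk_prodEnt_lt _ _ _ _) (pk_prodEnt_lt _ _ _ _)
    (pk_prodEnt_lt _ _ _ _) (pk_prodEnt_lt _ _ _ _) i j]
  fin_cases i <;> fin_cases j <;> rfl

theorem pk_ofNat_xor' : ∀ a b : Fin 8, K8.ofNat (Nat.xor a.1 b.1) = K8.ofNat a.1 + K8.ofNat b.1 := by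
  decide

theorem pk_ofNat_mul8' : ∀ a b : Fin 8, K8.ofNat (mul8 a.1 b.1) = K8.ofNat a.1 * K8.ofNat b.1 := by
  decide

theorem pk_ofNat_xor {a b : ℕ} (ha : a < 8) (hb : b < 8) :
    K8.ofNat (Nat.xor a b) = K8.ofNat a + K8.ofNat b := pk_ofNat_xor' ⟨a, ha⟩ ⟨b, hb⟩

theorem pk_ofNat_mul8 {a b : ℕ} (ha : a < 8) (hb : b < 8) :
    K8.ofNat (mul8 a b) = K8.ofNat a * K8.ofNat b := pk_ofNat_mul8' ⟨a, ha⟩ ⟨b, hb⟩

/-- LEAF PK (1). -/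
theorem semK_mulP (P Q : ℕ) : semK (mulP P Q) = semK P * semK Q := by
  ext i j
  rw [Matrix.mul_apply, Fin.sum_univ_four]
  show K8.ofNat (ent (mulP P Q) i.1 j.1) =
    K8.ofNat (ent P i.1 0) * K8.ofNat (ent Q 0 j.1) + K8.ofNat (ent P i.1 1) * K8.ofNat (ent Q 1 j.1)
      + K8.ofNat (ent P i.1 2) * K8.ofNat (ent Q 2 j.1)
      + K8.ofNat (ent P i.1 3) * K8.ofNat (ent Q 3 j.1)
  rw [pk_ent_mulP]
  unfold prodEnt
  rw [pk_ofNat_xor (pk_xor_lt (pk_mul8_lt _ _) (pk_mul8_lt _ _))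
      (pk_xor_lt (pk_mul8_lt _ _) (pk_mul8_lt _ _)),
    pk_ofNat_xor (pk_mul8_lt _ _) (pk_mul8_lt _ _), pk_ofNat_xor (pk_mul8_lt _ _) (pk_mul8_lt _ _),
    pk_ofNat_mul8 (pk_ent_lt _ _ _) (pk_ent_lt _ _ _), pk_ofNat_mul8 (pk_ent_lt _ _ _) (pk_ent_lt _ _ _),
    pk_ofNat_mul8 (pk_ent_lt _ _ _) (pk_ent_lt _ _ _), pk_ofNat_mul8 (pk_ent_lt _ _ _) (pk_ent_lt _ _ _)]
  ring

/-- LEAF PK (2). -/
theorem semK_oneP : semK oneP = 1 := by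
  decide

end Cfsg.Agent.Lib.Helper92.Sz8
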