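import Cfsg.Agent.Lib.Helper70.SlK2Defs

/-! # Sl hive (S2332, owner helper76), sub-hive K2 (owner helper70), leaf K2-CONJQ (helper80):
every non-identity element of `Q` is conjugate to `tv` in `SL_{m+2}`, `m ≥ 1`. -/

set_option autoImplicit false

namespace Cfsg.Agent.Lib.Helper76.Sl

open Matrix Cfsg

variable {F : Type*} [Field F] [Fintype F] [DecidableEq F]

/-- the pivot case: a matrix of `SL` with column `0 = e₀` and last row `a` (`a 0 = 0`, `a last ≠ 0`). -/
theorem k2conjq_exists_K_aux (m : ℕ) (hm : 1 ≤ m) (a : Fin (m + 2) → F) (h0 : a 0 = 0)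
    (hl : a (Fin.last (m + 1)) ≠ 0) :
    ∃ K : Gm F m, (∀ i, K.1 i 0 = (1 : Matrix (Fin (m + 2)) (Fin (m + 2)) F) i 0) ∧
      ∀ j, K.1 (Fin.last (m + 1)) j = a j := by
  have h1l : (1 : Fin (m + 2)) ≠ Fin.last (m + 1) := by
    rw [Ne, Fin.ext_iff]
    simp
    omega
  have h10 : (1 : Fin (m + 2)) ≠ 0 := by
    rw [Ne, Fin.ext_iff]
    simp
  have hl0 : Fin.last (m + 1) ≠ (0 : Fin (m + 2)) := by
    rw [Ne, Fin.ext_iff]
    simp
  let A : Matrix (Fin (m + 2)) (Fin (m + 2)) F := Matrix.of fun i j =>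
    if i = Fin.last (m + 1) then a j
    else if i = 1 then (if j = 1 then (a (Fin.last (m + 1)))⁻¹ else 0)
    else if i = j then 1 else 0
  have htri : A.BlockTriangular OrderDual.toDual := by
    intro i j hij
    have hij' : i < j := hij
    have hil : i ≠ Fin.last (m + 1) := by
      intro h
      rw [h] at hij'
      exact absurd (Fin.le_last j) (not_le.mpr hij')
    simp only [A, Matrix.of_apply, hil, if_false]
    by_cases hi1 : i = 1
    · have hj : j ≠ 1 := by
        intro h
        rw [hi1, h] at hij'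
        exact lt_irrefl _ hij'
      simp [hi1, hj]
    · simp [hi1, hij'.ne]
  have hdiag : ∀ i, A i i = (if i = Fin.last (m + 1) then a (Fin.last (m + 1)) else 1) *
      (if i = 1 then (a (Fin.last (m + 1)))⁻¹ else 1) := by
    intro i
    simp only [A, Matrix.of_apply]
    by_cases hil : i = Fin.last (m + 1)
    · subst hil
      simp [h1l.symm]
    · by_cases hi1 : i = 1
      · subst hi1
        simp [h1l]
      · simp [hil, hi1]
  have hdet : A.det = 1 := by
    rw [Matrix.det_of_isLowerTriangular A htri]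
    simp only [hdiag]
    rw [Finset.prod_mul_distrib, Finset.prod_ite_eq', Finset.prod_ite_eq']
    simp [hl]
  refine ⟨⟨A, hdet⟩, ?_, ?_⟩
  · intro i
    show A i 0 = _
    rw [Matrix.one_apply]
    simp only [A, Matrix.of_apply]
    by_cases hil : i = Fin.last (m + 1)
    · subst hil
      simp [h0, hl0]
    · by_cases hi1 : i = 1
      · subst hi1
        simp [hil, h10, h10.symm]
      · simp [hil, hi1]
  · intro j
    show A (Fin.last (m + 1)) j = a j
    simp [A]

/-- a matrix of `SL` with column `0 = e₀` and last row `a` (`a 0 = 0`, `a ≠ 0`). -/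
theorem k2conjq_exists_K (m : ℕ) (hm : 1 ≤ m) (a : Fin (m + 2) → F) (h0 : a 0 = 0) (ha : a ≠ 0) :
    ∃ K : Gm F m, (∀ i, K.1 i 0 = (1 : Matrix (Fin (m + 2)) (Fin (m + 2)) F) i 0) ∧
      ∀ j, K.1 (Fin.last (m + 1)) j = a j := by
  by_cases hl : a (Fin.last (m + 1)) ≠ 0
  · exact k2conjq_exists_K_aux m hm a h0 hl
  · push Not at hl
    obtain ⟨k, hk⟩ : ∃ k, a k ≠ 0 := by
      by_contra hcon
      push Not at hcon
      exact ha (funext hcon)
    have hkl : k ≠ Fin.last (m + 1) := by
      intro h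
      rw [h] at hk
      exact hk hl
    have hl0 : Fin.last (m + 1) ≠ (0 : Fin (m + 2)) := by
      rw [Ne, Fin.ext_iff]
      simp
    -- a' = a, except at `last`, where it is `a k`
    obtain ⟨K', hK'0, hK'l⟩ := k2conjq_exists_K_aux m hm
      (Function.update a (Fin.last (m + 1)) (a k))
      (by rw [Function.update_of_ne hl0.symm]; exact h0)
      (by rw [Function.update_self]; exact hk)
    refine ⟨K' * Matrix.SpecialLinearGroup.transvection hkl (-1 : F), ?_, ?_⟩
    · intro i
      show (K'.1 * Matrix.transvection k (Fin.last (m + 1)) (-1 : F)) i 0 = _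
      rw [Matrix.mul_transvection_apply_of_ne _ _ _ _ hl0.symm]
      exact hK'0 i
    · intro j
      show (K'.1 * Matrix.transvection k (Fin.last (m + 1)) (-1 : F)) (Fin.last (m + 1)) j = a j
      by_cases hj : j = Fin.last (m + 1)
      · subst hj
        rw [Matrix.mul_transvection_apply_same, hK'l, hK'l, Function.update_self,
          Function.update_of_ne hkl, hl]
        ring
      · rw [Matrix.mul_transvection_apply_of_ne _ _ _ _ hj, hK'l, Function.update_of_ne hj]

/-- K2-CONJQ -/
theorem exists_conj_of_mem_Qset (m : ℕ) (hm : 1 ≤ m) {g : Gm F m} (hg : g ∈ Qset F m) (h1 : g ≠ 1) :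
    ∃ h : Gm F m, h * tv F m * h⁻¹ = g := by
  have hl0 : Fin.last (m + 1) ≠ (0 : Fin (m + 2)) := by
    rw [Ne, Fin.ext_iff]
    simp
  -- `g` is upper triangular with diagonal `(g 0 0, 1, …, 1)`, so `g 0 0 = 1`
  have hg00 : g.1 0 0 = 1 := by
    have htri : g.1.BlockTriangular id := by
      intro i j hij
      have hij' : j < i := hij
      have hi0 : i ≠ 0 := by
        intro h
        rw [h] at hij'
        exact absurd hij' (Fin.not_lt_zero j)
      rw [hg i j hi0, Matrix.one_apply_ne hij'.ne']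
    have hdet := g.2
    rw [Matrix.det_of_isUpperTriangular htri, Fin.prod_univ_succ] at hdet
    have hrest : ∏ i : Fin (m + 1), g.1 i.succ i.succ = 1 := by
      apply Finset.prod_eq_one
      intro i _
      rw [hg i.succ i.succ (Fin.succ_ne_zero i), Matrix.one_apply_eq]
    rw [hrest, mul_one] at hdet
    exact hdet
  -- the row vector `a`
  obtain ⟨a, ha⟩ : ∃ a : Fin (m + 2) → F, a = fun j => g.1 0 j - (1 : Matrix (Fin (m + 2)) (Fin (m + 2)) F) 0 j :=
    ⟨_, rfl⟩
  have ha0 : a 0 = 0 := by
    rw [ha]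
    simp [hg00]
  have hane : a ≠ 0 := by
    intro h
    apply h1
    apply Subtype.ext
    ext i j
    by_cases hi0 : i = 0
    · subst hi0
      have := congrFun h j
      rw [ha] at this
      simp only [Pi.zero_apply] at this
      rw [sub_eq_zero] at this
      rw [this]
      rfl
    · rw [hg i j hi0]
      rfl
  obtain ⟨K, hK0, hKl⟩ := k2conjq_exists_K m hm a ha0 hane
  refine ⟨K⁻¹, ?_⟩
  rw [inv_inv, mul_assoc, inv_mul_eq_iff_eq_mul]
  apply Subtype.ext
  show (tv F m).1 * K.1 = K.1 * g.1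
  ext i b
  have htv : (tv F m).1 = Matrix.transvection (0 : Fin (m + 2)) (Fin.last (m + 1)) (1 : F) := rfl
  rw [htv]
  -- right-hand side
  have hgk : ∀ k, g.1 k b = (1 : Matrix (Fin (m + 2)) (Fin (m + 2)) F) k b +
      (1 : Matrix (Fin (m + 2)) (Fin (m + 2)) F) k 0 * a b := by
    intro k
    by_cases hk0 : k = 0
    · subst hk0
      rw [Matrix.one_apply_eq, ha]
      ring
    · rw [hg k b hk0, Matrix.one_apply_ne hk0]
      ring
  have hR : (K.1 * g.1) i b = K.1 i b + (1 : Matrix (Fin (m + 2)) (Fin (m + 2)) F) i 0 * a b := by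
    rw [Matrix.mul_apply]
    simp only [hgk, mul_add, Finset.sum_add_distrib]
    rw [← Matrix.mul_apply, Matrix.mul_one]
    congr 1
    rw [← hK0 i]
    simp only [← mul_assoc]
    rw [← Finset.sum_mul, ← Matrix.mul_apply, Matrix.mul_one]
  rw [hR]
  by_cases hi0 : i = 0
  · subst hi0
    rw [Matrix.transvection_mul_apply_same, hKl b, Matrix.one_apply_eq]
  · rw [Matrix.transvection_mul_apply_of_ne _ _ _ _ hi0, Matrix.one_apply_ne hi0]
    ring

end Cfsg.Agent.Lib.Helper76.Sl
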