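import Cfsg.Agent.Lib.Helper70.SlK2Defs

/-! # Sl hive (S2332, owner helper76), sub-hive K2 (owner helper70), leaf K2-ARITH (helper80) -/

set_option autoImplicit false

namespace Cfsg.Agent.Lib.Helper76.Sl

/-- K2-ARITH: geometric sum -/
theorem Npt_mul (q n : ℕ) (hq : 1 ≤ q) : Npt q n * (q - 1) = q ^ n - 1 := by
  obtain ⟨k, rfl⟩ : ∃ k, q = k + 1 := ⟨q - 1, by omega⟩
  unfold Npt
  rw [Nat.add_sub_cancel]
  induction n with
  | zero => simp
  | succ n ih =>
    rw [Finset.sum_range_succ, add_mul, ih, pow_succ]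
    have h1 : 1 ≤ (k + 1) ^ n := Nat.one_le_pow _ _ (by omega)
    have h2 : (k + 1) ^ n * (k + 1) = (k + 1) ^ n * k + (k + 1) ^ n := by ring
    rw [h2]
    omega

end Cfsg.Agent.Lib.Helper76.Sl
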