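import Cfsg.Agent.Lib.Helper80.Gagola5
import Cfsg.Agent.Lib.Helper79.Basic

set_option autoImplicit false
set_option linter.style.haveILetI false
set_option linter.unusedSectionVars false

namespace Cfsg.Agent.Lib.Helper80

open Cfsg
open scoped ComplexConjugate
open scoped commutatorElement

section Gagola6

universe u

variable {G : Type u} [Group G] [Finite G]

/-- Inflation of irreducible characters from `G ⧸ N`. -/
noncomputable def inflateIrr (N : Subgroup G) [N.Normal] (ψ : Cfsg.IrrCharacter (G ⧸ N)) :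
    Cfsg.IrrCharacter G :=
  ⟨fun g : G => (ψ : G ⧸ N → ℂ) (g : G ⧸ N), Cfsg.Agent.Lib.Helper79.isIrrCharacter_inflate N ψ.2⟩

theorem inflateIrr_apply (N : Subgroup G) [N.Normal] (ψ : Cfsg.IrrCharacter (G ⧸ N)) (g : G) :
    (inflateIrr N ψ : G → ℂ) g = (ψ : G ⧸ N → ℂ) (g : G ⧸ N) := rfl

theorem inflateIrr_injective (N : Subgroup G) [N.Normal] :
    Function.Injective (inflateIrr N) := by
  intro ψ ψ' h
  apply Subtype.ext
  funext q
  obtain ⟨g, rfl⟩ := QuotientGroup.mk_surjective q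
  have := congrFun (congrArg Subtype.val h) g
  exact this

/-- In a Gagola pair, for `x ∉ N` the centralizers of `x` in `G` and of `xN` in `G ⧸ N` have the
same order. -/
theorem gagola_centralizer_quot (hG : 2 < Nat.card G) (χ : Cfsg.IrrCharacter G)
    (hχ : Nat.card {C : ConjClasses G // ∃ g ∈ C.carrier, (χ : G → ℂ) g ≠ 0} = 2)
    (N : Subgroup G) [hNn : N.Normal] (hN : ∀ g : G, g ∈ N ↔ (χ : G → ℂ) g ≠ 0)
    (x : G) (hx : x ∉ N) :
    Nat.card (Subgroup.centralizer ({x} : Set G)) =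
      Nat.card (Subgroup.centralizer ({(x : G ⧸ N)} : Set (G ⧸ N))) := by
  classical
  have := Fintype.ofFinite G
  have := Fintype.ofFinite (G ⧸ N)
  have := Fintype.ofFinite (Cfsg.IrrCharacter G)
  have := Fintype.ofFinite (Cfsg.IrrCharacter (G ⧸ N))
  obtain ⟨c, hc1, hc, hsupp, hrel, hker⟩ := gagola_basic hG χ hχ
  have hfaith := gagola_faithful hG χ hχ
  have hcN : c ∈ N := (hN c).mpr hc
  -- other characters are trivial on N
  have hkerN : ∀ ψ : Cfsg.IrrCharacter G, ψ ≠ χ → ∀ n ∈ N, (ψ : G → ℂ) n = (ψ : G → ℂ) 1 := by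
    intro ψ hψ n hn
    rcases hsupp n ((hN n).mp hn) with h | h
    · rw [h]
    · obtain ⟨t, ht⟩ := isConj_iff.mp h
      rw [← ht, irr_class, hker ψ hψ]
  -- the image of inflation
  have himage : Finset.univ.image (inflateIrr N) = Finset.univ.erase χ := by
    ext ψ
    simp only [Finset.mem_image, Finset.mem_univ, true_and, Finset.mem_erase, and_true]
    constructor
    · rintro ⟨ψ', rfl⟩ h
      have h1 : (inflateIrr N ψ' : G → ℂ) c = (inflateIrr N ψ' : G → ℂ) 1 := by
        rw [inflateIrr_apply, inflateIrr_apply, (QuotientGroup.eq_one_iff c).mpr hcN,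
          QuotientGroup.mk_one]
      rw [h] at h1
      exact hc1 (hfaith c h1)
    · intro hψ
      obtain ⟨ψ', hψ', hval⟩ :=
        Cfsg.Agent.Lib.Helper79.isIrrCharacter_deflate ψ.2 N (hkerN ψ hψ)
      refine ⟨⟨ψ', hψ'⟩, ?_⟩
      apply Subtype.ext
      funext g
      exact hval g
  have hcolG := irr_column_orthogonality (G := G) x x
  rw [if_pos (IsConj.refl x)] at hcolG
  have hcolQ := irr_column_orthogonality (G := G ⧸ N) (x : G ⧸ N) (x : G ⧸ N)
  rw [if_pos (IsConj.refl _)] at hcolQ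
  have hχx : (χ : G → ℂ) x = 0 := by
    by_contra h
    exact hx ((hN x).mpr h)
  have hsum : ∑ ψ : Cfsg.IrrCharacter G, (ψ : G → ℂ) x * conj ((ψ : G → ℂ) x) =
      ∑ ψ' : Cfsg.IrrCharacter (G ⧸ N),
        (ψ' : G ⧸ N → ℂ) (x : G ⧸ N) * conj ((ψ' : G ⧸ N → ℂ) (x : G ⧸ N)) := by
    rw [← Finset.sum_erase_add _ _ (Finset.mem_univ χ), hχx, zero_mul, add_zero, ← himage,
      Finset.sum_image (fun a _ b _ h => inflateIrr_injective N h)]
    rfl
  have : (Nat.card (Subgroup.centralizer ({x} : Set G)) : ℂ) =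
      (Nat.card (Subgroup.centralizer ({(x : G ⧸ N)} : Set (G ⧸ N))) : ℂ) := by
    rw [← hcolG, ← hcolQ, hsum]
  exact_mod_cast this

/-- In a Gagola pair, for `z ∉ N` the order of `C_G(z)` divides `e² i = |G ⧸ N|`. -/
theorem gagola_centralizer_dvd (hG : 2 < Nat.card G) (χ : Cfsg.IrrCharacter G)
    (hχ : Nat.card {C : ConjClasses G // ∃ g ∈ C.carrier, (χ : G → ℂ) g ≠ 0} = 2)
    (N : Subgroup G) [hNn : N.Normal] (hN : ∀ g : G, g ∈ N ↔ (χ : G → ℂ) g ≠ 0)
    (e i : ℕ) (hcardN : Nat.card N = i + 1) (hcard : Nat.card G = e ^ 2 * (i + 1) * i)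
    (z : G) (hz : z ∉ N) :
    Nat.card (Subgroup.centralizer ({z} : Set G)) ∣ e ^ 2 * i := by
  rw [gagola_centralizer_quot hG χ hχ N hN z hz]
  have h1 : Nat.card (G ⧸ N) = e ^ 2 * i := by
    have h2 := Subgroup.card_eq_card_quotient_mul_card_subgroup N
    rw [hcard, hcardN] at h2
    have h3 : (i + 1) * (e ^ 2 * i) = (i + 1) * Nat.card (G ⧸ N) := by
      rw [mul_comm (i + 1) (Nat.card (G ⧸ N)), ← h2]; ring
    exact (Nat.eq_of_mul_eq_mul_left (Nat.succ_pos i) h3).symm
  rw [← h1]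
  exact Subgroup.card_subgroup_dvd_card _

/-- In a Gagola pair with `N` a `p`-group, an element of a Sylow `p`-subgroup `P` commuting with
all of `P` lies in `N`. -/
theorem gagola_center_le (hG : 2 < Nat.card G) (χ : Cfsg.IrrCharacter G)
    (hχ : Nat.card {C : ConjClasses G // ∃ g ∈ C.carrier, (χ : G → ℂ) g ≠ 0} = 2)
    (p : ℕ) [Fact p.Prime] (N : Subgroup G) [hNn : N.Normal]
    (hN : ∀ g : G, g ∈ N ↔ (χ : G → ℂ) g ≠ 0) (hNp : IsPGroup p N) (hN1 : N ≠ ⊥)
    (P : Sylow p G) (z : G) (hzc : ∀ y ∈ (P : Subgroup G), y * z = z * y) : z ∈ N := by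
  by_contra hz
  obtain ⟨c, e, i, hc1, hNc, hi, hcardN, hepos, hipos, hd, hval, hcard⟩ :=
    gagola_numbers hG χ hχ N hN
  obtain ⟨j, hej⟩ := gagola_e_pow χ N hN p hNp e i hepos hipos hcardN hd hcard
  have hPcard : Nat.card (P : Subgroup G) = e ^ 2 * (i + 1) := by
    rw [P.card_eq_multiplicity, gagola_sylow_card N p hNp hN1 e i j hej hcardN hcard]
  have hle : (P : Subgroup G) ≤ Subgroup.centralizer ({z} : Set G) := by
    intro y hy
    rw [Subgroup.mem_centralizer_iff]
    intro w hw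
    rw [Set.mem_singleton_iff] at hw
    rw [hw]
    exact (hzc y hy).symm
  have h1 : e ^ 2 * (i + 1) ∣ e ^ 2 * i := by
    rw [← hPcard]
    exact (Subgroup.card_dvd_of_le hle).trans
      (gagola_centralizer_dvd hG χ hχ N hN e i hcardN hcard z hz)
  have h2 : i + 1 ∣ i := Nat.dvd_of_mul_dvd_mul_left (by positivity) h1
  have := Nat.le_of_dvd hipos h2
  omega

/-- `Z(P) = N` exactly when `P` is normal. -/
theorem gagola_center_eq_iff (hG : 2 < Nat.card G) (χ : Cfsg.IrrCharacter G)
    (hχ : Nat.card {C : ConjClasses G // ∃ g ∈ C.carrier, (χ : G → ℂ) g ≠ 0} = 2)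
    (p : ℕ) [Fact p.Prime] (N : Subgroup G) [hNn : N.Normal]
    (hN : ∀ g : G, g ∈ N ↔ (χ : G → ℂ) g ≠ 0) (hNp : IsPGroup p N) (hN1 : N ≠ ⊥)
    (P : Sylow p G) :
    (Subgroup.center ↥(P : Subgroup G)).map (P : Subgroup G).subtype = N ↔
      (P : Subgroup G).Normal := by
  have hZle : (Subgroup.center ↥(P : Subgroup G)).map (P : Subgroup G).subtype ≤ N := by
    rintro z ⟨z', hz', rfl⟩
    apply gagola_center_le hG χ hχ p N hN hNp hN1 P
    intro y hy
    have := Subgroup.mem_center_iff.mp hz' ⟨y, hy⟩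
    exact congrArg Subtype.val this
  have hcentP : ∀ x ∈ N, x ≠ 1 → (∀ y ∈ (P : Subgroup G), y * x = x * y) →
      Subgroup.centralizer ({x} : Set G) = (P : Subgroup G) := by
    intro x hx hx1 hcomm
    symm
    apply Subgroup.eq_of_le_of_card_ge
    · intro y hy
      rw [Subgroup.mem_centralizer_iff]
      intro w hw
      rw [Set.mem_singleton_iff] at hw
      rw [hw]
      exact (hcomm y hy).symm
    · rw [gagola_centralizer_sylow hG χ hχ p N hN hNp hN1 x hx hx1, P.card_eq_multiplicity]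
  constructor
  · intro hZ
    obtain ⟨⟨x, hxN⟩, hx1'⟩ := Subgroup.ne_bot_iff_exists_ne_one.mp hN1
    have hx1 : x ≠ 1 := fun h => hx1' (Subtype.ext h)
    have hcommOf : ∀ x ∈ N, ∀ y ∈ (P : Subgroup G), y * x = x * y := by
      intro x hx y hy
      rw [← hZ] at hx
      obtain ⟨x', hx', rfl⟩ := hx
      have := Subgroup.mem_center_iff.mp hx' ⟨y, hy⟩
      exact congrArg Subtype.val this
    refine ⟨fun y hy g => ?_⟩
    have hx2N : g * x * g⁻¹ ∈ N := hNn.conj_mem x hxN g
    have hx21 : g * x * g⁻¹ ≠ 1 := by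
      intro h
      apply hx1
      have : x = g⁻¹ * (g * x * g⁻¹) * g := by group
      rw [this, h]; group
    have h2 := hcentP (g * x * g⁻¹) hx2N hx21 (hcommOf _ hx2N)
    rw [← h2, Subgroup.mem_centralizer_iff]
    intro w hw
    rw [Set.mem_singleton_iff] at hw
    rw [hw]
    have hyx := hcommOf x hxN y hy
    calc g * x * g⁻¹ * (g * y * g⁻¹) = g * (x * y) * g⁻¹ := by group
      _ = g * (y * x) * g⁻¹ := by rw [hyx]
      _ = g * y * g⁻¹ * (g * x * g⁻¹) := by group
  · intro hnormal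
    apply le_antisymm hZle
    intro n hn
    by_cases hn1 : n = 1
    · rw [hn1]; exact Subgroup.one_mem _
    · have hcard := gagola_centralizer_sylow hG χ hχ p N hN hNp hN1 n hn hn1
      have := Sylow.unique_of_normal P hnormal
      have hQP : Sylow.ofCard (Subgroup.centralizer ({n} : Set G)) hcard = P :=
        Subsingleton.elim _ _
      have hcent : Subgroup.centralizer ({n} : Set G) = (P : Subgroup G) := by
        rw [← hQP, Sylow.coe_ofCard]
      have hnP : n ∈ (P : Subgroup G) := by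
        rw [← hcent, Subgroup.mem_centralizer_iff]
        intro w hw
        rw [Set.mem_singleton_iff] at hw
        rw [hw]
      refine ⟨⟨n, hnP⟩, ?_, rfl⟩
      show (⟨n, hnP⟩ : ↥(P : Subgroup G)) ∈ Subgroup.center _
      rw [Subgroup.mem_center_iff]
      intro y
      apply Subtype.ext
      have hy : (y : G) ∈ Subgroup.centralizer ({n} : Set G) := by rw [hcent]; exact y.2
      rw [Subgroup.mem_centralizer_iff] at hy
      have := hy n (Set.mem_singleton n)
      simp only [Subgroup.coe_mul]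
      exact this.symm

/-- Key step for the upper central series of `P`. -/
theorem gagola_ucs_step (hG : 2 < Nat.card G) (χ : Cfsg.IrrCharacter G)
    (hχ : Nat.card {C : ConjClasses G // ∃ g ∈ C.carrier, (χ : G → ℂ) g ≠ 0} = 2)
    (p : ℕ) [Fact p.Prime] (N : Subgroup G) [hNn : N.Normal]
    (hN : ∀ g : G, g ∈ N ↔ (χ : G → ℂ) g ≠ 0) (hNp : IsPGroup p N) (hN1 : N ≠ ⊥)
    (P : Sylow p G) (m : ℕ)
    (hle : Subgroup.upperCentralSeries ↥(P : Subgroup G) m ≤ N.subgroupOf (P : Subgroup G))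
    (hne : Subgroup.upperCentralSeries ↥(P : Subgroup G) m ≠ N.subgroupOf (P : Subgroup G)) :
    Subgroup.upperCentralSeries ↥(P : Subgroup G) (m + 1) ≤ N.subgroupOf (P : Subgroup G) := by
  intro z hz
  by_contra hzN
  rw [Subgroup.mem_subgroupOf] at hzN
  obtain ⟨c, e, i, hc1, hNc, hi, hcardN, hepos, hipos, hd, hval, hcard⟩ :=
    gagola_numbers hG χ hχ N hN
  obtain ⟨j, hej⟩ := gagola_e_pow χ N hN p hNp e i hepos hipos hcardN hd hcard
  have hPcard : Nat.card (P : Subgroup G) = e ^ 2 * (i + 1) := by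
    rw [P.card_eq_multiplicity, gagola_sylow_card N p hNp hN1 e i j hej hcardN hcard]
  have hNP : N ≤ (P : Subgroup G) := hNp.le_sylow_of_normal P
  have hcardN' : Nat.card (N.subgroupOf (P : Subgroup G)) = i + 1 := by
    rw [← hcardN]
    exact Nat.card_congr (Subgroup.subgroupOfEquivOfLe hNP).toEquiv
  have hZlt : Nat.card (Subgroup.upperCentralSeries ↥(P : Subgroup G) m) < i + 1 := by
    by_contra h
    push Not at h
    exact hne (Subgroup.eq_of_le_of_card_ge hle (by rw [hcardN']; exact h))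
  have hCdvd1 : Nat.card (Subgroup.centralizer ({z} : Set ↥(P : Subgroup G))) ∣
      e ^ 2 * (i + 1) := by
    rw [← hPcard]
    exact Subgroup.card_subgroup_dvd_card _
  have hCdvd2 : Nat.card (Subgroup.centralizer ({z} : Set ↥(P : Subgroup G))) ∣ e ^ 2 * i := by
    have h1 : (Subgroup.centralizer ({z} : Set ↥(P : Subgroup G))).map (P : Subgroup G).subtype ≤
        Subgroup.centralizer ({(z : G)} : Set G) := by
      rintro y ⟨y', hy', rfl⟩
      rw [Subgroup.mem_centralizer_iff]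
      intro w hw
      rw [Set.mem_singleton_iff] at hw
      rw [hw]
      have h2 := (Subgroup.mem_centralizer_iff.mp hy') z (Set.mem_singleton z)
      exact congrArg Subtype.val h2
    have h3 := Subgroup.card_dvd_of_le h1
    rw [Subgroup.card_subtype] at h3
    exact h3.trans (gagola_centralizer_dvd hG χ hχ N hN e i hcardN hcard (z : G) hzN)
  have hCdvd : Nat.card (Subgroup.centralizer ({z} : Set ↥(P : Subgroup G))) ∣ e ^ 2 := by
    have h1 := Nat.dvd_sub hCdvd1 hCdvd2
    have h2 : e ^ 2 * (i + 1) - e ^ 2 * i = e ^ 2 := by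
      rw [mul_add, mul_one]; omega
    rwa [h2] at h1
  have hCle : Nat.card (Subgroup.centralizer ({z} : Set ↥(P : Subgroup G))) ≤ e ^ 2 :=
    Nat.le_of_dvd (by positivity) hCdvd
  have hindex := Subgroup.index_mul_card (Subgroup.centralizer ({z} : Set ↥(P : Subgroup G)))
  have hidx : (Subgroup.centralizer ({z} : Set ↥(P : Subgroup G))).index ≤
      Nat.card (Subgroup.upperCentralSeries ↥(P : Subgroup G) m) := by
    rw [index_centralizer_eq_card_conj]
    have hmem : ∀ h : {h : ↥(P : Subgroup G) // IsConj z h},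
        (h : ↥(P : Subgroup G)) * z⁻¹ ∈ Subgroup.upperCentralSeries ↥(P : Subgroup G) m := by
      rintro ⟨h, hh⟩
      obtain ⟨t, ht⟩ := isConj_iff.mp hh
      have h1 := (Subgroup.mem_upperCentralSeries_succ_iff.mp hz) t
      have h2 := Subgroup.inv_mem _ h1
      have h3 : (⁅z, t⁆)⁻¹ = h * z⁻¹ := by
        rw [← ht, commutatorElement_def]; group
      rw [h3] at h2
      exact h2
    apply Nat.card_le_card_of_injective (fun h => ⟨(h : ↥(P : Subgroup G)) * z⁻¹, hmem h⟩)
    intro h h' hh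
    have h1 := congrArg Subtype.val hh
    simp only at h1
    exact Subtype.ext (mul_right_cancel h1)
  have h1 : Nat.card ↥(P : Subgroup G) ≤ i * e ^ 2 := by
    rw [← hindex]
    exact Nat.mul_le_mul (by omega) hCle
  rw [hPcard] at h1
  have : e ^ 2 * (i + 1) = i * e ^ 2 + e ^ 2 := by ring
  have hepos2 : 0 < e ^ 2 := by positivity
  omega

/-- In a Gagola pair with `N` a `p`-group, `N` is a term of the upper central series of a
Sylow `p`-subgroup. -/
theorem gagola_ucs (hG : 2 < Nat.card G) (χ : Cfsg.IrrCharacter G)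
    (hχ : Nat.card {C : ConjClasses G // ∃ g ∈ C.carrier, (χ : G → ℂ) g ≠ 0} = 2)
    (p : ℕ) [Fact p.Prime] (N : Subgroup G) [hNn : N.Normal]
    (hN : ∀ g : G, g ∈ N ↔ (χ : G → ℂ) g ≠ 0) (hNp : IsPGroup p N) (hN1 : N ≠ ⊥)
    (P : Sylow p G) :
    ∃ m : ℕ, Subgroup.upperCentralSeries ↥(P : Subgroup G) m =
      N.subgroupOf (P : Subgroup G) := by
  by_contra h
  push Not at h
  have hall : ∀ m : ℕ, Subgroup.upperCentralSeries ↥(P : Subgroup G) m ≤
      N.subgroupOf (P : Subgroup G) := by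
    intro m
    induction m with
    | zero => rw [Subgroup.upperCentralSeries_zero]; exact bot_le
    | succ m ih => exact gagola_ucs_step hG χ hχ p N hN hNp hN1 P m ih (h m)
  obtain ⟨c, hc⟩ := (IsPGroup.isNilpotent P.isPGroup').nilpotent'
  apply h c
  apply le_antisymm (hall c)
  rw [hc]
  exact le_top

end Gagola6

end Cfsg.Agent.Lib.Helper80
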