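import Cfsg.Agent.Lib.Helper9.SlK3Defs
import Cfsg.Agent.Lib.Helper80.SlK2CONJQ

/-! # Sl hive (S2332, owner helper76), sub-hive K3 (owner helper9), leaves K3-CQ and K3-CQP (helper80):
every non-identity element of `Q` resp. `Q'` is conjugate to `tv` in `SL_{m+3}`. -/

set_option autoImplicit false

namespace Cfsg.Agent.Lib.Helper76.Sl

open Matrix Cfsg
open scoped ComplexConjugate

variable (F : Type*) [Field F] [Fintype F] [DecidableEq F]

/-- K3-CQ -/
theorem k3_conj_Q (m : ℕ) (g : Gm F (m + 1)) (hg : g ∈ Qset F (m + 1)) (hne : g ≠ 1) :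
    ∃ x : Gm F (m + 1), g = x * tv F (m + 1) * x⁻¹ := by
  obtain ⟨h, hh⟩ := exists_conj_of_mem_Qset (F := F) (m + 1) (by omega) hg hne
  exact ⟨h, hh.symm⟩

/-- K3-CQP -/
theorem k3_conj_Qp (m : ℕ) (g : Gm F (m + 1)) (hg : g ∈ K3Qp F m) (hne : g ≠ 1) :
    ∃ x : Gm F (m + 1), g = x * tv F (m + 1) * x⁻¹ := by
  have hl0 : Fin.last (m + 2) ≠ (0 : Fin (m + 3)) := by
    rw [Ne, Fin.ext_iff]
    simp
  -- `g` is upper triangular with diagonal `(1, …, 1, g last last)`, so `g last last = 1`
  have hgll : g.1 (Fin.last (m + 2)) (Fin.last (m + 2)) = 1 := by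
    have htri : g.1.IsUpperTriangular := by
      intro i j hij
      have hij' : j < i := hij
      have hjl : j ≠ Fin.last (m + 2) := by
        intro h
        rw [h] at hij'
        exact absurd (Fin.le_last i) (not_le.mpr hij')
      rw [hg i j hjl, Matrix.one_apply_ne hij'.ne']
    have hdet := g.2
    rw [Matrix.det_of_isUpperTriangular htri, Fin.prod_univ_castSucc] at hdet
    have hrest : ∏ i : Fin (m + 2), g.1 i.castSucc i.castSucc = 1 := by
      apply Finset.prod_eq_one
      intro i _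
      rw [hg i.castSucc i.castSucc (Fin.castSucc_lt_last i).ne, Matrix.one_apply_eq]
    rw [hrest, one_mul] at hdet
    exact hdet
  -- the column vector `b`
  obtain ⟨b, hb⟩ : ∃ b : Fin (m + 3) → F, b = fun i => g.1 i (Fin.last (m + 2)) -
      (1 : Matrix (Fin (m + 3)) (Fin (m + 3)) F) i (Fin.last (m + 2)) := ⟨_, rfl⟩
  have hbl : b (Fin.last (m + 2)) = 0 := by
    rw [hb]
    simp [hgll]
  have hbne : b ≠ 0 := by
    intro h
    apply hne
    apply Subtype.ext
    ext i j
    by_cases hjl : j = Fin.last (m + 2)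
    · subst hjl
      have := congrFun h i
      rw [hb] at this
      simp only [Pi.zero_apply] at this
      rw [sub_eq_zero] at this
      rw [this]
      rfl
    · rw [hg i j hjl]
      rfl
  -- `K` with column `0 = e₀` and last row `b ∘ rev`
  obtain ⟨K, hK0, hKl⟩ := k2conjq_exists_K (F := F) (m + 1) (by omega) (fun j => b (Fin.rev j))
    (by show b (Fin.rev 0) = 0; rw [Fin.rev_zero]; exact hbl)
    (by
      intro h
      apply hbne
      funext i
      have := congrFun h (Fin.rev i)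
      simpa using this)
  -- `x` = anti-transpose of `K`
  have hxdet : ((K.1.submatrix (⇑(Fin.revPerm : Equiv.Perm (Fin (m + 3))))
      (⇑(Fin.revPerm : Equiv.Perm (Fin (m + 3)))))ᵀ).det = 1 := by
    rw [Matrix.det_transpose, Matrix.det_submatrix_equiv_self, K.2]
  obtain ⟨x, hx⟩ : ∃ x : Gm F (m + 1), ∀ i j, x.1 i j = K.1 (Fin.rev j) (Fin.rev i) :=
    ⟨⟨_, hxdet⟩, fun i j => rfl⟩
  have hx0 : ∀ i, x.1 i 0 = b i := by
    intro i
    rw [hx, Fin.rev_zero, hKl, Fin.rev_rev]
  have hxl : ∀ j, x.1 (Fin.last (m + 2)) j =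
      (1 : Matrix (Fin (m + 3)) (Fin (m + 3)) F) (Fin.last (m + 2)) j := by
    intro j
    rw [hx, Fin.rev_last, hK0, Matrix.one_apply, Matrix.one_apply]
    by_cases hj : j = Fin.last (m + 2)
    · subst hj
      simp
    · have h1 : Fin.rev j ≠ 0 := by
        intro h
        apply hj
        have := congrArg Fin.rev h
        rwa [Fin.rev_rev, Fin.rev_zero] at this
      rw [if_neg h1, if_neg (Ne.symm hj)]
  refine ⟨x, ?_⟩
  rw [eq_mul_inv_iff_mul_eq]
  apply Subtype.ext
  show g.1 * x.1 = x.1 * (tv F (m + 1)).1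
  have htv : (tv F (m + 1)).1 = Matrix.transvection (0 : Fin (m + 3)) (Fin.last (m + 2)) (1 : F) := rfl
  rw [htv]
  ext i c
  have hgk : ∀ k, g.1 i k = (1 : Matrix (Fin (m + 3)) (Fin (m + 3)) F) i k +
      b i * (1 : Matrix (Fin (m + 3)) (Fin (m + 3)) F) (Fin.last (m + 2)) k := by
    intro k
    by_cases hk : k = Fin.last (m + 2)
    · subst hk
      rw [Matrix.one_apply_eq, hb]
      ring
    · rw [hg i k hk, Matrix.one_apply_ne (Ne.symm hk)]
      ring
  have hL : (g.1 * x.1) i c = x.1 i c + b i *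
      (1 : Matrix (Fin (m + 3)) (Fin (m + 3)) F) (Fin.last (m + 2)) c := by
    rw [Matrix.mul_apply]
    simp only [hgk, add_mul, Finset.sum_add_distrib]
    rw [← Matrix.mul_apply, Matrix.one_mul]
    congr 1
    simp only [mul_assoc]
    rw [← Finset.mul_sum, ← Matrix.mul_apply, Matrix.one_mul, hxl]
  rw [hL]
  by_cases hc : c = Fin.last (m + 2)
  · subst hc
    rw [Matrix.mul_transvection_apply_same, hx0, Matrix.one_apply_eq]
    ring
  · rw [Matrix.mul_transvection_apply_of_ne _ _ _ _ hc, Matrix.one_apply_ne (Ne.symm hc)]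
    ring

end Cfsg.Agent.Lib.Helper76.Sl
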