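import Mathlib
import Cfsg.Agent.Lib.Helper87.AltModel

/-! # S5165 hive (helper87), leaf C1: the base group is a `p`-group (indeed of exponent `p`, commutative) -/

set_option autoImplicit false

namespace Cfsg.Agent.Lib.Helper87.AltF

open Equiv

theorem c1_blk_mul {I : Type} (p a0 : ℕ) (f g : I → Perm (ZMod p)) :
    blk p a0 1 f * blk p a0 1 g = blk p a0 1 (fun k => f k * g k) := by
  ext x
  rcases x with ⟨k, s⟩ | x
  · simp [Perm.mul_apply]
  · simp [Perm.mul_apply]

theorem c1_blk_one {I : Type} (p a0 : ℕ) : blk (I := I) p a0 1 (fun _ => 1) = 1 := by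
  ext x
  rcases x with ⟨k, s⟩ | x
  · simp
  · simp

theorem c1_blk_pow {I : Type} (p a0 : ℕ) (f : I → Perm (ZMod p)) (n : ℕ) :
    blk p a0 1 f ^ n = blk p a0 1 (fun k => f k ^ n) := by
  induction n with
  | zero => simp [c1_blk_one]
  | succ n ih =>
    rw [pow_succ, ih, c1_blk_mul]
    congr 1
    funext k
    rw [pow_succ]

theorem c1_cyc_comm {I : Type} [DecidableEq I] (p a0 : ℕ) (j k : I) :
    cyc p a0 j * cyc p a0 k = cyc p a0 k * cyc p a0 j := by
  unfold cyc
  rw [c1_blk_mul, c1_blk_mul]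
  congr 1
  funext i
  by_cases h1 : i = j <;> by_cases h2 : i = k <;> simp [h1, h2]

theorem c1_cyc_pow {I : Type} [DecidableEq I] (p a0 : ℕ) [Fact p.Prime] (k : I) :
    cyc p a0 k ^ p = 1 := by
  unfold cyc
  rw [c1_blk_pow, ← c1_blk_one p a0]
  congr 1
  funext i
  by_cases h1 : i = k
  · simp only [h1, if_true]
    ext s
    simp
  · simp [h1]

theorem c1_comm {I : Type} [DecidableEq I] (p a0 : ℕ) (x y : Perm (PtI I p a0))
    (hx : x ∈ Bs (I := I) p a0) (hy : y ∈ Bs (I := I) p a0) : x * y = y * x := by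
  have hc : ∀ x ∈ Set.range (cyc (I := I) p a0), ∀ y ∈ Set.range (cyc (I := I) p a0),
      x * y = y * x := by
    rintro _ ⟨j, rfl⟩ _ ⟨k, rfl⟩
    exact c1_cyc_comm p a0 j k
  have hmc := Subgroup.isMulCommutative_closure hc
  have := hmc.is_comm.comm (⟨x, hx⟩ : Subgroup.closure (Set.range (cyc (I := I) p a0))) ⟨y, hy⟩
  exact congrArg Subtype.val this

theorem c1_pow_eq_one {I : Type} [DecidableEq I] (p a0 : ℕ) [Fact p.Prime] (x : Perm (PtI I p a0))
    (hx : x ∈ Bs (I := I) p a0) : x ^ p = 1 := by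
  have key : ∀ x ∈ Bs (I := I) p a0, x ^ p = 1 := by
    intro x hx
    unfold Bs at hx
    induction hx using Subgroup.closure_induction with
    | mem y hy =>
      obtain ⟨k, rfl⟩ := hy
      exact c1_cyc_pow p a0 k
    | one => simp
    | mul y z hy hz ihy ihz =>
      have hcomm : Commute y z := c1_comm p a0 y z hy hz
      rw [hcomm.mul_pow, ihy, ihz, one_mul]
    | inv y hy ihy => rw [inv_pow, ihy, inv_one]
  exact key x hx

/-- [C1] the base group is a `p`-group. -/
theorem Bs_isPGroup {I : Type} [Fintype I] [DecidableEq I] (p a0 : ℕ) [Fact p.Prime] :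
    IsPGroup p (Bs (I := I) p a0) := by
  intro g
  refine ⟨1, ?_⟩
  apply Subtype.ext
  rw [pow_one]
  simpa using c1_pow_eq_one p a0 g.1 g.2

end Cfsg.Agent.Lib.Helper87.AltF
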