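import Mathlib
import Cfsg.Agent.Lib.Helper87.AltModel
import Cfsg.Agent.Lib.Helper80.AltFC1

/-! # S5165 hive (helper87), leaf C0: for `p` odd the base group is even -/

set_option autoImplicit false

namespace Cfsg.Agent.Lib.Helper87.AltF

open Equiv

/-- a permutation of odd prime order dividing `p` is even -/
theorem c0_even_of_pow {Y : Type*} [Fintype Y] [DecidableEq Y] (p : ℕ) [Fact p.Prime] (hp : p ≠ 2)
    (g : Perm Y) (hg : g ^ p = 1) : g ∈ alternatingGroup Y := by
  rw [Equiv.Perm.mem_alternatingGroup]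
  have h1 : Equiv.Perm.sign g ^ p = 1 := by rw [← map_pow, hg, map_one]
  rcases Int.units_eq_one_or (Equiv.Perm.sign g) with h | h
  · exact h
  · rw [h] at h1
    have hodd : Odd p := (Fact.out : p.Prime).odd_of_ne_two hp
    rw [hodd.neg_one_pow] at h1
    exact absurd h1 (by decide)

/-- [C0] for `p` odd the base group is even. -/
theorem Bs_le_alt {I : Type} [Fintype I] [DecidableEq I] (p a0 : ℕ) [Fact p.Prime] (hp : p ≠ 2) :
    Bs (I := I) p a0 ≤ alternatingGroup (PtI I p a0) := by
  intro g hg
  exact c0_even_of_pow p hp g (c1_pow_eq_one p a0 g hg)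

end Cfsg.Agent.Lib.Helper87.AltF
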