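import Mathlib
import Cfsg.Agent.Lib.Helper87.AltModel
import Cfsg.Agent.Lib.Helper80.AltFC1

/-! # S5165 hive (helper87), leaf C2: the even part of the base group is not trivial -/

set_option autoImplicit false

namespace Cfsg.Agent.Lib.Helper87.AltF

open Equiv

theorem c2_sign_blk {I : Type} [Fintype I] [DecidableEq I] (p a0 : ℕ) [Fact p.Prime]
    (f : I → Perm (ZMod p)) :
    Equiv.Perm.sign (blk p a0 1 f) = ∏ k, Equiv.Perm.sign (f k) := by
  have e : blk p a0 1 f = Equiv.sumCongr (Equiv.prodCongrRight f) (Equiv.refl (Fin a0)) := by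
    ext x
    rcases x with ⟨k, s⟩ | x
    · simp
    · simp
  rw [e]
  have := Equiv.Perm.sign_sumCongr (Equiv.prodCongrRight f : Perm (I × ZMod p))
    (Equiv.refl (Fin a0) : Perm (Fin a0))
  rw [this, Equiv.Perm.sign_prodCongrRight]
  simp

theorem c2_sign_cyc {I : Type} [Fintype I] [DecidableEq I] (p a0 : ℕ) [Fact p.Prime] (k : I) :
    Equiv.Perm.sign (cyc p a0 k) = Equiv.Perm.sign (Equiv.addRight (1 : ZMod p)) := by
  unfold cyc
  rw [c2_sign_blk]
  rw [Finset.prod_eq_single k]
  · simp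
  · intro j _ hj
    simp [hj]
  · intro h
    exact absurd (Finset.mem_univ k) h

/-- [C2] the even part of the base group is not trivial (two blocks are enough). -/
theorem Bg_ne_bot {I : Type} [Fintype I] [DecidableEq I] (p a0 : ℕ) [Fact p.Prime]
    (hI : 2 ≤ Fintype.card I) : Bg (I := I) p a0 ≠ ⊥ := by
  have hnt : Nontrivial I := Fintype.one_lt_card_iff_nontrivial.mp (by omega)
  obtain ⟨k, l, hkl⟩ := exists_pair_ne I
  intro hbot
  have hk : cyc p a0 k ∈ Bs (I := I) p a0 := Subgroup.subset_closure ⟨k, rfl⟩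
  have hl : cyc p a0 l ∈ Bs (I := I) p a0 := Subgroup.subset_closure ⟨l, rfl⟩
  have hmem : cyc p a0 k * cyc p a0 l ∈ Bg (I := I) p a0 := by
    have h2 : cyc p a0 k * cyc p a0 l ∈ alternatingGroup (PtI I p a0) := by
      rw [Equiv.Perm.mem_alternatingGroup, map_mul, c2_sign_cyc, c2_sign_cyc, Int.units_mul_self]
    exact Subgroup.mem_inf.mpr ⟨mul_mem hk hl, h2⟩
  rw [hbot, Subgroup.mem_bot] at hmem
  have h1 := congrArg (fun g : Perm (PtI I p a0) => g (Sum.inl (k, 0))) hmem
  simp only [Perm.mul_apply, Perm.one_apply] at h1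
  rw [cyc_inl_of_ne p a0 hkl, cyc_inl_self] at h1
  have h2 : ((0 : ZMod p) + 1) = 0 := by
    have := Sum.inl_injective h1
    exact (Prod.ext_iff.mp this).2
  rw [zero_add] at h2
  exact one_ne_zero h2

end Cfsg.Agent.Lib.Helper87.AltF
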