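import Mathlib
import Cfsg.Agent.Lib.Helper87.AltModel

/-! # S5165 hive (helper87), leaf T2: relabelling the points of an alternating group -/

set_option autoImplicit false

namespace Cfsg.Agent.Lib.Helper87.AltF

open Equiv

/-- the isomorphism of alternating groups induced by a bijection of the points -/
def t2_altCongr {Y Z : Type*} [Fintype Y] [DecidableEq Y] [Fintype Z] [DecidableEq Z]
    (e : Y ≃ Z) : ↥(alternatingGroup Y) ≃* ↥(alternatingGroup Z) where
  toFun g := ⟨e.permCongr g, by
    rw [Equiv.Perm.mem_alternatingGroup, Equiv.Perm.sign_permCongr]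
    exact Equiv.Perm.mem_alternatingGroup.mp g.2⟩
  invFun g := ⟨e.symm.permCongr g, by
    rw [Equiv.Perm.mem_alternatingGroup, Equiv.Perm.sign_permCongr]
    exact Equiv.Perm.mem_alternatingGroup.mp g.2⟩
  left_inv g := by
    apply Subtype.ext
    ext x
    simp [Equiv.permCongr_apply]
  right_inv g := by
    apply Subtype.ext
    ext x
    simp [Equiv.permCongr_apply]
  map_mul' g h := by
    apply Subtype.ext
    ext x
    simp [Equiv.permCongr_apply]

/-- [T2] relabelling the points. -/
theorem exists_altCongr {Y Z : Type*} [Fintype Y] [DecidableEq Y] [Fintype Z] [DecidableEq Z]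
    (e : Y ≃ Z) : Nonempty (↥(alternatingGroup Y) ≃* ↥(alternatingGroup Z)) :=
  ⟨t2_altCongr e⟩

end Cfsg.Agent.Lib.Helper87.AltF
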