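import Cfsg.Agent.Lib.Helper1.BL6

/-!
# Brauer–Leonard with `m = 3`: the datum can be chosen with `d = 0`
-/

set_option autoImplicit false
set_option linter.unusedSectionVars false
set_option linter.style.haveILetI false

universe u

namespace Cfsg.Agent.Lib.Helper80.BL3

open Cfsg Subgroup Cfsg.Agent.Lib.Helper1.BL Cfsg.Agent.Lib.Helper81
open scoped ComplexConjugate

section Basic

variable {G : Type u} [Group G] [Finite G] {p : ℕ} [Fact p.Prime] (P : Sylow p G)

theorem conj_mem_centralizer {n c : G} (hn : n ∈ normalizer ((P : Subgroup G) : Set G))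
    (hc : c ∈ centralizer ((P : Subgroup G) : Set G)) :
    n * c * n⁻¹ ∈ centralizer ((P : Subgroup G) : Set G) := by
  rw [mem_centralizer_iff]
  intro y hy
  have hy' : n⁻¹ * y * n ∈ (P : Subgroup G) := by
    have := (mem_normalizer_iff.mp (inv_mem hn) y).mp hy
    rwa [inv_inv] at this
  have h1 := (mem_centralizer_iff.mp hc) _ hy'
  calc y * (n * c * n⁻¹) = n * ((n⁻¹ * y * n) * c) * n⁻¹ := by group
    _ = n * (c * (n⁻¹ * y * n)) * n⁻¹ := by rw [h1]
    _ = n * c * n⁻¹ * y := by group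

theorem pow_three_mem
    (hCN : (centralizer ((P : Subgroup G) : Set G)).relIndex
      (normalizer ((P : Subgroup G) : Set G)) = 3)
    {x : G} (hx : x ∈ normalizer ((P : Subgroup G) : Set G)) :
    x ^ 3 ∈ centralizer ((P : Subgroup G) : Set G) := by
  haveI : ((centralizer ((P : Subgroup G) : Set G)).subgroupOf
      (normalizer ((P : Subgroup G) : Set G))).Normal := by
    constructor
    intro c hc n
    rw [mem_subgroupOf] at hc ⊢
    simp only [Subgroup.coe_mul, Subgroup.coe_inv]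
    exact conj_mem_centralizer P n.2 hc
  have h := Subgroup.pow_index_mem ((centralizer ((P : Subgroup G) : Set G)).subgroupOf
      (normalizer ((P : Subgroup G) : Set G))) (⟨x, hx⟩ : ↥(normalizer ((P : Subgroup G) : Set G)))
  rw [show ((centralizer ((P : Subgroup G) : Set G)).subgroupOf
      (normalizer ((P : Subgroup G) : Set G))).index = 3 from hCN, mem_subgroupOf] at h
  simpa using h

/-- an element of the normalizer whose square centralizes `P` centralizes `P` -/
theorem mem_of_sq_mem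
    (hCN : (centralizer ((P : Subgroup G) : Set G)).relIndex
      (normalizer ((P : Subgroup G) : Set G)) = 3)
    {x : G} (hx : x ∈ normalizer ((P : Subgroup G) : Set G))
    (h2 : x ^ 2 ∈ centralizer ((P : Subgroup G) : Set G)) :
    x ∈ centralizer ((P : Subgroup G) : Set G) := by
  have h3 := pow_three_mem P hCN hx
  have : x = x ^ 3 * (x ^ 2)⁻¹ := by group
  rw [this]
  exact mul_mem h3 (inv_mem h2)

end Basic

section Dual

variable {G : Type u} [Group G] [Fintype G] {p : ℕ} [Fact p.Prime] (P : Sylow p G)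
  [Fintype ↥(P : Subgroup G)] [Fintype ↥(normalizer ((P : Subgroup G) : Set G))]
  [Fintype (IrrCharacter G)] [Fintype (↥(P : Subgroup G) →* ℂˣ)] {M : Ideal AlgInt}

theorem twist_inv (x : ↥(normalizer ((P : Subgroup G) : Set G)))
    (l : ↥(P : Subgroup G) →* ℂˣ) : twist P x l⁻¹ = (twist P x l)⁻¹ := by
  apply MonoidHom.ext
  intro y
  rfl

theorem rel_inv {ψ ψ' : ↥(P : Subgroup G) →* ℂˣ} (h : Rel P ψ ψ') : Rel P ψ⁻¹ ψ'⁻¹ := by
  obtain ⟨x, hx⟩ := (rel_iff P ψ ψ').mp h
  exact (rel_iff P _ _).mpr ⟨x, by rw [twist_inv, hx]⟩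

theorem twist_of_mem_centralizer (x : ↥(normalizer ((P : Subgroup G) : Set G)))
    (hx : (x : G) ∈ centralizer ((P : Subgroup G) : Set G)) (l : ↥(P : Subgroup G) →* ℂˣ) :
    twist P x l = l := by
  apply MonoidHom.ext
  intro y
  rw [twist_apply]
  congr 1
  apply Subtype.ext
  have := (mem_centralizer_iff.mp hx) (y : G) y.2
  show (x : G) * (y : G) * (x : G)⁻¹ = (y : G)
  rw [← this]
  group

theorem not_rel_inv [IsMulCommutative P] (hf : FreeAct P)
    (hCN : (centralizer ((P : Subgroup G) : Set G)).relIndex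
      (normalizer ((P : Subgroup G) : Set G)) = 3)
    (hodd : Odd (Nat.card ↥(P : Subgroup G))) {ψ : ↥(P : Subgroup G) →* ℂˣ} (hψ : ψ ≠ 1) :
    ¬ Rel P ψ ψ⁻¹ := by
  intro h
  obtain ⟨x, hx⟩ := (rel_iff P ψ ψ⁻¹).mp h
  have h1 : twist P x ψ = ψ⁻¹ := by
    rw [twist_inv] at hx
    apply MonoidHom.ext
    intro y
    have := congrArg (fun f => f y) hx
    simp only [MonoidHom.inv_apply] at this
    rw [MonoidHom.inv_apply, ← this, inv_inv]
  have h2 : twist P (x * x) ψ = ψ := by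
    rw [← twist_twist, h1, hx]
  have h3 : ((x * x : ↥(normalizer ((P : Subgroup G) : Set G))) : G) ∈
      centralizer ((P : Subgroup G) : Set G) := stab_le P hf hψ (x * x) h2
  have h4 : (x : G) ∈ centralizer ((P : Subgroup G) : Set G) := by
    apply mem_of_sq_mem P hCN x.2
    rw [pow_two]
    exact h3
  have h5 : ψ = ψ⁻¹ := by
    rw [← h1, twist_of_mem_centralizer P x h4]
  apply hψ
  apply MonoidHom.ext
  intro y
  have e2 : ψ y * ψ y = 1 := by
    have := congrArg (fun f => f y) h5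
    simp only [MonoidHom.inv_apply] at this
    calc ψ y * ψ y = (ψ y)⁻¹ * ψ y := by rw [← this]
      _ = 1 := inv_mul_cancel _
  obtain ⟨k, hk⟩ := hodd
  have e3 : ψ y ^ (2 * k + 1) = 1 := by
    rw [← hk, ← map_pow, pow_card_eq_one', map_one]
  have e4 : ψ y ^ (2 * k + 1) = ψ y := by
    rw [pow_succ, pow_mul, pow_two, e2, one_pow, one_mul]
  rw [MonoidHom.one_apply, ← e4, e3]

open Classical in
/-- with `#P = 7` and `m = 3` the two classes of `ψ` and `ψ⁻¹` exhaust the nontrivial characters -/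
theorem rel_or_rel_inv [IsMulCommutative P] (hf : FreeAct P)
    (hCN : (centralizer ((P : Subgroup G) : Set G)).relIndex
      (normalizer ((P : Subgroup G) : Set G)) = 3)
    (hm : Nat.card ↥(normalizer ((P : Subgroup G) : Set G)) =
      3 * Nat.card ↥(centralizer ((P : Subgroup G) : Set G)))
    (h7 : Nat.card ↥(P : Subgroup G) = 7) {ψ₀ ψ : ↥(P : Subgroup G) →* ℂˣ} (hψ₀ : ψ₀ ≠ 1)
    (hψ : ψ ≠ 1) (hn : ¬ Rel P ψ₀ ψ) : Rel P ψ₀ ψ⁻¹ := by
  by_contra hn'
  have hodd : Odd (Nat.card ↥(P : Subgroup G)) := by rw [h7]; decide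
  have hψi : ψ⁻¹ ≠ 1 := by
    intro h
    apply hψ
    apply MonoidHom.ext
    intro y
    have := congrArg (fun f => f y) h
    simpa using this
  have h3 := not_rel_inv P hf hCN hodd hψ
  set A := Finset.univ.filter (fun l : ↥(P : Subgroup G) →* ℂˣ => Rel P ψ₀ l) with hA
  set B := Finset.univ.filter (fun l : ↥(P : Subgroup G) →* ℂˣ => Rel P ψ l) with hB
  set C := Finset.univ.filter (fun l : ↥(P : Subgroup G) →* ℂˣ => Rel P ψ⁻¹ l) with hC
  have cA : A.card = 3 := class_card' P hf hm hψ₀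
  have cB : B.card = 3 := class_card' P hf hm hψ
  have cC : C.card = 3 := class_card' P hf hm hψi
  have dAB : Disjoint A B := by
    rw [Finset.disjoint_left]
    intro l hlA hlB
    exact hn (rel_trans P (Finset.mem_filter.mp hlA).2 (rel_symm P (Finset.mem_filter.mp hlB).2))
  have dAC : Disjoint A C := by
    rw [Finset.disjoint_left]
    intro l hlA hlC
    exact hn' (rel_trans P (Finset.mem_filter.mp hlA).2 (rel_symm P (Finset.mem_filter.mp hlC).2))
  have dBC : Disjoint B C := by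
    rw [Finset.disjoint_left]
    intro l hlB hlC
    exact h3 (rel_trans P (Finset.mem_filter.mp hlB).2 (rel_symm P (Finset.mem_filter.mp hlC).2))
  have hsub : A ∪ B ∪ C ⊆ Finset.univ.filter (fun l : ↥(P : Subgroup G) →* ℂˣ => l ≠ 1) := by
    intro l hl
    rw [Finset.mem_filter]
    refine ⟨Finset.mem_univ _, ?_⟩
    rintro rfl
    rw [Finset.mem_union, Finset.mem_union] at hl
    rcases hl with (hl | hl) | hl
    · exact hψ₀ ((rel_one_iff P ψ₀).mp (Finset.mem_filter.mp hl).2)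
    · exact hψ ((rel_one_iff P ψ).mp (Finset.mem_filter.mp hl).2)
    · exact hψi ((rel_one_iff P ψ⁻¹).mp (Finset.mem_filter.mp hl).2)
  have hcard := Finset.card_le_card hsub
  rw [card_nt, h7, Finset.card_union_of_disjoint, Finset.card_union_of_disjoint dAB, cA, cB, cC]
    at hcard
  · omega
  · rw [Finset.disjoint_union_left]
    exact ⟨dAC, dBC⟩

end Dual

section Main

variable {G : Type u} [Group G] [Fintype G] {p : ℕ} [Fact p.Prime] (P : Sylow p G)
  [Fintype ↥(P : Subgroup G)] [Fintype ↥(normalizer ((P : Subgroup G) : Set G))]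
  [Fintype (IrrCharacter G)] [Fintype (↥(P : Subgroup G) →* ℂˣ)] {M : Ideal AlgInt}

theorem inv_ne_one_hom {ψ : ↥(P : Subgroup G) →* ℂˣ} (hψ : ψ ≠ 1) : ψ⁻¹ ≠ 1 := by
  intro h
  apply hψ
  apply MonoidHom.ext
  intro y
  have := congrArg (fun f => f y) h
  simpa using this

theorem inv_inv_hom (ψ : ↥(P : Subgroup G) →* ℂˣ) : ψ⁻¹⁻¹ = ψ := by
  apply MonoidHom.ext
  intro y
  simp

open Classical in
/-- relabelling in the case `#P = 7`, `d = δ` -/
theorem exists_relabel [IsMulCommutative P] (hf : FreeAct P)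
    (hCN : (centralizer ((P : Subgroup G) : Set G)).relIndex
      (normalizer ((P : Subgroup G) : Set G)) = 3)
    (hm : Nat.card ↥(normalizer ((P : Subgroup G) : Set G)) =
      3 * Nat.card ↥(centralizer ((P : Subgroup G) : Set G)))
    (h7 : Nat.card ↥(P : Subgroup G) = 7) (D : BLData P M 3) (hd : D.d = D.δ)
    (hS : ∑ χ ∈ Finset.univ.filter (fun χ : IrrCharacter G => χ ∈ Xset P D), D.a χ ^ 2 = 3) :
    ∃ D' : BLData P M 3, D'.d = 0 := by
  have hodd : Odd (Nat.card ↥(P : Subgroup G)) := by rw [h7]; decide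
  refine ⟨{
    δ := -D.δ
    d := 0
    a := fun χ => if χ ∈ Yset P D then 0 else D.a χ
    ζ := fun ψ => D.ζ ψ⁻¹
    hδ := ?_
    hζB := ?_
    hζ := ?_
    hF := ?_
    hd := ?_
    hnorm := ?_ }, rfl⟩
  · rcases D.hδ with h | h <;> rw [h] <;> simp
  · intro ψ hψ
    exact D.hζB ψ⁻¹ (inv_ne_one_hom P hψ)
  · intro ψ ψ' hψ hψ'
    rw [D.hζ ψ⁻¹ ψ'⁻¹ (inv_ne_one_hom P hψ) (inv_ne_one_hom P hψ')]
    constructor
    · intro h
      have := rel_inv P h
      rwa [inv_inv_hom, inv_inv_hom] at this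
    · exact rel_inv P
  · intro χ hχ ψ hψ
    have hψi := inv_ne_one_hom P hψ
    rw [D.hF χ hχ ψ hψ]
    by_cases hY : χ ∈ Yset P D
    · obtain ⟨ψ₀, hψ₀, rfl⟩ := hY
      have hY' : D.ζ ψ₀ ∈ Yset P D := ⟨ψ₀, hψ₀, rfl⟩
      rw [if_pos hY', D.hd ψ₀ hψ₀, hd]
      by_cases hr : Rel P ψ₀ ψ
      · have hr' : ¬ Rel P ψ₀ ψ⁻¹ := fun h =>
          not_rel_inv P hf hCN hodd hψ (rel_trans P (rel_symm P hr) h)
        rw [if_pos ((D.hζ ψ₀ ψ hψ₀ hψ).mpr hr),
          if_neg (fun h => hr' ((D.hζ ψ₀ ψ⁻¹ hψ₀ hψi).mp h))]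
        push_cast
        ring
      · have hr' : Rel P ψ₀ ψ⁻¹ := rel_or_rel_inv P hf hCN hm h7 hψ₀ hψ hr
        rw [if_neg (fun h => hr ((D.hζ ψ₀ ψ hψ₀ hψ).mp h)),
          if_pos ((D.hζ ψ₀ ψ⁻¹ hψ₀ hψi).mpr hr')]
        push_cast
        ring
    · rw [if_neg hY, if_neg (fun h => hY ⟨ψ, hψ, h.symm⟩),
        if_neg (fun h => hY ⟨ψ⁻¹, hψi, h.symm⟩)]
      push_cast
      ring
  · intro ψ hψ
    exact if_pos ⟨ψ⁻¹, inv_ne_one_hom P hψ, rfl⟩
  · rw [sum_split P D]
    have h1 : ∑ χ ∈ Finset.univ.filter (fun χ : IrrCharacter G => χ ∈ Xset P D),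
        (if χ ∈ Yset P D then (0 : ℤ) else D.a χ) ^ 2 =
        ∑ χ ∈ Finset.univ.filter (fun χ : IrrCharacter G => χ ∈ Xset P D), D.a χ ^ 2 := by
      refine Finset.sum_congr rfl fun χ hχ => ?_
      rw [if_neg (Finset.mem_filter.mp hχ).2.2]
    have h2 : ∑ χ ∈ Finset.univ.filter (fun χ : IrrCharacter G => χ ∈ Yset P D),
        (if χ ∈ Yset P D then (0 : ℤ) else D.a χ) ^ 2 = 0 := by
      refine Finset.sum_eq_zero fun χ hχ => ?_
      rw [if_pos (Finset.mem_filter.mp hχ).2]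
      ring
    rw [h1, h2, hS]
    ring

end Main

section Zero

variable {G : Type u} [Group G] [Fintype G] {p : ℕ} [hp : Fact p.Prime] (P : Sylow p G)
  [Fintype ↥(P : Subgroup G)] [Fintype ↥(normalizer ((P : Subgroup G) : Set G))]
  [Fintype (IrrCharacter G)] [Fintype (↥(P : Subgroup G) →* ℂˣ)] {M : Ideal AlgInt}

theorem ten_ne_prime_pow (q k : ℕ) (hq : q.Prime) : q ^ k ≠ 10 := by
  intro h
  have hk : k ≠ 0 := by
    rintro rfl
    simp at h
  have hdvd : q ∣ 10 := by
    rw [← h]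
    exact dvd_pow_self q hk
  have hq10 : q ≤ 10 := Nat.le_of_dvd (by norm_num) hdvd
  have hk4 : k < 4 := by
    by_contra hge
    push Not at hge
    have : 2 ^ 4 ≤ q ^ k :=
      le_trans (Nat.pow_le_pow_left hq.two_le 4) (Nat.pow_le_pow_right hq.pos hge)
    omega
  interval_cases q <;> interval_cases k <;> first | omega | (norm_num at hq)

theorem one_mem_Xset [IsMulCommutative P] (hM : IsPModular p M) (hf : FreeAct P) {m : ℕ}
    (hm : Nat.card ↥(normalizer ((P : Subgroup G) : Set G)) =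
      m * Nat.card ↥(centralizer ((P : Subgroup G) : Set G)))
    (hm2 : m + 1 < Nat.card ↥(P : Subgroup G)) (D : BLData P M m) :
    oneIrr G ∈ Xset P D := by
  refine ⟨oneIrr_mem_principalBlock (isPrime_of_isPModular hM), ?_⟩
  rintro ⟨ψ, hψ, h⟩
  exact zeta_ne_one P hM hf hm hm2 D hψ h

theorem a_one [IsMulCommutative P] (hM : IsPModular p M) (hf : FreeAct P) {m : ℕ}
    (hm : Nat.card ↥(normalizer ((P : Subgroup G) : Set G)) =
      m * Nat.card ↥(centralizer ((P : Subgroup G) : Set G)))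
    (hm2 : m + 1 < Nat.card ↥(P : Subgroup G)) (hP1 : Nat.card ↥(P : Subgroup G) ≠ 1)
    (D : BLData P M m) : D.a (oneIrr G) = 1 := by
  obtain ⟨u, hu⟩ := exists_ne_one_elt P hP1
  have h := X_value P D (one_mem_Xset P hM hf hm hm2 D) hu
  have h1 : ((oneIrr G : IrrCharacter G) : G → ℂ) (u : G) = 1 := rfl
  rw [h1] at h
  exact_mod_cast h.symm

open Classical in
/-- with `m = 3` the Brauer–Leonard datum can be chosen with `d = 0` -/
theorem exists_blData_zero [IsMulCommutative P] (hM : IsPModular p M) (hf : FreeAct P)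
    (hCN : (centralizer ((P : Subgroup G) : Set G)).relIndex
      (normalizer ((P : Subgroup G) : Set G)) = 3)
    (hm : Nat.card ↥(normalizer ((P : Subgroup G) : Set G)) =
      3 * Nat.card ↥(centralizer ((P : Subgroup G) : Set G)))
    (hm2 : 3 + 1 < Nat.card ↥(P : Subgroup G)) :
    ∃ D : BLData P M 3, D.d = 0 := by
  have hP1 : Nat.card ↥(P : Subgroup G) ≠ 1 := by omega
  have hP1' : 1 < Nat.card ↥(P : Subgroup G) := by omega
  obtain ⟨l0, hl0⟩ := exists_ne_one P hP1'
  obtain ⟨l1, hl1, hrel⟩ := exists_not_rel P hf hm hm2 hl0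
  obtain ⟨D⟩ := exists_blData (M := M) P hM hf 3 hm ⟨l0, l1, hl0, hl1, hrel⟩
  by_cases hd0 : D.d = 0
  · exact ⟨D, hd0⟩
  have hY := card_Yset P hf hm D
  set Xf := Finset.univ.filter (fun χ : IrrCharacter G => χ ∈ Xset P D) with hXf
  set Yf := Finset.univ.filter (fun χ : IrrCharacter G => χ ∈ Yset P D) with hYf
  have hr2 : 2 ≤ Yf.card := by omega
  have hnorm := norm_eq P D
  rw [← hXf, ← hYf] at hnorm
  push_cast at hnorm
  have h1X := one_mem_Xset P hM hf hm hm2 D
  have ha1 := a_one P hM hf hm hm2 hP1 D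
  have h1Xf : oneIrr G ∈ Xf := Finset.mem_filter.mpr ⟨Finset.mem_univ _, h1X⟩
  have hS1 : 1 ≤ ∑ χ ∈ Xf, D.a χ ^ 2 := by
    have := Finset.single_le_sum (f := fun χ => D.a χ ^ 2) (fun χ _ => sq_nonneg (D.a χ)) h1Xf
    simp only [ha1] at this
    linarith
  have hr2' : (2 : ℤ) ≤ (Yf.card : ℤ) := by exact_mod_cast hr2
  -- `d = δ`
  have hdδ : D.d = D.δ := by
    rcases D.hδ with h | h
    · rw [h] at hnorm ⊢
      have h3 : D.d * D.d - D.d ≤ 1 := by nlinarith [sq_nonneg D.d]
      have h4 : D.d ≤ 1 := by nlinarith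
      have h5 : 0 ≤ D.d := by nlinarith
      interval_cases h6 : D.d
      · exact absurd rfl hd0
      · rfl
    · rw [h] at hnorm ⊢
      have h3 : D.d * D.d + D.d ≤ 1 := by nlinarith [sq_nonneg D.d]
      have h4 : -1 ≤ D.d := by nlinarith
      have h5 : D.d ≤ 0 := by nlinarith
      interval_cases h6 : D.d
      · rfl
      · exact absurd rfl hd0
  have hδ2 : D.δ ^ 2 = 1 := by
    rcases D.hδ with h | h <;> rw [h] <;> norm_num
  have hSr : ∑ χ ∈ Xf, D.a χ ^ 2 = 5 - (Yf.card : ℤ) := by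
    rw [hdδ] at hnorm
    have : 2 * D.δ * D.δ = 2 := by nlinarith
    nlinarith
  have hr4 : Yf.card ≤ 4 := by
    have : (Yf.card : ℤ) ≤ 4 := by linarith
    exact_mod_cast this
  obtain ⟨k, hk⟩ := IsPGroup.iff_card.mp P.2
  have hr3 : Yf.card ≠ 3 := by
    intro h3
    rw [h3] at hY
    have : Nat.card ↥(P : Subgroup G) = 10 := by omega
    rw [this] at hk
    exact ten_ne_prime_pow p k hp.out hk.symm
  have hcases : Yf.card = 2 ∨ Yf.card = 4 := by omega
  rcases hcases with h2 | h4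
  · -- `#P = 7`
    have h7 : Nat.card ↥(P : Subgroup G) = 7 := by rw [h2] at hY; omega
    have hS : ∑ χ ∈ Xf, D.a χ ^ 2 = 3 := by rw [hSr, h2]; norm_num
    exact exists_relabel P hf hCN hm h7 D hdδ hS
  · -- `#P = 13` is impossible
    exfalso
    have hS : ∑ χ ∈ Xf, D.a χ ^ 2 = 1 := by rw [hSr, h4]; norm_num
    have hXone : Xf = {oneIrr G} := by
      rw [Finset.eq_singleton_iff_unique_mem]
      refine ⟨h1Xf, fun χ hχ => ?_⟩
      by_contra hne
      have hne0 := X_a_ne P hM hP1 D (Finset.mem_filter.mp hχ).2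
      have hpos : 1 ≤ D.a χ ^ 2 := by
        have : 0 < D.a χ ^ 2 := by positivity
        linarith
      have hsub : ({oneIrr G, χ} : Finset (IrrCharacter G)) ⊆ Xf := by
        intro ξ hξ
        rw [Finset.mem_insert, Finset.mem_singleton] at hξ
        rcases hξ with rfl | rfl
        · exact h1Xf
        · exact hχ
      have hle := Finset.sum_le_sum_of_subset_of_nonneg (f := fun χ => D.a χ ^ 2) hsub
        (fun ξ _ _ => sq_nonneg (D.a ξ))
      rw [Finset.sum_pair (fun h => hne h.symm)] at hle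
      simp only [ha1] at hle
      linarith
    have hηY : D.ζ l0 ∈ Yset P D := ⟨l0, hl0, rfl⟩
    have hreg : ¬ p ∣ orderOf (1 : G) := by
      rw [orderOf_one]
      exact fun h => hp.out.one_lt.ne' (Nat.dvd_one.mp h)
    have hs := preg_sum P hM D hηY hreg
    rw [← hYf, ← hXf, hXone, Finset.sum_singleton, h4, hdδ, ha1,
      irr_apply_one_eq_charDegree (D.ζ l0)] at hs
    have h1 : ((oneIrr G : IrrCharacter G) : G → ℂ) 1 = 1 := rfl
    rw [h1] at hs
    have hs' : ((4 * D.δ - D.δ) * (charDegree (D.ζ l0 : G → ℂ) : ℤ) + 1 : ℤ) = 0 := by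
      have : (((4 * D.δ - D.δ) * (charDegree (D.ζ l0 : G → ℂ) : ℤ) + 1 : ℤ) : ℂ) = 0 := by
        push_cast
        linear_combination hs
      exact_mod_cast this
    rcases D.hδ with h | h <;> rw [h] at hs' <;> omega

end Zero

end Cfsg.Agent.Lib.Helper80.BL3
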