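import Cfsg.Agent.Lib.Helper77.StrongOrth
import Cfsg.Agent.Lib.Helper80.IrrApi

/-!
# Class algebra constants, block by block

For a `p`-block `B`, the sum `∑_{χ ∈ B} χ(x) χ(y) conj χ(z) / χ(1)` vanishes as soon as no product
`x * y^t` has its `p`-part conjugate to the `p`-part of `z`.
-/

set_option autoImplicit false
set_option linter.unusedSectionVars false

universe u

namespace Cfsg.Agent.Lib.Helper80

open Cfsg
open scoped ComplexConjugate

section BlockClassConst

variable {G : Type u} [Group G] [Fintype G] {M : Ideal AlgInt}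

/-- every element has a `p`-part -/
theorem exists_isPPart' (p : ℕ) [hp : Fact p.Prime] (g : G) : ∃ x : G, IsPPart p g x := by
  obtain ⟨K, r, N, hcard, hpr, hrN, hN1⟩ :=
    Cfsg.Agent.Lib.Helper77.exists_ppart_exponent G p hp.out
  exact ⟨g ^ N, Cfsg.Agent.Lib.Helper77.isPPart_pow hp.out hcard hpr hrN hN1 g⟩

open Classical in
/-- the block-wise class algebra constant vanishes when no product `x * y^t` lies in the
`p`-section of `z` -/
theorem block_class_constant_eq_zero [Fintype (IrrCharacter G)] {p : ℕ} [Fact p.Prime]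
    (hpM : IsPModular p M) (χ₀ : IrrCharacter G) (x y z : G)
    (h : ∀ t u v : G, IsPPart p (x * (t * y * t⁻¹)) u → IsPPart p z v → ¬ IsConj u v) :
    ∑ χ ∈ Finset.univ.filter (fun χ : IrrCharacter G => χ ∈ blockOf M (χ₀ : G → ℂ)),
      (χ : G → ℂ) x * (χ : G → ℂ) y * conj ((χ : G → ℂ) z) / (χ : G → ℂ) 1 = 0 := by
  have hG : (Nat.card G : ℂ) ≠ 0 := by exact_mod_cast Nat.card_pos.ne'
  have h1 : ∀ χ : IrrCharacter G,
      (χ : G → ℂ) x * (χ : G → ℂ) y * conj ((χ : G → ℂ) z) / (χ : G → ℂ) 1 =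
      (Nat.card G : ℂ)⁻¹ * ∑ t : G, (χ : G → ℂ) (x * (t * y * t⁻¹)) * conj ((χ : G → ℂ) z) := by
    intro χ
    rw [← Finset.sum_mul, irr_sum_char_mul_conj χ x y]
    field_simp
  rw [Finset.sum_congr rfl fun χ _ => h1 χ, ← Finset.mul_sum, Finset.sum_comm]
  have h2 : ∀ t : G,
      ∑ χ ∈ Finset.univ.filter (fun χ : IrrCharacter G => χ ∈ blockOf M (χ₀ : G → ℂ)),
        (χ : G → ℂ) (x * (t * y * t⁻¹)) * conj ((χ : G → ℂ) z) = 0 := by
    intro t
    obtain ⟨u, hu⟩ := exists_isPPart' p (x * (t * y * t⁻¹))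
    obtain ⟨v, hv⟩ := exists_isPPart' p z
    exact Cfsg.Agent.Lib.Helper77.IdemTrace.strong_block_orthogonality_finset hpM χ₀ hu hv
      (h t u v hu hv)
  rw [Finset.sum_congr rfl fun t _ => h2 t, Finset.sum_const_zero, mul_zero]

end BlockClassConst

end Cfsg.Agent.Lib.Helper80
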