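import Cfsg.Agent.Lib.Helper80.BL721a
import Cfsg.Agent.Lib.Helper80.BlockClassConst
import Cfsg.Agent.Lib.Helper20.SylowFusion

/-!
# Brauer–Leonard with `m = 3`: products of two conjugates of an involution avoid the
`p`-sections of most elements of `P`
-/

set_option autoImplicit false
set_option linter.unusedSectionVars false
set_option linter.style.haveILetI false

universe u

namespace Cfsg.Agent.Lib.Helper80.BL3

open Cfsg Subgroup Cfsg.Agent.Lib.Helper1.BL Cfsg.Agent.Lib.Helper81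
open scoped ComplexConjugate

section PPart

variable {G : Type u} [Group G] [Finite G] {p : ℕ} [hp : Fact p.Prime]

theorem isPPart_conj {g x : G} (h : IsPPart p g x) (c : G) :
    IsPPart p (c * g * c⁻¹) (c * x * c⁻¹) := by
  obtain ⟨K, r, N, hcard, hpr, hrN, hN1⟩ :=
    Cfsg.Agent.Lib.Helper77.exists_ppart_exponent G p hp.out
  have hx := Cfsg.Agent.Lib.Helper77.pow_eq_of_isPPart hp.out hcard hpr hrN hN1 h
  have := Cfsg.Agent.Lib.Helper77.isPPart_pow hp.out hcard hpr hrN hN1 (c * g * c⁻¹)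
  rwa [conj_pow, hx] at this

theorem conj_ppart_of_conj_inv {z y t : G} (h : IsPPart p z y) (ht : t * z * t⁻¹ = z⁻¹) :
    t * y * t⁻¹ = y⁻¹ := by
  obtain ⟨K, r, N, hcard, hpr, hrN, hN1⟩ :=
    Cfsg.Agent.Lib.Helper77.exists_ppart_exponent G p hp.out
  have hx := Cfsg.Agent.Lib.Helper77.pow_eq_of_isPPart hp.out hcard hpr hrN hN1 h
  rw [← hx, ← conj_pow, ht, inv_pow]

theorem isPPart_unique' {g x x' : G} (h : IsPPart p g x) (h' : IsPPart p g x') : x = x' := by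
  obtain ⟨K, r, N, hcard, hpr, hrN, hN1⟩ :=
    Cfsg.Agent.Lib.Helper77.exists_ppart_exponent G p hp.out
  rw [← Cfsg.Agent.Lib.Helper77.pow_eq_of_isPPart hp.out hcard hpr hrN hN1 h,
    ← Cfsg.Agent.Lib.Helper77.pow_eq_of_isPPart hp.out hcard hpr hrN hN1 h']

theorem isPPart_self {y : G} (hy : ∃ k : ℕ, orderOf y = p ^ k) : IsPPart p y y := by
  refine ⟨1, mul_one y, Commute.one_right y, hy, ?_⟩
  rw [orderOf_one]
  exact fun h => hp.out.one_lt.ne' (Nat.dvd_one.mp h)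

end PPart

section Transfer

variable {T : Type u} [Group T] [Finite T] {p : ℕ} [hp : Fact p.Prime]

/-- in a group with `N(P) ≤ C(P)`: if `u₁, u₂, y ∈ P`, `u_i` is conjugate to `t_i` and
`t₁ t₂ = y w` with `w` a `p'`-element, then `u₁ u₂ = y` -/
theorem prod_eq_of_transfer (P : Sylow p T)
    (hN : normalizer ((P : Subgroup T) : Set T) ≤ centralizer ((P : Subgroup T) : Set T))
    {u₁ u₂ y t₁ t₂ w c₁ c₂ : T} (hu₁ : u₁ ∈ (P : Subgroup T)) (hu₂ : u₂ ∈ (P : Subgroup T))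
    (hy : y ∈ (P : Subgroup T)) (h1 : u₁ = c₁ * t₁ * c₁⁻¹) (h2 : u₂ = c₂ * t₂ * c₂⁻¹)
    (hprod : t₁ * t₂ = y * w) (hw : ¬ p ∣ orderOf w) : u₁ * u₂ = y := by
  set φ := MonoidHom.transferSylow P hN with hφ
  have hcomm : ∀ a b : ↥(P : Subgroup T), a * b = b * a := fun a b =>
    Subtype.ext (hN (le_normalizer b.2) a a.2)
  have e1 : φ u₁ = φ t₁ := by
    rw [h1, map_mul, map_mul, map_inv, hcomm (φ c₁) (φ t₁), mul_assoc, mul_inv_cancel, mul_one]
  have e2 : φ u₂ = φ t₂ := by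
    rw [h2, map_mul, map_mul, map_inv, hcomm (φ c₂) (φ t₂), mul_assoc, mul_inv_cancel, mul_one]
  have e3 : φ w = 1 := by
    have hd1 : orderOf (φ w) ∣ orderOf w := orderOf_map_dvd φ w
    obtain ⟨k, hk⟩ := (IsPGroup.iff_orderOf.mp P.2) (φ w)
    rcases Nat.eq_zero_or_pos k with h0 | h0
    · rw [h0, pow_zero] at hk
      exact orderOf_eq_one_iff.mp hk
    · exfalso
      apply hw
      refine dvd_trans ?_ hd1
      rw [hk]
      exact dvd_pow_self p h0.ne'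
  have e4 : φ (u₁ * u₂ * y⁻¹) = 1 := by
    rw [map_mul, map_mul, e1, e2, ← map_mul, hprod, map_mul, e3, mul_one, ← map_mul,
      mul_inv_cancel, map_one]
  have hmem : u₁ * u₂ * y⁻¹ ∈ φ.ker ⊓ (P : Subgroup T) :=
    ⟨MonoidHom.mem_ker.mpr e4,
      (P : Subgroup T).mul_mem ((P : Subgroup T).mul_mem hu₁ hu₂) ((P : Subgroup T).inv_mem hy)⟩
  have hdis := MonoidHom.ker_transferSylow_disjoint P hN (P : Subgroup T) P.2
  rw [disjoint_iff.mp hdis, mem_bot] at hmem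
  exact mul_inv_eq_one.mp hmem

end Transfer

section Section

variable {G : Type u} [Group G] [Finite G] {p : ℕ} [hp : Fact p.Prime] (P : Sylow p G)

theorem mem_subtype_iff {H : Subgroup G} (hPH : (P : Subgroup G) ≤ H) (h : ↥H) :
    h ∈ ((P.subtype hPH : Sylow p ↥H) : Subgroup ↥H) ↔ (h : G) ∈ (P : Subgroup G) := by
  rw [Sylow.coe_subtype, mem_subgroupOf]

/-- inside the centralizer of a nontrivial element of `P`, the normalizer of `P` centralizes `P` -/
theorem normalizer_le_centralizer_in [IsMulCommutative P] (hf : FreeAct P) {u : G}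
    (hu : u ∈ (P : Subgroup G)) (hu1 : u ≠ 1)
    (hPH : (P : Subgroup G) ≤ centralizer ({u} : Set G)) :
    normalizer (((P.subtype hPH : Sylow p ↥(centralizer ({u} : Set G))) :
        Subgroup ↥(centralizer ({u} : Set G))) : Set ↥(centralizer ({u} : Set G))) ≤
      centralizer (((P.subtype hPH : Sylow p ↥(centralizer ({u} : Set G))) :
        Subgroup ↥(centralizer ({u} : Set G))) : Set ↥(centralizer ({u} : Set G))) := by
  intro h hh
  rw [mem_normalizer_iff] at hh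
  have h1 : (h : G) ∈ normalizer ((P : Subgroup G) : Set G) := by
    rw [mem_normalizer_iff]
    intro x
    constructor
    · intro hx
      have := (hh ⟨x, hPH hx⟩).mp ((mem_subtype_iff P hPH _).mpr hx)
      exact (mem_subtype_iff P hPH _).mp this
    · intro hx
      have hxH : x ∈ centralizer ({u} : Set G) := by
        have e : x = (h : G)⁻¹ * ((h : G) * x * (h : G)⁻¹) * (h : G) := by group
        rw [e]
        exact mul_mem (mul_mem (inv_mem h.2) (hPH hx)) h.2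
      have := (hh ⟨x, hxH⟩).mpr ((mem_subtype_iff P hPH _).mpr hx)
      exact (mem_subtype_iff P hPH _).mp this
  have h2 : (h : G) ∈ centralizer ((P : Subgroup G) : Set G) := by
    rw [← hf u hu hu1]
    exact ⟨h.2, h1⟩
  rw [mem_centralizer_iff]
  intro y hy
  apply Subtype.ext
  exact (mem_centralizer_iff.mp h2) (y : G) ((mem_subtype_iff P hPH y).mp hy)

theorem conj_inv_eq (A t : G) : (A * t * A⁻¹)⁻¹ = A * t⁻¹ * A⁻¹ := by group

theorem conj_mem_of_mem_normalizer {n y : G} (hn : n ∈ normalizer ((P : Subgroup G) : Set G))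
    (hy : y ∈ (P : Subgroup G)) : n * y * n⁻¹ ∈ (P : Subgroup G) :=
  (mem_normalizer_iff.mp hn y).mp hy

theorem conj_eq_of_mem_centralizer {c y : G} (hc : c ∈ centralizer ((P : Subgroup G) : Set G))
    (hy : y ∈ (P : Subgroup G)) : c * y * c⁻¹ = y := by
  have := (mem_centralizer_iff.mp hc) y hy
  rw [← this]
  group

/-- the product of two `N`-conjugates of an involution of `P` is trivial or an `N`-conjugate -/
theorem orbit_prod [IsMulCommutative P] (hf : FreeAct P)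
    (hCN : (centralizer ((P : Subgroup G) : Set G)).relIndex
      (normalizer ((P : Subgroup G) : Set G)) = 3)
    {t₀ : G} (ht₀P : t₀ ∈ (P : Subgroup G)) (ht₀ : t₀ * t₀ = 1) {n₁ n₂ : G}
    (hn₁ : n₁ ∈ normalizer ((P : Subgroup G) : Set G))
    (hn₂ : n₂ ∈ normalizer ((P : Subgroup G) : Set G)) :
    n₁ * t₀ * n₁⁻¹ * (n₂ * t₀ * n₂⁻¹) = 1 ∨
      ∃ n ∈ normalizer ((P : Subgroup G) : Set G),
        n₁ * t₀ * n₁⁻¹ * (n₂ * t₀ * n₂⁻¹) = n * t₀ * n⁻¹ := by
  have hx : n₁⁻¹ * n₂ ∈ normalizer ((P : Subgroup G) : Set G) := mul_mem (inv_mem hn₁) hn₂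
  set x := n₁⁻¹ * n₂ with hxdef
  have hn₂x : n₂ = n₁ * x := by rw [hxdef]; group
  have hinv : t₀⁻¹ = t₀ := inv_eq_of_mul_eq_one_right ht₀
  by_cases hxC : x ∈ centralizer ((P : Subgroup G) : Set G)
  · left
    have h1 : x * t₀ * x⁻¹ = t₀ := conj_eq_of_mem_centralizer P hxC ht₀P
    calc n₁ * t₀ * n₁⁻¹ * (n₂ * t₀ * n₂⁻¹)
        = n₁ * t₀ * (x * t₀ * x⁻¹) * n₁⁻¹ := by rw [hn₂x]; group
      _ = n₁ * (t₀ * t₀) * n₁⁻¹ := by rw [h1]; group
      _ = 1 := by rw [ht₀]; group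
  · right
    set a := x * t₀ * x⁻¹ with ha
    set b := x * x * t₀ * (x * x)⁻¹ with hb
    have haP : a ∈ (P : Subgroup G) := conj_mem_of_mem_normalizer P hx ht₀P
    have hbP : b ∈ (P : Subgroup G) := conj_mem_of_mem_normalizer P (mul_mem hx hx) ht₀P
    have hxa : x * a * x⁻¹ = b := by rw [ha, hb]; group
    have hxb : x * b * x⁻¹ = t₀ := by
      have h3 : x * x * x ∈ centralizer ((P : Subgroup G) : Set G) := by
        have := pow_three_mem P hCN hx
        rwa [pow_succ, pow_two] at this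
      have := conj_eq_of_mem_centralizer P h3 ht₀P
      rw [hb]
      calc x * (x * x * t₀ * (x * x)⁻¹) * x⁻¹ = x * x * x * t₀ * (x * x * x)⁻¹ := by group
        _ = t₀ := this
    have hw : t₀ * a * b = 1 := by
      by_contra hw1
      have hwP : t₀ * a * b ∈ (P : Subgroup G) := mul_mem (mul_mem ht₀P haP) hbP
      have hfix : x * (t₀ * a * b) * x⁻¹ = t₀ * a * b := by
        calc x * (t₀ * a * b) * x⁻¹ = (x * t₀ * x⁻¹) * (x * a * x⁻¹) * (x * b * x⁻¹) := by group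
          _ = a * b * t₀ := by rw [hxa, hxb]
          _ = t₀ * a * b := by
              have := comm_of_mem P (mul_mem haP hbP) ht₀P
              rw [this, ← mul_assoc]
      apply hxC
      rw [← hf _ hwP hw1]
      have hc : x ∈ centralizer ({t₀ * a * b} : Set G) := by
        rw [mem_centralizer_singleton_iff]
        calc x * (t₀ * a * b) = (x * (t₀ * a * b) * x⁻¹) * x := by group
          _ = t₀ * a * b * x := by rw [hfix]
      exact Subgroup.mem_inf.mpr ⟨hc, hx⟩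
    have hprod : t₀ * a = b := by
      have h1 : t₀ * a = b⁻¹ := eq_inv_of_mul_eq_one_left hw
      rw [h1]
      calc b⁻¹ = x * x * t₀⁻¹ * (x * x)⁻¹ := by rw [hb]; exact conj_inv_eq (x * x) t₀
        _ = b := by rw [hinv]
    refine ⟨n₁ * (x * x), mul_mem hn₁ (mul_mem hx hx), ?_⟩
    calc n₁ * t₀ * n₁⁻¹ * (n₂ * t₀ * n₂⁻¹)
        = n₁ * (t₀ * a) * n₁⁻¹ := by rw [hn₂x, ha]; group
      _ = n₁ * (x * x) * t₀ * (n₁ * (x * x))⁻¹ := by rw [hprod, hb]; group

/-- no element inverts an element of `P` whose square is nontrivial -/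
theorem no_conj_inv [IsMulCommutative P] (hf : FreeAct P)
    (hCN : (centralizer ((P : Subgroup G) : Set G)).relIndex
      (normalizer ((P : Subgroup G) : Set G)) = 3)
    {y t : G} (hy : y ∈ (P : Subgroup G)) (hy2 : y * y ≠ 1) (ht : t * y * t⁻¹ = y⁻¹) : False := by
  have hy1 : y ≠ 1 := by
    rintro rfl
    exact hy2 (mul_one 1)
  obtain ⟨n, hn, hny⟩ := fusion P y hy t (by rw [ht]; exact inv_mem hy)
  rw [ht] at hny
  have hn2 : n ^ 2 ∈ centralizer ((P : Subgroup G) : Set G) := by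
    rw [pow_two, ← hf y hy hy1]
    have e1 : n * n * y * (n * n)⁻¹ = y := by
      calc n * n * y * (n * n)⁻¹ = n * (n * y * n⁻¹) * n⁻¹ := by group
        _ = n * y⁻¹ * n⁻¹ := by rw [hny]
        _ = (n * y * n⁻¹)⁻¹ := by group
        _ = y := by rw [hny, inv_inv]
    have hc : n * n ∈ centralizer ({y} : Set G) := by
      rw [mem_centralizer_singleton_iff]
      calc n * n * y = (n * n * y * (n * n)⁻¹) * (n * n) := by group
        _ = y * (n * n) := by rw [e1]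
    exact Subgroup.mem_inf.mpr ⟨hc, mul_mem hn hn⟩
  have hnC := mem_of_sq_mem P hCN hn hn2
  have := conj_eq_of_mem_centralizer P hnC hy
  rw [hny] at this
  apply hy2
  calc y * y = y⁻¹ * y := by rw [this]
    _ = 1 := inv_mul_cancel y

end Section

section NoProduct

variable {G : Type u} [Group G] [Finite G] {p : ℕ} [hp : Fact p.Prime] (P : Sylow p G)

theorem orderOf_pow_of_mem {y : G} (hy : y ∈ (P : Subgroup G)) : ∃ k : ℕ, orderOf y = p ^ k := by
  obtain ⟨k, hk⟩ := (IsPGroup.iff_orderOf.mp P.2) ⟨y, hy⟩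
  exact ⟨k, by rw [← hk, Subgroup.orderOf_mk]⟩

/-- a product of two conjugates of the involution `t₀` never has `p`-part `y'` -/
theorem no_product_section [IsMulCommutative P] (hf : FreeAct P)
    (hCN : (centralizer ((P : Subgroup G) : Set G)).relIndex
      (normalizer ((P : Subgroup G) : Set G)) = 3)
    {t₀ y' : G} (ht₀ : t₀ * t₀ = 1) (hy' : y' ∈ (P : Subgroup G)) (hy'1 : y' ≠ 1)
    (hcase : y' * y' = 1 → t₀ ∈ (P : Subgroup G) ∧
      ∀ n ∈ normalizer ((P : Subgroup G) : Set G), n * t₀ * n⁻¹ ≠ y')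
    (g₁ g₂ : G) (h : IsPPart p (g₁ * t₀ * g₁⁻¹ * (g₂ * t₀ * g₂⁻¹)) y') : False := by
  set t₁ := g₁ * t₀ * g₁⁻¹ with ht₁d
  set t₂ := g₂ * t₀ * g₂⁻¹ with ht₂d
  have ht₁ : t₁ * t₁ = 1 := by
    calc t₁ * t₁ = g₁ * (t₀ * t₀) * g₁⁻¹ := by rw [ht₁d]; group
      _ = 1 := by rw [ht₀]; group
  have ht₂ : t₂ * t₂ = 1 := by
    calc t₂ * t₂ = g₂ * (t₀ * t₀) * g₂⁻¹ := by rw [ht₂d]; group
      _ = 1 := by rw [ht₀]; group
  have hi₁ : t₁⁻¹ = t₁ := inv_eq_of_mul_eq_one_right ht₁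
  have hi₂ : t₂⁻¹ = t₂ := inv_eq_of_mul_eq_one_right ht₂
  have hinv : t₁ * (t₁ * t₂) * t₁⁻¹ = (t₁ * t₂)⁻¹ := by
    calc t₁ * (t₁ * t₂) * t₁⁻¹ = (t₁ * t₁) * t₂ * t₁⁻¹ := by group
      _ = t₂⁻¹ * t₁⁻¹ := by rw [ht₁, one_mul, hi₂]
      _ = (t₁ * t₂)⁻¹ := by group
  have hc := conj_ppart_of_conj_inv h hinv
  by_cases h2 : y' * y' = 1
  · obtain ⟨ht₀P, hne⟩ := hcase h2
    have hyi : y'⁻¹ = y' := inv_eq_of_mul_eq_one_right h2
    rw [hyi] at hc
    -- `p = 2`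
    obtain ⟨k, hk⟩ := orderOf_pow_of_mem P hy'
    have ho2 : orderOf y' = 2 := orderOf_eq_prime (by rw [pow_two]; exact h2) hy'1
    have hp2 : p = 2 := by
      have hk0 : k ≠ 0 := by
        rintro rfl
        rw [pow_zero] at hk
        omega
      have : p ∣ 2 := by
        rw [← ho2, hk]
        exact dvd_pow_self p hk0
      exact (Nat.prime_dvd_prime_iff_eq hp.out Nat.prime_two).mp this
    set H := centralizer ({y'} : Set G) with hH
    have hPH : (P : Subgroup G) ≤ H := le_centralizer_singleton P hy'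
    have ht₁H : t₁ ∈ H := by
      rw [hH, mem_centralizer_singleton_iff]
      calc t₁ * y' = (t₁ * y' * t₁⁻¹) * t₁ := by group
        _ = y' * t₁ := by rw [hc]
    obtain ⟨w, hw, hcomm, -, hreg⟩ := h
    have hwH : w ∈ H := by
      rw [hH, mem_centralizer_singleton_iff]
      exact hcomm.eq.symm
    have hyH : y' ∈ H := hPH hy'
    have ht₂H : t₂ ∈ H := by
      have : t₂ = t₁⁻¹ * (y' * w) := by rw [hw]; group
      rw [this]
      exact mul_mem (inv_mem ht₁H) (mul_mem hyH hwH)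
    have hpg : ∀ t : G, t * t = 1 → IsPGroup p (zpowers t) := by
      intro t ht
      rintro ⟨g, hg⟩
      refine ⟨1, ?_⟩
      obtain ⟨i, rfl⟩ := mem_zpowers_iff.mp hg
      apply Subtype.ext
      simp only [pow_one, hp2, Subgroup.coe_pow, Subgroup.coe_one]
      rw [← zpow_natCast, ← zpow_mul, mul_comm, zpow_mul, zpow_natCast, pow_two, ht, one_zpow]
    obtain ⟨c₁, hc₁H, hc₁⟩ := Cfsg.Agent.Lib.Helper20.sylow_conj_into P H hPH (zpowers t₁)
      (hpg t₁ ht₁) (zpowers_le.mpr ht₁H)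
    obtain ⟨c₂, hc₂H, hc₂⟩ := Cfsg.Agent.Lib.Helper20.sylow_conj_into P H hPH (zpowers t₂)
      (hpg t₂ ht₂) (zpowers_le.mpr ht₂H)
    have hu₁ : c₁ * t₁ * c₁⁻¹ ∈ (P : Subgroup G) := hc₁ t₁ (mem_zpowers t₁)
    have hu₂ : c₂ * t₂ * c₂⁻¹ ∈ (P : Subgroup G) := hc₂ t₂ (mem_zpowers t₂)
    have hNC := normalizer_le_centralizer_in P hf hy' hy'1 hPH
    have hprod := prod_eq_of_transfer (P.subtype hPH) hNC
      (u₁ := ⟨c₁ * t₁ * c₁⁻¹, hPH hu₁⟩) (u₂ := ⟨c₂ * t₂ * c₂⁻¹, hPH hu₂⟩) (y := ⟨y', hyH⟩)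
      (t₁ := ⟨t₁, ht₁H⟩) (t₂ := ⟨t₂, ht₂H⟩) (w := ⟨w, hwH⟩) (c₁ := ⟨c₁, hc₁H⟩) (c₂ := ⟨c₂, hc₂H⟩)
      ((mem_subtype_iff P hPH _).mpr hu₁) ((mem_subtype_iff P hPH _).mpr hu₂)
      ((mem_subtype_iff P hPH _).mpr hy') rfl rfl (Subtype.ext hw.symm)
      (by rwa [Subgroup.orderOf_mk])
    have hprod' : c₁ * t₁ * c₁⁻¹ * (c₂ * t₂ * c₂⁻¹) = y' := congrArg Subtype.val hprod
    have e₁ : c₁ * t₁ * c₁⁻¹ = (c₁ * g₁) * t₀ * (c₁ * g₁)⁻¹ := by rw [ht₁d]; group
    have e₂ : c₂ * t₂ * c₂⁻¹ = (c₂ * g₂) * t₀ * (c₂ * g₂)⁻¹ := by rw [ht₂d]; group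
    obtain ⟨n₁, hn₁, hn₁e⟩ := fusion P t₀ ht₀P (c₁ * g₁) (by rw [← e₁]; exact hu₁)
    obtain ⟨n₂, hn₂, hn₂e⟩ := fusion P t₀ ht₀P (c₂ * g₂) (by rw [← e₂]; exact hu₂)
    rw [e₁, e₂, ← hn₁e, ← hn₂e] at hprod'
    rcases orbit_prod P hf hCN ht₀P ht₀ hn₁ hn₂ with h1 | ⟨n, hn, h1⟩
    · rw [h1] at hprod'
      exact hy'1 hprod'.symm
    · rw [h1] at hprod'
      exact hne n hn hprod'
  · exact no_conj_inv P hf hCN hy' h2 hc

/-- the hypothesis of the block class constant lemma -/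
theorem section_hyp [IsMulCommutative P] (hf : FreeAct P)
    (hCN : (centralizer ((P : Subgroup G) : Set G)).relIndex
      (normalizer ((P : Subgroup G) : Set G)) = 3)
    {t₀ y' : G} (ht₀ : t₀ * t₀ = 1) (hy' : y' ∈ (P : Subgroup G)) (hy'1 : y' ≠ 1)
    (hcase : y' * y' = 1 → t₀ ∈ (P : Subgroup G) ∧
      ∀ n ∈ normalizer ((P : Subgroup G) : Set G), n * t₀ * n⁻¹ ≠ y')
    (s u v : G) (hu : IsPPart p (t₀ * (s * t₀ * s⁻¹)) u) (hv : IsPPart p y' v) :
    ¬ IsConj u v := by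
  intro hconj
  have hvy : v = y' := isPPart_unique' hv
    (isPPart_self (orderOf_pow_of_mem P hy'))
  rw [hvy] at hconj
  obtain ⟨c, hc⟩ := isConj_iff.mp hconj
  have h1 := isPPart_conj hu c
  rw [hc] at h1
  have e : c * (t₀ * (s * t₀ * s⁻¹)) * c⁻¹ = c * t₀ * c⁻¹ * ((c * s) * t₀ * (c * s)⁻¹) := by
    group
  rw [e] at h1
  exact no_product_section P hf hCN ht₀ hy' hy'1 hcase c (c * s) h1

end NoProduct

end Cfsg.Agent.Lib.Helper80.BL3
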