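import Mathlib

/-!
# Arithmetic lemmas for the Brauer–Leonard `m = 3` involution clause
-/

set_option autoImplicit false

namespace Cfsg.Agent.Lib.Helper80.BL3

/-- if `n s² = r²` with `s ≠ 0` then `n` is a perfect square -/
theorem isSquare_of_mul_sq_eq (n : ℕ) (s r : ℤ) (hs : s ≠ 0) (h : (n : ℤ) * s ^ 2 = r ^ 2) :
    IsSquare n := by
  have hdvd : s ^ 2 ∣ r ^ 2 := ⟨(n : ℤ), by rw [← h]; ring⟩
  have hsr : s ∣ r := (Int.pow_dvd_pow_iff (by norm_num)).mp hdvd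
  obtain ⟨c, rfl⟩ := hsr
  have hs2 : s ^ 2 ≠ 0 := pow_ne_zero 2 hs
  have hn : (n : ℤ) = c ^ 2 := by
    have : s ^ 2 * (n : ℤ) = s ^ 2 * c ^ 2 := by rw [mul_comm, h]; ring
    exact mul_left_cancel₀ hs2 this
  refine ⟨c.natAbs, ?_⟩
  have : ((c.natAbs * c.natAbs : ℕ) : ℤ) = (n : ℤ) := by
    push_cast
    rw [abs_mul_abs_self, hn, pow_two]
  exact_mod_cast this.symm

/-- Cauchy–Schwarz with equality: the case of exactly one sign `-1` -/
theorem core_one {A B C u v w : ℤ} (hA : 0 < A) (hB : 0 < B) (hC : C = 1 + A + B)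
    (hw : w = 1 + u + v) (h : (A * B + u ^ 2 * B + v ^ 2 * A) * C = w ^ 2 * (A * B)) :
    u = A ∧ v = B := by
  subst hC hw
  have key : B * (u - A) ^ 2 + A * (v - B) ^ 2 + (u * B - v * A) ^ 2 = 0 := by
    linear_combination h
  have h1 : 0 ≤ B * (u - A) ^ 2 := by positivity
  have h2 : 0 ≤ A * (v - B) ^ 2 := by positivity
  have h3 : 0 ≤ (u * B - v * A) ^ 2 := by positivity
  have e1 : B * (u - A) ^ 2 = 0 := by linarith
  have e2 : A * (v - B) ^ 2 = 0 := by linarith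
  constructor
  · rcases mul_eq_zero.mp e1 with h0 | h0
    · omega
    · have := pow_eq_zero_iff (n := 2) (by norm_num) |>.mp h0
      omega
  · rcases mul_eq_zero.mp e2 with h0 | h0
    · omega
    · have := pow_eq_zero_iff (n := 2) (by norm_num) |>.mp h0
      omega

/-- the case of exactly two signs `-1`: the product of the degrees is a square -/
theorem core_two {A B C : ℕ} {u v w : ℤ} (hC : 1 + (C : ℤ) = A + B) (hw : 1 + w = u + v)
    (h : (A : ℤ) * B * C + w ^ 2 * (A * B) = u ^ 2 * (B * C) + v ^ 2 * (A * C))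
    (hne : w ≠ C) : IsSquare (A * B * C) := by
  apply isSquare_of_mul_sq_eq (A * B * C) ((C : ℤ) - w) ((C : ℤ) * (u * B - v * A))
    (sub_ne_zero.mpr (Ne.symm hne))
  have hC' : (C : ℤ) = A + B - 1 := by linarith
  have hw' : w = u + v - 1 := by linarith
  push_cast
  rw [hw'] at h ⊢
  rw [hC'] at h ⊢
  linear_combination ((A : ℤ) + B) * ((A : ℤ) + B - 1) * h

/-- the arithmetic of the involution clause, `p` odd -/
theorem arith_odd {f₂ f₃ F : ℕ} (hf₂ : 0 < f₂) (hf₃ : 0 < f₃) (hF : 0 < F)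
    {x₂ x₃ x₄ a₂ a₃ δ : ℤ} (ha₂ : a₂ = 1 ∨ a₂ = -1) (ha₃ : a₃ = 1 ∨ a₃ = -1)
    (hδ : δ = 1 ∨ δ = -1)
    (E1 : 1 + a₂ * f₂ + a₃ * f₃ - δ * F = 0)
    (E1t : 1 + a₂ * x₂ + a₃ * x₃ - δ * x₄ = 0)
    (E2 : (f₂ : ℤ) * f₃ * F + a₂ * x₂ ^ 2 * (f₃ * F) + a₃ * x₃ ^ 2 * (f₂ * F) -
      δ * x₄ ^ 2 * (f₂ * f₃) = 0)
    (h2 : x₂ ≠ f₂) (h3 : x₃ ≠ f₃) (h4 : x₄ ≠ F) :
    ((if a₂ = -1 then 1 else 0) + (if a₃ = -1 then 1 else 0) + (if δ = 1 then 1 else 0) = 2) ∧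
      IsSquare (F * (f₂ * f₃)) := by
  have p₂ : (0 : ℤ) < f₂ := by exact_mod_cast hf₂
  have p₃ : (0 : ℤ) < f₃ := by exact_mod_cast hf₃
  have p₄ : (0 : ℤ) < F := by exact_mod_cast hF
  rcases ha₂ with rfl | rfl <;> rcases ha₃ with rfl | rfl <;> rcases hδ with rfl | rfl
  · -- (1, 1, 1)
    exfalso
    have := core_one (A := f₂) (B := f₃) (C := F) (u := x₂) (v := x₃) (w := x₄) p₂ p₃
      (by linarith) (by linarith) (by linear_combination E2)
    exact h2 this.1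
  · -- (1, 1, -1)
    exfalso
    linarith
  · -- (1, -1, 1)
    refine ⟨by norm_num, ?_⟩
    have := core_two (A := f₃) (B := F) (C := f₂) (u := x₃) (v := x₄) (w := x₂)
      (by linarith) (by linarith) (by linear_combination E2) h2
    rw [show F * (f₂ * f₃) = f₃ * F * f₂ by ring]
    exact this
  · -- (1, -1, -1)
    exfalso
    have := core_one (A := f₂) (B := F) (C := f₃) (u := x₂) (v := x₄) (w := x₃) p₂ p₄
      (by linarith) (by linarith) (by linear_combination E2)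
    exact h2 this.1
  · -- (-1, 1, 1)
    refine ⟨by norm_num, ?_⟩
    have := core_two (A := f₂) (B := F) (C := f₃) (u := x₂) (v := x₄) (w := x₃)
      (by linarith) (by linarith) (by linear_combination E2) h3
    rw [show F * (f₂ * f₃) = f₂ * F * f₃ by ring]
    exact this
  · -- (-1, 1, -1)
    exfalso
    have := core_one (A := f₃) (B := F) (C := f₂) (u := x₃) (v := x₄) (w := x₂) p₃ p₄
      (by linarith) (by linarith) (by linear_combination E2)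
    exact h3 this.1
  · -- (-1, -1, 1)
    exfalso
    linarith
  · -- (-1, -1, -1)
    refine ⟨by norm_num, ?_⟩
    have := core_two (A := f₂) (B := f₃) (C := F) (u := x₂) (v := x₃) (w := x₄)
      (by linarith) (by linarith) (by linear_combination E2) h4
    rw [show F * (f₂ * f₃) = f₂ * f₃ * F by ring]
    exact this

/-- the arithmetic of the involution clause, `p = 2`: no solutions -/
theorem arith_even {f₂ f₃ F : ℕ} {a₂ a₃ δ : ℤ} (ha₂ : a₂ = 1 ∨ a₂ = -1)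
    (ha₃ : a₃ = 1 ∨ a₃ = -1) (hδ : δ = 1 ∨ δ = -1)
    (hf₂ : (a₂ = 1 → 17 ≤ f₂) ∧ (a₂ = -1 → 15 ≤ f₂))
    (hf₃ : (a₃ = 1 → 17 ≤ f₃) ∧ (a₃ = -1 → 15 ≤ f₃))
    (hF : 0 < F) (hF' : δ = 1 → F = 3 ∨ 19 ≤ F)
    (E1 : 1 + a₂ * f₂ + a₃ * f₃ - δ * F = 0)
    (E2 : (F : ℤ) * (f₂ * f₃ + a₂ * f₃ + a₃ * f₂) = 9 * δ * (f₂ * f₃)) : False := by
  have p₄ : (0 : ℤ) < F := by exact_mod_cast hF
  rcases ha₂ with rfl | rfl <;> rcases ha₃ with rfl | rfl <;> rcases hδ with rfl | rfl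
  · -- (1, 1, 1)
    have g₂ : (17 : ℤ) ≤ f₂ := by exact_mod_cast hf₂.1 rfl
    have g₃ : (17 : ℤ) ≤ f₃ := by exact_mod_cast hf₃.1 rfl
    have hFe : (F : ℤ) = 1 + f₂ + f₃ := by linarith
    rw [hFe] at E2
    nlinarith [mul_pos (by linarith : (0 : ℤ) < f₂) (by linarith : (0 : ℤ) < f₃)]
  · -- (1, 1, -1)
    have g₂ : (17 : ℤ) ≤ f₂ := by exact_mod_cast hf₂.1 rfl
    have g₃ : (17 : ℤ) ≤ f₃ := by exact_mod_cast hf₃.1 rfl
    linarith
  · -- (1, -1, 1)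
    have g₂ : (17 : ℤ) ≤ f₂ := by exact_mod_cast hf₂.1 rfl
    have g₃ : (15 : ℤ) ≤ f₃ := by exact_mod_cast hf₃.2 rfl
    have hf₂e : (f₂ : ℤ) = F - 1 + f₃ := by linarith
    have key : (f₂ : ℤ) * f₃ * (F - 9) = F * (F - 1) := by
      rw [hf₂e] at E2 ⊢
      linear_combination E2
    rcases hF' rfl with h3 | h19
    · rw [h3] at key
      push_cast at key
      nlinarith [mul_pos (by linarith : (0 : ℤ) < f₂) (by linarith : (0 : ℤ) < f₃)]
    · have h19' : (19 : ℤ) ≤ F := by exact_mod_cast h19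
      have h1 : (15 : ℤ) * (F + 14) ≤ f₂ * f₃ := by nlinarith
      nlinarith
  · -- (1, -1, -1)
    have g₂ : (17 : ℤ) ≤ f₂ := by exact_mod_cast hf₂.1 rfl
    have g₃ : (15 : ℤ) ≤ f₃ := by exact_mod_cast hf₃.2 rfl
    nlinarith [mul_pos (by linarith : (0 : ℤ) < f₂) (by linarith : (0 : ℤ) < f₃)]
  · -- (-1, 1, 1)
    have g₂ : (15 : ℤ) ≤ f₂ := by exact_mod_cast hf₂.2 rfl
    have g₃ : (17 : ℤ) ≤ f₃ := by exact_mod_cast hf₃.1 rfl
    have hf₃e : (f₃ : ℤ) = F - 1 + f₂ := by linarith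
    have key : (f₂ : ℤ) * f₃ * (F - 9) = F * (F - 1) := by
      rw [hf₃e] at E2 ⊢
      linear_combination E2
    rcases hF' rfl with h3 | h19
    · rw [h3] at key
      push_cast at key
      nlinarith [mul_pos (by linarith : (0 : ℤ) < f₂) (by linarith : (0 : ℤ) < f₃)]
    · have h19' : (19 : ℤ) ≤ F := by exact_mod_cast h19
      have h1 : (15 : ℤ) * (F + 14) ≤ f₂ * f₃ := by nlinarith
      nlinarith
  · -- (-1, 1, -1)
    have g₂ : (15 : ℤ) ≤ f₂ := by exact_mod_cast hf₂.2 rfl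
    have g₃ : (17 : ℤ) ≤ f₃ := by exact_mod_cast hf₃.1 rfl
    nlinarith [mul_pos (by linarith : (0 : ℤ) < f₂) (by linarith : (0 : ℤ) < f₃)]
  · -- (-1, -1, 1)
    have g₂ : (15 : ℤ) ≤ f₂ := by exact_mod_cast hf₂.2 rfl
    have g₃ : (15 : ℤ) ≤ f₃ := by exact_mod_cast hf₃.2 rfl
    linarith
  · -- (-1, -1, -1)
    have g₂ : (15 : ℤ) ≤ f₂ := by exact_mod_cast hf₂.2 rfl
    have g₃ : (15 : ℤ) ≤ f₃ := by exact_mod_cast hf₃.2 rfl
    have h1 : (0 : ℤ) < (f₂ : ℤ) * f₃ + -1 * f₃ + -1 * f₂ := by nlinarith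
    have h2 := mul_pos p₄ h1
    have h3 : (0 : ℤ) < (f₂ : ℤ) * f₃ := mul_pos (by linarith) (by linarith)
    linarith

theorem deg_bound_X {q n f a δ : ℤ} (hq : 16 ≤ q) (hn : 0 ≤ n)
    (hf : f = q * n - (q - 1) * a + δ * 0) (hf0 : 0 < f) :
    (a = 1 → f ≠ 1 → 17 ≤ f) ∧ (a = -1 → 15 ≤ f) := by
  constructor
  · intro ha hne
    subst ha
    have h1 : 1 ≤ n := by
      by_contra hlt
      have : n ≤ 0 := by omega
      nlinarith
    have h2 : n ≠ 1 := by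
      intro h1'
      subst h1'
      apply hne
      linarith
    have h3 : 2 ≤ n := by omega
    nlinarith
  · intro ha
    subst ha
    nlinarith

theorem deg_bound_Y {q n F δ : ℤ} (hq : 16 ≤ q) (hn : 0 ≤ n)
    (hF : F = q * n - (q - 1) * 0 + δ * 3) : δ = 1 → F = 3 ∨ 19 ≤ F := by
  intro hδ
  subst hδ
  rcases eq_or_lt_of_le hn with h0 | h0
  · left
    rw [← h0] at hF
    linarith
  · right
    have h1 : 1 ≤ n := by omega
    nlinarith

end Cfsg.Agent.Lib.Helper80.BL3
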