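import Cfsg.Agent.Lib.Helper80.IrrApi

/-!
# Character values at involutions are integers
-/

set_option autoImplicit false

namespace Cfsg.Agent.Lib.Helper80

open Cfsg

theorem trace_int_of_sq_eq_one {V : Type*} [AddCommGroup V] [Module ℂ V] [FiniteDimensional ℂ V]
    (A : V →ₗ[ℂ] V) (hA : A * A = 1) : ∃ n : ℤ, LinearMap.trace ℂ V A = (n : ℂ) := by
  set e : V →ₗ[ℂ] V := (1 / 2 : ℂ) • (1 + A) with he
  have hid : IsIdempotentElem e := by
    unfold IsIdempotentElem
    rw [he, smul_mul_smul_comm, mul_add, add_mul, add_mul, one_mul, mul_one, one_mul, hA]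
    rw [show (1 : V →ₗ[ℂ] V) + A + (A + 1) = (2 : ℂ) • (1 + A) by
      rw [two_smul]; abel]
    rw [smul_smul]
    norm_num
  have h1 := (LinearMap.IsIdempotentElem.isProj_range e hid).trace
  have h2 : LinearMap.trace ℂ V e = (1 / 2 : ℂ) * ((Module.finrank ℂ V : ℂ) +
      LinearMap.trace ℂ V A) := by
    rw [he, map_smul, map_add, LinearMap.trace_one, smul_eq_mul]
  rw [h2] at h1
  refine ⟨2 * (Module.finrank ℂ (LinearMap.range e) : ℤ) - (Module.finrank ℂ V : ℤ), ?_⟩
  push_cast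
  linear_combination 2 * h1

theorem irr_involution_int {G : Type*} [Group G] [Finite G] (χ : Cfsg.IrrCharacter G) {t : G}
    (ht : t * t = 1) : ∃ n : ℤ, (χ : G → ℂ) t = (n : ℂ) := by
  obtain ⟨n, ρ, _, hρ⟩ := χ.2
  rw [← hρ]
  apply trace_int_of_sq_eq_one
  rw [← map_mul, ht, map_one]

end Cfsg.Agent.Lib.Helper80
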