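import Cfsg.Agent.Lib.Helper80.BL721b
import Cfsg.Agent.Lib.Helper80.BL721c
import Cfsg.Agent.Lib.Helper80.InvolutionInt
import Cfsg.Agent.Lib.Helper55.ZStarChar
import Cfsg.Agent.Lib.Helper80.Kernel

/-!
# Brauer–Leonard with `m = 3`: the structure of `X` and the involution clause
-/

set_option autoImplicit false
set_option linter.unusedSectionVars false
set_option linter.style.haveILetI false

universe u

namespace Cfsg.Agent.Lib.Helper80.BL3

open Cfsg Subgroup Cfsg.Agent.Lib.Helper1.BL Cfsg.Agent.Lib.Helper81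
open scoped ComplexConjugate

section Struct

variable {G : Type u} [Group G] [Fintype G] {p : ℕ} [hp : Fact p.Prime] (P : Sylow p G)
  [Fintype ↥(P : Subgroup G)] [Fintype ↥(normalizer ((P : Subgroup G) : Set G))]
  [Fintype (IrrCharacter G)] [Fintype (↥(P : Subgroup G) →* ℂˣ)] {M : Ideal AlgInt}

theorem int_sq_eq_one {a : ℤ} (h : a ^ 2 = 1) : a = 1 ∨ a = -1 := by
  have : (a - 1) * (a + 1) = 0 := by nlinarith
  rcases mul_eq_zero.mp this with h | h
  · left; omega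
  · right; omega

open Classical in
/-- with `d = 0` the set `X` consists of the principal character and two more characters with
`a = ±1` -/
theorem X_structure [IsMulCommutative P] (hM : IsPModular p M) (hf : FreeAct P)
    (hm : Nat.card ↥(normalizer ((P : Subgroup G) : Set G)) =
      3 * Nat.card ↥(centralizer ((P : Subgroup G) : Set G)))
    (hm2 : 3 + 1 < Nat.card ↥(P : Subgroup G)) (D : BLData P M 3) (hd : D.d = 0) :
    ∃ χ₂ χ₃ : IrrCharacter G, χ₂ ≠ χ₃ ∧ χ₂ ≠ oneIrr G ∧ χ₃ ≠ oneIrr G ∧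
      Finset.univ.filter (fun χ : IrrCharacter G => χ ∈ Xset P D) = {oneIrr G, χ₂, χ₃} ∧
      (D.a χ₂ = 1 ∨ D.a χ₂ = -1) ∧ (D.a χ₃ = 1 ∨ D.a χ₃ = -1) := by
  have hP1 : Nat.card ↥(P : Subgroup G) ≠ 1 := by omega
  have hnorm := norm_eq P D
  rw [hd] at hnorm
  set Xf := Finset.univ.filter (fun χ : IrrCharacter G => χ ∈ Xset P D) with hXf
  have hS : ∑ χ ∈ Xf, D.a χ ^ 2 = 3 := by
    push_cast at hnorm
    linarith
  have h1X := one_mem_Xset P hM hf hm hm2 D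
  have ha1 := a_one P hM hf hm hm2 hP1 D
  have h1Xf : oneIrr G ∈ Xf := Finset.mem_filter.mpr ⟨Finset.mem_univ _, h1X⟩
  set X' := Xf.erase (oneIrr G) with hX'
  have hS' : ∑ χ ∈ X', D.a χ ^ 2 = 2 := by
    have := Finset.add_sum_erase Xf (fun χ => D.a χ ^ 2) h1Xf
    simp only [ha1] at this
    linarith
  have hge : ∀ χ ∈ X', 1 ≤ D.a χ ^ 2 := by
    intro χ hχ
    have hχX : χ ∈ Xset P D := (Finset.mem_filter.mp (Finset.mem_of_mem_erase hχ)).2
    have hne0 := X_a_ne P hM hP1 D hχX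
    have : 0 < D.a χ ^ 2 := by positivity
    linarith
  have hcard_le : (X'.card : ℤ) ≤ 2 := by
    rw [← hS', Finset.card_eq_sum_ones, Nat.cast_sum]
    refine Finset.sum_le_sum fun χ hχ => ?_
    have := hge χ hχ
    push_cast
    linarith
  have hcard_le' : X'.card ≤ 2 := by exact_mod_cast hcard_le
  have hcard : X'.card = 2 := by
    interval_cases hc : X'.card
    · exfalso
      rw [Finset.card_eq_zero.mp hc, Finset.sum_empty] at hS'
      omega
    · exfalso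
      obtain ⟨χ, hχ⟩ := Finset.card_eq_one.mp hc
      rw [hχ, Finset.sum_singleton] at hS'
      have h1 : D.a χ ≤ 1 := by nlinarith
      have h2 : -1 ≤ D.a χ := by nlinarith
      interval_cases D.a χ <;> omega
    · rfl
  obtain ⟨χ₂, χ₃, hne, hX'eq⟩ := Finset.card_eq_two.mp hcard
  have hχ₂ : χ₂ ∈ X' := by rw [hX'eq]; simp
  have hχ₃ : χ₃ ∈ X' := by rw [hX'eq]; simp
  rw [hX'eq, Finset.sum_pair hne] at hS'
  have g₂ := hge χ₂ hχ₂
  have g₃ := hge χ₃ hχ₃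
  refine ⟨χ₂, χ₃, hne, Finset.ne_of_mem_erase hχ₂, Finset.ne_of_mem_erase hχ₃, ?_,
    int_sq_eq_one (by linarith), int_sq_eq_one (by linarith)⟩
  rw [← Finset.insert_erase h1Xf, ← hX', hX'eq]

end Struct

section Kernel

variable {G : Type u} [Group G] [Finite G]

theorem apply_ne_degree {t : G} (ht : ∀ K : Subgroup G, K.Normal → t ∈ K → K = ⊤)
    (χ : IrrCharacter G) (hχ : χ ≠ oneIrr G) : (χ : G → ℂ) t ≠ (χ : G → ℂ) 1 := by
  intro h
  have hmem : t ∈ Cfsg.Agent.Lib.Helper79.charKer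
      (Cfsg.Agent.Lib.Helper3.IsIrrCharacter.isCharacter χ.2) :=
    (Cfsg.Agent.Lib.Helper79.mem_charKer _ t).mpr h
  exact Cfsg.Agent.Lib.Helper55.zs_charKer_ne_top χ hχ (ht _ inferInstance hmem)

end Kernel

section Eqs

variable {G : Type u} [Group G] [Fintype G] {p : ℕ} [hp : Fact p.Prime] (P : Sylow p G)
  [Fintype ↥(P : Subgroup G)] [Fintype ↥(normalizer ((P : Subgroup G) : Set G))]
  [Fintype (IrrCharacter G)] [Fintype (↥(P : Subgroup G) →* ℂˣ)] {M : Ideal AlgInt}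

open Classical in
/-- the relation on `p`-regular elements, with `d = 0` and `X = {1, χ₂, χ₃}` -/
theorem E1_gen [IsMulCommutative P] (hM : IsPModular p M) (D : BLData P M 3) (hd : D.d = 0)
    {χ₂ χ₃ : IrrCharacter G} (h23 : χ₂ ≠ χ₃) (h2 : χ₂ ≠ oneIrr G) (h3 : χ₃ ≠ oneIrr G)
    (hX : Finset.univ.filter (fun χ : IrrCharacter G => χ ∈ Xset P D) = {oneIrr G, χ₂, χ₃})
    (ha1 : D.a (oneIrr G) = 1)
    {η : IrrCharacter G} (hη : η ∈ Yset P D) {g : G} (hg : ¬ p ∣ orderOf g) :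
    1 + (D.a χ₂ : ℂ) * (χ₂ : G → ℂ) g + (D.a χ₃ : ℂ) * (χ₃ : G → ℂ) g -
      (D.δ : ℂ) * (η : G → ℂ) g = 0 := by
  have h := preg_sum P hM D hη hg
  rw [hX, hd, Finset.sum_insert (by simp [h2.symm, h3.symm]), Finset.sum_insert (by simp [h23]),
    Finset.sum_singleton, ha1] at h
  have h1 : ((oneIrr G : IrrCharacter G) : G → ℂ) g = 1 := rfl
  rw [h1] at h
  push_cast at h
  linear_combination h

open Classical in
/-- the sum of the conjugates of the exceptional characters at a nontrivial element of `P` -/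
theorem sum_Y_conj [IsMulCommutative P] (hM : IsPModular p M) (D : BLData P M 3) (hd : D.d = 0)
    {η : IrrCharacter G} (hη : η ∈ Yset P D) {u : ↥(P : Subgroup G)} (hu : u ≠ 1) :
    ∑ η' ∈ Finset.univ.filter (fun χ : IrrCharacter G => χ ∈ Yset P D),
      conj ((η' : G → ℂ) (u : G)) = -(D.δ : ℂ) := by
  have hreg : ¬ p ∣ orderOf (1 : G) := by
    rw [orderOf_one]
    exact fun h => hp.out.one_lt.ne' (Nat.dvd_one.mp h)
  have hs := preg_sum P hM D hη hreg
  rw [hd] at hs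
  have hu1 : (u : G) ≠ 1 := fun h => hu (Subtype.ext h)
  have horth := Cfsg.Agent.Lib.Helper77.IdemTrace.strong_block_orthogonality_finset hM (oneIrr G)
    (g := (1 : G)) (h := (u : G)) (x := 1) (y := (u : G))
    (isPPart_self ⟨0, by rw [orderOf_one, pow_zero]⟩)
    (isPPart_self (orderOf_pow_of_mem P u.2))
    (by
      rw [isConj_one_right]
      exact hu1)
  have horth' : ∑ χ ∈ Finset.univ.filter (fun χ : IrrCharacter G => χ ∈ principalBlock M G),
      (χ : G → ℂ) 1 * conj ((χ : G → ℂ) (u : G)) = 0 := horth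
  rw [sum_split P D] at horth'
  have hXpart : ∑ χ ∈ Finset.univ.filter (fun χ : IrrCharacter G => χ ∈ Xset P D),
      (χ : G → ℂ) 1 * conj ((χ : G → ℂ) (u : G)) =
      ∑ χ ∈ Finset.univ.filter (fun χ : IrrCharacter G => χ ∈ Xset P D),
        (D.a χ : ℂ) * (χ : G → ℂ) 1 := by
    refine Finset.sum_congr rfl fun χ hχ => ?_
    rw [X_value P D (Finset.mem_filter.mp hχ).2 hu, map_intCast, mul_comm]
  have hYpart : ∑ χ ∈ Finset.univ.filter (fun χ : IrrCharacter G => χ ∈ Yset P D),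
      (χ : G → ℂ) 1 * conj ((χ : G → ℂ) (u : G)) =
      (η : G → ℂ) 1 * ∑ χ ∈ Finset.univ.filter (fun χ : IrrCharacter G => χ ∈ Yset P D),
        conj ((χ : G → ℂ) (u : G)) := by
    rw [Finset.mul_sum]
    refine Finset.sum_congr rfl fun χ hχ => ?_
    rw [preg_Y_eq P hM D (Finset.mem_filter.mp hχ).2 hη hreg]
  rw [hXpart, hYpart] at horth'
  have hη1 : (η : G → ℂ) 1 ≠ 0 := by
    rw [irr_apply_one_eq_charDegree]
    exact_mod_cast (Cfsg.Agent.Lib.Helper80.irr_charDegree_pos η).ne'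
  have : (η : G → ℂ) 1 * ((D.δ : ℂ) +
      ∑ χ ∈ Finset.univ.filter (fun χ : IrrCharacter G => χ ∈ Yset P D),
        conj ((χ : G → ℂ) (u : G))) = 0 := by
    linear_combination horth' - hs
  rcases mul_eq_zero.mp this with h | h
  · exact absurd h hη1
  · linear_combination h

open Classical in
/-- the block class constant relation, when the products of two conjugates of `t` avoid the
section of `u`, in terms of the exceptional sum -/
theorem E2_gen [IsMulCommutative P] (hM : IsPModular p M) (hf : FreeAct P)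
    (hCN : (centralizer ((P : Subgroup G) : Set G)).relIndex
      (normalizer ((P : Subgroup G) : Set G)) = 3)
    (D : BLData P M 3)
    {χ₂ χ₃ : IrrCharacter G} (h23 : χ₂ ≠ χ₃) (h2 : χ₂ ≠ oneIrr G) (h3 : χ₃ ≠ oneIrr G)
    (hX : Finset.univ.filter (fun χ : IrrCharacter G => χ ∈ Xset P D) = {oneIrr G, χ₂, χ₃})
    {t : G} (ht : t * t = 1) {u : ↥(P : Subgroup G)} (hu : u ≠ 1)
    (hcase : (u : G) * (u : G) = 1 → t ∈ (P : Subgroup G) ∧
      ∀ n ∈ normalizer ((P : Subgroup G) : Set G), n * t * n⁻¹ ≠ (u : G)) :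
    1 + (D.a χ₂ : ℂ) * (χ₂ : G → ℂ) t ^ 2 / (χ₂ : G → ℂ) 1 +
      (D.a χ₃ : ℂ) * (χ₃ : G → ℂ) t ^ 2 / (χ₃ : G → ℂ) 1 +
      ∑ η' ∈ Finset.univ.filter (fun χ : IrrCharacter G => χ ∈ Yset P D),
        (η' : G → ℂ) t * (η' : G → ℂ) t * conj ((η' : G → ℂ) (u : G)) / (η' : G → ℂ) 1 = 0 := by
  have hu1 : (u : G) ≠ 1 := fun h => hu (Subtype.ext h)
  have h0 := block_class_constant_eq_zero hM (oneIrr G) t t (u : G)
    (fun s a b ha hb => section_hyp P hf hCN ht u.2 hu1 hcase s a b ha hb)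
  have h0' : ∑ χ ∈ Finset.univ.filter (fun χ : IrrCharacter G => χ ∈ principalBlock M G),
      (χ : G → ℂ) t * (χ : G → ℂ) t * conj ((χ : G → ℂ) (u : G)) / (χ : G → ℂ) 1 = 0 := h0
  rw [sum_split P D, hX, Finset.sum_insert (by simp [h2.symm, h3.symm]),
    Finset.sum_insert (by simp [h23]), Finset.sum_singleton] at h0'
  have hm2 : χ₂ ∈ Xset P D := by
    have : χ₂ ∈ Finset.univ.filter (fun χ : IrrCharacter G => χ ∈ Xset P D) := by
      rw [hX]; simp
    exact (Finset.mem_filter.mp this).2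
  have hm3 : χ₃ ∈ Xset P D := by
    have : χ₃ ∈ Finset.univ.filter (fun χ : IrrCharacter G => χ ∈ Xset P D) := by
      rw [hX]; simp
    exact (Finset.mem_filter.mp this).2
  rw [X_value P D hm2 hu, X_value P D hm3 hu, map_intCast, map_intCast] at h0'
  have h1 : ∀ g : G, ((oneIrr G : IrrCharacter G) : G → ℂ) g = 1 := fun _ => rfl
  rw [h1, h1, h1, map_one] at h0'
  linear_combination h0'

open Classical in
/-- the block class constant relation for `p`-regular `t` -/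
theorem E2_odd [IsMulCommutative P] (hM : IsPModular p M) (hf : FreeAct P)
    (hCN : (centralizer ((P : Subgroup G) : Set G)).relIndex
      (normalizer ((P : Subgroup G) : Set G)) = 3)
    (D : BLData P M 3) (hd : D.d = 0)
    {χ₂ χ₃ : IrrCharacter G} (h23 : χ₂ ≠ χ₃) (h2 : χ₂ ≠ oneIrr G) (h3 : χ₃ ≠ oneIrr G)
    (hX : Finset.univ.filter (fun χ : IrrCharacter G => χ ∈ Xset P D) = {oneIrr G, χ₂, χ₃})
    {η : IrrCharacter G} (hη : η ∈ Yset P D)
    {t : G} (ht : t * t = 1) (hreg : ¬ p ∣ orderOf t) {u : ↥(P : Subgroup G)} (hu : u ≠ 1)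
    (hu2 : (u : G) * (u : G) ≠ 1) :
    1 + (D.a χ₂ : ℂ) * (χ₂ : G → ℂ) t ^ 2 / (χ₂ : G → ℂ) 1 +
      (D.a χ₃ : ℂ) * (χ₃ : G → ℂ) t ^ 2 / (χ₃ : G → ℂ) 1 -
      (D.δ : ℂ) * (η : G → ℂ) t ^ 2 / (η : G → ℂ) 1 = 0 := by
  have h := E2_gen P hM hf hCN D h23 h2 h3 hX ht hu (fun h => absurd h hu2)
  have hreg1 : ¬ p ∣ orderOf (1 : G) := by
    rw [orderOf_one]
    exact fun h => hp.out.one_lt.ne' (Nat.dvd_one.mp h)
  have hY : ∑ η' ∈ Finset.univ.filter (fun χ : IrrCharacter G => χ ∈ Yset P D),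
      (η' : G → ℂ) t * (η' : G → ℂ) t * conj ((η' : G → ℂ) (u : G)) / (η' : G → ℂ) 1 =
      (η : G → ℂ) t ^ 2 / (η : G → ℂ) 1 *
        ∑ η' ∈ Finset.univ.filter (fun χ : IrrCharacter G => χ ∈ Yset P D),
          conj ((η' : G → ℂ) (u : G)) := by
    rw [Finset.mul_sum]
    refine Finset.sum_congr rfl fun χ hχ => ?_
    rw [preg_Y_eq P hM D (Finset.mem_filter.mp hχ).2 hη hreg,
      preg_Y_eq P hM D (Finset.mem_filter.mp hχ).2 hη hreg1]
    ring
  rw [hY, sum_Y_conj P hM D hd hη hu] at h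
  linear_combination h

end Eqs

section Odd

variable {G : Type u} [Group G] [Fintype G] {p : ℕ} [hp : Fact p.Prime] (P : Sylow p G)
  [Fintype ↥(P : Subgroup G)] [Fintype ↥(normalizer ((P : Subgroup G) : Set G))]
  [Fintype (IrrCharacter G)] [Fintype (↥(P : Subgroup G) →* ℂˣ)] {M : Ideal AlgInt}

open Classical in
/-- the involution clause for odd `p` -/
theorem involution_clause_odd [IsMulCommutative P] (hM : IsPModular p M) (hf : FreeAct P)
    (hCN : (centralizer ((P : Subgroup G) : Set G)).relIndex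
      (normalizer ((P : Subgroup G) : Set G)) = 3)
    (hm : Nat.card ↥(normalizer ((P : Subgroup G) : Set G)) =
      3 * Nat.card ↥(centralizer ((P : Subgroup G) : Set G)))
    (hm2 : 3 + 1 < Nat.card ↥(P : Subgroup G))
    (D : BLData P M 3) (hd : D.d = 0)
    {χ₂ χ₃ : IrrCharacter G} (h23 : χ₂ ≠ χ₃) (h2 : χ₂ ≠ oneIrr G) (h3 : χ₃ ≠ oneIrr G)
    (hX : Finset.univ.filter (fun χ : IrrCharacter G => χ ∈ Xset P D) = {oneIrr G, χ₂, χ₃})
    (ha₂ : D.a χ₂ = 1 ∨ D.a χ₂ = -1) (ha₃ : D.a χ₃ = 1 ∨ D.a χ₃ = -1)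
    (hp2 : p ≠ 2) {t : G} (hto : orderOf t = 2)
    (htK : ∀ K : Subgroup G, K.Normal → t ∈ K → K = ⊤)
    {η : IrrCharacter G} (hη : η ∈ Yset P D) :
    ((if D.a χ₂ = -1 then 1 else 0) + (if D.a χ₃ = -1 then 1 else 0) +
      (if D.δ = 1 then 1 else 0) = 2) ∧
    IsSquare (charDegree (η : G → ℂ) * (charDegree (χ₂ : G → ℂ) * charDegree (χ₃ : G → ℂ))) := by
  have hP1 : Nat.card ↥(P : Subgroup G) ≠ 1 := by omega
  have ha1 := a_one P hM hf hm hm2 hP1 D
  have ht : t * t = 1 := by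
    have := pow_orderOf_eq_one t
    rwa [hto, pow_two] at this
  have hreg : ¬ p ∣ orderOf t := by
    rw [hto]
    intro h
    exact hp2 ((Nat.prime_dvd_prime_iff_eq hp.out Nat.prime_two).mp h)
  have hreg1 : ¬ p ∣ orderOf (1 : G) := by
    rw [orderOf_one]
    exact fun h => hp.out.one_lt.ne' (Nat.dvd_one.mp h)
  obtain ⟨u, hu⟩ := exists_ne_one_elt P hP1
  have hu2 : (u : G) * (u : G) ≠ 1 := by
    intro h
    obtain ⟨k, hk⟩ := orderOf_pow_of_mem P u.2
    have hdvd : orderOf (u : G) ∣ 2 := orderOf_dvd_of_pow_eq_one (by rw [pow_two]; exact h)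
    rw [hk] at hdvd
    have hk0 : k = 0 := by
      by_contra hk0
      have : p ∣ 2 := dvd_trans (dvd_pow_self p hk0) hdvd
      exact hp2 ((Nat.prime_dvd_prime_iff_eq hp.out Nat.prime_two).mp this)
    rw [hk0, pow_zero] at hk
    exact hu (Subtype.ext (orderOf_eq_one_iff.mp hk))
  obtain ⟨x₂, hx₂⟩ := irr_involution_int χ₂ ht
  obtain ⟨x₃, hx₃⟩ := irr_involution_int χ₃ ht
  obtain ⟨x₄, hx₄⟩ := irr_involution_int η ht
  have e1 := E1_gen P hM D hd h23 h2 h3 hX ha1 hη hreg1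
  have e1t := E1_gen P hM D hd h23 h2 h3 hX ha1 hη hreg
  have e2 := E2_odd P hM hf hCN D hd h23 h2 h3 hX hη ht hreg hu hu2
  rw [irr_apply_one_eq_charDegree χ₂, irr_apply_one_eq_charDegree χ₃,
    irr_apply_one_eq_charDegree η] at e1 e2
  rw [hx₂, hx₃, hx₄] at e1t e2
  set f₂ := charDegree (χ₂ : G → ℂ) with hf₂
  set f₃ := charDegree (χ₃ : G → ℂ) with hf₃
  set F := charDegree (η : G → ℂ) with hF
  have p₂ : 0 < f₂ := irr_charDegree_pos χ₂
  have p₃ : 0 < f₃ := irr_charDegree_pos χ₃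
  have p₄ : 0 < F := irr_charDegree_pos η
  have c₂ : (f₂ : ℂ) ≠ 0 := by exact_mod_cast p₂.ne'
  have c₃ : (f₃ : ℂ) ≠ 0 := by exact_mod_cast p₃.ne'
  have c₄ : (F : ℂ) ≠ 0 := by exact_mod_cast p₄.ne'
  have E1 : 1 + D.a χ₂ * (f₂ : ℤ) + D.a χ₃ * (f₃ : ℤ) - D.δ * (F : ℤ) = 0 := by
    exact_mod_cast e1
  have E1t : 1 + D.a χ₂ * x₂ + D.a χ₃ * x₃ - D.δ * x₄ = 0 := by
    exact_mod_cast e1t
  have E2 : (f₂ : ℤ) * f₃ * F + D.a χ₂ * x₂ ^ 2 * (f₃ * F) + D.a χ₃ * x₃ ^ 2 * (f₂ * F) -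
      D.δ * x₄ ^ 2 * (f₂ * f₃) = 0 := by
    have : ((f₂ : ℂ) * f₃ * F + (D.a χ₂ : ℂ) * (x₂ : ℂ) ^ 2 * (f₃ * F) +
        (D.a χ₃ : ℂ) * (x₃ : ℂ) ^ 2 * (f₂ * F) - (D.δ : ℂ) * (x₄ : ℂ) ^ 2 * (f₂ * f₃)) = 0 := by
      have := congrArg (fun z => z * ((f₂ : ℂ) * f₃ * F)) e2
      simp only [zero_mul] at this
      rw [← this]
      field_simp
    exact_mod_cast this
  have hη1 : η ≠ oneIrr G := by
    obtain ⟨ψ, hψ, rfl⟩ := hη
    exact zeta_ne_one P hM hf hm hm2 D hψ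
  have n2 : x₂ ≠ (f₂ : ℤ) := by
    intro h
    apply apply_ne_degree htK χ₂ h2
    rw [hx₂, irr_apply_one_eq_charDegree, h]
    push_cast
    rfl
  have n3 : x₃ ≠ (f₃ : ℤ) := by
    intro h
    apply apply_ne_degree htK χ₃ h3
    rw [hx₃, irr_apply_one_eq_charDegree, h]
    push_cast
    rfl
  have n4 : x₄ ≠ (F : ℤ) := by
    intro h
    apply apply_ne_degree htK η hη1
    rw [hx₄, irr_apply_one_eq_charDegree, h]
    push_cast
    rfl
  exact arith_odd p₂ p₃ p₄ ha₂ ha₃ D.hδ E1 E1t E2 n2 n3 n4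

end Odd

end Cfsg.Agent.Lib.Helper80.BL3
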