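import Cfsg.Agent.Lib.Helper80.BL721e

/-!
# Brauer–Leonard with `m = 3`: the exceptional sum for `p = 2`
-/

set_option autoImplicit false
set_option linter.unusedSectionVars false
set_option linter.style.haveILetI false

universe u

namespace Cfsg.Agent.Lib.Helper80.BL3

open Cfsg Subgroup Cfsg.Agent.Lib.Helper1.BL Cfsg.Agent.Lib.Helper81
open scoped ComplexConjugate

section Ssum

variable {G : Type u} [Group G] [Fintype G] {p : ℕ} [hp : Fact p.Prime] (P : Sylow p G)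
  [Fintype ↥(P : Subgroup G)] [Fintype ↥(normalizer ((P : Subgroup G) : Set G))]
  [Fintype (IrrCharacter G)] [Fintype (↥(P : Subgroup G) →* ℂˣ)] {M : Ideal AlgInt}

/-- the sum of the values of the `N`-conjugates of `ψ` at `u`, with multiplicity `#C` -/
noncomputable def Ssum (ψ : ↥(P : Subgroup G) →* ℂˣ) (u : ↥(P : Subgroup G)) : ℂ :=
  ∑ x : ↥(normalizer ((P : Subgroup G) : Set G)), ((twist P x ψ u : ℂˣ) : ℂ)

theorem Ssum_one (u : ↥(P : Subgroup G)) :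
    Ssum P 1 u = (Nat.card ↥(normalizer ((P : Subgroup G) : Set G)) : ℂ) := by
  unfold Ssum
  simp only [twist_one_hom, MonoidHom.one_apply, Units.val_one, Finset.sum_const, Finset.card_univ,
    nsmul_eq_mul, mul_one, Nat.card_eq_fintype_card]

open Classical in
theorem Ssum_eq [IsMulCommutative P] (hf : FreeAct P) {ψ : ↥(P : Subgroup G) →* ℂˣ} (hψ : ψ ≠ 1)
    (u : ↥(P : Subgroup G)) :
    Ssum P ψ u = (Nat.card ↥(centralizer ((P : Subgroup G) : Set G)) : ℂ) *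
      ∑ l ∈ Finset.univ.filter (fun l : ↥(P : Subgroup G) →* ℂˣ => Rel P ψ l),
        ((l u : ℂˣ) : ℂ) := by
  unfold Ssum
  have h1 : ∀ x : ↥(normalizer ((P : Subgroup G) : Set G)), ((twist P x ψ u : ℂˣ) : ℂ) =
      ∑ l : ↥(P : Subgroup G) →* ℂˣ, if twist P x ψ = l then ((l u : ℂˣ) : ℂ) else 0 := by
    intro x
    rw [Finset.sum_ite_eq Finset.univ (twist P x ψ), if_pos (Finset.mem_univ _)]
  rw [Finset.sum_congr rfl fun x _ => h1 x, Finset.sum_comm, Finset.mul_sum, Finset.sum_filter]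
  refine Finset.sum_congr rfl fun l _ => ?_
  rw [← Finset.sum_filter, Finset.sum_const, nsmul_eq_mul]
  by_cases hl : l = 1
  · subst hl
    have hempty : Finset.univ.filter
        (fun x : ↥(normalizer ((P : Subgroup G) : Set G)) => twist P x ψ = 1) = ∅ := by
      rw [Finset.filter_eq_empty_iff]
      intro x _ hx
      exact twist_ne_one P x hψ hx
    rw [hempty, Finset.card_empty, Nat.cast_zero, zero_mul,
      if_neg (fun h => hψ ((rel_one_iff P ψ).mp h))]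
  · rw [count_twist P hf hl]
    by_cases hr : Rel P ψ l
    · rw [if_pos (rel_symm P hr), if_pos hr]
    · rw [if_neg (fun h => hr (rel_symm P h)), if_neg hr, zero_mul]

/-- the conjugation map on elements -/
theorem twist_apply_conjP (x : ↥(normalizer ((P : Subgroup G) : Set G)))
    (l : ↥(P : Subgroup G) →* ℂˣ) (y : ↥(P : Subgroup G)) :
    twist P x l y = l (conjP P x y) := rfl

open Classical in
/-- the triple product of the `Ssum`, summed over the whole dual group -/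
theorem sum_Ssum_triple [IsMulCommutative P] (u₁ u₂ u₃ : ↥(P : Subgroup G)) :
    ∑ ψ : ↥(P : Subgroup G) →* ℂˣ, Ssum P ψ u₁ * Ssum P ψ u₂ * conj (Ssum P ψ u₃) =
      ∑ x₁ : ↥(normalizer ((P : Subgroup G) : Set G)),
        ∑ x₂ : ↥(normalizer ((P : Subgroup G) : Set G)),
          ∑ x₃ : ↥(normalizer ((P : Subgroup G) : Set G)),
            if conjP P x₁ u₁ * conjP P x₂ u₂ * (conjP P x₃ u₃)⁻¹ = 1 then
              (Fintype.card ↥(P : Subgroup G) : ℂ) else 0 := by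
  have hc : ∀ a b : ↥(P : Subgroup G), a * b = b * a := fun a b =>
    Subtype.ext (comm_of_mem P a.2 b.2)
  have h1 : ∀ ψ : ↥(P : Subgroup G) →* ℂˣ,
      Ssum P ψ u₁ * Ssum P ψ u₂ * conj (Ssum P ψ u₃) =
      ∑ x₁ : ↥(normalizer ((P : Subgroup G) : Set G)),
        ∑ x₂ : ↥(normalizer ((P : Subgroup G) : Set G)),
          ∑ x₃ : ↥(normalizer ((P : Subgroup G) : Set G)),
            ((ψ (conjP P x₁ u₁ * conjP P x₂ u₂ * (conjP P x₃ u₃)⁻¹) : ℂˣ) : ℂ) := by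
    intro ψ
    unfold Ssum
    rw [map_sum, Finset.sum_mul_sum, Finset.sum_mul]
    refine Finset.sum_congr rfl fun x₁ _ => ?_
    rw [Finset.sum_mul]
    refine Finset.sum_congr rfl fun x₂ _ => ?_
    rw [Finset.mul_sum]
    refine Finset.sum_congr rfl fun x₃ _ => ?_
    rw [Cfsg.Agent.Lib.Helper25.conj_hom_apply, twist_apply_conjP, twist_apply_conjP,
      twist_apply_conjP, map_mul, map_mul, map_inv (conjP P x₃), Units.val_mul, Units.val_mul]
  rw [Finset.sum_congr rfl fun ψ _ => h1 ψ, Finset.sum_comm]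
  refine Finset.sum_congr rfl fun x₁ _ => ?_
  rw [Finset.sum_comm]
  refine Finset.sum_congr rfl fun x₂ _ => ?_
  rw [Finset.sum_comm]
  refine Finset.sum_congr rfl fun x₃ _ => ?_
  exact sum_dual_apply hc _

open Classical in
/-- the exceptional sum at an involution `t₀ ∈ P` and an element `y'` of `P` not conjugate to it -/
theorem sum_Ssum_ne_one [IsMulCommutative P] (hf : FreeAct P)
    (hCN : (centralizer ((P : Subgroup G) : Set G)).relIndex
      (normalizer ((P : Subgroup G) : Set G)) = 3)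
    {t₀ y' : ↥(P : Subgroup G)} (ht₀ : (t₀ : G) * (t₀ : G) = 1) (hy'1 : y' ≠ 1)
    (hne : ∀ n ∈ normalizer ((P : Subgroup G) : Set G), n * (t₀ : G) * n⁻¹ ≠ (y' : G)) :
    ∑ ψ ∈ Finset.univ.filter (fun l : ↥(P : Subgroup G) →* ℂˣ => l ≠ 1),
      Ssum P ψ t₀ * Ssum P ψ t₀ * conj (Ssum P ψ y') =
      -((Nat.card ↥(normalizer ((P : Subgroup G) : Set G)) : ℂ)) ^ 3 := by
  have htot := sum_Ssum_triple P t₀ t₀ y'
  have hzero : ∀ x₁ x₂ x₃ : ↥(normalizer ((P : Subgroup G) : Set G)),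
      (if conjP P x₁ t₀ * conjP P x₂ t₀ * (conjP P x₃ y')⁻¹ = 1 then
        (Fintype.card ↥(P : Subgroup G) : ℂ) else 0) = 0 := by
    intro x₁ x₂ x₃
    rw [if_neg]
    intro h
    have h' : conjP P x₁ t₀ * conjP P x₂ t₀ = conjP P x₃ y' := mul_inv_eq_one.mp h
    have h'' : (x₁ : G) * (t₀ : G) * (x₁ : G)⁻¹ * ((x₂ : G) * (t₀ : G) * (x₂ : G)⁻¹) =
        (x₃ : G) * (y' : G) * (x₃ : G)⁻¹ := congrArg Subtype.val h'
    rcases orbit_prod P hf hCN t₀.2 ht₀ x₁.2 x₂.2 with h1 | ⟨n, hn, h1⟩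
    · rw [h1] at h''
      apply hy'1
      apply Subtype.ext
      have : (y' : G) = (x₃ : G)⁻¹ * ((x₃ : G) * (y' : G) * (x₃ : G)⁻¹) * (x₃ : G) := by group
      rw [this, ← h'']
      simp
    · rw [h1] at h''
      apply hne ((x₃ : G)⁻¹ * n) (mul_mem (inv_mem x₃.2) hn)
      calc (x₃ : G)⁻¹ * n * (t₀ : G) * ((x₃ : G)⁻¹ * n)⁻¹
          = (x₃ : G)⁻¹ * (n * (t₀ : G) * n⁻¹) * (x₃ : G) := by group
        _ = (y' : G) := by rw [h'']; group
  simp only [hzero, Finset.sum_const_zero] at htot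
  rw [← Finset.sum_filter_add_sum_filter_not Finset.univ
    (fun l : ↥(P : Subgroup G) →* ℂˣ => l ≠ 1)] at htot
  have hone : Finset.univ.filter (fun l : ↥(P : Subgroup G) →* ℂˣ => ¬ l ≠ 1) = {1} := by
    ext l
    simp
  rw [hone, Finset.sum_singleton, Ssum_one, Ssum_one, map_natCast] at htot
  linear_combination htot

open Classical in
/-- summing over the nontrivial linear characters versus summing over the exceptional characters -/
theorem sum_zeta [IsMulCommutative P] (hf : FreeAct P)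
    (hm : Nat.card ↥(normalizer ((P : Subgroup G) : Set G)) =
      3 * Nat.card ↥(centralizer ((P : Subgroup G) : Set G)))
    (D : BLData P M 3) (g : IrrCharacter G → ℂ) :
    ∑ ψ ∈ Finset.univ.filter (fun l : ↥(P : Subgroup G) →* ℂˣ => l ≠ 1), g (D.ζ ψ) =
      3 * ∑ η ∈ Finset.univ.filter (fun χ : IrrCharacter G => χ ∈ Yset P D), g η := by
  rw [← Finset.sum_fiberwise_of_maps_to (s := Finset.univ.filter
    (fun l : ↥(P : Subgroup G) →* ℂˣ => l ≠ 1))
    (t := Finset.univ.filter (fun χ : IrrCharacter G => χ ∈ Yset P D)) (g := D.ζ)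
    (fun l hl => Finset.mem_filter.mpr ⟨Finset.mem_univ _, ⟨l, (Finset.mem_filter.mp hl).2, rfl⟩⟩),
    Finset.mul_sum]
  refine Finset.sum_congr rfl fun η hη => ?_
  obtain ⟨ψ, hψ, rfl⟩ := (Finset.mem_filter.mp hη).2
  rw [Finset.sum_congr rfl fun l hl => by rw [(Finset.mem_filter.mp hl).2], Finset.sum_const,
    Finset.filter_filter, fiber_eq P D hψ, class_card' P hf hm hψ, nsmul_eq_mul]
  norm_num

open Classical in
/-- the exceptional part of the class constant relation for `p = 2` -/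
theorem sum_Y_even [IsMulCommutative P] (hf : FreeAct P)
    (hCN : (centralizer ((P : Subgroup G) : Set G)).relIndex
      (normalizer ((P : Subgroup G) : Set G)) = 3)
    (hm : Nat.card ↥(normalizer ((P : Subgroup G) : Set G)) =
      3 * Nat.card ↥(centralizer ((P : Subgroup G) : Set G)))
    (D : BLData P M 3) (hd : D.d = 0)
    {t₀ y' : ↥(P : Subgroup G)} (ht₀ : (t₀ : G) * (t₀ : G) = 1) (ht₀1 : t₀ ≠ 1) (hy'1 : y' ≠ 1)
    (hne : ∀ n ∈ normalizer ((P : Subgroup G) : Set G), n * (t₀ : G) * n⁻¹ ≠ (y' : G)) :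
    ∑ η ∈ Finset.univ.filter (fun χ : IrrCharacter G => χ ∈ Yset P D),
      (η : G → ℂ) (t₀ : G) * (η : G → ℂ) (t₀ : G) * conj ((η : G → ℂ) (y' : G)) =
      -9 * (D.δ : ℂ) := by
  have hC0 : (Nat.card ↥(centralizer ((P : Subgroup G) : Set G)) : ℂ) ≠ 0 :=
    Nat.cast_ne_zero.mpr Nat.card_pos.ne'
  have h3 := sum_zeta P hf hm D
    (fun η => (η : G → ℂ) (t₀ : G) * (η : G → ℂ) (t₀ : G) * conj ((η : G → ℂ) (y' : G)))
  have hval : ∀ ψ ∈ Finset.univ.filter (fun l : ↥(P : Subgroup G) →* ℂˣ => l ≠ 1),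
      (D.ζ ψ : G → ℂ) (t₀ : G) * (D.ζ ψ : G → ℂ) (t₀ : G) * conj ((D.ζ ψ : G → ℂ) (y' : G)) =
      (D.δ : ℂ) / (Nat.card ↥(centralizer ((P : Subgroup G) : Set G)) : ℂ) ^ 3 *
        (Ssum P ψ t₀ * Ssum P ψ t₀ * conj (Ssum P ψ y')) := by
    intro ψ hψ
    have hψ1 := (Finset.mem_filter.mp hψ).2
    rw [Y_value P D hψ1 ht₀1, Y_value P D hψ1 hy'1, hd, Ssum_eq P hf hψ1, Ssum_eq P hf hψ1]
    simp only [map_mul, map_intCast, map_natCast, Int.cast_zero, zero_add]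
    have hδ3 : (D.δ : ℂ) * (D.δ : ℂ) * (D.δ : ℂ) = (D.δ : ℂ) := by
      rcases D.hδ with h | h <;> rw [h] <;> norm_num
    field_simp
    linear_combination (∑ l ∈ Finset.univ.filter (fun l : ↥(P : Subgroup G) →* ℂˣ => Rel P ψ l),
        ((l t₀ : ℂˣ) : ℂ)) ^ 2 * conj (∑ l ∈ Finset.univ.filter
          (fun l : ↥(P : Subgroup G) →* ℂˣ => Rel P ψ l), ((l y' : ℂˣ) : ℂ)) * hδ3
  rw [Finset.sum_congr rfl hval, ← Finset.mul_sum, sum_Ssum_ne_one P hf hCN ht₀ hy'1 hne, hm] at h3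
  push_cast at h3
  have : 3 * ∑ η ∈ Finset.univ.filter (fun χ : IrrCharacter G => χ ∈ Yset P D),
      (η : G → ℂ) (t₀ : G) * (η : G → ℂ) (t₀ : G) * conj ((η : G → ℂ) (y' : G)) =
      3 * (-9 * (D.δ : ℂ)) := by
    rw [← h3]
    field_simp
    ring
  exact mul_left_cancel₀ (by norm_num : (3 : ℂ) ≠ 0) this

end Ssum

section Degree

variable {G : Type u} [Group G] [Fintype G] {p : ℕ} [hp : Fact p.Prime] (P : Sylow p G)
  [Fintype ↥(P : Subgroup G)] [Fintype ↥(normalizer ((P : Subgroup G) : Set G))]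
  [Fintype (IrrCharacter G)] [Fintype (↥(P : Subgroup G) →* ℂˣ)] {M : Ideal AlgInt}

open Classical in
/-- the degree of a member of the principal block in terms of the Brauer–Leonard datum -/
theorem degree_formula [IsMulCommutative P] {m : ℕ} (D : BLData P M m) {χ : IrrCharacter G}
    (hχ : χ ∈ principalBlock M G) :
    ∃ n : ℕ, (charDegree (χ : G → ℂ) : ℤ) =
      (Nat.card ↥(P : Subgroup G) : ℤ) * n - ((Nat.card ↥(P : Subgroup G) : ℤ) - 1) * D.a χ +
      D.δ * ((Finset.univ.filter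
        (fun l : ↥(P : Subgroup G) →* ℂˣ => l ≠ 1 ∧ D.ζ l = χ)).card : ℤ) := by
  have hc : ∀ a b : ↥(P : Subgroup G), a * b = b * a := fun a b =>
    Subtype.ext (comm_of_mem P a.2 b.2)
  obtain ⟨n, hn⟩ := mlt_nat P χ 1
  refine ⟨n, ?_⟩
  have h1 := char_eq_sum_mlt P (χ : G → ℂ) (1 : ↥(P : Subgroup G))
  rw [Subgroup.coe_one, irr_apply_one_eq_charDegree] at h1
  have h2 : ∀ l : ↥(P : Subgroup G) →* ℂˣ,
      mlt P (χ : G → ℂ) l * ((l (1 : ↥(P : Subgroup G)) : ℂˣ) : ℂ) =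
      (n : ℂ) - (if l ≠ 1 then ((D.a χ : ℂ) - (D.δ : ℂ) * (if D.ζ l = χ then 1 else 0)) else 0) := by
    intro l
    rw [map_one, Units.val_one, mul_one]
    have hF : mlt P (χ : G → ℂ) l = mlt P (χ : G → ℂ) 1 - Fc P (χ : G → ℂ) l := by
      rw [Fc_eq]; ring
    rw [hF, hn]
    by_cases hl : l = 1
    · subst hl
      rw [Fc_one, if_neg (fun h => h rfl)]
    · rw [if_pos hl, D.hF χ hχ l hl]
      by_cases hz : D.ζ l = χ
      · rw [if_pos hz, if_pos hz.symm]; push_cast; ring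
      · rw [if_neg hz, if_neg (fun h => hz h.symm)]; push_cast; ring
  rw [Finset.sum_congr rfl fun l _ => h2 l, Finset.sum_sub_distrib, Finset.sum_const,
    Finset.card_univ, ← Finset.sum_filter, Finset.sum_sub_distrib, Finset.sum_const, card_nt P,
    ← Finset.mul_sum, ← Finset.sum_filter, Finset.filter_filter, Finset.sum_const,
    ← Nat.card_eq_fintype_card, card_dual hc] at h1
  have hPpos : 0 < Nat.card ↥(P : Subgroup G) := Nat.card_pos
  have h3 : ((charDegree (χ : G → ℂ) : ℤ) : ℂ) =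
      (((Nat.card ↥(P : Subgroup G) : ℤ) * n - ((Nat.card ↥(P : Subgroup G) : ℤ) - 1) * D.a χ +
      D.δ * ((Finset.univ.filter
        (fun l : ↥(P : Subgroup G) →* ℂˣ => l ≠ 1 ∧ D.ζ l = χ)).card : ℤ) : ℤ) : ℂ) := by
    push_cast
    rw [h1]
    simp only [nsmul_eq_mul, mul_one]
    rw [Nat.cast_sub hPpos]
    push_cast
    ring
  exact_mod_cast h3

end Degree

section Even

variable {G : Type u} [Group G] [Fintype G] {p : ℕ} [hp : Fact p.Prime] (P : Sylow p G)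
  [Fintype ↥(P : Subgroup G)] [Fintype ↥(normalizer ((P : Subgroup G) : Set G))]
  [Fintype (IrrCharacter G)] [Fintype (↥(P : Subgroup G) →* ℂˣ)] {M : Ideal AlgInt}

open Classical in
/-- some nontrivial element of `P` is not an `N`-conjugate of `t₀` -/
theorem exists_not_conj
    (hCN : (centralizer ((P : Subgroup G) : Set G)).relIndex
      (normalizer ((P : Subgroup G) : Set G)) = 3)
    (hm2 : 3 + 1 < Nat.card ↥(P : Subgroup G)) (t₀ : ↥(P : Subgroup G)) :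
    ∃ y' : ↥(P : Subgroup G), y' ≠ 1 ∧
      ∀ n ∈ normalizer ((P : Subgroup G) : Set G), n * (t₀ : G) * n⁻¹ ≠ (y' : G) := by
  set C' := (centralizer ((P : Subgroup G) : Set G)).subgroupOf
    (normalizer ((P : Subgroup G) : Set G)) with hC'
  have hidx : C'.index = 3 := hCN
  have := Fintype.ofFinite (↥(normalizer ((P : Subgroup G) : Set G)) ⧸ C')
  have hcardQ : Fintype.card (↥(normalizer ((P : Subgroup G) : Set G)) ⧸ C') = 3 := by
    rw [← Nat.card_eq_fintype_card, ← Subgroup.index_eq_card, hidx]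
  let f : ↥(normalizer ((P : Subgroup G) : Set G)) ⧸ C' → ↥(P : Subgroup G) :=
    Quotient.lift (fun x : ↥(normalizer ((P : Subgroup G) : Set G)) => conjP P x t₀) (by
      intro a b hab
      have hab' : a⁻¹ * b ∈ C' := QuotientGroup.leftRel_apply.mp hab
      rw [hC', mem_subgroupOf] at hab'
      have h1 := conj_eq_of_mem_centralizer P hab' t₀.2
      apply Subtype.ext
      show (a : G) * (t₀ : G) * (a : G)⁻¹ = (b : G) * (t₀ : G) * (b : G)⁻¹
      have hb : (b : G) = (a : G) * ((a⁻¹ * b : ↥(normalizer ((P : Subgroup G) : Set G))) : G) := by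
        simp
      rw [hb]
      calc (a : G) * (t₀ : G) * (a : G)⁻¹
          = (a : G) * (((a⁻¹ * b : ↥(normalizer ((P : Subgroup G) : Set G))) : G) * (t₀ : G) *
            ((a⁻¹ * b : ↥(normalizer ((P : Subgroup G) : Set G))) : G)⁻¹) * (a : G)⁻¹ := by
            rw [h1]
        _ = _ := by group)
  have hle : (Finset.univ.image f).card ≤ 3 := by
    rw [← hcardQ]
    exact Finset.card_image_le.trans (le_of_eq Finset.card_univ)
  have hnt : (Finset.univ.filter (fun y : ↥(P : Subgroup G) => y ≠ 1)).card =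
      Nat.card ↥(P : Subgroup G) - 1 := by
    rw [Finset.filter_ne' Finset.univ (1 : ↥(P : Subgroup G)),
      Finset.card_erase_of_mem (Finset.mem_univ _), Finset.card_univ, Nat.card_eq_fintype_card]
  have hlt : (Finset.univ.image f).card <
      (Finset.univ.filter (fun y : ↥(P : Subgroup G) => y ≠ 1)).card := by
    rw [hnt]; omega
  obtain ⟨y', hy'mem, hy'not⟩ := Finset.exists_mem_notMem_of_card_lt_card hlt
  refine ⟨y', (Finset.mem_filter.mp hy'mem).2, fun n hn h => ?_⟩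
  apply hy'not
  rw [Finset.mem_image]
  refine ⟨QuotientGroup.mk ⟨n, hn⟩, Finset.mem_univ _, ?_⟩
  apply Subtype.ext
  exact h

open Classical in
/-- the class constant relation for `p = 2` -/
theorem E2_even [IsMulCommutative P] (hM : IsPModular p M) (hf : FreeAct P)
    (hCN : (centralizer ((P : Subgroup G) : Set G)).relIndex
      (normalizer ((P : Subgroup G) : Set G)) = 3)
    (hm : Nat.card ↥(normalizer ((P : Subgroup G) : Set G)) =
      3 * Nat.card ↥(centralizer ((P : Subgroup G) : Set G)))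
    (D : BLData P M 3) (hd : D.d = 0)
    {χ₂ χ₃ : IrrCharacter G} (h23 : χ₂ ≠ χ₃) (h2 : χ₂ ≠ oneIrr G) (h3 : χ₃ ≠ oneIrr G)
    (hX : Finset.univ.filter (fun χ : IrrCharacter G => χ ∈ Xset P D) = {oneIrr G, χ₂, χ₃})
    (ha₂ : D.a χ₂ = 1 ∨ D.a χ₂ = -1) (ha₃ : D.a χ₃ = 1 ∨ D.a χ₃ = -1)
    {η : IrrCharacter G} (hη : η ∈ Yset P D)
    {t₀ y' : ↥(P : Subgroup G)} (ht₀ : (t₀ : G) * (t₀ : G) = 1) (ht₀1 : t₀ ≠ 1) (hy'1 : y' ≠ 1)
    (hne : ∀ n ∈ normalizer ((P : Subgroup G) : Set G), n * (t₀ : G) * n⁻¹ ≠ (y' : G)) :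
    1 + (D.a χ₂ : ℂ) / (χ₂ : G → ℂ) 1 + (D.a χ₃ : ℂ) / (χ₃ : G → ℂ) 1 -
      9 * (D.δ : ℂ) / (η : G → ℂ) 1 = 0 := by
  have h := E2_gen P hM hf hCN D h23 h2 h3 hX ht₀ hy'1 (fun _ => ⟨t₀.2, hne⟩)
  have hreg1 : ¬ p ∣ orderOf (1 : G) := by
    rw [orderOf_one]
    exact fun h => hp.out.one_lt.ne' (Nat.dvd_one.mp h)
  have hm2 : χ₂ ∈ Xset P D := by
    have : χ₂ ∈ Finset.univ.filter (fun χ : IrrCharacter G => χ ∈ Xset P D) := by
      rw [hX]; simp
    exact (Finset.mem_filter.mp this).2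
  have hm3 : χ₃ ∈ Xset P D := by
    have : χ₃ ∈ Finset.univ.filter (fun χ : IrrCharacter G => χ ∈ Xset P D) := by
      rw [hX]; simp
    exact (Finset.mem_filter.mp this).2
  rw [X_value P D hm2 ht₀1, X_value P D hm3 ht₀1] at h
  have hY : ∑ η' ∈ Finset.univ.filter (fun χ : IrrCharacter G => χ ∈ Yset P D),
      (η' : G → ℂ) (t₀ : G) * (η' : G → ℂ) (t₀ : G) * conj ((η' : G → ℂ) (y' : G)) /
        (η' : G → ℂ) 1 =
      (∑ η' ∈ Finset.univ.filter (fun χ : IrrCharacter G => χ ∈ Yset P D),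
        (η' : G → ℂ) (t₀ : G) * (η' : G → ℂ) (t₀ : G) * conj ((η' : G → ℂ) (y' : G))) /
        (η : G → ℂ) 1 := by
    rw [Finset.sum_div]
    refine Finset.sum_congr rfl fun χ hχ => ?_
    rw [preg_Y_eq P hM D (Finset.mem_filter.mp hχ).2 hη hreg1]
  rw [hY, sum_Y_even P hf hCN hm D hd ht₀ ht₀1 hy'1 hne] at h
  have e₂ : (D.a χ₂ : ℂ) * (D.a χ₂ : ℂ) ^ 2 = (D.a χ₂ : ℂ) := by
    rcases ha₂ with h | h <;> rw [h] <;> norm_num
  have e₃ : (D.a χ₃ : ℂ) * (D.a χ₃ : ℂ) ^ 2 = (D.a χ₃ : ℂ) := by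
    rcases ha₃ with h | h <;> rw [h] <;> norm_num
  rw [e₂, e₃] at h
  linear_combination h

theorem card_ge_sixteen {q k r : ℕ} (hq : q = 2 ^ k) (h4 : 3 + 1 < q) (h3 : r * 3 = q - 1) :
    16 ≤ q := by
  have hk3 : 3 ≤ k := by
    by_contra hlt
    push Not at hlt
    have : 2 ^ k ≤ 2 ^ 2 := Nat.pow_le_pow_right (by norm_num) (by omega)
    omega
  have hk4 : k ≠ 3 := by
    rintro rfl
    omega
  have : 2 ^ 4 ≤ 2 ^ k := Nat.pow_le_pow_right (by norm_num) (by omega)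
  omega

open Classical in
/-- for `p = 2` no involution lies outside all proper normal subgroups -/
theorem involution_clause_even [IsMulCommutative P] (hM : IsPModular p M) (hf : FreeAct P)
    (hCN : (centralizer ((P : Subgroup G) : Set G)).relIndex
      (normalizer ((P : Subgroup G) : Set G)) = 3)
    (hm : Nat.card ↥(normalizer ((P : Subgroup G) : Set G)) =
      3 * Nat.card ↥(centralizer ((P : Subgroup G) : Set G)))
    (hm2 : 3 + 1 < Nat.card ↥(P : Subgroup G))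
    (D : BLData P M 3) (hd : D.d = 0)
    {χ₂ χ₃ : IrrCharacter G} (h23 : χ₂ ≠ χ₃) (h2 : χ₂ ≠ oneIrr G) (h3 : χ₃ ≠ oneIrr G)
    (hX : Finset.univ.filter (fun χ : IrrCharacter G => χ ∈ Xset P D) = {oneIrr G, χ₂, χ₃})
    (ha₂ : D.a χ₂ = 1 ∨ D.a χ₂ = -1) (ha₃ : D.a χ₃ = 1 ∨ D.a χ₃ = -1)
    (hp2 : p = 2) {t : G} (hto : orderOf t = 2)
    (htK : ∀ K : Subgroup G, K.Normal → t ∈ K → K = ⊤) : False := by
  have hP1 : Nat.card ↥(P : Subgroup G) ≠ 1 := by omega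
  have hP1' : 1 < Nat.card ↥(P : Subgroup G) := by omega
  have ha1 := a_one P hM hf hm hm2 hP1 D
  -- move `t` into `P`
  obtain ⟨g, hg⟩ := Cfsg.Agent.Lib.Helper20.exists_conj_mem_sylow P t 1
    (by rw [hto, hp2, pow_one])
  have ht : t * t = 1 := by
    have := pow_orderOf_eq_one t
    rwa [hto, pow_two] at this
  have ht1 : t ≠ 1 := by
    rintro rfl
    rw [orderOf_one] at hto
    omega
  set t₀ : ↥(P : Subgroup G) := ⟨g * t * g⁻¹, hg⟩ with ht₀d
  have ht₀ : (t₀ : G) * (t₀ : G) = 1 := by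
    show g * t * g⁻¹ * (g * t * g⁻¹) = 1
    calc g * t * g⁻¹ * (g * t * g⁻¹) = g * (t * t) * g⁻¹ := by group
      _ = 1 := by rw [ht]; group
  have ht₀1 : t₀ ≠ 1 := by
    intro h
    apply ht1
    have h' : g * t * g⁻¹ = 1 := congrArg Subtype.val h
    calc t = g⁻¹ * (g * t * g⁻¹) * g := by group
      _ = 1 := by rw [h']; group
  have htK₀ : ∀ K : Subgroup G, K.Normal → (t₀ : G) ∈ K → K = ⊤ := by
    intro K hK hmem
    apply htK K hK
    have := hK.conj_mem _ hmem g⁻¹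
    have e : g⁻¹ * (t₀ : G) * g⁻¹⁻¹ = t := by
      show g⁻¹ * (g * t * g⁻¹) * g⁻¹⁻¹ = t
      group
    rwa [e] at this
  -- the size of `P`
  have hY := card_Yset P hf hm D
  obtain ⟨k, hk⟩ := IsPGroup.iff_card.mp P.2
  have h16 : 16 ≤ Nat.card ↥(P : Subgroup G) := by
    have hk' : Nat.card ↥(P : Subgroup G) = 2 ^ k := hk.trans (by rw [hp2])
    exact card_ge_sixteen hk' hm2 hY
  obtain ⟨y', hy'1, hne⟩ := exists_not_conj P hCN hm2 t₀
  obtain ⟨l0, hl0⟩ := exists_ne_one P hP1'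
  have hη : D.ζ l0 ∈ Yset P D := ⟨l0, hl0, rfl⟩
  set η := D.ζ l0 with hηd
  have hreg1 : ¬ p ∣ orderOf (1 : G) := by
    rw [orderOf_one]
    exact fun h => hp.out.one_lt.ne' (Nat.dvd_one.mp h)
  have e1 := E1_gen P hM D hd h23 h2 h3 hX ha1 hη hreg1
  have e2 := E2_even P hM hf hCN hm D hd h23 h2 h3 hX ha₂ ha₃ hη ht₀ ht₀1 hy'1 hne
  rw [irr_apply_one_eq_charDegree χ₂, irr_apply_one_eq_charDegree χ₃,
    irr_apply_one_eq_charDegree η] at e1 e2
  have hm2' : χ₂ ∈ Xset P D := by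
    have : χ₂ ∈ Finset.univ.filter (fun χ : IrrCharacter G => χ ∈ Xset P D) := by
      rw [hX]; simp
    exact (Finset.mem_filter.mp this).2
  have hm3' : χ₃ ∈ Xset P D := by
    have : χ₃ ∈ Finset.univ.filter (fun χ : IrrCharacter G => χ ∈ Xset P D) := by
      rw [hX]; simp
    exact (Finset.mem_filter.mp this).2
  obtain ⟨n₂, hn₂⟩ := degree_formula P D hm2'.1
  obtain ⟨n₃, hn₃⟩ := degree_formula P D hm3'.1
  obtain ⟨n₄, hn₄⟩ := degree_formula P D (D.hζB l0 hl0)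
  have hfib₂ : Finset.univ.filter
      (fun l : ↥(P : Subgroup G) →* ℂˣ => l ≠ 1 ∧ D.ζ l = χ₂) = ∅ := by
    rw [Finset.filter_eq_empty_iff]
    intro l _ hl
    exact hm2'.2 ⟨l, hl.1, hl.2⟩
  have hfib₃ : Finset.univ.filter
      (fun l : ↥(P : Subgroup G) →* ℂˣ => l ≠ 1 ∧ D.ζ l = χ₃) = ∅ := by
    rw [Finset.filter_eq_empty_iff]
    intro l _ hl
    exact hm3'.2 ⟨l, hl.1, hl.2⟩
  have hfib₄ : (Finset.univ.filter
      (fun l : ↥(P : Subgroup G) →* ℂˣ => l ≠ 1 ∧ D.ζ l = η)).card = 3 := by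
    rw [hηd, fiber_eq P D hl0]
    exact class_card' P hf hm hl0
  rw [hfib₂, Finset.card_empty, Nat.cast_zero] at hn₂
  rw [hfib₃, Finset.card_empty, Nat.cast_zero] at hn₃
  rw [hfib₄, D.hd l0 hl0, hd, Nat.cast_ofNat] at hn₄
  -- the values at `t₀` exclude degree one
  have hne₂ : D.a χ₂ = 1 → (charDegree (χ₂ : G → ℂ) : ℤ) ≠ 1 := by
    intro ha hf1
    apply apply_ne_degree htK₀ χ₂ h2
    have hf1' : charDegree (χ₂ : G → ℂ) = 1 := by exact_mod_cast hf1
    rw [X_value P D hm2' ht₀1, irr_apply_one_eq_charDegree, ha, hf1']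
    norm_num
  have hne₃ : D.a χ₃ = 1 → (charDegree (χ₃ : G → ℂ) : ℤ) ≠ 1 := by
    intro ha hf1
    apply apply_ne_degree htK₀ χ₃ h3
    have hf1' : charDegree (χ₃ : G → ℂ) = 1 := by exact_mod_cast hf1
    rw [X_value P D hm3' ht₀1, irr_apply_one_eq_charDegree, ha, hf1']
    norm_num
  have p₂ : 0 < charDegree (χ₂ : G → ℂ) := irr_charDegree_pos χ₂
  have p₃ : 0 < charDegree (χ₃ : G → ℂ) := irr_charDegree_pos χ₃
  have p₄ : 0 < charDegree (η : G → ℂ) := irr_charDegree_pos η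
  have c₂ : ((charDegree (χ₂ : G → ℂ) : ℕ) : ℂ) ≠ 0 := by exact_mod_cast p₂.ne'
  have c₃ : ((charDegree (χ₃ : G → ℂ) : ℕ) : ℂ) ≠ 0 := by exact_mod_cast p₃.ne'
  have c₄ : ((charDegree (η : G → ℂ) : ℕ) : ℂ) ≠ 0 := by exact_mod_cast p₄.ne'
  have q16 : (16 : ℤ) ≤ (Nat.card ↥(P : Subgroup G) : ℤ) := by exact_mod_cast h16
  have B₂ := deg_bound_X q16 (Int.natCast_nonneg n₂) hn₂ (by exact_mod_cast p₂)
  have B₃ := deg_bound_X q16 (Int.natCast_nonneg n₃) hn₃ (by exact_mod_cast p₃)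
  have B₄ := deg_bound_Y q16 (Int.natCast_nonneg n₄) hn₄
  have hb₂ : (D.a χ₂ = 1 → 17 ≤ charDegree (χ₂ : G → ℂ)) ∧
      (D.a χ₂ = -1 → 15 ≤ charDegree (χ₂ : G → ℂ)) :=
    ⟨fun ha => by exact_mod_cast B₂.1 ha (hne₂ ha), fun ha => by exact_mod_cast B₂.2 ha⟩
  have hb₃ : (D.a χ₃ = 1 → 17 ≤ charDegree (χ₃ : G → ℂ)) ∧
      (D.a χ₃ = -1 → 15 ≤ charDegree (χ₃ : G → ℂ)) :=
    ⟨fun ha => by exact_mod_cast B₃.1 ha (hne₃ ha), fun ha => by exact_mod_cast B₃.2 ha⟩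
  have hbF : D.δ = 1 → charDegree (η : G → ℂ) = 3 ∨ 19 ≤ charDegree (η : G → ℂ) := by
    intro hδ
    rcases B₄ hδ with h | h
    · left; exact_mod_cast h
    · right; exact_mod_cast h
  have E1 : 1 + D.a χ₂ * (charDegree (χ₂ : G → ℂ) : ℤ) + D.a χ₃ * (charDegree (χ₃ : G → ℂ) : ℤ) -
      D.δ * (charDegree (η : G → ℂ) : ℤ) = 0 := by
    exact_mod_cast e1
  have E2 : (charDegree (η : G → ℂ) : ℤ) * ((charDegree (χ₂ : G → ℂ) : ℤ) *
      (charDegree (χ₃ : G → ℂ) : ℤ) + D.a χ₂ * (charDegree (χ₃ : G → ℂ) : ℤ) +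
      D.a χ₃ * (charDegree (χ₂ : G → ℂ) : ℤ)) =
      9 * D.δ * ((charDegree (χ₂ : G → ℂ) : ℤ) * (charDegree (χ₃ : G → ℂ) : ℤ)) := by
    have h' : ((charDegree (η : G → ℂ) : ℕ) : ℂ) * (((charDegree (χ₂ : G → ℂ) : ℕ) : ℂ) *
        ((charDegree (χ₃ : G → ℂ) : ℕ) : ℂ) + (D.a χ₂ : ℂ) * ((charDegree (χ₃ : G → ℂ) : ℕ) : ℂ) +
        (D.a χ₃ : ℂ) * ((charDegree (χ₂ : G → ℂ) : ℕ) : ℂ)) =
        9 * (D.δ : ℂ) * (((charDegree (χ₂ : G → ℂ) : ℕ) : ℂ) *
          ((charDegree (χ₃ : G → ℂ) : ℕ) : ℂ)) := by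
      have := congrArg (fun z => z * (((charDegree (χ₂ : G → ℂ) : ℕ) : ℂ) *
        ((charDegree (χ₃ : G → ℂ) : ℕ) : ℂ) * ((charDegree (η : G → ℂ) : ℕ) : ℂ))) e2
      simp only [zero_mul] at this
      field_simp at this
      linear_combination this
    exact_mod_cast h'
  exact arith_even ha₂ ha₃ D.hδ hb₂ hb₃ p₄ hbF E1 E2

end Even

end Cfsg.Agent.Lib.Helper80.BL3
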