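import Cfsg.Agent.Lib.Helper80.Orthogonality
import Cfsg.Agent.Lib.Helper80.Kernel
import Cfsg.Agent.Lib.Helper80.Central
import Cfsg.Agent.Lib.Helper79.CliffordCorr
import Cfsg.Agent.Lib.Helper79.Abelian
import Cfsg.Agent.Lib.Helper3.CharOps
import Cfsg.Agent.S0966
import Cfsg.Agent.S4387

set_option autoImplicit false

namespace Cfsg.Agent.Lib.Helper80

open Cfsg
open Cfsg.Agent.Lib.Helper75 Cfsg.Agent.Lib.Helper79
open scoped ComplexConjugate Pointwise

section CoprimeInvariant

universe u

variable {M : Type u} [Group M] [Finite M]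

/-- If all irreducible characters of `M` have degree prime to `p` and `N` is a normal subgroup of
`p`-power index, then every irreducible character of `N` is invariant in `M`. -/
theorem conjFun_eq_of_degrees (p : ℕ) [hp : Fact p.Prime] (N : Subgroup M) [hNn : N.Normal]
    (hidx : ∃ j : ℕ, N.index = p ^ j)
    (hdeg : ∀ χ : IrrCharacter M, ¬ p ∣ charDegree (χ : M → ℂ))
    (θ : IrrCharacter N) (x : M) : conjFun N x (θ : N → ℂ) = (θ : N → ℂ) := by
  classical
  have := Fintype.ofFinite M
  have := Fintype.ofFinite N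
  obtain ⟨χ, hχ⟩ := Cfsg.Agent.S0966.exists_over N θ
  have h1 := clifford_degree N χ.2 θ.2 hχ
  obtain ⟨m, hm⟩ := classInner_character_eq_natCast
    (Cfsg.Agent.Lib.Helper3.IsCharacter.restrict
      (Cfsg.Agent.Lib.Helper3.IsIrrCharacter.isCharacter χ.2) N)
    (Cfsg.Agent.Lib.Helper3.IsIrrCharacter.isCharacter θ.2)
  rw [hm, ← irr_charDegree_cast χ, ← irr_charDegree_cast θ] at h1
  have h2 : charDegree (χ : M → ℂ) =
      m * (inertia N (θ : N → ℂ)).index * charDegree (θ : N → ℂ) := by exact_mod_cast h1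
  have hle : N ≤ inertia N (θ : N → ℂ) :=
    le_inertia N (Cfsg.Agent.Lib.Helper3.IsCharacter.isClassFunction
      (Cfsg.Agent.Lib.Helper3.IsIrrCharacter.isCharacter θ.2))
  obtain ⟨j, hj⟩ := hidx
  have h3 : (inertia N (θ : N → ℂ)).index ∣ p ^ j := by
    rw [← hj]
    exact Subgroup.index_dvd_of_le hle
  obtain ⟨i, _, hi⟩ := (Nat.dvd_prime_pow hp.out).mp h3
  have hi0 : i = 0 := by
    by_contra hne
    apply hdeg χ
    rw [h2, hi]
    exact Dvd.dvd.mul_right (Dvd.dvd.mul_left (dvd_pow_self p hne) m) _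
  rw [hi0, pow_zero] at hi
  have h4 : inertia N (θ : N → ℂ) = ⊤ := Subgroup.index_eq_one.mp hi
  have h5 : x ∈ inertia N (θ : N → ℂ) := by rw [h4]; exact Subgroup.mem_top x
  exact (mem_inertia N _ x).mp h5

/-- If every irreducible character of the normal subgroup `N` is fixed by `x`, then `x` maps every
element of `N` to an `N`-conjugate. -/
theorem isConj_conjNormal_of_fixed (N : Subgroup M) [hNn : N.Normal] (x : M)
    (hfix : ∀ θ : IrrCharacter N, conjFun N x (θ : N → ℂ) = (θ : N → ℂ)) (n : N) :
    IsConj (MulAut.conjNormal x n) n := by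
  classical
  have := Fintype.ofFinite N
  have := Cfsg.Agent.Lib.Helper81.finite_irrCharacter (G := N)
  have := Fintype.ofFinite (IrrCharacter N)
  by_contra hcon
  have h1 := irr_column_orthogonality (G := N) (MulAut.conjNormal x n) n
  rw [if_neg hcon] at h1
  have h2 := irr_column_orthogonality (G := N) n n
  rw [if_pos (IsConj.refl n)] at h2
  have h3 : ∀ θ : IrrCharacter N, (θ : N → ℂ) (MulAut.conjNormal x n) = (θ : N → ℂ) n := by
    intro θ
    have := congrFun (hfix θ) n
    rw [conjFun_eq_comp] at this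
    exact this
  simp only [h3] at h1
  rw [h1] at h2
  have h4 : (Nat.card (Subgroup.centralizer ({n} : Set N)) : ℂ) ≠ 0 := by
    exact_mod_cast Nat.card_pos.ne'
  exact h4 h2.symm

/-- An element of `p`-power order mapping every element of the normal `p'`-subgroup `N` to an
`N`-conjugate centralizes `N`. -/
theorem commute_of_isConj (p : ℕ) [hp : Fact p.Prime] (N : Subgroup M) [hNn : N.Normal]
    (hN : (Nat.card N).Coprime p) (x : M) (k : ℕ) (hx : x ^ p ^ k = 1)
    (hconj : ∀ n : N, IsConj (MulAut.conjNormal x n) n) :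
    ∀ n ∈ N, x * n = n * x := by
  classical
  have := Fintype.ofFinite N
  -- the centralizer of `x` in `N`
  let C : Subgroup N := (Subgroup.centralizer ({x} : Set M)).subgroupOf N
  have hCmem : ∀ n : N, n ∈ C ↔ x * (n : M) = (n : M) * x := by
    intro n
    show (n : M) ∈ Subgroup.centralizer ({x} : Set M) ↔ _
    rw [Subgroup.mem_centralizer_iff]
    constructor
    · intro h
      exact h x (Set.mem_singleton x)
    · intro h y hy
      rw [Set.mem_singleton_iff] at hy
      rw [hy]; exact h
  suffices hC : C = ⊤ by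
    intro n hn
    have : (⟨n, hn⟩ : N) ∈ C := by rw [hC]; exact Subgroup.mem_top _
    exact (hCmem ⟨n, hn⟩).mp this
  by_contra hne
  obtain ⟨n₀, hn₀⟩ := Cfsg.Agent.S4387.exists_notMem_conj C hne
  -- the class of n₀
  let S := {h : N // IsConj n₀ h}
  have hmap : ∀ h : N, IsConj n₀ h → IsConj n₀ (MulAut.conjNormal x h) :=
    fun h hh => hh.trans (hconj h).symm
  let f : Function.End S := fun s => ⟨MulAut.conjNormal x s.1, hmap s.1 s.2⟩
  have hfpow : ∀ (r : ℕ) (s : S), ((f ^ r) s).1 = MulAut.conjNormal (x ^ r) s.1 := by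
    intro r
    induction r with
    | zero =>
      intro s
      rw [pow_zero, pow_zero, map_one]
      rfl
    | succ r ih =>
      intro s
      rw [pow_succ', pow_succ', map_mul]
      show (f ((f ^ r) s)).1 = _
      show MulAut.conjNormal x ((f ^ r) s).1 = _
      rw [ih s]
      rfl
  have hf : f ^ p ^ k = 1 := by
    funext s
    apply Subtype.ext
    rw [hfpow, hx, map_one]
    rfl
  have hmod := Equiv.Perm.card_fixedPoints_modEq (p := p) (n := k) hf
  have hcardS : (Fintype.card S).Coprime p := by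
    have h1 : Fintype.card S = (Subgroup.centralizer ({n₀} : Set N)).index := by
      rw [index_centralizer_eq_card_conj, Nat.card_eq_fintype_card]
    rw [h1]
    exact Nat.Coprime.coprime_dvd_left (Subgroup.index_dvd_card _) hN
  have hfix : 0 < Fintype.card (Function.fixedPoints f) := by
    rcases Nat.eq_zero_or_pos (Fintype.card (Function.fixedPoints f)) with h0 | h0
    · exfalso
      rw [h0] at hmod
      have h1 : p ∣ Fintype.card S := (Nat.modEq_zero_iff_dvd).mp hmod
      have h2 := Nat.Coprime.eq_one_of_dvd hcardS.symm h1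
      exact hp.out.one_lt.ne' h2
    · exact h0
  obtain ⟨⟨⟨c, hc⟩, hcfix⟩⟩ := Fintype.card_pos_iff.mp hfix
  have hcfix' : MulAut.conjNormal x c = c := by
    have := congrArg Subtype.val hcfix
    exact this
  have hcC : c ∈ C := by
    rw [hCmem]
    have h1 : x * (c : M) * x⁻¹ = (c : M) := by
      have := congrArg Subtype.val hcfix'
      rwa [MulAut.conjNormal_apply] at this
    calc x * (c : M) = x * (c : M) * x⁻¹ * x := by group
      _ = (c : M) * x := by rw [h1]
  obtain ⟨u, hu⟩ := isConj_iff.mp hc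
  -- n₀ = u⁻¹ c u lies in a conjugate of C
  apply hn₀ u⁻¹
  rw [Subgroup.mem_pointwise_smul_iff_inv_smul_mem]
  have : (MulAut.conj u⁻¹)⁻¹ • n₀ = c := by
    rw [← map_inv, inv_inv, MulAut.smul_def, MulAut.conj_apply, hu]
  rw [this]
  exact hcC

end CoprimeInvariant

end Cfsg.Agent.Lib.Helper80
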