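import Cfsg.Agent.Lib.Helper79.Basic
import Cfsg.Agent.Lib.Helper3.CharOps

set_option autoImplicit false
set_option linter.style.haveILetI false
set_option linter.unusedSectionVars false

/-!
# The determinant of a representation as a linear character
-/

namespace Cfsg.Agent.Lib.Helper80

open Cfsg
open scoped ComplexConjugate

universe u

/-- If the character of `ρ` at an element `z` of finite order is `n * c` with `c` a root of unity,
then `ρ z` is the scalar `c`. -/
theorem rep_eq_smul_of_character {T : Type*} [Group T] {n : ℕ}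
    (ρ : Representation ℂ T (Fin n → ℂ)) (z : T) (c : ℂ) (m : ℕ) (hm : 0 < m) (hz : z ^ m = 1)
    (hc : c ^ m = 1) (htr : ρ.character z = (n : ℂ) * c) : ρ z = c • LinearMap.id := by
  have hc0 : c ≠ 0 := by
    intro h0
    rw [h0, zero_pow hm.ne'] at hc
    exact zero_ne_one hc
  have hA : (c⁻¹ • LinearMap.toMatrixAlgEquiv' (ρ z)) ^ m = 1 := by
    rw [smul_pow, ← map_pow, ← map_pow, hz, map_one, map_one, inv_pow, hc, inv_one, one_smul]
  have htr' : (c⁻¹ • LinearMap.toMatrixAlgEquiv' (ρ z)).trace = n := by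
    rw [Matrix.trace_smul]
    have h1 : (LinearMap.toMatrixAlgEquiv' (ρ z)).trace = ρ.character z := by
      rw [Representation.character,
        LinearMap.trace_eq_matrix_trace ℂ (Pi.basisFun ℂ (Fin n)), LinearMap.toMatrix_eq_toMatrix']
      rfl
    rw [h1, htr, smul_eq_mul]
    field_simp
  have h2 := Cfsg.Agent.Lib.Helper79.matrix_eq_one_of_trace_eq _ _ hm hA htr'
  apply LinearMap.toMatrixAlgEquiv'.injective
  have h3 : LinearMap.toMatrixAlgEquiv' (ρ z) = c • (1 : Matrix (Fin n) (Fin n) ℂ) := by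
    rw [← h2, smul_smul, mul_inv_cancel₀ hc0, one_smul]
  rw [h3, map_smul]
  congr 1
  exact (map_one _).symm

/-- The determinant of a representation, as a homomorphism to `ℂˣ`. -/
noncomputable def detHom {T : Type*} [Group T] {n : ℕ} (ρ : Representation ℂ T (Fin n → ℂ)) :
    T →* ℂˣ :=
  (LinearMap.det.comp ρ : T →* ℂ).toHomUnits

theorem detHom_apply {T : Type*} [Group T] {n : ℕ} (ρ : Representation ℂ T (Fin n → ℂ)) (t : T) :
    ((detHom ρ t : ℂˣ) : ℂ) = LinearMap.det (ρ t) := rfl

theorem detHom_of_smul {T : Type*} [Group T] {n : ℕ} (ρ : Representation ℂ T (Fin n → ℂ)) (z : T)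
    (c : ℂ) (h : ρ z = c • LinearMap.id) : ((detHom ρ z : ℂˣ) : ℂ) = c ^ n := by
  rw [detHom_apply, h, LinearMap.det_smul, LinearMap.det_id, mul_one, Module.finrank_fin_fun]

end Cfsg.Agent.Lib.Helper80
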