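import Cfsg.Agent.Lib.Helper80.CoprimeInvariant
import Cfsg.Agent.Lib.Helper80.JointEigen

set_option autoImplicit false
set_option linter.style.haveILetI false

/-!
# The conjugation action on the dual group of a normal subgroup

For a normal subgroup `L` of `G` the group `G` acts on `L →* ℂˣ` by conjugation.
-/

namespace Cfsg.Agent.Lib.Helper80

open Cfsg
open Cfsg.Agent.Lib.Helper75 Cfsg.Agent.Lib.Helper79

universe u

section Dual

variable {G : Type u} [Group G] (L : Subgroup G) [hL : L.Normal]

/-- the conjugation action of `G` on the homomorphisms `L →* ℂˣ`, as an endomorphism of the dual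
group: `(dualConj L g φ) n = φ (g n g⁻¹)` -/
noncomputable def dualConj (g : G) : (L →* ℂˣ) →* (L →* ℂˣ) where
  toFun φ := φ.comp (MulAut.conjNormal g : MulAut L).toMonoidHom
  map_one' := rfl
  map_mul' _ _ := rfl

theorem dualConj_apply (g : G) (φ : L →* ℂˣ) (n : L) :
    dualConj L g φ n = φ ⟨g * n * g⁻¹, hL.conj_mem n n.2 g⟩ := by
  show φ (MulAut.conjNormal g n) = _
  congr 1

theorem dualConj_dualConj (g h : G) (φ : L →* ℂˣ) :
    dualConj L g (dualConj L h φ) = dualConj L (h * g) φ := by
  ext n
  rw [dualConj_apply, dualConj_apply, dualConj_apply]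
  congr 3
  simp only [mul_inv_rev]
  group

theorem dualConj_one (φ : L →* ℂˣ) : dualConj L 1 φ = φ := by
  ext n
  rw [dualConj_apply]
  congr 3
  simp

/-- elements centralizing `L` act trivially on the dual -/
theorem dualConj_of_comm {g : G} (hg : ∀ n ∈ L, g * n = n * g) (φ : L →* ℂˣ) :
    dualConj L g φ = φ := by
  ext n
  rw [dualConj_apply]
  congr 3
  rw [hg n n.2]
  group

/-- if the commutator of `a` and `b` centralizes `L`, their actions on the dual commute -/
theorem dualConj_comm {a b : G} (hab : ∀ n ∈ L, (a * b * a⁻¹ * b⁻¹) * n = n * (a * b * a⁻¹ * b⁻¹))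
    (φ : L →* ℂˣ) : dualConj L a (dualConj L b φ) = dualConj L b (dualConj L a φ) := by
  rw [dualConj_dualConj, dualConj_dualConj]
  have h1 : a * b = (a * b * a⁻¹ * b⁻¹) * (b * a) := by group
  have h2 : dualConj L (a * b) φ = dualConj L (b * a) (dualConj L (a * b * a⁻¹ * b⁻¹) φ) := by
    rw [dualConj_dualConj, ← h1]
  rw [h2, dualConj_of_comm L hab]

/-- the stabilizer of `φ` -/
def dualStab (φ : L →* ℂˣ) : Subgroup G where
  carrier := {g | dualConj L g φ = φ}
  one_mem' := dualConj_one L φ
  mul_mem' := by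
    intro a b ha hb
    show dualConj L (a * b) φ = φ
    rw [← dualConj_dualConj, ha, hb]
  inv_mem' := by
    intro a ha
    show dualConj L a⁻¹ φ = φ
    have h1 : dualConj L a⁻¹ (dualConj L a φ) = φ := by
      rw [dualConj_dualConj, mul_inv_cancel, dualConj_one]
    rw [ha] at h1
    exact h1

theorem mem_dualStab (φ : L →* ℂˣ) (g : G) : g ∈ dualStab L φ ↔ dualConj L g φ = φ := Iff.rfl

theorem mem_dualStab_iff (φ : L →* ℂˣ) (g : G) :
    g ∈ dualStab L φ ↔ ∀ h : L, ((φ ⟨g * h * g⁻¹, hL.conj_mem h h.2 g⟩ : ℂˣ) : ℂ) = ((φ h : ℂˣ) : ℂ) := by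
  rw [mem_dualStab]
  constructor
  · intro h n
    have := DFunLike.congr_fun h n
    rw [dualConj_apply] at this
    rw [this]
  · intro h
    ext n
    rw [dualConj_apply]
    exact h n

omit hL in
/-- elements of the dual of a finite group have order dividing the order of the group -/
theorem dual_pow_card [Finite L] (φ : L →* ℂˣ) : φ ^ Nat.card L = 1 := by
  ext n
  rw [MonoidHom.pow_apply, ← map_pow, pow_card_eq_one', map_one]
  rfl

omit hL in
/-- an element of the dual of order prime to the order of the group is trivial -/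
theorem dual_eq_one_of_pow [Finite L] (φ : L →* ℂˣ) (r : ℕ) (hr : (Nat.card L).Coprime r)
    (h : φ ^ r = 1) : φ = 1 := by
  exact (pow_eq_one_iff_of_coprime (M := L →* ℂˣ) (a := φ) hr).1 ⟨dual_pow_card L φ, h⟩

/-- an element fixing every element of the dual of the abelian normal subgroup `L`
centralizes `L` -/
theorem comm_of_dualConj_eq [Finite G] (hLab : ∀ a ∈ L, ∀ b ∈ L, a * b = b * a) (g : G)
    (h : ∀ φ : L →* ℂˣ, dualConj L g φ = φ) : ∀ n ∈ L, g * n = n * g := by
  classical
  haveI : IsMulCommutative L := ⟨⟨fun a b => Subtype.ext (hLab a a.2 b b.2)⟩⟩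
  have hfix : ∀ θ : IrrCharacter L, conjFun L g (θ : L → ℂ) = (θ : L → ℂ) := by
    intro θ
    have h1 := irr_one_eq_one_of_comm θ
    obtain ⟨φ, hφ⟩ := exists_monoidHom_of_isCharacter_of_one
      (Cfsg.Agent.Lib.Helper3.IsIrrCharacter.isCharacter θ.2) h1
    funext n
    rw [conjFun_apply, hφ, hφ]
    have := DFunLike.congr_fun (h φ) n
    rw [dualConj_apply] at this
    rw [this]
  intro n hn
  have h1 := isConj_conjNormal_of_fixed L g hfix ⟨n, hn⟩
  obtain ⟨c, hc⟩ := isConj_iff.mp h1
  have h2 : MulAut.conjNormal g (⟨n, hn⟩ : L) = ⟨n, hn⟩ := by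
    set y := MulAut.conjNormal g (⟨n, hn⟩ : L) with hy
    have hcy : c * y = y * c := Subtype.ext (hLab c c.2 y y.2)
    have h3 : c * y * c⁻¹ = y := by rw [hcy]; group
    rw [h3] at hc
    exact hc
  have h3 := congrArg Subtype.val h2
  rw [MulAut.conjNormal_apply] at h3
  calc g * n = g * n * g⁻¹ * g := by group
    _ = n * g := by rw [h3]

end Dual

/-- A group `C` with a central subgroup `L` of order coprime to its index such that `C / L` is
abelian, is abelian. -/
theorem comm_of_central_of_coprime {C : Type*} [Group C] [Finite C] (L : Subgroup C) [L.Normal]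
    (hcent : ∀ z ∈ L, ∀ c : C, z * c = c * z) (hab : ∀ a b : C, a * b * a⁻¹ * b⁻¹ ∈ L)
    (hcop : (Nat.card L).Coprime L.index) (a b : C) : a * b = b * a := by
  set z := a * b * a⁻¹ * b⁻¹ with hz
  have hzL : z ∈ L := hab a b
  have hk : ∀ k : ℕ, a ^ k * b = z ^ k * b * a ^ k := by
    intro k
    induction k with
    | zero => simp
    | succ k ih =>
      have h1 : a * b = z * b * a := by rw [hz]; group
      calc a ^ (k + 1) * b = a * (a ^ k * b) := by rw [pow_succ']; group
        _ = a * (z ^ k * b * a ^ k) := by rw [ih]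
        _ = (a * z ^ k) * b * a ^ k := by group
        _ = (z ^ k * a) * b * a ^ k := by rw [hcent (z ^ k) (L.pow_mem hzL k) a]
        _ = z ^ k * (a * b) * a ^ k := by group
        _ = z ^ k * (z * b * a) * a ^ k := by rw [h1]
        _ = z ^ (k + 1) * b * a ^ (k + 1) := by rw [pow_succ, pow_succ']; group
  have h1 : a ^ L.index ∈ L := Subgroup.pow_index_mem L a
  have h2 := hk L.index
  rw [hcent _ h1 b] at h2
  have h3 : z ^ L.index = 1 := by
    have : 1 * (b * a ^ L.index) = z ^ L.index * (b * a ^ L.index) := by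
      rw [one_mul, ← mul_assoc]; exact h2
    exact (mul_right_cancel this).symm
  have h4 : z ^ Nat.card L = 1 := by
    have h5 : ((⟨z, hzL⟩ : L) ^ Nat.card L : L) = 1 := pow_card_eq_one'
    have h6 := congrArg Subtype.val h5
    rwa [Subgroup.coe_pow, Subgroup.coe_one] at h6
  have h5 : z = 1 := (pow_eq_one_iff_of_coprime hcop).1 ⟨h4, h3⟩
  calc a * b = z * (b * a) := by rw [hz]; group
    _ = b * a := by rw [h5, one_mul]

end Cfsg.Agent.Lib.Helper80
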