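import Cfsg.Agent.Lib.Helper80.Kernel
import Mathlib.Algebra.Group.Conj

set_option autoImplicit false

namespace Cfsg.Agent.Lib.Helper80

open Representation
open scoped ComplexConjugate

section Gagola

variable {G : Type*} [Group G] [Finite G]

/-- Structural part: the two classes where `χ` is nonzero are `{1}` and the class of some `c`. -/
theorem gagola_classes (χ : Cfsg.IrrCharacter G)
    (hχ : Nat.card {C : ConjClasses G // ∃ g ∈ C.carrier, (χ : G → ℂ) g ≠ 0} = 2) :
    ∃ c : G, c ≠ 1 ∧ (χ : G → ℂ) c ≠ 0 ∧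
      ∀ g : G, (χ : G → ℂ) g ≠ 0 → g = 1 ∨ IsConj c g := by
  let x₁ : {C : ConjClasses G // ∃ g ∈ C.carrier, (χ : G → ℂ) g ≠ 0} :=
    ⟨ConjClasses.mk 1, 1, ConjClasses.mem_carrier_mk, irr_one_ne_zero χ⟩
  obtain ⟨⟨C₀, c, hcmem, hc⟩, hne, huniq⟩ := (Nat.card_eq_two_iff' x₁).mp hχ
  have hmk : ConjClasses.mk c = C₀ := ConjClasses.mem_carrier_iff_mk_eq.mp hcmem
  refine ⟨c, ?_, hc, ?_⟩
  · intro h1
    apply hne
    apply Subtype.ext
    show C₀ = ConjClasses.mk 1
    rw [← hmk, h1]
  · intro g hg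
    by_cases h1 : g = 1
    · left; exact h1
    · right
      let y : {C : ConjClasses G // ∃ g ∈ C.carrier, (χ : G → ℂ) g ≠ 0} :=
        ⟨ConjClasses.mk g, g, ConjClasses.mem_carrier_mk, hg⟩
      have hy : y ≠ x₁ := by
        intro h
        have h2 : ConjClasses.mk g = ConjClasses.mk 1 := congrArg Subtype.val h
        rw [ConjClasses.mk_eq_mk_iff_isConj, isConj_one_left] at h2
        exact h1 h2
      have h3 := huniq y hy
      have h4 : ConjClasses.mk g = C₀ := congrArg Subtype.val h3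
      rw [← hmk, ConjClasses.mk_eq_mk_iff_isConj] at h4
      exact h4.symm

open Classical in
/-- The inner product sum of a two-class character against any irreducible character. -/
theorem gagola_sum [Fintype G] (χ ψ : Cfsg.IrrCharacter G) (c : G) (hc1 : c ≠ 1)
    (hsupp : ∀ g : G, (χ : G → ℂ) g ≠ 0 → g = 1 ∨ IsConj c g) :
    ∑ g : G, (χ : G → ℂ) g * conj ((ψ : G → ℂ) g) =
      (χ : G → ℂ) 1 * conj ((ψ : G → ℂ) 1) +
        ((Subgroup.centralizer ({c} : Set G)).index : ℂ) *
          ((χ : G → ℂ) c * conj ((ψ : G → ℂ) c)) := by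
  have hterm : ∀ g : G, (χ : G → ℂ) g * conj ((ψ : G → ℂ) g) =
      (if g = 1 then (χ : G → ℂ) 1 * conj ((ψ : G → ℂ) 1) else 0) +
        (if IsConj c g then (χ : G → ℂ) c * conj ((ψ : G → ℂ) c) else 0) := by
    intro g
    by_cases h1 : g = 1
    · subst h1
      have : ¬ IsConj c 1 := by
        rw [isConj_one_left]; exact hc1
      rw [if_pos rfl, if_neg this, add_zero]
    · rw [if_neg h1, zero_add]
      by_cases h2 : IsConj c g
      · rw [if_pos h2]
        obtain ⟨d, hd⟩ := isConj_iff.mp h2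
        rw [← hd, irr_class, irr_class]
      · rw [if_neg h2]
        have : (χ : G → ℂ) g = 0 := by
          by_contra h
          rcases hsupp g h with h | h
          · exact h1 h
          · exact h2 h
        rw [this, zero_mul]
  rw [Finset.sum_congr rfl (fun g _ => hterm g)]
  rw [Finset.sum_add_distrib, Finset.sum_ite_eq' Finset.univ (1 : G), if_pos (Finset.mem_univ _)]
  congr 1
  rw [← Finset.sum_filter, Finset.sum_const, nsmul_eq_mul, index_centralizer_eq_card_conj,
    Nat.card_eq_fintype_card, Fintype.card_subtype]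

/-- A group covered by `1` and one conjugacy class has order at most 2. -/
theorem card_le_two_of_two_classes (c : G) (hc1 : c ≠ 1)
    (hall : ∀ g : G, g = 1 ∨ IsConj c g) : Nat.card G ≤ 2 := by
  classical
  have := Fintype.ofFinite G
  -- |G| ≤ 1 + index
  have h1 : Nat.card G ≤ 1 + (Subgroup.centralizer ({c} : Set G)).index := by
    rw [index_centralizer_eq_card_conj, Nat.card_eq_fintype_card, Nat.card_eq_fintype_card,
      Fintype.card_subtype, ← Finset.card_univ]
    calc (Finset.univ : Finset G).card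
        ≤ (insert (1 : G) (Finset.univ.filter fun g => IsConj c g)).card := by
          apply Finset.card_le_card
          intro g _
          rcases hall g with h | h
          · rw [h]; exact Finset.mem_insert_self _ _
          · exact Finset.mem_insert_of_mem (Finset.mem_filter.mpr ⟨Finset.mem_univ _, h⟩)
      _ ≤ (Finset.univ.filter fun g => IsConj c g).card + 1 := Finset.card_insert_le _ _
      _ = 1 + (Finset.univ.filter fun g => IsConj c g).card := by ring
  -- |C(c)| ≥ 2
  have h2 : 2 ≤ Nat.card (Subgroup.centralizer ({c} : Set G)) := by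
    have hc : c ∈ Subgroup.centralizer ({c} : Set G) := by
      rw [Subgroup.mem_centralizer_singleton_iff]
    rw [Nat.card_eq_fintype_card]
    have : (⟨c, hc⟩ : Subgroup.centralizer ({c} : Set G)) ≠ 1 := by
      intro h
      exact hc1 (congrArg Subtype.val h)
    exact Fintype.one_lt_card_iff_nontrivial.mpr ⟨⟨_, _, this⟩⟩
  have h3 := Subgroup.index_mul_card (Subgroup.centralizer ({c} : Set G))
  nlinarith

/-- Gagola's basic relations. -/
theorem gagola_basic (hG : 2 < Nat.card G) (χ : Cfsg.IrrCharacter G)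
    (hχ : Nat.card {C : ConjClasses G // ∃ g ∈ C.carrier, (χ : G → ℂ) g ≠ 0} = 2) :
    ∃ c : G, c ≠ 1 ∧ (χ : G → ℂ) c ≠ 0 ∧
      (∀ g : G, (χ : G → ℂ) g ≠ 0 → g = 1 ∨ IsConj c g) ∧
      ((Subgroup.centralizer ({c} : Set G)).index : ℂ) * (χ : G → ℂ) c = -(χ : G → ℂ) 1 ∧
      (∀ ψ : Cfsg.IrrCharacter G, ψ ≠ χ → (ψ : G → ℂ) c = (ψ : G → ℂ) 1) := by
  classical
  have := Fintype.ofFinite G
  obtain ⟨c, hc1, hc, hsupp⟩ := gagola_classes χ hχ
  have hχtriv : χ ≠ trivIrr G := by
    intro h
    have hall : ∀ g : G, g = 1 ∨ IsConj c g := by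
      intro g
      apply hsupp
      rw [h, trivIrr_apply]
      exact one_ne_zero
    have := card_le_two_of_two_classes c hc1 hall
    omega
  have hrel : ((Subgroup.centralizer ({c} : Set G)).index : ℂ) * (χ : G → ℂ) c =
      -(χ : G → ℂ) 1 := by
    have h1 := gagola_sum χ (trivIrr G) c hc1 hsupp
    rw [irr_row_orthogonality, if_neg hχtriv] at h1
    simp only [trivIrr_apply, map_one, mul_one] at h1
    linear_combination -h1
  refine ⟨c, hc1, hc, hsupp, hrel, ?_⟩
  intro ψ hψ
  have h1 := gagola_sum χ ψ c hc1 hsupp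
  rw [irr_row_orthogonality, if_neg (Ne.symm hψ)] at h1
  have h2 : (χ : G → ℂ) 1 * (conj ((ψ : G → ℂ) 1) - conj ((ψ : G → ℂ) c)) = 0 := by
    linear_combination (-1 : ℂ) * h1 - conj ((ψ : G → ℂ) c) * hrel
  rcases mul_eq_zero.mp h2 with h | h
  · exact absurd h (irr_one_ne_zero χ)
  · have h3 : conj ((ψ : G → ℂ) c) = conj ((ψ : G → ℂ) 1) := (sub_eq_zero.mp h).symm
    exact (starRingEnd ℂ).injective h3

/-- A two-class character is faithful. -/
theorem gagola_faithful (hG : 2 < Nat.card G) (χ : Cfsg.IrrCharacter G)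
    (hχ : Nat.card {C : ConjClasses G // ∃ g ∈ C.carrier, (χ : G → ℂ) g ≠ 0} = 2) (g : G)
    (hg : (χ : G → ℂ) g = (χ : G → ℂ) 1) : g = 1 := by
  obtain ⟨c, hc1, hc, hsupp, hrel, _⟩ := gagola_basic hG χ hχ
  by_contra hg1
  have hne : (χ : G → ℂ) g ≠ 0 := by rw [hg]; exact irr_one_ne_zero χ
  rcases hsupp g hne with h | h
  · exact hg1 h
  · obtain ⟨d, hd⟩ := isConj_iff.mp h
    have h2 : (χ : G → ℂ) g = (χ : G → ℂ) c := by rw [← hd, irr_class]
    rw [← h2, hg] at hrel
    have h3 : (((Subgroup.centralizer ({c} : Set G)).index : ℂ) + 1) * (χ : G → ℂ) 1 = 0 := by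
      linear_combination hrel
    rcases mul_eq_zero.mp h3 with h | h
    · have : (((Subgroup.centralizer ({c} : Set G)).index + 1 : ℕ) : ℂ) = 0 := by
        push_cast; exact h
      exact absurd (Nat.cast_eq_zero.mp this) (Nat.succ_ne_zero _)
    · exact irr_one_ne_zero χ h

end Gagola

end Cfsg.Agent.Lib.Helper80
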