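import Cfsg.Agent.Lib.Helper80.Gagola

set_option autoImplicit false

namespace Cfsg.Agent.Lib.Helper80

open Representation
open scoped ComplexConjugate

section Gagola2

variable {G : Type*} [Group G] [Finite G]

/-- If all irreducible characters other than `χ` are trivial at `g ≠ 1`, then `χ g ≠ 0`. -/
theorem ne_zero_of_others_trivial (χ : Cfsg.IrrCharacter G) (hχ : χ ≠ trivIrr G) (g : G)
    (hg : g ≠ 1) (hker : ∀ ψ : Cfsg.IrrCharacter G, ψ ≠ χ → (ψ : G → ℂ) g = (ψ : G → ℂ) 1) :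
    (χ : G → ℂ) g ≠ 0 := by
  classical
  have := Fintype.ofFinite G
  have := Fintype.ofFinite (Cfsg.IrrCharacter G)
  intro h0
  have hcol := irr_column_orthogonality (G := G) g 1
  rw [if_neg (by rw [isConj_one_left]; exact hg)] at hcol
  rw [← Finset.add_sum_erase Finset.univ _ (Finset.mem_univ χ), h0, zero_mul, zero_add] at hcol
  have h1 : ∑ ψ ∈ Finset.univ.erase χ, (ψ : G → ℂ) g * conj ((ψ : G → ℂ) 1) =
      ((∑ ψ ∈ Finset.univ.erase χ, Complex.normSq ((ψ : G → ℂ) 1) : ℝ) : ℂ) := by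
    push_cast
    refine Finset.sum_congr rfl fun ψ hψ => ?_
    rw [hker ψ (Finset.ne_of_mem_erase hψ), Complex.mul_conj]
  rw [h1] at hcol
  have h2 : ∑ ψ ∈ Finset.univ.erase χ, Complex.normSq ((ψ : G → ℂ) 1) = 0 := by
    exact_mod_cast hcol
  have hmem : trivIrr G ∈ Finset.univ.erase χ :=
    Finset.mem_erase.mpr ⟨Ne.symm hχ, Finset.mem_univ _⟩
  have h3 := (Finset.sum_eq_zero_iff_of_nonneg
    (fun ψ _ => Complex.normSq_nonneg _)).mp h2 (trivIrr G) hmem
  rw [trivIrr_apply] at h3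
  simp at h3

/-- The normal subgroup on which a two-class character is supported. -/
theorem gagola_subgroup (hG : 2 < Nat.card G) (χ : Cfsg.IrrCharacter G)
    (hχ : Nat.card {C : ConjClasses G // ∃ g ∈ C.carrier, (χ : G → ℂ) g ≠ 0} = 2) :
    ∃ (c : G) (N : Subgroup G), c ≠ 1 ∧ (χ : G → ℂ) c ≠ 0 ∧ N.Normal ∧
      (∀ g : G, g ∈ N ↔ g = 1 ∨ IsConj c g) ∧
      (∀ g : G, (χ : G → ℂ) g ≠ 0 ↔ g ∈ N) ∧
      (∀ ψ : Cfsg.IrrCharacter G, ψ ≠ χ → ∀ n ∈ N, (ψ : G → ℂ) n = (ψ : G → ℂ) 1) ∧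
      χ ≠ trivIrr G := by
  obtain ⟨c, hc1, hc, hsupp, hrel, hker⟩ := gagola_basic hG χ hχ
  have hχtriv : χ ≠ trivIrr G := by
    intro h
    rw [h, trivIrr_apply, trivIrr_apply, mul_one] at hrel
    have : (((Subgroup.centralizer ({c} : Set G)).index + 1 : ℕ) : ℂ) = 0 := by
      push_cast; linear_combination hrel
    exact absurd (Nat.cast_eq_zero.mp this) (Nat.succ_ne_zero _)
  let N : Subgroup G := Subgroup.normalClosure ({c} : Set G)
  have hNn : N.Normal := Subgroup.normalClosure_normal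
  have hcN : c ∈ N := Subgroup.subset_normalClosure (Set.mem_singleton c)
  have hkerN : ∀ ψ : Cfsg.IrrCharacter G, ψ ≠ χ → ∀ n ∈ N, (ψ : G → ℂ) n = (ψ : G → ℂ) 1 := by
    intro ψ hψ n hn
    obtain ⟨K, hKn, hK, _⟩ := irr_exists_ker ψ
    have hle : N ≤ K := by
      apply Subgroup.normalClosure_le_normal
      intro x hx
      rw [Set.mem_singleton_iff] at hx
      rw [hx]
      exact (hK c).mpr (hker ψ hψ)
    exact (hK n).mp (hle hn)
  have hN : ∀ g : G, g ∈ N ↔ g = 1 ∨ IsConj c g := by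
    intro g
    constructor
    · intro hg
      by_cases h1 : g = 1
      · left; exact h1
      · exact hsupp g (ne_zero_of_others_trivial χ hχtriv g h1
          (fun ψ hψ => hkerN ψ hψ g hg))
    · rintro (h | h)
      · rw [h]; exact N.one_mem
      · obtain ⟨d, hd⟩ := isConj_iff.mp h
        rw [← hd]
        exact hNn.conj_mem c hcN d
  refine ⟨c, N, hc1, hc, hNn, hN, ?_, hkerN, hχtriv⟩
  intro g
  constructor
  · intro hg
    exact (hN g).mpr (hsupp g hg)
  · intro hg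
    rcases (hN g).mp hg with h | h
    · rw [h]; exact irr_one_ne_zero χ
    · obtain ⟨d, hd⟩ := isConj_iff.mp h
      rw [← hd, irr_class]
      exact hc

open Classical in
/-- For a normal subgroup `K` not containing `c`, some irreducible character with `K` in its
kernel is nontrivial at `c`. -/
theorem exists_good_char_ne (K : Subgroup G) [K.Normal] (c : G) (hcK : c ∉ K) :
    ∃ ψ : Cfsg.IrrCharacter G, (∀ x ∈ K, (ψ : G → ℂ) x = (ψ : G → ℂ) 1) ∧
      (ψ : G → ℂ) c ≠ (ψ : G → ℂ) 1 := by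
  have := Fintype.ofFinite G
  have := Fintype.ofFinite (Cfsg.IrrCharacter G)
  by_contra hcon
  push Not at hcon
  -- D = sum over k in K of sum_psi psi(c k) conj psi(1) = 0
  have hD1 : ∑ k : G, (if k ∈ K then
      ∑ ψ : Cfsg.IrrCharacter G, (ψ : G → ℂ) (c * k) * conj ((ψ : G → ℂ) 1) else 0) = 0 := by
    refine Finset.sum_eq_zero fun k _ => ?_
    split_ifs with hk
    · rw [irr_column_orthogonality, if_neg]
      rw [isConj_one_left]
      intro h
      apply hcK
      have : c = k⁻¹ := eq_inv_of_mul_eq_one_left h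
      rw [this]
      exact K.inv_mem hk
    · rfl
  have hD2 : ∑ k : G, (if k ∈ K then
      ∑ ψ : Cfsg.IrrCharacter G, (ψ : G → ℂ) (c * k) * conj ((ψ : G → ℂ) 1) else 0) =
      (Nat.card K : ℂ) * ((∑ ψ : Cfsg.IrrCharacter G,
        (if ∀ x ∈ K, (ψ : G → ℂ) x = (ψ : G → ℂ) 1 then
          Complex.normSq ((ψ : G → ℂ) 1) else 0) : ℝ) : ℂ) := by
    have h1 : ∀ k : G, (if k ∈ K then
        ∑ ψ : Cfsg.IrrCharacter G, (ψ : G → ℂ) (c * k) * conj ((ψ : G → ℂ) 1) else 0) =
        ∑ ψ : Cfsg.IrrCharacter G, conj ((ψ : G → ℂ) 1) *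
          (if k ∈ K then (ψ : G → ℂ) (c * k) else 0) := by
      intro k
      split_ifs
      · refine Finset.sum_congr rfl fun ψ _ => ?_
        rw [mul_comm]
      · simp
    rw [Finset.sum_congr rfl (fun k _ => h1 k), Finset.sum_comm]
    push_cast
    rw [Finset.mul_sum]
    refine Finset.sum_congr rfl fun ψ _ => ?_
    rw [← Finset.mul_sum]
    split_ifs with hgood
    · rw [(irr_sum_normal ψ K c).1 hgood, hcon ψ hgood, ← Complex.mul_conj]
      ring
    · push Not at hgood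
      rw [(irr_sum_normal ψ K c).2 hgood, mul_zero]
      simp
  have hKne : (Nat.card K : ℂ) ≠ 0 := by
    have : 0 < Nat.card K := Nat.card_pos
    exact_mod_cast this.ne'
  have h3 := hD2.symm.trans hD1
  have h4 : ∑ ψ : Cfsg.IrrCharacter G,
      (if ∀ x ∈ K, (ψ : G → ℂ) x = (ψ : G → ℂ) 1 then
        Complex.normSq ((ψ : G → ℂ) 1) else 0) = 0 := by
    have := (mul_eq_zero.mp h3).resolve_left hKne
    exact_mod_cast this
  have h5 := (Finset.sum_eq_zero_iff_of_nonneg (fun ψ _ => by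
    split_ifs
    · exact Complex.normSq_nonneg _
    · exact le_refl _)).mp h4 (trivIrr G) (Finset.mem_univ _)
  have htriv : ∀ x ∈ K, ((trivIrr G : Cfsg.IrrCharacter G) : G → ℂ) x =
      ((trivIrr G : Cfsg.IrrCharacter G) : G → ℂ) 1 := fun x _ => rfl
  rw [if_pos htriv, trivIrr_apply] at h5
  simp at h5

end Gagola2

end Cfsg.Agent.Lib.Helper80
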