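import Cfsg.Agent.Lib.Helper80.Gagola2
import Cfsg.Prelude.Def_Transfer
import Mathlib.GroupTheory.PGroup
import Mathlib.GroupTheory.Perm.Cycle.Type

set_option autoImplicit false

namespace Cfsg.Agent.Lib.Helper80

open Representation
open scoped ComplexConjugate

section Gagola3

variable {G : Type*} [Group G] [Finite G]

/-- Any two nonidentity elements of the support subgroup are conjugate. -/
theorem gagola_conj (c : G) (N : Subgroup G) (hN : ∀ g : G, g ∈ N ↔ g = 1 ∨ IsConj c g)
    (x y : G) (hx : x ∈ N) (hy : y ∈ N) (hx1 : x ≠ 1) (hy1 : y ≠ 1) :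
    ∃ g : G, g * x * g⁻¹ = y := by
  have h1 : IsConj c x := ((hN x).mp hx).resolve_left hx1
  have h2 : IsConj c y := ((hN y).mp hy).resolve_left hy1
  exact isConj_iff.mp (h1.symm.trans h2)

/-- A normal subgroup whose nonidentity elements form one conjugacy class of `G` is
elementary abelian. -/
theorem gagola_elementary_abelian (c : G) (hc1 : c ≠ 1) (N : Subgroup G) [hNn : N.Normal]
    (hN : ∀ g : G, g ∈ N ↔ g = 1 ∨ IsConj c g) :
    ∃ p : ℕ, p.Prime ∧ Cfsg.IsElementaryAbelian p N := by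
  have hcN : c ∈ N := (hN c).mpr (Or.inr (IsConj.refl c))
  have hnt : Nontrivial N := ⟨⟨⟨c, hcN⟩, 1, fun h => hc1 (congrArg Subtype.val h)⟩⟩
  have hcard : 1 < Nat.card N := Finite.one_lt_card
  obtain ⟨p, hp, hpd⟩ := Nat.exists_prime_and_dvd hcard.ne'
  have hfact : Fact p.Prime := ⟨hp⟩
  obtain ⟨⟨x, hxN⟩, hx⟩ := exists_prime_orderOf_dvd_card' p hpd
  have hxo : orderOf x = p := by
    rw [← hx, Subgroup.orderOf_mk]
  have hx1 : x ≠ 1 := by
    intro h
    rw [h, orderOf_one] at hxo
    exact hp.one_lt.ne hxo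
  -- every element of N has p-th power 1
  have hpow : ∀ a ∈ N, a ^ p = 1 := by
    intro a ha
    by_cases ha1 : a = 1
    · rw [ha1, one_pow]
    · obtain ⟨g, hg⟩ := gagola_conj c N hN x a hxN ha hx1 ha1
      rw [← hg, conj_pow, ← hxo, pow_orderOf_eq_one, mul_one, mul_inv_cancel]
  refine ⟨p, hp, ?_, hpow⟩
  -- commutativity via the centre
  have hPG : IsPGroup p N := by
    intro a
    refine ⟨1, ?_⟩
    rw [pow_one]
    apply Subtype.ext
    simpa using hpow a.1 a.2
  have hcen : Nontrivial (Subgroup.center N) := hPG.center_nontrivial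
  obtain ⟨⟨z, hz⟩, hz1⟩ := exists_ne (1 : Subgroup.center N)
  have hz1' : (z : G) ≠ 1 := by
    intro h
    apply hz1
    apply Subtype.ext
    apply Subtype.ext
    exact h
  have hzc : ∀ n : N, (z : G) * n = n * z := by
    intro n
    have := (Subgroup.mem_center_iff.mp hz) n
    have h2 := congrArg Subtype.val this
    simpa using h2.symm
  rw [isMulCommutative_iff]
  intro a b
  apply Subtype.ext
  show (a : G) * b = b * a
  by_cases ha1 : (a : G) = 1
  · rw [ha1, one_mul, mul_one]
  · obtain ⟨g, hg⟩ := gagola_conj c N hN z a z.2 a.2 hz1' ha1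
    have hb' : g⁻¹ * b * g ∈ N := by
      have := hNn.conj_mem b b.2 g⁻¹
      simpa using this
    have h3 := hzc ⟨g⁻¹ * b * g, hb'⟩
    simp only at h3
    rw [← hg]
    calc g * z * g⁻¹ * b = g * (z * (g⁻¹ * b * g)) * g⁻¹ := by group
      _ = g * ((g⁻¹ * b * g) * z) * g⁻¹ := by rw [h3]
      _ = b * (g * z * g⁻¹) := by group

end Gagola3

end Cfsg.Agent.Lib.Helper80
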