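import Cfsg.Agent.Lib.Helper80.Gagola3
import Cfsg.Agent.Lib.Helper80.Zeros
import Cfsg.Agent.Lib.Helper80.ClassConst

set_option autoImplicit false

namespace Cfsg.Agent.Lib.Helper80

open Cfsg
open scoped ComplexConjugate

section Gagola4

variable {G : Type*} [Group G] [Finite G]

/-- The numerical structure of a Gagola pair `(G, χ)`, first part: the class `c`, the integer `e`
with `χ = -e` on `N \ 1`, `χ 1 = e (n - 1)` and `|G| = e² n (n - 1)`. -/
theorem gagola_numbers (hG : 2 < Nat.card G) (χ : Cfsg.IrrCharacter G)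
    (hχ : Nat.card {C : ConjClasses G // ∃ g ∈ C.carrier, (χ : G → ℂ) g ≠ 0} = 2)
    (N : Subgroup G) (hN : ∀ g : G, g ∈ N ↔ (χ : G → ℂ) g ≠ 0) :
    ∃ (c : G) (e i : ℕ), c ≠ 1 ∧ (∀ g : G, g ∈ N ↔ g = 1 ∨ IsConj c g) ∧
      i = (Subgroup.centralizer ({c} : Set G)).index ∧ Nat.card N = i + 1 ∧ 0 < e ∧ 0 < i ∧
      (χ : G → ℂ) 1 = ((e * i : ℕ) : ℂ) ∧
      (∀ x ∈ N, x ≠ 1 → (χ : G → ℂ) x = -(e : ℂ)) ∧
      Nat.card G = e ^ 2 * (i + 1) * i := by
  classical
  have := Fintype.ofFinite G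
  obtain ⟨c, hc1, hc, hsupp, hrel, -⟩ := gagola_basic hG χ hχ
  have hNc : ∀ g : G, g ∈ N ↔ g = 1 ∨ IsConj c g := by
    intro g
    rw [hN]
    constructor
    · exact hsupp g
    · rintro (rfl | h)
      · exact irr_one_ne_zero χ
      · obtain ⟨t, ht⟩ := isConj_iff.mp h
        rw [← ht, irr_class]
        exact hc
  set i := (Subgroup.centralizer ({c} : Set G)).index with hi
  have hipos : 0 < i := Nat.pos_of_ne_zero (Subgroup.index_ne_zero_of_finite)
  -- |N| = i + 1
  have hcardN : Nat.card N = i + 1 := by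
    rw [hi, index_centralizer_eq_card_conj]
    have e1 : Nat.card N = Nat.card {g : G // g = 1 ∨ IsConj c g} := by
      apply Nat.card_congr
      exact Equiv.subtypeEquivRight (fun g => hNc g)
    rw [e1, Nat.card_eq_fintype_card, Nat.card_eq_fintype_card, Fintype.card_subtype_or_disjoint]
    · simp [add_comm]
    · rw [disjoint_iff_inf_le]
      rintro g ⟨h1, h2⟩
      have h1' : g = 1 := h1
      have h2' : IsConj c g := h2
      rw [h1'] at h2'
      exact hc1 (isConj_one_left.mp h2')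
  -- degree
  obtain ⟨d, hdpos, hd⟩ := irr_one_eq_natCast χ
  have hiC : (i : ℂ) ≠ 0 := by exact_mod_cast hipos.ne'
  have hχc : (χ : G → ℂ) c = -((d : ℂ) / (i : ℂ)) := by
    rw [hd] at hrel
    field_simp
    linear_combination hrel
  have hint : IsIntegral ℤ ((d : ℂ) / (i : ℂ)) := by
    have := (irr_isIntegral χ c).neg
    rwa [hχc, neg_neg] at this
  obtain ⟨e, he⟩ := Cfsg.Agent.Lib.Helper3.nat_dvd_of_isIntegral_div hipos.ne' hint
  have hepos : 0 < e := by
    rcases Nat.eq_zero_or_pos e with h0 | h0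
    · rw [h0, mul_zero] at he; omega
    · exact h0
  have hχc' : (χ : G → ℂ) c = -(e : ℂ) := by
    rw [hχc, he]
    push_cast
    field_simp
  have hd' : (χ : G → ℂ) 1 = ((e * i : ℕ) : ℂ) := by
    rw [hd, he, mul_comm]
  refine ⟨c, e, i, hc1, hNc, rfl, hcardN, hepos, hipos, hd', ?_, ?_⟩
  · intro x hx hx1
    have h := ((hNc x).mp hx).resolve_left hx1
    obtain ⟨t, ht⟩ := isConj_iff.mp h
    rw [← ht, irr_class, hχc']
  · have hsum := gagola_sum χ χ c hc1 hsupp
    have hrow := irr_row_orthogonality χ χ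
    rw [if_pos rfl] at hrow
    rw [hrow, hd', hχc'] at hsum
    have h2 : (Nat.card G : ℂ) = ((e ^ 2 * (i + 1) * i : ℕ) : ℂ) := by
      rw [hsum]
      simp only [map_neg, map_natCast]
      push_cast
      ring
    exact_mod_cast h2

/-- In a Gagola pair with `N` a `p`-group, the integer `e` is a power of `p`. -/
theorem gagola_e_pow (χ : Cfsg.IrrCharacter G) (N : Subgroup G)
    (hN : ∀ g : G, g ∈ N ↔ (χ : G → ℂ) g ≠ 0) (p : ℕ) [Fact p.Prime] (hNp : IsPGroup p N)
    (e i : ℕ) (hepos : 0 < e) (hipos : 0 < i) (hcardN : Nat.card N = i + 1)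
    (hd : (χ : G → ℂ) 1 = ((e * i : ℕ) : ℂ)) (hcard : Nat.card G = e ^ 2 * (i + 1) * i) :
    ∃ j : ℕ, e = p ^ j := by
  classical
  have hp : p.Prime := Fact.out
  obtain ⟨k, hk⟩ := IsPGroup.iff_card.mp hNp
  refine ⟨e.primeFactorsList.length, Nat.eq_prime_pow_of_unique_prime_dvd hepos.ne' ?_⟩
  intro q hq hqe
  by_contra hqp
  have : Fact q.Prime := ⟨hq⟩
  let Q : Sylow q G := default
  have := Fintype.ofFinite (Q : Subgroup G)
  have hχchar : IsCharacter G (χ : G → ℂ) :=
    Cfsg.Agent.Lib.Helper3.IsIrrCharacter.isCharacter χ.2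
  have hvan : ∀ z : (Q : Subgroup G), z ≠ 1 → (χ : G → ℂ) (z : G) = 0 := by
    intro z hz1
    by_contra hne
    have hzN : (z : G) ∈ N := (hN _).mpr hne
    obtain ⟨a, ha⟩ := (IsPGroup.iff_orderOf.mp hNp) ⟨(z : G), hzN⟩
    obtain ⟨b, hb⟩ := (IsPGroup.iff_orderOf.mp Q.isPGroup') z
    rw [Subgroup.orderOf_mk] at ha
    rw [← Subgroup.orderOf_coe, ha] at hb
    have hab : a = 0 := by
      by_contra ha0
      have h1 : p ∣ q ^ b := by rw [← hb]; exact dvd_pow_self p ha0
      have h2 : p ∣ q := hp.dvd_of_dvd_pow h1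
      exact hqp ((Nat.prime_dvd_prime_iff_eq hp hq).mp h2).symm
    rw [hab, pow_zero, orderOf_eq_one_iff] at ha
    exact hz1 (Subtype.ext ha)
  obtain ⟨m, hm⟩ := exists_sum_subgroup_eq hχchar (Q : Subgroup G)
  have hsumQ : ∑ z : (Q : Subgroup G), (χ : G → ℂ) (z : G) = ((e * i : ℕ) : ℂ) := by
    rw [Finset.sum_eq_single (1 : (Q : Subgroup G))]
    · simp only [Subgroup.coe_one]; exact hd
    · intro z _ hz1
      exact hvan z hz1
    · intro h; exact absurd (Finset.mem_univ _) h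
  rw [hsumQ] at hm
  have hnat : e * i = Nat.card (Q : Subgroup G) * m := by exact_mod_cast hm
  have hQcard : Nat.card (Q : Subgroup G) = q ^ (Nat.card G).factorization q :=
    Q.card_eq_multiplicity
  have hdvd : q ^ (Nat.card G).factorization q ∣ e * i := by
    rw [← hQcard, hnat]; exact Dvd.intro _ rfl
  have hei0 : e * i ≠ 0 := (Nat.mul_pos hepos hipos).ne'
  have h1 := (padicValNat_dvd_iff_le hei0).mp hdvd
  rw [Nat.factorization_def _ hq, hcard] at h1
  have hi1 : i + 1 = p ^ k := by rw [← hcardN, hk]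
  rw [padicValNat.mul (by positivity) hipos.ne', padicValNat.mul (by positivity) (by omega),
    padicValNat.pow e 2, padicValNat.mul hepos.ne' hipos.ne', hi1,
    padicValNat.pow p k, padicValNat_primes hqp] at h1
  have hqe' : 1 ≤ padicValNat q e := one_le_padicValNat_of_dvd hepos.ne' hqe
  omega

/-- Centralizers of nonidentity elements of `N` have order `e² n`. -/
theorem gagola_centralizer_card (c : G) (N : Subgroup G)
    (hNc : ∀ g : G, g ∈ N ↔ g = 1 ∨ IsConj c g) (e i : ℕ) (hipos : 0 < i)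
    (hi : i = (Subgroup.centralizer ({c} : Set G)).index)
    (hcard : Nat.card G = e ^ 2 * (i + 1) * i) (x : G) (hx : x ∈ N) (hx1 : x ≠ 1) :
    Nat.card (Subgroup.centralizer ({x} : Set G)) = e ^ 2 * (i + 1) := by
  have hcx : IsConj c x := ((hNc x).mp hx).resolve_left hx1
  have hidx : (Subgroup.centralizer ({x} : Set G)).index = i := by
    rw [hi, index_centralizer_eq_card_conj, index_centralizer_eq_card_conj]
    apply Nat.card_congr
    refine Equiv.subtypeEquivRight fun h => ?_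
    exact ⟨fun hh => hcx.trans hh, fun hh => hcx.symm.trans hh⟩
  have h1 := Subgroup.index_mul_card (Subgroup.centralizer ({x} : Set G))
  rw [hidx, hcard] at h1
  have h2 : i * Nat.card (Subgroup.centralizer ({x} : Set G)) = i * (e ^ 2 * (i + 1)) := by
    rw [h1]; ring
  exact Nat.eq_of_mul_eq_mul_left hipos h2

/-- The `p`-part of `|G|` in a Gagola pair. -/
theorem gagola_sylow_card (N : Subgroup G) (p : ℕ) [Fact p.Prime] (hNp : IsPGroup p N)
    (hN1 : N ≠ ⊥) (e i j : ℕ) (hej : e = p ^ j) (hcardN : Nat.card N = i + 1)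
    (hcard : Nat.card G = e ^ 2 * (i + 1) * i) :
    p ^ (Nat.card G).factorization p = e ^ 2 * (i + 1) := by
  have hp : p.Prime := Fact.out
  obtain ⟨k, hk⟩ := IsPGroup.iff_card.mp hNp
  have hi1 : i + 1 = p ^ k := by rw [← hcardN, hk]
  have hk1 : k ≠ 0 := by
    rintro rfl
    rw [pow_zero] at hk
    exact hN1 (Subgroup.card_eq_one.mp hk)
  have hpi : ¬ p ∣ i := by
    intro h
    have h2 : p ∣ i + 1 := by rw [hi1]; exact dvd_pow_self p hk1
    have h3 : p ∣ 1 := (Nat.dvd_add_right h).mp h2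
    exact hp.one_lt.ne' (Nat.dvd_one.mp h3)
  have hipos : 0 < i := by
    rcases Nat.eq_zero_or_pos i with h0 | h0
    · exact absurd (h0 ▸ dvd_zero p) hpi
    · exact h0
  have hG : Nat.card G = p ^ (2 * j + k) * i := by
    rw [hcard, hej, hi1, ← pow_mul, ← pow_add, mul_comm j 2]
  rw [hG, Nat.factorization_mul (pow_ne_zero _ hp.ne_zero) hipos.ne', Finsupp.add_apply,
    Nat.Prime.factorization_pow hp, Finsupp.single_eq_same,
    Nat.factorization_eq_zero_of_not_dvd hpi, add_zero, hej, hi1, ← pow_mul, ← pow_add,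
    mul_comm j 2]

/-- Centralizers of nonidentity elements of `N` are Sylow `p`-subgroups. -/
theorem gagola_centralizer_sylow (hG : 2 < Nat.card G) (χ : Cfsg.IrrCharacter G)
    (hχ : Nat.card {C : ConjClasses G // ∃ g ∈ C.carrier, (χ : G → ℂ) g ≠ 0} = 2)
    (p : ℕ) [Fact p.Prime] (N : Subgroup G) (hN : ∀ g : G, g ∈ N ↔ (χ : G → ℂ) g ≠ 0)
    (hNp : IsPGroup p N) (hN1 : N ≠ ⊥) (x : G) (hx : x ∈ N) (hx1 : x ≠ 1) :
    Nat.card (Subgroup.centralizer ({x} : Set G)) = p ^ (Nat.card G).factorization p := by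
  obtain ⟨c, e, i, hc1, hNc, hi, hcardN, hepos, hipos, hd, hval, hcard⟩ :=
    gagola_numbers hG χ hχ N hN
  obtain ⟨j, hej⟩ := gagola_e_pow χ N hN p hNp e i hepos hipos hcardN hd hcard
  rw [gagola_centralizer_card c N hNc e i hipos hi hcard x hx hx1,
    gagola_sylow_card N p hNp hN1 e i j hej hcardN hcard]

end Gagola4

end Cfsg.Agent.Lib.Helper80
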