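import Cfsg.Agent.Lib.Helper80.Gagola4
import Cfsg.Agent.Lib.Helper80.JointEigen
import Cfsg.Agent.Lib.Helper75.Clifford
import Cfsg.Agent.Lib.Helper3.Ortho

set_option autoImplicit false
set_option linter.style.haveILetI false

namespace Cfsg.Agent.Lib.Helper80

open Cfsg
open Cfsg.Agent.Lib.Helper75
open scoped ComplexConjugate

section Gagola5

universe u

variable {G : Type u} [Group G]

/-- The action of `G` on the irreducible characters of a normal subgroup. -/
@[reducible] noncomputable def irrConjAction (N : Subgroup G) [hN : N.Normal] :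
    MulAction G (IrrCharacter N) where
  smul g θ := ⟨conjFun N g⁻¹ (θ : N → ℂ), conjFun_isIrrCharacter N g⁻¹ θ.2⟩
  one_smul θ := by
    apply Subtype.ext
    show conjFun N (1 : G)⁻¹ (θ : N → ℂ) = θ
    rw [inv_one, conjFun_one]
  mul_smul g h θ := by
    apply Subtype.ext
    show conjFun N (g * h)⁻¹ (θ : N → ℂ) = conjFun N g⁻¹ (conjFun N h⁻¹ (θ : N → ℂ))
    rw [conjFun_conjFun, mul_inv_rev]

/-- In a commutative finite group the irreducible characters are as many as the elements. -/
theorem card_irr_of_comm {A : Type u} [Group A] [Finite A] [IsMulCommutative A] :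
    Nat.card (IrrCharacter A) = Nat.card A := by
  rw [Cfsg.Agent.Lib.Helper3.card_irrCharacter]
  symm
  apply Nat.card_congr
  refine Equiv.ofBijective (ConjClasses.mk : A → ConjClasses A) ⟨?_, ConjClasses.mk_surjective⟩
  intro a b hab
  rw [ConjClasses.mk_eq_mk_iff_isConj] at hab
  obtain ⟨c, hc⟩ := isConj_iff.mp hab
  rw [← hc, mul_comm' c a, mul_assoc, mul_inv_cancel, mul_one]

variable [Finite G]

/-- The restriction of the Gagola character to `N` contains exactly the nontrivial irreducible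
characters of `N`. -/
theorem gagola_restrict_inner [Fintype G] (χ : Cfsg.IrrCharacter G) (N : Subgroup G) [Fintype N]
    [IsMulCommutative N] (e i : ℕ) (hepos : 0 < e) (hcardN : Nat.card N = i + 1)
    (hd : (χ : G → ℂ) 1 = ((e * i : ℕ) : ℂ))
    (hval : ∀ x ∈ N, x ≠ 1 → (χ : G → ℂ) x = -(e : ℂ)) (θ : Cfsg.IrrCharacter N) :
    Cfsg.classInner (fun n : N => (χ : G → ℂ) n) (θ : N → ℂ) ≠ 0 ↔
      (θ : N → ℂ) ≠ fun _ => (1 : ℂ) := by
  classical
  have hNC : (Nat.card N : ℂ) ≠ 0 := by exact_mod_cast Nat.card_pos.ne'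
  have hθ1 : (θ : N → ℂ) 1 = 1 := irr_one_eq_one_of_comm θ
  have hχx : ∀ x : N, (χ : G → ℂ) (x : G) =
      -(e : ℂ) + if x = 1 then ((e * i : ℕ) : ℂ) + (e : ℂ) else 0 := by
    intro x
    by_cases hx : x = 1
    · rw [hx, if_pos rfl, Subgroup.coe_one, hd]; ring
    · rw [if_neg hx, add_zero]
      exact hval x x.2 (fun h => hx (Subtype.ext h))
  have hrow := irr_row_orthogonality θ (trivIrr N)
  simp only [trivIrr_apply, map_one, mul_one] at hrow
  have hsum : ∑ x : N, (χ : G → ℂ) (x : G) * conj ((θ : N → ℂ) x) =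
      -(e : ℂ) * conj (∑ x : N, (θ : N → ℂ) x) + (((e * i : ℕ) : ℂ) + (e : ℂ)) := by
    simp only [hχx, add_mul, Finset.sum_add_distrib, ite_mul, zero_mul]
    rw [Finset.sum_ite_eq' Finset.univ (1 : N), if_pos (Finset.mem_univ _), hθ1, map_one, mul_one,
      ← Finset.mul_sum, map_sum]
    ring
  unfold Cfsg.classInner
  rw [hsum, hrow]
  have htriv : θ = trivIrr N ↔ (θ : N → ℂ) = fun _ => (1 : ℂ) :=
    ⟨fun h => by rw [h]; rfl, fun h => Subtype.ext h⟩
  by_cases hθ : θ = trivIrr N
  · rw [if_pos hθ]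
    constructor
    · intro h
      exfalso
      apply h
      rw [hcardN]
      push_cast
      simp only [map_add, map_natCast, map_one]
      ring
    · intro h
      exact absurd (htriv.mp hθ) h
  · rw [if_neg hθ, map_zero, mul_zero, zero_add]
    constructor
    · intro _ h
      exact hθ (htriv.mpr h)
    · intro _
      apply mul_ne_zero (inv_ne_zero hNC)
      have : (((e * i : ℕ) : ℂ) + (e : ℂ)) = ((e * (i + 1) : ℕ) : ℂ) := by push_cast; ring
      rw [this]
      exact_mod_cast (Nat.mul_pos hepos (Nat.succ_pos i)).ne'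

/-- The inertia group of a nontrivial irreducible character of `N` has order the `p`-part of
`|G|`. -/
theorem gagola_inertia_card (hG : 2 < Nat.card G) (χ : Cfsg.IrrCharacter G)
    (hχ : Nat.card {C : ConjClasses G // ∃ g ∈ C.carrier, (χ : G → ℂ) g ≠ 0} = 2)
    (p : ℕ) [Fact p.Prime] (N : Subgroup G) [hNn : N.Normal]
    (hN : ∀ g : G, g ∈ N ↔ (χ : G → ℂ) g ≠ 0) (hNp : IsPGroup p N) (hN1 : N ≠ ⊥)
    (μ : Cfsg.IrrCharacter N) (hμ : (μ : N → ℂ) ≠ fun _ => (1 : ℂ)) :
    Nat.card (@MulAction.stabilizer G (Cfsg.IrrCharacter N) _ (irrConjAction N) μ) =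
      p ^ (Nat.card G).factorization p := by
  classical
  letI := irrConjAction N
  have := Fintype.ofFinite G
  have := Fintype.ofFinite N
  obtain ⟨c, e, i, hc1, hNc, hi, hcardN, hepos, hipos, hd, hval, hcard⟩ :=
    gagola_numbers hG χ hχ N hN
  obtain ⟨j, hej⟩ := gagola_e_pow χ N hN p hNp e i hepos hipos hcardN hd hcard
  obtain ⟨p', -, hcomm, -⟩ := gagola_elementary_abelian c hc1 N hNc
  have : IsMulCommutative N := hcomm
  have hinner := gagola_restrict_inner χ N e i hepos hcardN hd hval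
  have hχcf : IsClassFunction G (χ : G → ℂ) :=
    Cfsg.Agent.Lib.Helper3.IsCharacter.isClassFunction
      (Cfsg.Agent.Lib.Helper3.IsIrrCharacter.isCharacter χ.2)
  have hsmul : ∀ (g : G) (θ' : Cfsg.IrrCharacter N), ((g • θ' : Cfsg.IrrCharacter N) : N → ℂ) =
      conjFun N g⁻¹ (θ' : N → ℂ) := fun g θ' => rfl
  have horbit : ∀ θ : Cfsg.IrrCharacter N, θ ∈ MulAction.orbit G μ ↔
      (θ : N → ℂ) ≠ fun _ => (1 : ℂ) := by
    intro θ
    rw [← hinner θ]
    constructor
    · rintro ⟨g, rfl⟩
      show Cfsg.classInner (fun n : N => (χ : G → ℂ) n) ((g • μ : Cfsg.IrrCharacter N) : N → ℂ) ≠ 0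
      rw [hsmul, ← conjFun_restrict N g⁻¹ hχcf, classInner_conjFun]
      exact (hinner μ).mpr hμ
    · intro h'
      obtain ⟨g, hg⟩ := clifford_conj N χ.2 μ.2 θ.2 ((hinner μ).mpr hμ) h'
      refine ⟨g⁻¹, ?_⟩
      apply Subtype.ext
      show conjFun N g⁻¹⁻¹ (μ : N → ℂ) = θ
      rw [inv_inv, hg]
  have hcardorb : (MulAction.orbit G μ).ncard = i := by
    have hset : MulAction.orbit G μ = {θ : Cfsg.IrrCharacter N | θ ≠ trivIrr N} := by
      ext θ
      rw [horbit θ, Set.mem_ofPred_eq]
      constructor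
      · intro h h'
        apply h
        rw [h']
        rfl
      · intro h h'
        exact h (Subtype.ext h')
    have hcardIrr : Nat.card (Cfsg.IrrCharacter N) = i + 1 := by
      rw [card_irr_of_comm, hcardN]
    have hc : ({θ : Cfsg.IrrCharacter N | θ ≠ trivIrr N} : Set _) = {trivIrr N}ᶜ := by
      ext θ; simp
    rw [hset, hc, Set.ncard_compl, Set.ncard_singleton, hcardIrr]
    omega
  have hidx : (MulAction.stabilizer G μ).index = i := by
    rw [MulAction.index_stabilizer, hcardorb]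
  have h1 := Subgroup.index_mul_card (MulAction.stabilizer G μ)
  rw [hidx, hcard] at h1
  have h2 : i * Nat.card (MulAction.stabilizer G μ) = i * (e ^ 2 * (i + 1)) := by
    rw [h1]; ring
  rw [Nat.eq_of_mul_eq_mul_left hipos h2,
    gagola_sylow_card N p hNp hN1 e i j hej hcardN hcard]

end Gagola5

end Cfsg.Agent.Lib.Helper80
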