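import Cfsg.Agent.S4742
import Cfsg.Agent.Lib.Helper38.McKayGen

/-!
# Involutions normalizing Sylow `p`-subgroups (Brauer–Fowler / Robinson corollaries)

If `p` is odd, centralizers of nontrivial `p`-elements have odd order, and `G` has no character of
`p`-defect zero, then every involution of `G` normalizes some Sylow `p`-subgroup.
-/

set_option autoImplicit false
set_option linter.style.haveILetI false

namespace Cfsg.Agent.Lib.Helper80

open Cfsg
open scoped Pointwise

universe u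

section InvSylow

/-- Centralizers of nontrivial `p`-elements have odd order. -/
def OddCent (p : ℕ) (G : Type u) [Group G] : Prop :=
  ∀ g : G, g ≠ 1 → (∃ k : ℕ, orderOf g = p ^ k) →
    Odd (Nat.card ↥(Subgroup.centralizer ({g} : Set G)))

/-- `G` has an irreducible character of `p`-defect zero. -/
def HasDZ (p : ℕ) (G : Type u) [Group G] : Prop :=
  ∃ χ : Cfsg.IrrCharacter G,
    (Cfsg.charDegree (χ : G → ℂ)).factorization p = (Nat.card G).factorization p

/-- A fixed-point-free involution inverts every element. -/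
theorem inverts_of_fpf {G : Type u} [Group G] (t : G) (ht : t * t = 1) (D : Subgroup G)
    [Finite D] (hn : ∀ d ∈ D, t * d * t⁻¹ ∈ D) (hfix : ∀ d ∈ D, t * d * t⁻¹ = d → d = 1) :
    ∀ d ∈ D, t * d * t⁻¹ = d⁻¹ := by
  have htinv : t⁻¹ = t := inv_eq_of_mul_eq_one_right ht
  let f : D → D := fun d => ⟨(d : G)⁻¹ * (t * d * t⁻¹), D.mul_mem (D.inv_mem d.2) (hn d d.2)⟩
  have hinj : Function.Injective f := by
    intro r s hrs
    have h : (r : G)⁻¹ * (t * r * t⁻¹) = (s : G)⁻¹ * (t * s * t⁻¹) := congrArg Subtype.val hrs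
    have h2 : t * r * t⁻¹ = (r : G) * ((s : G)⁻¹ * (t * s * t⁻¹)) := by
      rw [← h]; group
    have hfixed : t * ((s : G) * (r : G)⁻¹) * t⁻¹ = (s : G) * (r : G)⁻¹ := by
      calc t * ((s : G) * (r : G)⁻¹) * t⁻¹ = (t * s * t⁻¹) * (t * r * t⁻¹)⁻¹ := by group
        _ = (s : G) * (r : G)⁻¹ := by rw [h2]; group
    have h1 := hfix _ (D.mul_mem s.2 (D.inv_mem r.2)) hfixed
    apply Subtype.ext
    have : (s : G) = r := by
      have := mul_inv_eq_one.mp h1
      exact this
    exact this.symm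
  have hsurj : Function.Surjective f := Finite.surjective_of_injective hinj
  intro d hd
  obtain ⟨s, hs⟩ := hsurj ⟨d, hd⟩
  have hd' : d = (s : G)⁻¹ * (t * s * t⁻¹) := (congrArg Subtype.val hs).symm
  rw [hd', htinv]
  have e1 : t * ((s : G)⁻¹ * (t * s * t)) * t = t * (s : G)⁻¹ * t * s * (t * t) := by group
  have e2 : ((s : G)⁻¹ * (t * s * t))⁻¹ = t⁻¹ * (s : G)⁻¹ * t⁻¹ * s := by group
  rw [e1, e2, ht, htinv, mul_one]

/-- A subgroup inverted by an element is commutative. -/
theorem comm_of_inverts {G : Type u} [Group G] (t : G) (D : Subgroup G)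
    (h : ∀ d ∈ D, t * d * t⁻¹ = d⁻¹) : ∀ a ∈ D, ∀ b ∈ D, a * b = b * a := by
  intro a ha b hb
  have h1 := h (a * b) (D.mul_mem ha hb)
  have h2 : t * (a * b) * t⁻¹ = (t * a * t⁻¹) * (t * b * t⁻¹) := by group
  rw [h2, h a ha, h b hb] at h1
  have h3 : (a⁻¹ * b⁻¹)⁻¹ = ((a * b)⁻¹)⁻¹ := by rw [h1]
  rw [inv_inv, mul_inv_rev, inv_inv, inv_inv] at h3
  exact h3.symm

/-- An involution fixes no nontrivial `p`-element. -/
theorem no_fix_of_oddCent {G : Type u} [Group G] [Finite G] {p : ℕ} (hC : OddCent p G) (t : G)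
    (ht : orderOf t = 2) (d : G) (hd1 : d ≠ 1) (hd : ∃ k : ℕ, orderOf d = p ^ k) :
    t * d * t⁻¹ ≠ d := by
  intro h
  have hodd := hC d hd1 hd
  have hmem : t ∈ Subgroup.centralizer ({d} : Set G) := by
    rw [Subgroup.mem_centralizer_singleton_iff]
    have : t * d = d * t := by
      calc t * d = t * d * t⁻¹ * t := by group
        _ = d * t := by rw [h]
    exact this
  have h2 : orderOf (⟨t, hmem⟩ : Subgroup.centralizer ({d} : Set G)) = 2 := by
    rw [Subgroup.orderOf_mk]; exact ht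
  have hdvd : 2 ∣ Nat.card ↥(Subgroup.centralizer ({d} : Set G)) := by
    rw [← h2]; exact orderOf_dvd_natCard _
  rcases hodd with ⟨k, hk⟩
  omega

/-- Itô: an abelian normal subgroup of order divisible by `p` prevents defect zero characters. -/
theorem not_hasDZ_of_normal_comm {G : Type u} [Group G] [Finite G] {p : ℕ} [hp : Fact p.Prime]
    (A : Subgroup G) [A.Normal] (hA : ∀ a ∈ A, ∀ b ∈ A, a * b = b * a) (hpA : p ∣ Nat.card A) :
    ¬ HasDZ p G := by
  rintro ⟨χ, hχ⟩
  have hdvd := Cfsg.Agent.Lib.Helper38.charDegree_dvd_index_of_normal_comm A hA χ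
  have hidx : A.index ≠ 0 := Subgroup.index_ne_zero_of_finite
  have hcard : Nat.card A * A.index = Nat.card G := Subgroup.card_mul_index A
  have hA0 : Nat.card A ≠ 0 := Nat.card_pos.ne'
  have hdeg0 : Cfsg.charDegree (χ : G → ℂ) ≠ 0 := by
    intro h0
    rw [h0] at hdvd
    exact hidx (Nat.eq_zero_of_zero_dvd hdvd)
  have h1 : (Cfsg.charDegree (χ : G → ℂ)).factorization p ≤ A.index.factorization p :=
    (Nat.factorization_le_iff_dvd hdeg0 hidx).mpr hdvd p
  have h2 : (Nat.card G).factorization p =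
      (Nat.card A).factorization p + A.index.factorization p := by
    rw [← hcard, Nat.factorization_mul hA0 hidx]; rfl
  have h3 : 0 < (Nat.card A).factorization p :=
    Nat.Prime.factorization_pos_of_dvd hp.out hA0 hpA
  omega

/-- Involutions in a coset `c t` with `c` of odd order are conjugate to `t` under `⟨c⟩`. -/
theorem conj_of_coset_involution {G : Type u} [Group G] (t c : G) (ht : t * t = 1)
    (hodd : Odd (orderOf c)) (hsq : (c * t) * (c * t) = 1) :
    ∃ b ∈ Subgroup.zpowers c, b * t * b⁻¹ = c * t := by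
  have htinv : t⁻¹ = t := inv_eq_of_mul_eq_one_right ht
  obtain ⟨k, hk⟩ := hodd
  have hinv : t * c * t⁻¹ = c⁻¹ := by
    have h1 : t * c * t = c⁻¹ := by
      have : c * (t * c * t) = 1 := by
        calc c * (t * c * t) = (c * t) * (c * t) := by group
          _ = 1 := hsq
      exact (inv_eq_of_mul_eq_one_right this).symm
    rw [htinv]; exact h1
  refine ⟨c ^ (k + 1), Subgroup.pow_mem _ (Subgroup.mem_zpowers c) _, ?_⟩
  have hbb : c ^ (k + 1) * c ^ (k + 1) = c := by
    rw [← pow_add]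
    have : k + 1 + (k + 1) = orderOf c + 1 := by omega
    rw [this, pow_succ, pow_orderOf_eq_one, one_mul]
  have hbinv : t * c ^ (k + 1) * t⁻¹ = (c ^ (k + 1))⁻¹ := by
    rw [← conj_pow, hinv, inv_pow]
  calc c ^ (k + 1) * t * (c ^ (k + 1))⁻¹
      = c ^ (k + 1) * (t * c ^ (k + 1) * t⁻¹)⁻¹ * t := by group
    _ = c ^ (k + 1) * c ^ (k + 1) * t := by rw [hbinv, inv_inv]
    _ = c * t := by rw [hbb]


/-- Conjugating an element of a normalizer. -/
theorem conj_mem_normalizer_smul {G : Type u} [Group G] (P : Subgroup G) (g s : G)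
    (hs : s ∈ Subgroup.normalizer (P : Set G)) :
    g * s * g⁻¹ ∈ Subgroup.normalizer ((MulAut.conj g • P : Subgroup G) : Set G) := by
  rw [Subgroup.mem_set_normalizer_iff]
  intro h
  have key : ∀ x : G, x ∈ ((MulAut.conj g • P : Subgroup G) : Set G) ↔ g⁻¹ * x * g ∈ P := by
    intro x
    rw [SetLike.mem_coe, Subgroup.mem_pointwise_smul_iff_inv_smul_mem]
    simp [MulAut.smul_def]
  rw [key, key]
  have h1 := (Subgroup.mem_set_normalizer_iff.mp hs) (g⁻¹ * h * g)
  have e : g⁻¹ * (g * s * g⁻¹ * h * (g * s * g⁻¹)⁻¹) * g = s * (g⁻¹ * h * g) * s⁻¹ := by group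
  rw [e]
  exact h1

/-- The case of a nontrivial normal `p`-subgroup. -/
theorem exists_sylow_normalizer_of_normal {G : Type u} [Group G] [Finite G] {p : ℕ}
    [hp : Fact p.Prime] (hC : OddCent p G) (D : Subgroup G) [hDn : D.Normal]
    (hD : IsPGroup p D) (hD1 : D ≠ ⊥) (t : G) (ht : orderOf t = 2) :
    ∃ P : Sylow p G, t ∈ Subgroup.normalizer ((P : Subgroup G) : Set G) := by
  classical
  have htt : t * t = 1 := by
    have := pow_orderOf_eq_one t
    rw [ht, pow_two] at this
    exact this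
  have htinv : t⁻¹ = t := inv_eq_of_mul_eq_one_right htt
  have ht1 : t ≠ 1 := by
    intro h; rw [h, orderOf_one] at ht; omega
  -- elements of D are p-elements
  have hDel : ∀ d ∈ D, ∃ k : ℕ, orderOf d = p ^ k := by
    intro d hd
    obtain ⟨k, hk⟩ := IsPGroup.iff_orderOf.mp hD ⟨d, hd⟩
    exact ⟨k, by rw [← hk, Subgroup.orderOf_mk]⟩
  -- t inverts D
  have hinvD : ∀ d ∈ D, t * d * t⁻¹ = d⁻¹ := by
    apply inverts_of_fpf t htt D (fun d hd => hDn.conj_mem d hd t)
    intro d hd hfix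
    by_contra hd1
    exact no_fix_of_oddCent hC t ht d hd1 (hDel d hd) hfix
  -- the centralizer of D
  set C : Subgroup G := Subgroup.centralizer (D : Set G) with hCdef
  have hCn : C.Normal := Subgroup.normal_centralizer
  obtain ⟨d0, hd0D, hd01⟩ : ∃ d ∈ D, d ≠ 1 := by
    by_contra hcon
    push Not at hcon
    apply hD1
    rw [Subgroup.eq_bot_iff_forall]
    exact hcon
  have hCodd : Odd (Nat.card C) := by
    have hle : C ≤ Subgroup.centralizer ({d0} : Set G) :=
      Subgroup.centralizer_le (by intro x hx; rw [Set.mem_singleton_iff] at hx; rw [hx]; exact hd0D)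
    exact Odd.of_dvd_nat (hC d0 hd01 (hDel d0 hd0D)) (Subgroup.card_dvd_of_le hle)
  have hoddC : ∀ c ∈ C, Odd (orderOf c) := by
    intro c hc
    have h1 : orderOf c ∣ Nat.card C := by
      rw [← Subgroup.orderOf_mk c hc]; exact orderOf_dvd_natCard _
    exact Odd.of_dvd_nat hCodd h1
  -- commutators with t lie in C
  have hcomm : ∀ g : G, g * t * g⁻¹ * t⁻¹ ∈ C := by
    intro g
    rw [hCdef, Subgroup.mem_centralizer_iff]
    intro d hd
    have hd' : d ∈ D := hd
    have e1 : t⁻¹ * d * t = d⁻¹ := by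
      have := hinvD d hd'
      rw [htinv] at this ⊢
      exact this
    have he : g⁻¹ * d⁻¹ * g ∈ D := by
      have := hDn.conj_mem d⁻¹ (D.inv_mem hd') g⁻¹
      rw [inv_inv] at this
      exact this
    have e2 := hinvD _ he
    -- x d x⁻¹ = d
    have key : (g * t * g⁻¹ * t⁻¹) * d * (g * t * g⁻¹ * t⁻¹)⁻¹ = d := by
      calc (g * t * g⁻¹ * t⁻¹) * d * (g * t * g⁻¹ * t⁻¹)⁻¹
          = g * (t * (g⁻¹ * (t⁻¹ * d * t) * g) * t⁻¹) * g⁻¹ := by group
        _ = g * (t * (g⁻¹ * d⁻¹ * g) * t⁻¹) * g⁻¹ := by rw [e1]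
        _ = g * (g⁻¹ * d⁻¹ * g)⁻¹ * g⁻¹ := by rw [e2]
        _ = d := by group
    calc d * (g * t * g⁻¹ * t⁻¹)
        = ((g * t * g⁻¹ * t⁻¹) * d * (g * t * g⁻¹ * t⁻¹)⁻¹) * (g * t * g⁻¹ * t⁻¹) := by rw [key]
      _ = (g * t * g⁻¹ * t⁻¹) * d := by group
  -- p does not divide |C_G(t)|
  have hpCt : ¬ p ∣ Nat.card ↥(Subgroup.centralizer ({t} : Set G)) := by
    intro hdvd
    obtain ⟨z, hz⟩ := exists_prime_orderOf_dvd_card' p hdvd
    have hzG : orderOf (z : G) = p := by rw [Subgroup.orderOf_coe]; exact hz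
    have hz1 : (z : G) ≠ 1 := by
      intro h
      rw [h, orderOf_one] at hzG
      exact hp.out.one_lt.ne hzG
    have hzc := z.2
    rw [Subgroup.mem_centralizer_singleton_iff] at hzc
    apply no_fix_of_oddCent hC t ht (z : G) hz1 ⟨1, by rw [hzG, pow_one]⟩
    calc t * (z : G) * t⁻¹ = ((z : G) * t) * t⁻¹ := by rw [hzc]
      _ = z := by group
  -- every p-element lies in C
  have hpel : ∀ x : G, (∃ k : ℕ, orderOf x = p ^ k) → x ∈ C := by
    intro x ⟨k, hk⟩
    set c := x * t * x⁻¹ * t⁻¹ with hc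
    have hcC : c ∈ C := hcomm x
    have hct : c * t = x * t * x⁻¹ := by rw [hc]; group
    have hsq : (c * t) * (c * t) = 1 := by
      rw [hct]
      calc x * t * x⁻¹ * (x * t * x⁻¹) = x * (t * t) * x⁻¹ := by group
        _ = 1 := by rw [htt]; group
    obtain ⟨b, hb, hbt⟩ := conj_of_coset_involution t c htt (hoddC c hcC) hsq
    have hbC : b ∈ C := by
      have : Subgroup.zpowers c ≤ C := by
        rw [Subgroup.zpowers_le]; exact hcC
      exact this hb
    set y := b⁻¹ * x with hy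
    have hyt : y ∈ Subgroup.centralizer ({t} : Set G) := by
      rw [Subgroup.mem_centralizer_singleton_iff]
      have h1 : y * t * y⁻¹ = t := by
        calc y * t * y⁻¹ = b⁻¹ * (x * t * x⁻¹) * b := by rw [hy]; group
          _ = b⁻¹ * (b * t * b⁻¹) * b := by rw [← hct, ← hbt]
          _ = t := by group
      calc y * t = (y * t * y⁻¹) * y := by group
        _ = t * y := by rw [h1]
    have hycop : (orderOf y).Coprime p := by
      have h1 : orderOf y ∣ Nat.card ↥(Subgroup.centralizer ({t} : Set G)) := by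
        rw [← Subgroup.orderOf_mk y hyt]; exact orderOf_dvd_natCard _
      rw [Nat.coprime_comm, hp.out.coprime_iff_not_dvd]
      intro h2
      exact hpCt (h2.trans h1)
    -- in the quotient
    have hπ : (QuotientGroup.mk x : G ⧸ C) = QuotientGroup.mk y := by
      rw [hy, QuotientGroup.eq]
      have : x⁻¹ * (b⁻¹ * x) = (x⁻¹ * b * x)⁻¹ := by group
      rw [this]
      apply C.inv_mem
      have := hCn.conj_mem b hbC x⁻¹
      rw [inv_inv] at this
      exact this
    have h1 : orderOf (QuotientGroup.mk x : G ⧸ C) ∣ p ^ k := by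
      rw [← hk]
      exact orderOf_dvd_of_pow_eq_one (by rw [← QuotientGroup.mk_pow, pow_orderOf_eq_one]; rfl)
    have h2 : orderOf (QuotientGroup.mk x : G ⧸ C) ∣ orderOf y := by
      rw [hπ]
      exact orderOf_dvd_of_pow_eq_one (by rw [← QuotientGroup.mk_pow, pow_orderOf_eq_one]; rfl)
    have h3 : orderOf (QuotientGroup.mk x : G ⧸ C) = 1 :=
      Nat.eq_one_of_dvd_coprimes (Nat.Coprime.pow_right k hycop) h2 h1
    rw [orderOf_eq_one_iff, QuotientGroup.eq_one_iff] at h3
    exact h3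
  -- a Sylow subgroup inside C
  obtain ⟨P⟩ : Nonempty (Sylow p G) := inferInstance
  have hPC : (P : Subgroup G) ≤ C := by
    intro x hx
    apply hpel
    obtain ⟨k, hk⟩ := IsPGroup.iff_orderOf.mp P.2 ⟨x, hx⟩
    exact ⟨k, by rw [← hk, Subgroup.orderOf_mk]⟩
  have hfrat : Subgroup.normalizer ((P : Subgroup G) : Set G) ⊔ C = ⊤ :=
    Sylow.normalizer_sup_eq_top' P hPC
  have htmem : t ∈ ((Subgroup.normalizer ((P : Subgroup G) : Set G) ⊔ C : Subgroup G) : Set G) := by
    rw [hfrat]; trivial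
  rw [Subgroup.mul_normal] at htmem
  obtain ⟨n, hn, c, hc, hnc⟩ := Set.mem_mul.mp htmem
  have hn' : n ∈ Subgroup.normalizer ((P : Subgroup G) : Set G) := hn
  have hc' : c ∈ C := hc
  -- n = t c⁻¹
  have hnt : n = t * c⁻¹ := by rw [← hnc]; group
  -- n * n ∈ C
  have hnn : n * n ∈ C := by
    have e : n * n = (t * c⁻¹ * t⁻¹) * c⁻¹ := by
      rw [hnt, htinv]
      group
    rw [e]
    exact C.mul_mem (hCn.conj_mem _ (C.inv_mem hc') t) (C.inv_mem hc')
  obtain ⟨m, hm⟩ := hoddC _ hnn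
  set s := n ^ (orderOf (n * n)) with hs
  have hss : s * s = 1 := by
    rw [hs, ← pow_add, ← two_mul, pow_mul, pow_two, pow_orderOf_eq_one]
  have hsN : s ∈ Subgroup.normalizer ((P : Subgroup G) : Set G) := Subgroup.pow_mem _ hn' _
  -- s t⁻¹ ∈ C
  have hstC : s * t⁻¹ ∈ C := by
    rw [← QuotientGroup.eq_one_iff, QuotientGroup.mk_mul]
    have hnq : (QuotientGroup.mk n : G ⧸ C) = QuotientGroup.mk t := by
      rw [hnt, QuotientGroup.mk_mul]
      have : (QuotientGroup.mk c⁻¹ : G ⧸ C) = 1 := by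
        rw [QuotientGroup.eq_one_iff]; exact C.inv_mem hc'
      rw [this, mul_one]
    have htq : (QuotientGroup.mk t : G ⧸ C) * QuotientGroup.mk t = 1 := by
      rw [← QuotientGroup.mk_mul, htt]; rfl
    have hsq : (QuotientGroup.mk s : G ⧸ C) = QuotientGroup.mk t := by
      rw [hs, QuotientGroup.mk_pow, hnq, hm, pow_succ, pow_mul, pow_two, htq, one_pow, one_mul]
    rw [hsq, ← QuotientGroup.mk_mul, mul_inv_cancel]; rfl
  set c' := s * t⁻¹ with hc'def
  have hc't : c' * t = s := by rw [hc'def]; group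
  obtain ⟨b, hb, hbt⟩ := conj_of_coset_involution t c' htt (hoddC c' hstC)
    (by rw [hc't]; exact hss)
  rw [hc't] at hbt
  -- t = b⁻¹ s b normalizes b⁻¹ P b
  refine ⟨b⁻¹ • P, ?_⟩
  have h1 := conj_mem_normalizer_smul (P : Subgroup G) b⁻¹ s hsN
  have h2 : b⁻¹ * s * (b⁻¹)⁻¹ = t := by
    rw [← hbt]; group
  rw [h2] at h1
  rw [Sylow.smul_def]
  exact h1

/-- An involution that maps a subgroup into itself normalizes it. -/
theorem mem_normalizer_of_involution {G : Type u} [Group G] (t : G) (htt : t * t = 1)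
    (D : Subgroup G) (h : ∀ d ∈ D, t * d * t⁻¹ ∈ D) :
    t ∈ Subgroup.normalizer (D : Set G) := by
  have htinv : t⁻¹ = t := inv_eq_of_mul_eq_one_right htt
  rw [Subgroup.mem_set_normalizer_iff]
  intro x
  constructor
  · exact h x
  · intro hx
    have h1 := h _ hx
    have e : t * (t * x * t⁻¹) * t⁻¹ = x := by
      rw [htinv]
      calc t * (t * x * t) * t = (t * t) * x * (t * t) := by group
        _ = x := by rw [htt, one_mul, mul_one]
    rw [e] at h1
    exact h1

theorem involution_sq {G : Type u} [Group G] (t : G) (ht : orderOf t = 2) : t * t = 1 := by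
  have := pow_orderOf_eq_one t
  rw [ht, pow_two] at this
  exact this

/-- First step: via Robinson's theorem (S4742), an involution normalizes a nontrivial
`p`-subgroup. -/
theorem exists_pSubgroup_normalized {G : Type u} [Group G] [Finite G] {p : ℕ} [hp : Fact p.Prime]
    (hp2 : p ≠ 2) (hC : OddCent p G) (hpG : p ∣ Nat.card G) (hDZ : ¬ HasDZ p G)
    (t : G) (ht : orderOf t = 2) :
    ∃ D : Subgroup G, IsPGroup p D ∧ D ≠ ⊥ ∧ t ∈ Subgroup.normalizer (D : Set G) := by
  have htt := involution_sq t ht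
  have htinv : t⁻¹ = t := inv_eq_of_mul_eq_one_right htt
  have ht1 : t ≠ 1 := by
    intro h; rw [h, orderOf_one] at ht; omega
  have h2G : 2 ∣ Nat.card G := by rw [← ht]; exact orderOf_dvd_natCard t
  haveI : Fact (Nat.Prime 2) := ⟨Nat.prime_two⟩
  have hC' : ∀ g : G, g ≠ 1 → (∃ k : ℕ, orderOf g = p ^ k) →
      ¬ 2 ∣ Nat.card ↥(Subgroup.centralizer ({g} : Set G)) := by
    intro g hg1 hg hdvd
    rcases hC g hg1 hg with ⟨k, hk⟩
    omega
  rcases Cfsg.Agent.S4742.result p 2 hp2 hpG h2G hC' with h | h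
  · exact absurd h hDZ
  obtain ⟨g, h', hg, hh, hu1, k, hk⟩ := h t ht1 ⟨1, by rw [ht, pow_one]⟩
  rw [isConj_iff] at hg hh
  obtain ⟨c, hc⟩ := hg
  obtain ⟨c', hc'⟩ := hh
  have hgg : g * g = 1 := by
    rw [← hc]
    calc c * t * c⁻¹ * (c * t * c⁻¹) = c * (t * t) * c⁻¹ := by group
      _ = 1 := by rw [htt]; group
  have hhh : h' * h' = 1 := by
    rw [← hc']
    calc c' * t * c'⁻¹ * (c' * t * c'⁻¹) = c' * (t * t) * c'⁻¹ := by group
      _ = 1 := by rw [htt]; group
  have hginv : g⁻¹ = g := inv_eq_of_mul_eq_one_right hgg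
  have hhinv : h'⁻¹ = h' := inv_eq_of_mul_eq_one_right hhh
  set u := g * h'⁻¹ with hu
  have hgu : g * u * g⁻¹ = u⁻¹ := by
    rw [hu, hginv, hhinv]
    have e1 : g * (g * h') * g = (g * g) * h' * g := by group
    have e2 : (g * h')⁻¹ = h'⁻¹ * g⁻¹ := by group
    rw [e1, e2, hgg, one_mul, hginv, hhinv]
  set v := c⁻¹ * u * c with hv
  have htv : t * v * t⁻¹ = v⁻¹ := by
    have e1 : t = c⁻¹ * g * c := by rw [← hc]; group
    have e2 : t * v * t⁻¹ = c⁻¹ * (g * u * g⁻¹) * c := by
      rw [hv]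
      nth_rewrite 1 [e1]
      have : t⁻¹ = c⁻¹ * g⁻¹ * c := by rw [e1]; group
      rw [this]
      group
    rw [e2, hgu, hv]
    group
  have hv1 : v ≠ 1 := by
    intro h1
    apply hu1
    have : u = c * v * c⁻¹ := by rw [hv]; group
    rw [this, h1]; group
  have hvo : orderOf v = p ^ k := by
    have := (MulAut.conj c⁻¹).orderOf_eq u
    rw [MulAut.conj_apply, inv_inv] at this
    rw [hv, this, hk]
  refine ⟨Subgroup.zpowers v, ?_, ?_, ?_⟩
  · apply IsPGroup.of_card (n := k)
    rw [Nat.card_zpowers, hvo]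
  · rw [Subgroup.zpowers_ne_bot]; exact hv1
  · apply mem_normalizer_of_involution t htt
    intro d hd
    obtain ⟨n, hn⟩ := Subgroup.mem_zpowers_iff.mp hd
    rw [← hn, ← conj_zpow, htv]
    exact Subgroup.zpow_mem _ (Subgroup.inv_mem _ (Subgroup.mem_zpowers v)) n

/-- `OddCent` passes to subgroups. -/
theorem OddCent.subgroup {G : Type u} [Group G] [Finite G] {p : ℕ} (hC : OddCent p G)
    (H : Subgroup G) : OddCent p ↥H := by
  intro g hg1 hg
  have hg1' : (g : G) ≠ 1 := by
    intro h; apply hg1; exact Subtype.ext h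
  have hg' : ∃ k : ℕ, orderOf (g : G) = p ^ k := by
    obtain ⟨k, hk⟩ := hg
    exact ⟨k, by rw [Subgroup.orderOf_coe]; exact hk⟩
  have hodd := hC (g : G) hg1' hg'
  -- an injective hom between the centralizers
  let f : ↥(Subgroup.centralizer ({g} : Set ↥H)) →* ↥(Subgroup.centralizer ({(g : G)} : Set G)) :=
    { toFun := fun x => ⟨((x : ↥H) : G), by
        have hx := x.2
        rw [Subgroup.mem_centralizer_singleton_iff] at hx ⊢
        have := congrArg (Subtype.val) hx
        simpa using this⟩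
      map_one' := rfl
      map_mul' := fun x y => rfl }
  have hf : Function.Injective f := by
    intro x y hxy
    have h1 : ((f x : ↥(Subgroup.centralizer ({(g : G)} : Set G))) : G) = (f y : G) :=
      congrArg Subtype.val hxy
    exact Subtype.ext (Subtype.ext h1)
  exact Odd.of_dvd_nat hodd (Subgroup.card_dvd_of_injective f hf)

/-- **Every involution normalizes a Sylow `p`-subgroup** when centralizers of nontrivial
`p`-elements are odd and there is no character of `p`-defect zero. -/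
theorem exists_sylow_normalizer_aux : ∀ (n : ℕ) (G : Type u) [Group G] [Finite G],
    Nat.card G = n → ∀ (p : ℕ) [Fact p.Prime], p ≠ 2 → OddCent p G → p ∣ Nat.card G →
    ¬ HasDZ p G → ∀ t : G, orderOf t = 2 →
    ∃ P : Sylow p G, t ∈ Subgroup.normalizer ((P : Subgroup G) : Set G) := by
  intro n
  induction n using Nat.strong_induction_on with
  | _ n ih =>
  intro G _ _ hn p hp hp2 hC hpG hDZ t ht
  classical
  have htt := involution_sq t ht
  have htinv : t⁻¹ = t := inv_eq_of_mul_eq_one_right htt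
  obtain ⟨D₀, hD₀p, hD₀1, hD₀t⟩ := exists_pSubgroup_normalized hp2 hC hpG hDZ t ht
  let S : Set (Subgroup G) :=
    {D | IsPGroup p D ∧ D ≠ ⊥ ∧ t ∈ Subgroup.normalizer (D : Set G)}
  obtain ⟨D, hDS, hDmax⟩ := Set.exists_max_image S (fun D => Nat.card D) (Set.toFinite S)
    ⟨D₀, hD₀p, hD₀1, hD₀t⟩
  obtain ⟨hDp, hD1, hDt⟩ := hDS
  by_cases hcard : Nat.card D = p ^ (Nat.card G).factorization p
  · refine ⟨Sylow.ofCard D hcard, ?_⟩
    rw [Sylow.coe_ofCard]
    exact hDt
  exfalso
  obtain ⟨Q, hDQ⟩ := hDp.exists_le_sylow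
  have hDneQ : D ≠ (Q : Subgroup G) := by
    intro h
    apply hcard
    rw [h]
    exact Q.card_eq_multiplicity
  -- elements of D are p-elements
  have hDel : ∀ d ∈ D, ∃ k : ℕ, orderOf d = p ^ k := by
    intro d hd
    obtain ⟨k, hk⟩ := IsPGroup.iff_orderOf.mp hDp ⟨d, hd⟩
    exact ⟨k, by rw [← hk, Subgroup.orderOf_mk]⟩
  -- t inverts D
  have hinvD : ∀ d ∈ D, t * d * t⁻¹ = d⁻¹ := by
    apply inverts_of_fpf t htt D
      (fun d hd => (Subgroup.mem_set_normalizer_iff.mp hDt d).mp hd)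
    intro d hd hfix
    by_contra hd1
    exact no_fix_of_oddCent hC t ht d hd1 (hDel d hd) hfix
  have hDcomm := comm_of_inverts t D hinvD
  -- normalizer growth inside Q
  haveI : Group.IsNilpotent ↥(Q : Subgroup G) := Q.2.isNilpotent
  have hlt : D.subgroupOf (Q : Subgroup G) < ⊤ := by
    rw [lt_top_iff_ne_top]
    intro h
    rw [Subgroup.subgroupOf_eq_top] at h
    exact hDneQ (le_antisymm hDQ h)
  have hgrow := Group.normalizerCondition_of_isNilpotent (G := ↥(Q : Subgroup G)) _ hlt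
  obtain ⟨x, hxN, hxD⟩ := SetLike.exists_of_lt hgrow
  set H : Subgroup G := Subgroup.normalizer (D : Set G) with hH
  have hDH : D ≤ H := Subgroup.le_normalizer
  have hxH : (x : G) ∈ H := by
    rw [hH, Subgroup.mem_set_normalizer_iff]
    intro d
    have h1 := (Subgroup.mem_set_normalizer_iff.mp hxN)
    constructor
    · intro hd
      have hdQ : d ∈ (Q : Subgroup G) := hDQ hd
      have := (h1 ⟨d, hdQ⟩).mp (by rw [SetLike.mem_coe, Subgroup.mem_subgroupOf]; exact hd)
      rw [SetLike.mem_coe, Subgroup.mem_subgroupOf] at this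
      exact this
    · intro hd
      have hdQ : d ∈ (Q : Subgroup G) := by
        have h2 : (x : G)⁻¹ * ((x : G) * d * (x : G)⁻¹) * (x : G) ∈ (Q : Subgroup G) :=
          Subgroup.mul_mem _ (Subgroup.mul_mem _ (Subgroup.inv_mem _ x.2) (hDQ hd)) x.2
        have e : (x : G)⁻¹ * ((x : G) * d * (x : G)⁻¹) * (x : G) = d := by group
        rw [e] at h2
        exact h2
      have := (h1 ⟨d, hdQ⟩).mpr (by rw [SetLike.mem_coe, Subgroup.mem_subgroupOf]; exact hd)
      rw [SetLike.mem_coe, Subgroup.mem_subgroupOf] at this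
      exact this
  have hxD' : (x : G) ∉ D := by
    intro h
    apply hxD
    rw [Subgroup.mem_subgroupOf]
    exact h
  set R₀ : Subgroup G := H ⊓ (Q : Subgroup G) with hR₀
  have hR₀p : IsPGroup p R₀ := Q.2.to_le inf_le_right
  have hDR₀ : D ≤ R₀ := le_inf hDH hDQ
  have hxR₀ : (x : G) ∈ R₀ := ⟨hxH, x.2⟩
  have hcardlt : Nat.card D < Nat.card R₀ := by
    by_contra hle
    push Not at hle
    have := Subgroup.eq_of_le_of_card_ge hDR₀ hle
    rw [this] at hxD'
    exact hxD' hxR₀
  have htH : t ∈ H := hDt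
  by_cases hHtop : H = ⊤
  · -- D is normal in G
    haveI hDn : D.Normal := Subgroup.normalizer_eq_top_iff.mp hHtop
    obtain ⟨P, hP⟩ := exists_sylow_normalizer_of_normal hC D hDp hD1 t ht
    have h2 : Nat.card (P : Subgroup G) = p ^ (Nat.card G).factorization p :=
      P.card_eq_multiplicity
    have h4 : Nat.card (Q : Subgroup G) = p ^ (Nat.card G).factorization p :=
      Q.card_eq_multiplicity
    have h5 : Nat.card D ≤ Nat.card (Q : Subgroup G) := Subgroup.card_le_of_le hDQ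
    have h6 : 1 < Nat.card D := (Subgroup.one_lt_card_iff_ne_bot D).mpr hD1
    have hPS : (P : Subgroup G) ∈ S := by
      refine ⟨P.2, ?_, hP⟩
      apply (Subgroup.one_lt_card_iff_ne_bot _).mp
      omega
    have h1 : Nat.card (P : Subgroup G) ≤ Nat.card D := hDmax _ hPS
    apply hcard
    omega
  -- `H ≠ ⊤`: use the induction hypothesis inside `H`
  have hHlt : Nat.card H < n := by
    rw [← hn]
    by_contra hle
    push Not at hle
    exact hHtop (Subgroup.eq_top_of_le_card H hle)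
  have hpD : p ∣ Nat.card D := by
    obtain ⟨k, hk⟩ := IsPGroup.iff_card.mp hDp
    have hk0 : k ≠ 0 := by
      rintro rfl
      rw [pow_zero] at hk
      exact hD1 (Subgroup.eq_bot_of_card_eq _ hk)
    rw [hk]
    exact dvd_pow_self p hk0
  have hpH : p ∣ Nat.card H := hpD.trans (Subgroup.card_dvd_of_le hDH)
  have hDZH : ¬ HasDZ p ↥H := by
    haveI : (D.subgroupOf H).Normal := Subgroup.normal_in_normalizer
    apply not_hasDZ_of_normal_comm (D.subgroupOf H)
    · intro a ha b hb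
      rw [Subgroup.mem_subgroupOf] at ha hb
      exact Subtype.ext (hDcomm a ha b hb)
    · have : Nat.card (D.subgroupOf H) = Nat.card D :=
        Nat.card_congr (Subgroup.subgroupOfEquivOfLe hDH).toEquiv
      rw [this]
      exact hpD
  obtain ⟨R, hR⟩ := ih (Nat.card H) hHlt ↥H rfl p hp2 (hC.subgroup H) hpH hDZH ⟨t, htH⟩
    (by rw [Subgroup.orderOf_mk]; exact ht)
  set R' : Subgroup G := (R : Subgroup ↥H).map H.subtype with hR'
  have hR'p : IsPGroup p R' := R.2.map H.subtype
  have hR'card : Nat.card R' = Nat.card (R : Subgroup ↥H) :=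
    Subgroup.card_map_of_injective H.subtype_injective
  have hRcard : Nat.card R₀ ≤ Nat.card (R : Subgroup ↥H) := by
    have hp' : IsPGroup p (R₀.subgroupOf H) := hR₀p.comap_subtype
    obtain ⟨Q', hQ'⟩ := hp'.exists_le_sylow
    have h1 : Nat.card (R₀.subgroupOf H) = Nat.card R₀ :=
      Nat.card_congr (Subgroup.subgroupOfEquivOfLe (inf_le_left : R₀ ≤ H)).toEquiv
    have h2 : Nat.card (R₀.subgroupOf H) ≤ Nat.card (Q' : Subgroup ↥H) :=
      Subgroup.card_le_of_le hQ'
    have h3 : Nat.card (Q' : Subgroup ↥H) = Nat.card (R : Subgroup ↥H) := by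
      rw [Q'.card_eq_multiplicity, R.card_eq_multiplicity]
    omega
  have hR't : t ∈ Subgroup.normalizer (R' : Set G) := by
    apply mem_normalizer_of_involution t htt
    intro d hd
    obtain ⟨r, hr, hrd⟩ := Subgroup.mem_map.mp hd
    have h1 := (Subgroup.mem_set_normalizer_iff.mp hR r).mp hr
    refine Subgroup.mem_map.mpr ⟨_, h1, ?_⟩
    rw [← hrd]
    rfl
  have h6 : 1 < Nat.card D := (Subgroup.one_lt_card_iff_ne_bot D).mpr hD1
  have hR'S : R' ∈ S := by
    refine ⟨hR'p, ?_, hR't⟩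
    apply (Subgroup.one_lt_card_iff_ne_bot _).mp
    omega
  have h7 : Nat.card R' ≤ Nat.card D := hDmax _ hR'S
  omega

/-- Every involution normalizes a Sylow `p`-subgroup. -/
theorem exists_sylow_normalizer {G : Type u} [Group G] [Finite G] {p : ℕ} [Fact p.Prime]
    (hp2 : p ≠ 2) (hC : OddCent p G) (hpG : p ∣ Nat.card G) (hDZ : ¬ HasDZ p G)
    (t : G) (ht : orderOf t = 2) :
    ∃ P : Sylow p G, t ∈ Subgroup.normalizer ((P : Subgroup G) : Set G) :=
  exists_sylow_normalizer_aux _ G rfl p hp2 hC hpG hDZ t ht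

/-- Every Sylow `p`-subgroup is inverted by a conjugate of any given involution. -/
theorem sylow_inverted {G : Type u} [Group G] [Finite G] {p : ℕ} [Fact p.Prime]
    (hp2 : p ≠ 2) (hC : OddCent p G) (hpG : p ∣ Nat.card G) (hDZ : ¬ HasDZ p G)
    (P : Sylow p G) (t : G) (ht : orderOf t = 2) :
    ∃ s : G, IsConj t s ∧ orderOf s = 2 ∧
      s ∈ Subgroup.normalizer ((P : Subgroup G) : Set G) ∧
      ∀ d ∈ (P : Subgroup G), s * d * s⁻¹ = d⁻¹ := by
  obtain ⟨P₀, hP₀⟩ := exists_sylow_normalizer hp2 hC hpG hDZ t ht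
  obtain ⟨g, hg⟩ := MulAction.exists_smul_eq G P₀ P
  have hs2 : orderOf (g * t * g⁻¹) = 2 := by
    have := (MulAut.conj g).orderOf_eq t
    rw [MulAut.conj_apply] at this
    rw [this, ht]
  have hsN : g * t * g⁻¹ ∈ Subgroup.normalizer ((P : Subgroup G) : Set G) := by
    have h1 := conj_mem_normalizer_smul (P₀ : Subgroup G) g t hP₀
    rw [← hg, Sylow.smul_def]
    exact h1
  refine ⟨g * t * g⁻¹, isConj_iff.mpr ⟨g, rfl⟩, hs2, hsN, ?_⟩
  have hss := involution_sq _ hs2
  apply inverts_of_fpf _ hss (P : Subgroup G)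
    (fun d hd => (Subgroup.mem_set_normalizer_iff.mp hsN d).mp hd)
  intro d hd hfix
  by_contra hd1
  have hdp : ∃ k : ℕ, orderOf d = p ^ k := by
    obtain ⟨k, hk⟩ := IsPGroup.iff_orderOf.mp P.2 ⟨d, hd⟩
    exact ⟨k, by rw [← hk, Subgroup.orderOf_mk]⟩
  exact no_fix_of_oddCent hC _ hs2 d hd1 hdp hfix

/-- All involutions are conjugate. -/
theorem involutions_conj {G : Type u} [Group G] [Finite G] {p : ℕ} [hp : Fact p.Prime]
    (hp2 : p ≠ 2) (hC : OddCent p G) (hpG : p ∣ Nat.card G) (hDZ : ¬ HasDZ p G)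
    (s t : G) (hs : orderOf s = 2) (ht : orderOf t = 2) : IsConj s t := by
  obtain ⟨P⟩ : Nonempty (Sylow p G) := inferInstance
  obtain ⟨s', hss', hs'2, -, hs'inv⟩ := sylow_inverted hp2 hC hpG hDZ P s hs
  obtain ⟨t', htt', ht'2, -, ht'inv⟩ := sylow_inverted hp2 hC hpG hDZ P t ht
  -- a nontrivial element of `P`
  have hP1 : (P : Subgroup G) ≠ ⊥ := by
    apply (Subgroup.one_lt_card_iff_ne_bot _).mp
    rw [P.card_eq_multiplicity]
    have hG0 : Nat.card G ≠ 0 := Nat.card_pos.ne'
    have h3 : 0 < (Nat.card G).factorization p :=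
      Nat.Prime.factorization_pos_of_dvd hp.out hG0 hpG
    exact Nat.one_lt_pow h3.ne' hp.out.one_lt
  obtain ⟨d0, hd0P, hd01⟩ : ∃ d ∈ (P : Subgroup G), d ≠ 1 := by
    by_contra hcon
    push Not at hcon
    apply hP1
    rw [Subgroup.eq_bot_iff_forall]
    exact hcon
  have hd0p : ∃ k : ℕ, orderOf d0 = p ^ k := by
    obtain ⟨k, hk⟩ := IsPGroup.iff_orderOf.mp P.2 ⟨d0, hd0P⟩
    exact ⟨k, by rw [← hk, Subgroup.orderOf_mk]⟩
  set c := s' * t' with hc
  have hcd : c * d0 * c⁻¹ = d0 := by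
    have e : c * d0 * c⁻¹ = s' * (t' * d0 * t'⁻¹) * s'⁻¹ := by rw [hc]; group
    rw [e, ht'inv d0 hd0P, hs'inv _ (Subgroup.inv_mem _ hd0P), inv_inv]
  have hcmem : c ∈ Subgroup.centralizer ({d0} : Set G) := by
    rw [Subgroup.mem_centralizer_singleton_iff]
    calc c * d0 = c * d0 * c⁻¹ * c := by group
      _ = d0 * c := by rw [hcd]
  have hcodd : Odd (orderOf c) := by
    have h1 : orderOf c ∣ Nat.card ↥(Subgroup.centralizer ({d0} : Set G)) := by
      rw [← Subgroup.orderOf_mk c hcmem]; exact orderOf_dvd_natCard _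
    exact Odd.of_dvd_nat (hC d0 hd01 hd0p) h1
  have ht't' := involution_sq t' ht'2
  have hs's' := involution_sq s' hs'2
  have hct : c * t' = s' := by
    rw [hc, mul_assoc, ht't', mul_one]
  obtain ⟨b, -, hb⟩ := conj_of_coset_involution t' c ht't' hcodd (by rw [hct]; exact hs's')
  rw [hct] at hb
  have h1 : IsConj t' s' := isConj_iff.mpr ⟨b, hb⟩
  exact hss'.trans (h1.symm.trans htt'.symm)

/-- No element of order `2p` forces odd centralizers of nontrivial `p`-elements. -/
theorem oddCent_of_no_two_p {G : Type u} [Group G] [Finite G] {p : ℕ} [hp : Fact p.Prime]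
    (hp2 : p ≠ 2) (h2p : ∀ g : G, orderOf g ≠ 2 * p) : OddCent p G := by
  intro g hg1 ⟨k, hk⟩
  by_contra hodd
  rw [Nat.not_odd_iff_even, even_iff_two_dvd] at hodd
  haveI : Fact (Nat.Prime 2) := ⟨Nat.prime_two⟩
  obtain ⟨z, hz⟩ := exists_prime_orderOf_dvd_card' 2 hodd
  have hzG : orderOf (z : G) = 2 := by rw [Subgroup.orderOf_coe]; exact hz
  have hzc := z.2
  rw [Subgroup.mem_centralizer_singleton_iff] at hzc
  have hk0 : k ≠ 0 := by
    rintro rfl
    rw [pow_zero, orderOf_eq_one_iff] at hk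
    exact hg1 hk
  set g₀ := g ^ (p ^ (k - 1)) with hg₀
  have hg₀o : orderOf g₀ = p := by
    rw [hg₀, orderOf_pow_of_dvd (pow_ne_zero _ hp.out.ne_zero)
      (by rw [hk]; exact pow_dvd_pow p (Nat.sub_le k 1)), hk,
      Nat.pow_div (Nat.sub_le k 1) hp.out.pos]
    have : k - (k - 1) = 1 := by omega
    rw [this, pow_one]
  have hcomm : Commute (z : G) g₀ := by
    have : Commute (z : G) g := hzc
    exact this.pow_right _
  have hcop : (orderOf (z : G)).Coprime (orderOf g₀) := by
    rw [hzG, hg₀o]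
    exact (Nat.coprime_primes Nat.prime_two hp.out).mpr (Ne.symm hp2)
  have := hcomm.orderOf_mul_eq_mul_orderOf_of_coprime hcop
  rw [hzG, hg₀o] at this
  exact h2p _ this

end InvSylow

end Cfsg.Agent.Lib.Helper80
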