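import Cfsg.Agent.Lib.Helper80.SquareRoots
import Cfsg.Agent.Lib.Helper74.FS7
import Cfsg.Agent.Lib.Helper16.Reynolds2
import Cfsg.Agent.Lib.Helper38.AbelianRestrict
import Cfsg.Agent.Lib.Helper81.Irr
import Cfsg.Agent.Lib.Helper3.OddOrder
import Cfsg.Agent.Lib.Helper25.Ind

/-!
# Groups all of whose irreducible characters have odd degree

If all irreducible characters of `G` have odd degree then the number of square roots of `x` is
`∑_{χ real} χ(x)`.  We deduce that `G` cannot contain a nontrivial abelian subgroup `P` of even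
index whose elements are real in `G` and whose nonidentity elements have exactly one square root.
-/

set_option autoImplicit false
set_option linter.style.haveILetI false

namespace Cfsg.Agent.Lib.Helper80

open Cfsg
open scoped ComplexConjugate

section RootCount

variable {G : Type*} [Group G] [Fintype G]

/-- The number of square roots of `x` is `∑_χ conj(ν χ) χ(x)`, `ν` the Frobenius–Schur indicator. -/
theorem rootCount_expansion [DecidableEq G] [Fintype (Cfsg.IrrCharacter G)] (x : G) :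
    (∑ s : G, if s * s = x then (1 : ℂ) else 0) =
      ∑ χ : Cfsg.IrrCharacter G,
        conj ((Nat.card G : ℂ)⁻¹ * ∑ s : G, (χ : G → ℂ) (s * s)) * (χ : G → ℂ) x := by
  have hcls : ∀ g h : G, (∑ s : G, if s * s = h * g * h⁻¹ then (1 : ℂ) else 0) =
      ∑ s : G, if s * s = g then (1 : ℂ) else 0 := by
    intro g h
    apply Fintype.sum_equiv (MulAut.conj h⁻¹).toEquiv
    intro s
    have hiff : (s * s = h * g * h⁻¹) ↔ (h⁻¹ * s * h * (h⁻¹ * s * h) = g) := by
      constructor
      · intro e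
        calc h⁻¹ * s * h * (h⁻¹ * s * h) = h⁻¹ * (s * s) * h := by group
          _ = g := by rw [e]; group
      · intro e
        calc s * s = h * (h⁻¹ * s * h * (h⁻¹ * s * h)) * h⁻¹ := by group
          _ = h * g * h⁻¹ := by rw [e]
    have hval : (MulAut.conj h⁻¹).toEquiv s = h⁻¹ * s * h := by
      simp
    rw [hval]
    by_cases hs : s * s = h * g * h⁻¹
    · rw [if_pos hs, if_pos (hiff.mp hs)]
    · rw [if_neg hs, if_neg (fun e => hs (hiff.mpr e))]
  rw [classFun_expansion (fun g => ∑ s : G, if s * s = g then (1 : ℂ) else 0) hcls x]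
  refine Finset.sum_congr rfl fun χ _ => ?_
  congr 1
  rw [map_mul, map_inv₀, Complex.conj_natCast, map_sum]
  congr 1
  simp_rw [Finset.sum_mul]
  rw [Finset.sum_comm]
  refine Finset.sum_congr rfl fun s _ => ?_
  simp_rw [ite_mul, one_mul, zero_mul]
  rw [Finset.sum_ite_eq]
  simp

end RootCount

section Main

universe u

variable {G : Type u} [Group G] [Fintype G]

/-- The complex conjugate of an irreducible character. -/
noncomputable def cbar (χ : Cfsg.IrrCharacter G) : Cfsg.IrrCharacter G :=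
  ⟨fun g => conj ((χ : G → ℂ) g), Cfsg.Agent.Lib.Helper3.IsIrrCharacter.conj χ.2⟩

theorem cbar_apply (χ : Cfsg.IrrCharacter G) (g : G) :
    (cbar χ : G → ℂ) g = conj ((χ : G → ℂ) g) := rfl

theorem cbar_cbar (χ : Cfsg.IrrCharacter G) : cbar (cbar χ) = χ := by
  apply Subtype.ext
  funext g
  rw [cbar_apply, cbar_apply, Complex.conj_conj]

/-- If all irreducible characters of `G` have odd degree, there is no nontrivial abelian subgroup
`P` of even index, whose elements are real in `G`, whose nonidentity elements have a unique square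
root in `G`. -/
theorem false_of_odd_degrees (P : Subgroup G) [IsMulCommutative P]
    (hP1 : ∃ u ∈ P, u ≠ 1)
    (hreal : ∀ u ∈ P, ∃ c : G, c * u * c⁻¹ = u⁻¹)
    (hidx : Even P.index)
    (hsqrt : ∀ u ∈ P, u ≠ 1 → ∃! s : G, s * s = u)
    (hodd : ∀ χ : Cfsg.IrrCharacter G, Odd (Cfsg.charDegree (χ : G → ℂ))) : False := by
  classical
  haveI := Fintype.ofFinite (Cfsg.IrrCharacter G)
  haveI : Fintype P := Fintype.ofFinite P
  haveI := Fintype.ofFinite (Cfsg.IrrCharacter P)
  set isR : Cfsg.IrrCharacter G → Prop := fun χ => ∀ g : G, ((χ : G → ℂ) g).im = 0 with hisR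
  -- Frobenius–Schur indicators
  have hνval : ∀ χ : Cfsg.IrrCharacter G,
      (Nat.card G : ℂ)⁻¹ * ∑ s : G, (χ : G → ℂ) (s * s) = if isR χ then 1 else 0 := by
    intro χ
    by_cases hr : isR χ
    · rw [if_pos hr]
      exact Cfsg.Agent.Lib.Helper74.fs_eq_one_of_real_of_odd χ.2 hr
        (Cfsg.Agent.Lib.Helper81.irr_apply_one_eq_charDegree χ) (hodd χ)
    · rw [if_neg hr]
      have hr' : ∃ g : G, ((χ : G → ℂ) g).im ≠ 0 := by
        by_contra hcon
        push Not at hcon
        exact hr hcon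
      exact Cfsg.Agent.Lib.Helper74.fs_of_not_real χ.2 hr'
  -- root counts
  set r : G → ℂ := fun x => ∑ s : G, if s * s = x then (1 : ℂ) else 0 with hr
  have hrexp : ∀ x : G, r x = ∑ χ : Cfsg.IrrCharacter G,
      (if isR χ then (1 : ℂ) else 0) * (χ : G → ℂ) x := by
    intro x
    have h := rootCount_expansion x
    rw [hr]
    simp only []
    rw [h]
    refine Finset.sum_congr rfl fun χ _ => ?_
    rw [hνval χ]
    split_ifs <;> simp
  have hr1 : ∀ u : P, u ≠ 1 → r (u : G) = 1 := by
    intro u hu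
    have hu' : (u : G) ≠ 1 := by
      intro h; apply hu; exact Subtype.ext h
    obtain ⟨s₀, hs₀, huniq⟩ := hsqrt u u.2 hu'
    rw [hr]
    simp only []
    rw [Finset.sum_eq_single s₀]
    · rw [if_pos hs₀]
    · intro b _ hb
      rw [if_neg (fun h => hb (huniq b h))]
    · intro h; exact absurd (Finset.mem_univ _) h
  -- multiplicities
  have hm : ∀ (χ : Cfsg.IrrCharacter G) (φ : Cfsg.IrrCharacter P), ∃ m : ℕ,
      Cfsg.classInner (fun u : P => (χ : G → ℂ) u) (φ : P → ℂ) = (m : ℂ) := fun χ φ =>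
    Cfsg.Agent.Lib.Helper3.IsCharacter.classInner_irr_nat
      (Cfsg.Agent.Lib.Helper3.IsCharacter.restrict
        (Cfsg.Agent.Lib.Helper3.IsIrrCharacter.isCharacter χ.2) P) φ.2
  choose m hm using hm
  have hA : ∀ φ : Cfsg.IrrCharacter P,
      ∑ χ : Cfsg.IrrCharacter G, Cfsg.charDegree (χ : G → ℂ) * m χ φ = P.index := by
    intro φ
    have h := Cfsg.Agent.Lib.Helper16.sum_degree_mul_classInner P (φ : P → ℂ)
    rw [Cfsg.Agent.Lib.Helper79.irr_one_eq_one_of_comm φ, map_one, mul_one] at h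
    have h' : ((∑ χ : Cfsg.IrrCharacter G, Cfsg.charDegree (χ : G → ℂ) * m χ φ : ℕ) : ℂ) =
        (P.index : ℂ) := by
      rw [← h]
      push_cast
      refine Finset.sum_congr rfl fun χ _ => ?_
      rw [hm, ← Cfsg.Agent.Lib.Helper81.irr_apply_one_eq_charDegree]
    exact_mod_cast h'
  have hpar : ∀ φ : Cfsg.IrrCharacter P, ∑ χ : Cfsg.IrrCharacter G, (m χ φ : ZMod 2) = 0 := by
    intro φ
    have h := congrArg (fun n : ℕ => (n : ZMod 2)) (hA φ)
    simp only [Nat.cast_sum, Nat.cast_mul] at h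
    rw [ZMod.natCast_eq_zero_iff_even.mpr hidx] at h
    rw [← h]
    refine Finset.sum_congr rfl fun χ _ => ?_
    rw [ZMod.natCast_eq_one_iff_odd.mpr (hodd χ), one_mul]
  -- characters are real on `P`
  have hrealP : ∀ (χ : Cfsg.IrrCharacter G) (u : P),
      conj ((χ : G → ℂ) u) = (χ : G → ℂ) u := by
    intro χ u
    obtain ⟨c, hc⟩ := hreal u u.2
    rw [← irr_conj_inv, ← hc, irr_class]
  have hB : ∀ (χ : Cfsg.IrrCharacter G) (φ : Cfsg.IrrCharacter P), m (cbar χ) φ = m χ φ := by
    intro χ φ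
    have h1 := hm (cbar χ) φ
    have h2 := hm χ φ
    have h3 : Cfsg.classInner (fun u : P => (cbar χ : G → ℂ) u) (φ : P → ℂ) =
        Cfsg.classInner (fun u : P => (χ : G → ℂ) u) (φ : P → ℂ) := by
      rw [Cfsg.Agent.Lib.Helper25.classInner_def, Cfsg.Agent.Lib.Helper25.classInner_def]
      congr 1
      refine Finset.sum_congr rfl fun u _ => ?_
      rw [cbar_apply, hrealP]
    rw [h1, h2] at h3
    exact_mod_cast h3
  have hnonreal : ∀ φ : Cfsg.IrrCharacter P,
      ∑ χ ∈ Finset.univ.filter (fun χ : Cfsg.IrrCharacter G => ¬ isR χ), (m χ φ : ZMod 2) = 0 := by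
    intro φ
    refine Finset.sum_involution (fun χ _ => cbar χ) ?_ ?_ ?_ ?_
    · intro χ _
      rw [hB]
      exact CharTwo.add_self_eq_zero _
    · intro χ hχ _ heq
      rw [Finset.mem_filter] at hχ
      apply hχ.2
      intro g
      have h1 := congrArg (fun ψ : Cfsg.IrrCharacter G => (ψ : G → ℂ) g) heq
      simp only [cbar_apply] at h1
      exact Complex.conj_eq_iff_im.mp h1
    · intro χ hχ
      rw [Finset.mem_filter] at hχ ⊢
      refine ⟨Finset.mem_univ _, ?_⟩
      intro hr
      apply hχ.2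
      intro g
      have h1 := hr g
      rw [cbar_apply, Complex.conj_im, neg_eq_zero] at h1
      exact h1
    · intro χ _
      exact cbar_cbar χ
  have hN : ∀ φ : Cfsg.IrrCharacter P,
      Even (∑ χ ∈ Finset.univ.filter (fun χ : Cfsg.IrrCharacter G => isR χ), m χ φ) := by
    intro φ
    rw [← ZMod.natCast_eq_zero_iff_even]
    push_cast
    have h := hpar φ
    rw [← Finset.sum_filter_add_sum_filter_not Finset.univ (fun χ => isR χ), hnonreal φ,
      add_zero] at h
    exact h
  -- evaluation of the real sum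
  have hE : ∀ φ : Cfsg.IrrCharacter P,
      ((∑ χ ∈ Finset.univ.filter (fun χ : Cfsg.IrrCharacter G => isR χ), m χ φ : ℕ) : ℂ) =
        (Nat.card P : ℂ)⁻¹ * ∑ u : P, r (u : G) * conj ((φ : P → ℂ) u) := by
    intro φ
    push_cast
    rw [Finset.sum_filter]
    have h1 : ∀ χ : Cfsg.IrrCharacter G, (if isR χ then ((m χ φ : ℕ) : ℂ) else 0) =
        (Nat.card P : ℂ)⁻¹ * ∑ u : P,
          ((if isR χ then (1 : ℂ) else 0) * (χ : G → ℂ) u) * conj ((φ : P → ℂ) u) := by
      intro χ
      rw [← hm χ φ, Cfsg.Agent.Lib.Helper25.classInner_def]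
      split_ifs
      · simp only [one_mul]
      · simp only [zero_mul, Finset.sum_const_zero, mul_zero]
    simp_rw [h1]
    rw [← Finset.mul_sum, Finset.sum_comm]
    congr 1
    refine Finset.sum_congr rfl fun u _ => ?_
    rw [hrexp, Finset.sum_mul]
  have hsumφ : ∀ φ : Cfsg.IrrCharacter P, ∑ u : P, conj ((φ : P → ℂ) u) =
      if φ = trivIrr P then (Nat.card P : ℂ) else 0 := by
    intro φ
    have h := irr_row_orthogonality φ (trivIrr P)
    simp only [trivIrr_apply, map_one, mul_one] at h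
    have h2 := congrArg conj h
    rw [map_sum] at h2
    rw [h2]
    split_ifs <;> simp
  have hval : ∀ φ : Cfsg.IrrCharacter P, ∑ u : P, r (u : G) * conj ((φ : P → ℂ) u) =
      (r 1 - 1) + if φ = trivIrr P then (Nat.card P : ℂ) else 0 := by
    intro φ
    rw [← hsumφ φ]
    have h1 : ∀ u : P, r (u : G) * conj ((φ : P → ℂ) u) =
        (if u = 1 then (r 1 - 1) else 0) + conj ((φ : P → ℂ) u) := by
      intro u
      by_cases hu : u = 1
      · subst hu
        rw [if_pos rfl, Cfsg.Agent.Lib.Helper79.irr_one_eq_one_of_comm φ, map_one,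
          OneMemClass.coe_one]
        ring
      · rw [if_neg hu, hr1 u hu]
        ring
    simp_rw [h1]
    rw [Finset.sum_add_distrib, Finset.sum_ite_eq']
    simp
  -- a nontrivial character of `P`
  obtain ⟨φ₁, hφ₁⟩ : ∃ φ : Cfsg.IrrCharacter P, φ ≠ trivIrr P := by
    by_contra hcon
    push Not at hcon
    obtain ⟨u, huP, hu1⟩ := hP1
    have h := Cfsg.Agent.Lib.Helper38.irr_orthogonality (⟨u, huP⟩ : P) 1
    rw [if_neg (by intro h; apply hu1; exact congrArg Subtype.val h)] at h
    have h1 : ∀ φ : Cfsg.IrrCharacter P,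
        (φ : P → ℂ) ⟨u, huP⟩ * conj ((φ : P → ℂ) 1) = 1 := by
      intro φ
      rw [hcon φ]
      simp [trivIrr_apply]
    simp_rw [h1] at h
    rw [Finset.sum_const, Finset.card_univ, nsmul_eq_mul, mul_one] at h
    have h2 : Fintype.card (Cfsg.IrrCharacter P) = 0 := by exact_mod_cast h
    haveI : Nonempty (Cfsg.IrrCharacter P) := ⟨trivIrr P⟩
    exact Fintype.card_ne_zero h2
  obtain ⟨a, ha⟩ := hN (trivIrr P)
  obtain ⟨b, hb⟩ := hN φ₁
  have e1 := hE (trivIrr P)
  rw [hval, if_pos rfl, ha] at e1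
  have e2 := hE φ₁
  rw [hval, if_neg hφ₁, hb] at e2
  have hP0 : (Nat.card P : ℂ) ≠ 0 := by exact_mod_cast Nat.card_pos.ne'
  have h3 : ((a + a : ℕ) : ℂ) - ((b + b : ℕ) : ℂ) = 1 := by
    rw [e1, e2]
    field_simp
    ring
  have h4 : ((a + a : ℕ) : ℤ) - ((b + b : ℕ) : ℤ) = 1 := by exact_mod_cast h3
  omega

end Main

end Cfsg.Agent.Lib.Helper80
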