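import Cfsg.Agent.Lib.Helper80.InvSylow
import Cfsg.Agent.Lib.Helper80.OddDegreesReal

/-!
# Odd centralizers of `p`-elements: defect zero or a character of even degree
-/

set_option autoImplicit false
set_option linter.style.haveILetI false

namespace Cfsg.Agent.Lib.Helper80

open Cfsg

universe u

section InvSylow2

/-- An element with centralizer of odd order has exactly one square root. -/
theorem existsUnique_sqrt_of_odd_centralizer {G : Type u} [Group G] [Finite G] (x : G)
    (hodd : Odd (Nat.card ↥(Subgroup.centralizer ({x} : Set G)))) : ∃! s : G, s * s = x := by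
  have hoddC : ∀ c ∈ Subgroup.centralizer ({x} : Set G), Odd (orderOf c) := by
    intro c hc
    have h1 : orderOf c ∣ Nat.card ↥(Subgroup.centralizer ({x} : Set G)) := by
      rw [← Subgroup.orderOf_mk c hc]; exact orderOf_dvd_natCard _
    exact Odd.of_dvd_nat hodd h1
  have hxC : x ∈ Subgroup.centralizer ({x} : Set G) := by
    rw [Subgroup.mem_centralizer_singleton_iff]
  obtain ⟨k, hk⟩ := hoddC x hxC
  have hs₀ : x ^ (k + 1) * x ^ (k + 1) = x := by
    rw [← pow_add]
    have : k + 1 + (k + 1) = orderOf x + 1 := by omega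
    rw [this, pow_succ, pow_orderOf_eq_one, one_mul]
  refine ⟨x ^ (k + 1), hs₀, ?_⟩
  intro s hs
  have hsC : s ∈ Subgroup.centralizer ({x} : Set G) := by
    rw [Subgroup.mem_centralizer_singleton_iff, ← hs, mul_assoc]
  have hs₀s : x ^ (k + 1) = s ^ (2 * (k + 1)) := by
    rw [pow_mul, pow_two, hs]
  have hcomm : Commute s (x ^ (k + 1)) := by
    rw [hs₀s]
    exact (Commute.refl s).pow_right _
  set w := s * (x ^ (k + 1))⁻¹ with hw
  have hwC : w ∈ Subgroup.centralizer ({x} : Set G) :=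
    Subgroup.mul_mem _ hsC (Subgroup.inv_mem _ (Subgroup.pow_mem _ hxC _))
  have hww : w ^ 2 = 1 := by
    rw [pow_two, hw]
    have h1 : s * (x ^ (k + 1))⁻¹ * (s * (x ^ (k + 1))⁻¹) =
        (s * s) * (x ^ (k + 1) * x ^ (k + 1))⁻¹ := by
      have h2 : (x ^ (k + 1))⁻¹ * s = s * (x ^ (k + 1))⁻¹ := (hcomm.inv_right).eq.symm
      calc s * (x ^ (k + 1))⁻¹ * (s * (x ^ (k + 1))⁻¹)
          = s * ((x ^ (k + 1))⁻¹ * s) * (x ^ (k + 1))⁻¹ := by group
        _ = s * (s * (x ^ (k + 1))⁻¹) * (x ^ (k + 1))⁻¹ := by rw [h2]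
        _ = (s * s) * (x ^ (k + 1) * x ^ (k + 1))⁻¹ := by group
    rw [h1, hs, hs₀, mul_inv_cancel]
  have hw1 : orderOf w = 1 := by
    have h1 : orderOf w ∣ 2 := orderOf_dvd_of_pow_eq_one hww
    rcases (Nat.dvd_prime Nat.prime_two).mp h1 with h | h
    · exact h
    · exfalso
      obtain ⟨j, hj⟩ := hoddC w hwC
      omega
  rw [orderOf_eq_one_iff, hw, mul_inv_eq_one] at hw1
  exact hw1

/-- A Sylow `p`-subgroup is nontrivial when `p` divides the group order. -/
theorem sylow_exists_ne_one {G : Type u} [Group G] [Finite G] {p : ℕ} [hp : Fact p.Prime]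
    (hpG : p ∣ Nat.card G) (P : Sylow p G) : ∃ d ∈ (P : Subgroup G), d ≠ 1 := by
  have hP1 : (P : Subgroup G) ≠ ⊥ := by
    apply (Subgroup.one_lt_card_iff_ne_bot _).mp
    rw [P.card_eq_multiplicity]
    have hG0 : Nat.card G ≠ 0 := Nat.card_pos.ne'
    have h3 : 0 < (Nat.card G).factorization p :=
      Nat.Prime.factorization_pos_of_dvd hp.out hG0 hpG
    exact Nat.one_lt_pow h3.ne' hp.out.one_lt
  by_contra hcon
  push Not at hcon
  apply hP1
  rw [Subgroup.eq_bot_iff_forall]
  exact hcon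

/-- For odd `p`, a Sylow `p`-subgroup of a group of even order has even index. -/
theorem even_index_sylow {G : Type u} [Group G] [Finite G] {p : ℕ} [hp : Fact p.Prime]
    (hp2 : p ≠ 2) (h2G : 2 ∣ Nat.card G) (P : Sylow p G) : Even (P : Subgroup G).index := by
  rw [even_iff_two_dvd]
  have h1 : Nat.card (P : Subgroup G) * (P : Subgroup G).index = Nat.card G :=
    Subgroup.card_mul_index _
  rw [← h1, P.card_eq_multiplicity] at h2G
  have hcop : Nat.Coprime 2 (p ^ (Nat.card G).factorization p) :=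
    Nat.Coprime.pow_right _ ((Nat.coprime_primes Nat.prime_two hp.out).mpr (Ne.symm hp2))
  exact hcop.dvd_of_dvd_mul_left h2G

/-- **Odd centralizers of `p`-elements**: defect zero or a character of even degree. -/
theorem hasDZ_or_even_degree {G : Type u} [Group G] [Finite G] {p : ℕ} [hp : Fact p.Prime]
    (hp2 : p ≠ 2) (hpG : p ∣ Nat.card G) (h2G : 2 ∣ Nat.card G) (hC : OddCent p G) :
    HasDZ p G ∨ ∃ χ : Cfsg.IrrCharacter G, Even (Cfsg.charDegree (χ : G → ℂ)) := by
  by_cases hDZ : HasDZ p G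
  · left; exact hDZ
  right
  by_contra hcon
  push Not at hcon
  have hodd : ∀ χ : Cfsg.IrrCharacter G, Odd (Cfsg.charDegree (χ : G → ℂ)) :=
    fun χ => Nat.not_even_iff_odd.mp (hcon χ)
  classical
  haveI := Fintype.ofFinite G
  haveI : Fact (Nat.Prime 2) := ⟨Nat.prime_two⟩
  obtain ⟨P⟩ : Nonempty (Sylow p G) := inferInstance
  obtain ⟨t, ht⟩ := exists_prime_orderOf_dvd_card' 2 h2G
  obtain ⟨s, -, hs2, hsN, hsinv⟩ := sylow_inverted hp2 hC hpG hDZ P t ht
  have hcomm := comm_of_inverts s (P : Subgroup G) hsinv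
  haveI : IsMulCommutative ↥(P : Subgroup G) :=
    ⟨⟨fun a b => Subtype.ext (hcomm a a.2 b b.2)⟩⟩
  apply false_of_odd_degrees (P : Subgroup G) (sylow_exists_ne_one hpG P)
    (fun u hu => ⟨s, hsinv u hu⟩) (even_index_sylow hp2 h2G P) ?_ hodd
  intro u hu hu1
  apply existsUnique_sqrt_of_odd_centralizer
  apply hC u hu1
  obtain ⟨k, hk⟩ := IsPGroup.iff_orderOf.mp P.2 ⟨u, hu⟩
  exact ⟨k, by rw [← hk, Subgroup.orderOf_mk]⟩

end InvSylow2

end Cfsg.Agent.Lib.Helper80
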