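import Cfsg.Agent.Lib.Helper81.Mi.Defs
import Cfsg.Agent.Lib.Helper35.MiORBK

/-!
# Mi hive (S2140, owner helper81), leaf MI-ORB: `orbit_dichotomy` (assembly; part K = helper35)

Burnside with a constant number of fixed points on the `QL`-orbit of a moved coset and on the rest of the moved
cosets; since `[G:H] < 2|Q|` there is exactly one such orbit, `k = 1`, and the class formula gives `a (s-1) = N-1`.
-/

set_option autoImplicit false

namespace Cfsg.Agent.Lib.Helper81.Mi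

/-- Burnside with a constant number of fixed points. -/
theorem orb_burnside {Q X : Type*} [Group Q] [Finite Q] [Finite X] [MulAction Q X]
    (f : ℕ) (hf : ∀ t : Q, t ≠ 1 → Nat.card (MulAction.fixedBy X t) = f) :
    Nat.card (Quotient (MulAction.orbitRel Q X)) * Nat.card Q = Nat.card X + (Nat.card Q - 1) * f := by
  classical
  have := Fintype.ofFinite Q
  have := Fintype.ofFinite X
  have h := MulAction.sum_card_fixedBy_eq_card_orbits_mul_card_group Q X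
  simp only [Nat.card_eq_fintype_card]
  rw [← h, ← Finset.add_sum_erase Finset.univ _ (Finset.mem_univ (1 : Q))]
  congr 1
  · simp [MulAction.fixedBy_one_eq_univ]
  · rw [Finset.sum_congr rfl (g := fun _ => f)]
    · rw [Finset.sum_const, Finset.card_erase_of_mem (Finset.mem_univ _), Finset.card_univ, smul_eq_mul]
    · intro t ht
      rw [← Nat.card_eq_fintype_card]
      exact hf t (Finset.ne_of_mem_erase ht)

/-- consequence: if no point is fixed by all of `Q`, the set has `k |Q| + f` points, `k ≥ 1`, and `k + f` orbits. -/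
theorem orb_card_ge {Q X : Type*} [Group Q] [Finite Q] [Finite X] [MulAction Q X] [Nonempty X]
    (f : ℕ) (hf : ∀ t : Q, t ≠ 1 → Nat.card (MulAction.fixedBy X t) = f)
    (hnf : ∀ x : X, ∃ t : Q, t • x ≠ x) :
    ∃ k : ℕ, 1 ≤ k ∧ Nat.card X = k * Nat.card Q + f ∧
      Nat.card (Quotient (MulAction.orbitRel Q X)) = k + f := by
  have hB := orb_burnside (Q := Q) (X := X) f hf
  obtain ⟨x0⟩ := ‹Nonempty X›
  obtain ⟨t0, ht0⟩ := hnf x0
  have ht01 : t0 ≠ 1 := by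
    intro h
    rw [h, one_smul] at ht0
    exact ht0 rfl
  have hN : 2 ≤ Nat.card Q := by
    have : Nontrivial Q := ⟨⟨t0, 1, ht01⟩⟩
    exact Finite.one_lt_card
  -- `f < |X|`
  have hfle : f ≤ Nat.card X := by
    rw [← hf t0 ht01]
    exact Nat.card_le_card_of_injective (fun x => x.1) Subtype.val_injective
  have hfne : f ≠ Nat.card X := by
    intro h
    have hc : (MulAction.fixedBy X t0).ncard = Nat.card X := by
      rw [← Nat.card_coe_set_eq, hf t0 ht01, h]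
    have huniv : MulAction.fixedBy X t0 = Set.univ := (Set.eq_univ_iff_ncard _).mpr hc
    have : x0 ∈ MulAction.fixedBy X t0 := by
      rw [huniv]
      trivial
    exact ht0 this
  have hflt : f < Nat.card X := lt_of_le_of_ne hfle hfne
  obtain ⟨N', hN'⟩ : ∃ N', Nat.card Q = N' + 1 := ⟨Nat.card Q - 1, by omega⟩
  rw [hN', Nat.add_sub_cancel] at hB
  have hfr : f < Nat.card (Quotient (MulAction.orbitRel Q X)) := by
    by_contra hcon
    push Not at hcon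
    have : Nat.card (Quotient (MulAction.orbitRel Q X)) * (N' + 1) ≤ f * (N' + 1) :=
      Nat.mul_le_mul_right _ hcon
    nlinarith
  obtain ⟨k, hk⟩ := Nat.exists_eq_add_of_lt hfr
  refine ⟨k + 1, by omega, ?_, by omega⟩
  rw [hk] at hB
  rw [hN']
  nlinarith

section gen

variable {G : Type*} [Group G] {Ω : Type*} [MulAction G Ω]

/-- a `Q`-invariant set as a sub-action of `↥Q`. -/
def orbx_mk (Q : Subgroup G) (S : Set Ω) (h : ∀ t ∈ Q, ∀ x ∈ S, t • x ∈ S) : SubMulAction ↥Q Ω :=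
  ⟨S, fun t x hx => h t.1 t.2 x hx⟩

theorem orbx_mem_mk (Q : Subgroup G) (S : Set Ω) (h : ∀ t ∈ Q, ∀ x ∈ S, t • x ∈ S) (x : Ω) :
    x ∈ orbx_mk Q S h ↔ x ∈ S := Iff.rfl

/-- conjugation by `l` transports fixed points. -/
theorem orbx_fix_le [Finite Ω] (Q : Subgroup G) (S : SubMulAction ↥Q Ω) (l : G)
    (hl : ∀ x ∈ S, l • x ∈ S) (t t' : ↥Q) (htt : l * (t : G) * l⁻¹ = (t' : G)) :
    Nat.card (MulAction.fixedBy ↥S t) ≤ Nat.card (MulAction.fixedBy ↥S t') := by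
  have key : ∀ x : MulAction.fixedBy ↥S t,
      (⟨l • (x.1 : Ω), hl _ x.1.2⟩ : ↥S) ∈ MulAction.fixedBy ↥S t' := by
    intro x
    have hx : (t : G) • (x.1 : Ω) = (x.1 : Ω) := by
      have := congrArg Subtype.val x.2
      rwa [SubMulAction.val_smul] at this
    rw [MulAction.mem_fixedBy]
    apply Subtype.ext
    rw [SubMulAction.val_smul]
    change (t' : G) • l • (x.1 : Ω) = l • (x.1 : Ω)
    rw [← htt, mul_smul, mul_smul, inv_smul_smul, hx]
  apply Nat.card_le_card_of_injective (fun x => ⟨⟨l • (x.1 : Ω), hl _ x.1.2⟩, key x⟩)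
  intro x y hxy
  have h1 : l • (x.1 : Ω) = l • (y.1 : Ω) := congrArg (fun z => ((z.1 : ↥S) : Ω)) hxy
  exact Subtype.ext (Subtype.ext (MulAction.injective l h1))

/-- the number of fixed points on an `L`-invariant sub-action is constant on `Q ∖ 1`. -/
theorem orbx_fix_const [Finite Ω] (Q L : Subgroup G)
    (hconj : ∀ t ∈ Q, ∀ t' ∈ Q, t ≠ 1 → t' ≠ 1 → ∃ l ∈ L, l * t * l⁻¹ = t')
    (S : SubMulAction ↥Q Ω) (hSL : ∀ l ∈ L, ∀ x ∈ S, l • x ∈ S) :
    ∃ f : ℕ, ∀ t : ↥Q, t ≠ 1 → Nat.card (MulAction.fixedBy ↥S t) = f := by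
  by_cases hQ : ∃ t0 : ↥Q, t0 ≠ 1
  · obtain ⟨t0, ht0⟩ := hQ
    refine ⟨Nat.card (MulAction.fixedBy ↥S t0), fun t ht => ?_⟩
    have h1 : ((t0 : ↥Q) : G) ≠ 1 := fun h => ht0 (Subtype.ext h)
    have h2 : ((t : ↥Q) : G) ≠ 1 := fun h => ht (Subtype.ext h)
    obtain ⟨l, hl, hlt⟩ := hconj t0 t0.2 t t.2 h1 h2
    obtain ⟨l', hl', hlt'⟩ := hconj t t.2 t0 t0.2 h2 h1
    exact le_antisymm (orbx_fix_le Q S l' (hSL l' hl') t t0 hlt') (orbx_fix_le Q S l (hSL l hl) t0 t hlt)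
  · push Not at hQ
    exact ⟨0, fun t ht => absurd (hQ t) ht⟩

/-- Burnside on a `Q`- and `L`-invariant set without `Q`-fixed points. -/
theorem orbx_sub_card [Finite G] [Finite Ω] (Q L : Subgroup G)
    (hconj : ∀ t ∈ Q, ∀ t' ∈ Q, t ≠ 1 → t' ≠ 1 → ∃ l ∈ L, l * t * l⁻¹ = t')
    (S : SubMulAction ↥Q Ω) (hSL : ∀ l ∈ L, ∀ x ∈ S, l • x ∈ S)
    (hS1 : ∀ x ∈ S, ∃ t ∈ Q, t • x ≠ x) (hne : Nonempty ↥S) :
    ∃ k f : ℕ, 1 ≤ k ∧ Nat.card ↥S = k * Nat.card Q + f ∧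
      Nat.card (Quotient (MulAction.orbitRel ↥Q ↥S)) = k + f ∧
      ∀ t : ↥Q, t ≠ 1 → Nat.card (MulAction.fixedBy ↥S t) = f := by
  obtain ⟨f, hf⟩ := orbx_fix_const Q L hconj S hSL
  have hnf : ∀ x : ↥S, ∃ t : ↥Q, t • x ≠ x := by
    intro x
    obtain ⟨t, ht, hx⟩ := hS1 x.1 x.2
    refine ⟨⟨t, ht⟩, fun h => hx ?_⟩
    have := congrArg Subtype.val h
    rwa [SubMulAction.val_smul] at this
  obtain ⟨k, hk, h1, h2⟩ := orb_card_ge (Q := ↥Q) (X := ↥S) f hf hnf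
  exact ⟨k, f, hk, h1, h2, hf⟩

end gen


section gen2

variable {G : Type*} [Group G] {Ω : Type*} [MulAction G Ω]

theorem orbx_ncard_smul (Q : Subgroup G) (l : G) (hl : ∀ t ∈ Q, l⁻¹ * t * l ∈ Q)
    (hl' : ∀ t ∈ Q, l * t * l⁻¹ ∈ Q) (x : Ω) :
    (MulAction.orbit ↥Q (l • x)).ncard = (MulAction.orbit ↥Q x).ncard := by
  have : MulAction.orbit ↥Q (l • x) = (fun y => l • y) '' MulAction.orbit ↥Q x := by
    ext y
    constructor
    · rintro ⟨t, rfl⟩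
      refine ⟨(⟨l⁻¹ * t * l, hl t t.2⟩ : ↥Q) • x, ⟨_, rfl⟩, ?_⟩
      simp [Subgroup.smul_def, mul_smul]
    · rintro ⟨_, ⟨t, rfl⟩, rfl⟩
      refine ⟨⟨l * t * l⁻¹, hl' t t.2⟩, ?_⟩
      simp [Subgroup.smul_def, mul_smul]
  rw [this, Set.ncard_image_of_injective _ (MulAction.injective l)]

/-- class formula when all orbits have the same size. -/
theorem orbx_class [Finite Ω] (Q : Subgroup G) (S : SubMulAction ↥Q Ω) (s : ℕ)
    (hs : ∀ x ∈ S, (MulAction.orbit ↥Q x).ncard = s) :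
    Nat.card ↥S = Nat.card (Quotient (MulAction.orbitRel ↥Q ↥S)) * s := by
  classical
  have := Fintype.ofFinite (Quotient (MulAction.orbitRel ↥Q ↥S))
  rw [Nat.card_congr (MulAction.selfEquivSigmaOrbits ↥Q ↥S), Nat.card_sigma]
  rw [Finset.sum_congr rfl (g := fun _ => s)]
  · rw [Finset.sum_const, Finset.card_univ, smul_eq_mul, Nat.card_eq_fintype_card]
  · intro ω _
    rw [Nat.card_coe_set_eq, ← hs _ (Quotient.out ω).2, ← SubMulAction.val_image_orbit,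
      Set.ncard_image_of_injective _ Subtype.val_injective]

end gen2
section gen3

variable {G : Type*} [Group G] {Ω : Type*} [MulAction G Ω]

/-- the set of points moved by `Q` is invariant under every element normalising `Q`. -/
theorem orbx_moved_smul (Q : Subgroup G) (g : G) (hg : ∀ t ∈ Q, g * t * g⁻¹ ∈ Q) (x : Ω)
    (hx : ∃ t ∈ Q, t • x ≠ x) : ∃ t ∈ Q, t • g • x ≠ g • x := by
  obtain ⟨t, ht, hx⟩ := hx
  refine ⟨g * t * g⁻¹, hg t ht, fun h => hx ?_⟩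
  rw [mul_smul, mul_smul, inv_smul_smul] at h
  exact MulAction.injective g h

theorem orbx_set_eq (Q : Subgroup G) (x : Ω) :
    {y : Ω | ∃ t ∈ Q, y = t • x} = MulAction.orbit ↥Q x := by
  ext y
  constructor
  · rintro ⟨t, ht, rfl⟩
    exact ⟨⟨t, ht⟩, rfl⟩
  · rintro ⟨t, rfl⟩
    exact ⟨t.1, t.2, rfl⟩

end gen3

section quot

variable {G : Type*} [Group G]

theorem orbx_fix_iff (H : Subgroup G) (g t : G) :
    t • (g : G ⧸ H) = (g : G ⧸ H) ↔ t ∈ cj g H := by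
  rw [mem_cj, MulAction.Quotient.smul_coe, QuotientGroup.eq, ← H.inv_mem_iff]
  simp [mul_assoc]

theorem orbx_relIndex [Finite G] (H Q : Subgroup G) (g : G) :
    (cj g H).relIndex Q = (MulAction.orbit ↥Q (g : G ⧸ H)).ncard := by
  rw [← MulAction.index_stabilizer, Subgroup.relIndex]
  congr 1
  ext t
  rw [Subgroup.mem_subgroupOf, MulAction.mem_stabilizer_iff, ← orbx_fix_iff]
  rfl

end quot

section main

variable {G : Type*} [Group G] {Ω : Type*} [MulAction G Ω]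

theorem orbx_main [Finite G] [Finite Ω] (Q L : Subgroup G) (N : ℕ) (hN : Nat.card Q = N)
    (hnorm : ∀ l ∈ L, ∀ t ∈ Q, l * t * l⁻¹ ∈ Q)
    (hconj : ∀ t ∈ Q, ∀ t' ∈ Q, t ≠ 1 → t' ≠ 1 → ∃ l ∈ L, l * t * l⁻¹ = t')
    (x0 : Ω) (hx0 : ∃ t ∈ Q, t • x0 ≠ x0) (hd : Nat.card Ω < 2 * N) :
    ∃ s a : ℕ, 1 < s ∧ s ∣ N ∧ a * (s - 1) = N - 1 ∧
      Nat.card Ω = a * s + Nat.card {x : Ω // ∀ t ∈ Q, t • x = x} ∧
      (∀ x : Ω, (∀ t ∈ Q, t • x = x) ∨ (MulAction.orbit ↥Q x).ncard = s) ∧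
      (MulAction.orbit ↥Q x0).ncard = s ∧
      Nat.card {y : Ω // ∃ l ∈ L, ∃ t ∈ Q, y = t • l • x0} = a * s ∧
      (∀ t ∈ Q, t ≠ 1 → Nat.card {x : Ω // t • x = x} =
        (a - 1) + Nat.card {x : Ω // ∀ t ∈ Q, t • x = x}) := by
  classical
  have hnorm' : ∀ l ∈ L, ∀ t ∈ Q, l⁻¹ * t * l ∈ Q := by
    intro l hl t ht
    simpa using hnorm l⁻¹ (L.inv_mem hl) t ht
  have hQn : ∀ c ∈ Q, ∀ t ∈ Q, c * t * c⁻¹ ∈ Q := fun c hc t ht =>
    Q.mul_mem (Q.mul_mem hc ht) (Q.inv_mem hc)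
  -- the `QL`-orbit of `x0`
  obtain ⟨D, hDdef⟩ : ∃ D : Set Ω, D = {y | ∃ l ∈ L, ∃ t ∈ Q, y = t • l • x0} := ⟨_, rfl⟩
  have hDmem : ∀ y, y ∈ D ↔ ∃ l ∈ L, ∃ t ∈ Q, y = t • l • x0 := by
    intro y; rw [hDdef]; rfl
  have hDQ : ∀ t ∈ Q, ∀ x ∈ D, t • x ∈ D := by
    intro t ht x hx
    obtain ⟨l, hl, t', ht', rfl⟩ := (hDmem x).1 hx
    exact (hDmem _).2 ⟨l, hl, t * t', Q.mul_mem ht ht', by rw [mul_smul]⟩
  have hDL : ∀ l ∈ L, ∀ x ∈ D, l • x ∈ D := by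
    intro l hl x hx
    obtain ⟨l', hl', t, ht, rfl⟩ := (hDmem x).1 hx
    refine (hDmem _).2 ⟨l * l', L.mul_mem hl hl', l * t * l⁻¹, hnorm l hl t ht, ?_⟩
    simp only [mul_smul, inv_smul_smul]
  have hD1 : ∀ x ∈ D, ∃ t ∈ Q, t • x ≠ x := by
    intro x hx
    obtain ⟨l, hl, t, ht, rfl⟩ := (hDmem x).1 hx
    exact orbx_moved_smul Q t (hQn t ht) _ (orbx_moved_smul Q l (hnorm l hl) _ hx0)
  have hx0D : x0 ∈ D := (hDmem _).2 ⟨1, L.one_mem, 1, Q.one_mem, by simp⟩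
  -- the rest of the moved points
  obtain ⟨E, hEdef⟩ : ∃ E : Set Ω, E = {x | (∃ t ∈ Q, t • x ≠ x) ∧ x ∉ D} := ⟨_, rfl⟩
  have hEmem : ∀ y, y ∈ E ↔ ((∃ t ∈ Q, t • y ≠ y) ∧ y ∉ D) := by
    intro y; rw [hEdef]; rfl
  have hEQ : ∀ t ∈ Q, ∀ x ∈ E, t • x ∈ E := by
    intro t ht x hx
    obtain ⟨h1, h2⟩ := (hEmem x).1 hx
    refine (hEmem _).2 ⟨orbx_moved_smul Q t (hQn t ht) _ h1, fun h => h2 ?_⟩
    have := hDQ t⁻¹ (Q.inv_mem ht) _ h
    rwa [inv_smul_smul] at this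
  have hEL : ∀ l ∈ L, ∀ x ∈ E, l • x ∈ E := by
    intro l hl x hx
    obtain ⟨h1, h2⟩ := (hEmem x).1 hx
    refine (hEmem _).2 ⟨orbx_moved_smul Q l (hnorm l hl) _ h1, fun h => h2 ?_⟩
    have := hDL l⁻¹ (L.inv_mem hl) _ h
    rwa [inv_smul_smul] at this
  -- Burnside on `D`
  have : Nonempty ↥(orbx_mk Q D hDQ) := ⟨⟨x0, hx0D⟩⟩
  obtain ⟨k, f, hk, hcardD, horbD, hfixD⟩ :=
    orbx_sub_card Q L hconj (orbx_mk Q D hDQ) hDL hD1 inferInstance
  have hcardD' : D.ncard = k * N + f := by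
    rw [← hN, ← hcardD, ← Nat.card_coe_set_eq]
    rfl
  have hDle : D.ncard ≤ Nat.card Ω := by
    rw [← Set.ncard_univ]
    exact Set.ncard_le_ncard (Set.subset_univ _)
  -- `E` is empty
  have hEempty : ∀ x, (∃ t ∈ Q, t • x ≠ x) → x ∈ D := by
    intro x hx
    by_contra hxD
    have hxE : x ∈ E := (hEmem x).2 ⟨hx, hxD⟩
    have : Nonempty ↥(orbx_mk Q E hEQ) := ⟨⟨x, hxE⟩⟩
    obtain ⟨k', f', hk', hcardE, -, -⟩ :=
      orbx_sub_card Q L hconj (orbx_mk Q E hEQ) hEL (fun y hy => ((hEmem y).1 hy).1) inferInstance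
    have hcardE' : E.ncard = k' * N + f' := by
      rw [← hN, ← hcardE, ← Nat.card_coe_set_eq]
      rfl
    have hdisj : Disjoint D E := by
      rw [Set.disjoint_left]
      intro y hyD hyE
      exact ((hEmem y).1 hyE).2 hyD
    have hunion : (D ∪ E).ncard = D.ncard + E.ncard := Set.ncard_union_eq hdisj
    have hle : (D ∪ E).ncard ≤ Nat.card Ω := by
      rw [← Set.ncard_univ]
      exact Set.ncard_le_ncard (Set.subset_univ _)
    have h1 : N ≤ k * N := Nat.le_mul_of_pos_left N hk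
    have h2 : N ≤ k' * N := Nat.le_mul_of_pos_left N hk'
    omega
  -- `k = 1`
  have hk1 : k = 1 := by
    by_contra hne
    have h2 : 2 ≤ k := by omega
    have : 2 * N ≤ k * N := Nat.mul_le_mul_right N h2
    omega
  subst hk1
  rw [one_mul] at hcardD'
  -- orbit sizes
  have hsD : ∀ x ∈ D, (MulAction.orbit ↥Q x).ncard = (MulAction.orbit ↥Q x0).ncard := by
    intro x hx
    obtain ⟨l, hl, t, ht, rfl⟩ := (hDmem x).1 hx
    have h1 : MulAction.orbit ↥Q (t • l • x0) = MulAction.orbit ↥Q (l • x0) :=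
      MulAction.orbit_smul (⟨t, ht⟩ : ↥Q) (l • x0)
    rw [h1, orbx_ncard_smul Q l (hnorm' l hl) (hnorm l hl)]
  have hclass := orbx_class Q (orbx_mk Q D hDQ) _ hsD
  rw [horbD] at hclass
  have hclass' : D.ncard = (1 + f) * (MulAction.orbit ↥Q x0).ncard := by
    rw [← hclass, ← Nat.card_coe_set_eq]
    rfl
  -- `1 < s`, `s ∣ N`
  have hs1 : 1 < (MulAction.orbit ↥Q x0).ncard := by
    obtain ⟨t, ht, hx⟩ := hx0
    rw [Set.one_lt_ncard_iff]
    exact ⟨t • x0, x0, ⟨⟨t, ht⟩, rfl⟩, MulAction.mem_orbit_self x0, hx⟩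
  have hsN : (MulAction.orbit ↥Q x0).ncard ∣ N := by
    rw [← MulAction.index_stabilizer, ← hN]
    exact Subgroup.index_dvd_card _
  -- fixed points of `Q`
  have hcompl : {x : Ω | ∀ t ∈ Q, t • x = x} = Dᶜ := by
    ext x
    constructor
    · intro hx hxD
      obtain ⟨t, ht, h⟩ := hD1 x hxD
      exact h (hx t ht)
    · intro hx t ht
      by_contra h
      exact hx (hEempty x ⟨t, ht, h⟩)
  have hfixQ : Nat.card {x : Ω // ∀ t ∈ Q, t • x = x} = Dᶜ.ncard := by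
    rw [← hcompl, ← Nat.card_coe_set_eq]
    rfl
  have htotal : D.ncard + Dᶜ.ncard = Nat.card Ω := Set.ncard_add_ncard_compl D
  obtain ⟨s, hs⟩ : ∃ s, s = (MulAction.orbit ↥Q x0).ncard := ⟨_, rfl⟩
  rw [← hs] at hclass' hs1 hsN
  refine ⟨s, 1 + f, hs1, hsN, ?_, ?_, ?_, hs.symm, ?_, ?_⟩
  · obtain ⟨s', rfl⟩ : ∃ s', s = s' + 1 := ⟨s - 1, by omega⟩
    rw [Nat.add_sub_cancel]
    have : (1 + f) * (s' + 1) = (1 + f) * s' + (1 + f) := by ring
    omega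
  · rw [hfixQ]
    omega
  · intro x
    by_cases hx : ∀ t ∈ Q, t • x = x
    · exact Or.inl hx
    · right
      push Not at hx
      rw [hs]
      exact hsD x (hEempty x hx)
  · rw [← hclass', ← Nat.card_coe_set_eq, hDdef]
    rfl
  · intro t ht ht1
    rw [Nat.add_sub_cancel_left, hfixQ]
    have hsplit : {x : Ω | t • x = x} = {x : Ω | x ∈ D ∧ t • x = x} ∪ Dᶜ := by
      ext x
      constructor
      · intro hx
        by_cases hxD : x ∈ D
        · exact Or.inl ⟨hxD, hx⟩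
        · exact Or.inr hxD
      · rintro (hx | hx)
        · exact hx.2
        · rw [← hcompl] at hx
          exact hx t ht
    have hdisj : Disjoint {x : Ω | x ∈ D ∧ t • x = x} Dᶜ := by
      rw [Set.disjoint_left]
      intro y hy hyc
      exact hyc hy.1
    have h1 : Nat.card {x : Ω // t • x = x} = {x : Ω | t • x = x}.ncard := by
      rw [← Nat.card_coe_set_eq]
      rfl
    rw [h1, hsplit, Set.ncard_union_eq hdisj]
    congr 1
    rw [← hfixD ⟨t, ht⟩ (fun h => ht1 (congrArg Subtype.val h)), ← Nat.card_coe_set_eq]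
    refine Nat.card_congr ⟨fun x => ⟨⟨x.1, x.2.1⟩, ?_⟩, fun y => ⟨y.1.1, y.1.2, ?_⟩, ?_, ?_⟩
    · rw [MulAction.mem_fixedBy]
      exact Subtype.ext x.2.2
    · have := congrArg Subtype.val y.2
      rwa [SubMulAction.val_smul] at this
    · intro x; rfl
    · intro y; rfl

end main

section abstract

variable {G : Type*} [Group G] [Finite G]

/-- MI-ORB: Burnside analysis of a subgroup `Q` all of whose non-identity elements are conjugate under a
subgroup `L` normalising it, acting on the cosets of `H`, when `[G:H] < 2|Q|`. -/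
theorem orbit_dichotomy (H Q L : Subgroup G) (N : ℕ) (hN : Nat.card Q = N)
    (hnorm : ∀ l ∈ L, ∀ t ∈ Q, l * t * l⁻¹ ∈ Q)
    (hconj : ∀ t ∈ Q, ∀ t' ∈ Q, t ≠ 1 → t' ≠ 1 → ∃ l ∈ L, l * t * l⁻¹ = t')
    (hnt : ∃ g : G, ¬ Q ≤ cj g H) (hd : H.index < 2 * N) :
    ∃ s a : ℕ, 1 < s ∧ s ∣ N ∧ a * (s - 1) = N - 1 ∧
      H.index = a * s + Nat.card {x : G ⧸ H // ∀ t ∈ Q, t • x = x} ∧
      (∀ g : G, Q ≤ cj g H ∨ (cj g H).relIndex Q = s) ∧
      (∃ K : Subgroup L, K.index = a) ∧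
      (∀ t ∈ Q, t ≠ 1 → Nat.card {x : G ⧸ H // t • x = x} =
        (a - 1) + Nat.card {x : G ⧸ H // ∀ t ∈ Q, t • x = x}) := by
  obtain ⟨g0, hg0⟩ := hnt
  have hx0 : ∃ t ∈ Q, t • (g0 : G ⧸ H) ≠ (g0 : G ⧸ H) := by
    by_contra hcon
    push Not at hcon
    exact hg0 (fun t ht => (orbx_fix_iff H g0 t).1 (hcon t ht))
  have hd' : Nat.card (G ⧸ H) < 2 * N := hd
  obtain ⟨s, a, hs1, hsN, has, hidx, horb, hs0, hD, hfix⟩ :=
    orbx_main (Ω := G ⧸ H) Q L N hN hnorm hconj (g0 : G ⧸ H) hx0 hd'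
  refine ⟨s, a, hs1, hsN, has, hidx, ?_, ?_, hfix⟩
  · intro g
    rcases horb (g : G ⧸ H) with h | h
    · exact Or.inl (fun t ht => (orbx_fix_iff H g t).1 (h t ht))
    · right
      rw [orbx_relIndex]
      exact h
  · obtain ⟨K, hK⟩ := orb_K H Q L hnorm (g0 : G ⧸ H)
    refine ⟨K, ?_⟩
    have h1 : Nat.card {y : G ⧸ H // ∃ t ∈ Q, y = t • (g0 : G ⧸ H)} = s := by
      rw [← hs0, ← Nat.card_coe_set_eq, ← orbx_set_eq]
      rfl
    rw [h1, hD] at hK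
    exact Nat.eq_of_mul_eq_mul_right (by omega) hK

end abstract

end Cfsg.Agent.Lib.Helper81.Mi
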