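import Cfsg.Agent.Lib.Helper37.OmegaCenter3
import Cfsg.Agent.Lib.Helper43.OrthCardForms
import Cfsg.Agent.Lib.Helper89.FieldTransfer
import Cfsg.Agent.Lib.Helper89.ClassicalTransfer

/-!
# Leaf O8-TRANSFER for S2098 (owner helper30): over a field with two elements `PΩ₈⁺(F)` is isomorphic to
`Ω₈⁺(ZMod 2)` (transfer along `F ≃+* ZMod 2`, and the centre of `Ω₈⁺(2)` is trivial).
-/

set_option autoImplicit false

namespace Cfsg.Agent.Lib.Helper30.O8

universe u

open Cfsg.Agent.Lib.Helper37 Cfsg.Agent.Lib.Helper8 Cfsg.Agent.Lib.Helper43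

/-- commutator subgroups correspond under an isomorphism. -/
noncomputable def o8t_commCongr {G H : Type*} [Group G] [Group H] (e : G ≃* H) :
    ↥(commutator G) ≃* ↥(commutator H) :=
  (e.subgroupMap (commutator G)).trans (MulEquiv.subgroupCongr (by
    rw [commutator_def, commutator_def, Subgroup.map_commutator]
    have : Subgroup.map (e : G →* H) ⊤ = ⊤ :=
      Subgroup.map_top_of_surjective _ e.surjective
    rw [this]))

theorem o8t_plus_hypFam (m : ℕ) (F : Type*) [Field F] :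
    HypFam (plusForm m F) m (fun i => Pi.single (Sum.inl i) 1)
      (fun i => Pi.single (Sum.inr i) 1) :=
  let h := plus_family m F
  ⟨h.qe, h.qf, h.ee, h.ff, h.ef⟩

theorem o8t_center_eq_bot :
    Subgroup.center ↥(Cfsg.Omega (ZMod 2) (Cfsg.quadFormPlus 4 (ZMod 2))) = ⊥ := by
  rw [plusForm_coe]
  apply Subgroup.eq_bot_of_card_eq
  rw [card_center_omega_one (plusForm 4 (ZMod 2)) (plusForm_nondegenerate _ _)
    (o8t_plus_hypFam 4 (ZMod 2)) (by omega) (Or.inl (by decide))]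

theorem o8t_form_comp {F K : Type*} [Field F] [Field K] (σ : F ≃+* K) (m : ℕ)
    (v : Fin m ⊕ Fin m → F) :
    Cfsg.quadFormPlus m K (σ ∘ v) = σ (Cfsg.quadFormPlus m F v) := by
  unfold Cfsg.quadFormPlus
  rw [map_sum]
  refine Finset.sum_congr rfl fun i _ => ?_
  simp [map_mul]

theorem exists_mulEquiv_omega {F : Type u} [Field F] [Fintype F] (hF : Fintype.card F = 2) :
    Nonempty (Cfsg.POmega F (Cfsg.quadFormPlus 4 F) ≃*
      ↥(Cfsg.Omega (ZMod 2) (Cfsg.quadFormPlus 4 (ZMod 2)))) := by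
  have hp2 : Fact (Nat.Prime 2) := ⟨Nat.prime_two⟩
  exact ⟨(Cfsg.Agent.Lib.Helper89.ClassicalTransfer.quotCenterCongr
    (o8t_commCongr (Cfsg.Agent.Lib.Helper89.isometryGroupCongr
      (ZMod.ringEquivOfPrime F Nat.prime_two hF).symm (Cfsg.quadFormPlus 4 F)
      (Cfsg.quadFormPlus 4 (ZMod 2)) (o8t_form_comp _ 4)))).trans
    (Cfsg.Agent.Lib.Helper89.ClassicalTransfer.quotCenterEquivOfEqBot o8t_center_eq_bot)⟩

end Cfsg.Agent.Lib.Helper30.O8
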