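import Mathlib
import Cfsg.Agent.Lib.Helper22.OcDefs
import Cfsg.Agent.Lib.Helper30.PPrimeCore

/-! # Oc hive (S2924, helper22), leaf OC6: `N_X(Y)` normalizes `W = ⟨O(C_X(y)) : y ∈ Y#⟩`. -/

set_option autoImplicit false
open Cfsg Subgroup

namespace Cfsg.Agent.Lib.Helper22.Oc

universe u

/-- conjugation by `g` maps `θ(y)` into `θ(g y g⁻¹)` -/
theorem oc6_conj_th_le {X : Type u} [Group X] [Finite X] (g y : X) :
    (th y).map (MulAut.conj g).toMonoidHom ≤ th (g * y * g⁻¹) := by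
  have hthC : th y ≤ centralizer ({y} : Set X) := by
    rintro a ⟨c, -, rfl⟩
    exact c.2
  have hconj : ∀ c ∈ centralizer ({y} : Set X), g * c * g⁻¹ ∈ centralizer ({g * y * g⁻¹} : Set X) := by
    intro c hc
    rw [mem_centralizer_singleton_iff] at hc ⊢
    calc g * c * g⁻¹ * (g * y * g⁻¹) = g * (c * y) * g⁻¹ := by group
      _ = g * (y * c) * g⁻¹ := by rw [hc]
      _ = g * y * g⁻¹ * (g * c * g⁻¹) := by group
  have hconj' : ∀ c ∈ centralizer ({g * y * g⁻¹} : Set X), g⁻¹ * c * g ∈ centralizer ({y} : Set X) := by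
    intro c hc
    rw [mem_centralizer_singleton_iff] at hc ⊢
    calc g⁻¹ * c * g * y = g⁻¹ * (c * (g * y * g⁻¹)) * g := by group
      _ = g⁻¹ * ((g * y * g⁻¹) * c) * g := by rw [hc]
      _ = y * (g⁻¹ * c * g) := by group
  have hTC : (th y).map (MulAut.conj g).toMonoidHom ≤ centralizer ({g * y * g⁻¹} : Set X) := by
    rintro _ ⟨a, ha, rfl⟩
    exact hconj a (hthC ha)
  have hNn : (((th y).map (MulAut.conj g).toMonoidHom).subgroupOf
      (centralizer ({g * y * g⁻¹} : Set X))).Normal := by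
    constructor
    intro n hn c'
    rw [mem_subgroupOf] at hn ⊢
    obtain ⟨a, ha, hna⟩ := hn
    obtain ⟨a0, ha0, rfl⟩ := ha
    have hc : g⁻¹ * (c' : X) * g ∈ centralizer ({y} : Set X) := hconj' _ c'.2
    have hnorm : (⟨g⁻¹ * (c' : X) * g, hc⟩ : ↥(centralizer ({y} : Set X))) * a0 *
        (⟨g⁻¹ * (c' : X) * g, hc⟩ : ↥(centralizer ({y} : Set X)))⁻¹ ∈
        oddCore ↥(centralizer ({y} : Set X)) :=
      (Subgroup.sSup_normal _ (fun _ h => h.1)).conj_mem a0 ha0 _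
    refine ⟨_, ⟨_, hnorm, rfl⟩, ?_⟩
    have hna' : g * (a0 : X) * g⁻¹ = (n : X) := hna
    show g * ((g⁻¹ * (c' : X) * g) * (a0 : X) * (g⁻¹ * (c' : X) * g)⁻¹) * g⁻¹ =
      (c' : X) * (n : X) * (c' : X)⁻¹
    rw [← hna']
    group
  have hNc : (Nat.card (((th y).map (MulAut.conj g).toMonoidHom).subgroupOf
      (centralizer ({g * y * g⁻¹} : Set X)))).Coprime 2 := by
    rw [Nat.card_congr (Subgroup.subgroupOfEquivOfLe hTC).toEquiv,
      Subgroup.card_map_of_injective (MulAut.conj g).injective,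
      Subgroup.card_map_of_injective (Subgroup.subtype_injective _)]
    exact Cfsg.Agent.Lib.Helper30.pPrimeCore_card_coprime 2
  have hNle : ((th y).map (MulAut.conj g).toMonoidHom).subgroupOf
      (centralizer ({g * y * g⁻¹} : Set X)) ≤ oddCore ↥(centralizer ({g * y * g⁻¹} : Set X)) :=
    le_sSup ⟨hNn, hNc⟩
  intro t ht
  have htC : t ∈ centralizer ({g * y * g⁻¹} : Set X) := hTC ht
  exact ⟨⟨t, htC⟩, hNle (by rw [mem_subgroupOf]; exact ht), rfl⟩

/-- OC6. `N_X(Y)` normalizes `W`. -/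
theorem oc6 {X : Type u} [Group X] [Finite X] (Y : Subgroup X) :
    normalizer (Y : Set X) ≤ normalizer ((⨆ y : {y : X // y ∈ Y ∧ y ≠ 1},
      (oddCore ↥(centralizer ({(y : X)} : Set X))).map
        (centralizer ({(y : X)} : Set X)).subtype : Subgroup X) : Set X) := by
  have key : ∀ g ∈ normalizer (Y : Set X),
      (⨆ y : {y : X // y ∈ Y ∧ y ≠ 1}, th (y : X)).map (MulAut.conj g).toMonoidHom ≤
        ⨆ y : {y : X // y ∈ Y ∧ y ≠ 1}, th (y : X) := by
    intro g hg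
    rw [Subgroup.map_iSup]
    apply iSup_le
    rintro ⟨y, hyY, hy1⟩
    have hy' : g * y * g⁻¹ ∈ Y := (mem_normalizer_iff.mp hg y).mp hyY
    have hy1' : g * y * g⁻¹ ≠ 1 := by
      intro h
      apply hy1
      have h2 : g⁻¹ * (g * y * g⁻¹) * g = g⁻¹ * 1 * g := by rw [h]
      have h3 : g⁻¹ * (g * y * g⁻¹) * g = y := by group
      rw [h3] at h2
      rw [h2]
      group
    exact (oc6_conj_th_le g y).trans
      (le_iSup (fun y : {y : X // y ∈ Y ∧ y ≠ 1} => th (y : X)) ⟨g * y * g⁻¹, hy', hy1'⟩)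
  intro g hg
  rw [mem_normalizer_iff]
  intro h
  constructor
  · intro hh
    exact key g hg ⟨h, hh, rfl⟩
  · intro hh
    have h1 := key g⁻¹ (inv_mem hg) ⟨g * h * g⁻¹, hh, rfl⟩
    have h2 : (MulAut.conj g⁻¹).toMonoidHom (g * h * g⁻¹) = h := by
      show g⁻¹ * (g * h * g⁻¹) * g⁻¹⁻¹ = h
      group
    rw [h2] at h1
    exact h1

end Cfsg.Agent.Lib.Helper22.Oc
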