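import Mathlib
import Cfsg.Agent.Lib.Helper81.OnDefs
import Cfsg.Agent.Lib.Helper2.OnSPLIT
import Cfsg.Agent.Lib.Helper2.OnBLOCKS
import Cfsg.Agent.Lib.Helper79.TsSplit
import Cfsg.Agent.Lib.Helper83.TnsO2b

/-! OC-TESTSS, the generic kernel lemma `testssk_ker` (by helper80) for helper44's "Oc" hive (S5977 / S5978):
an isometry of odd prime order `r ≠ p` of a nondegenerate symmetric space whose fixed space has codimension
`blk F r` has an irreducible factor `φ` of `Φ_r` with `dim ker φ(f) = ord_r(q)`. -/

set_option autoImplicit false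
set_option linter.unusedVariables false
set_option linter.unusedSectionVars false

namespace Cfsg.Agent.Lib.Helper44.Oc

open Polynomial Module
open Cfsg.Agent.Lib.Helper2.BG Cfsg.Agent.Lib.Helper99 Cfsg.Agent.Lib.Helper48.Ti
open Cfsg.Agent.Lib.Helper8.SpBlk (blk)

section lin

variable {F V : Type*} [Field F] [AddCommGroup V] [Module F V]

/-- the orbit map `P ↦ P(f) v` -/
noncomputable def testssk_orb (f : Module.End F V) (v : V) : F[X] →ₗ[F] V :=
  (LinearMap.applyₗ v : Module.End F V →ₗ[F] V) ∘ₗ (aeval f : F[X] →ₐ[F] Module.End F V).toLinearMap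

theorem testssk_orb_apply (f : Module.End F V) (v : V) (P : F[X]) :
    testssk_orb f v P = aeval f P v := rfl

/-- a vector killed by `φ(f)` and by `P(f)`, `φ` irreducible not dividing `P`, is zero -/
theorem testssk_kill {f : Module.End F V} {φ P : F[X]} (hφ : Irreducible φ) (hP : ¬ φ ∣ P) {v : V}
    (h1 : aeval f φ v = 0) (h2 : aeval f P v = 0) : v = 0 := by
  obtain ⟨a, b, hab⟩ := hφ.coprime_iff_not_dvd.2 hP
  have : aeval f (a * φ + b * P) v = v := by
    rw [hab, map_one]
    rfl
  rw [← this, map_add, map_mul, map_mul, LinearMap.add_apply, Module.End.mul_apply,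
    Module.End.mul_apply, h1, h2, map_zero, map_zero, add_zero]

/-- `ker φ(f) ≤ ker Ψ(f)` for `φ ∣ Ψ` -/
theorem testssk_ker_le {f : Module.End F V} {φ Ψ : F[X]} (h : φ ∣ Ψ) :
    LinearMap.ker (aeval f φ) ≤ LinearMap.ker (aeval f Ψ) := by
  obtain ⟨c, rfl⟩ := h
  intro v hv
  rw [LinearMap.mem_ker] at hv ⊢
  rw [mul_comm, map_mul, Module.End.mul_apply, hv, map_zero]

variable [FiniteDimensional F V]

/-- the kernel of `φ(f)`, `φ` irreducible, has dimension at least `deg φ` as soon as it is nonzero -/
theorem testssk_lower {f : Module.End F V} {φ : F[X]} (hφ : Irreducible φ) {v : V} (hv : v ≠ 0)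
    (h1 : aeval f φ v = 0) : φ.natDegree ≤ finrank F (LinearMap.ker (aeval f φ)) := by
  classical
  set i := φ.natDegree with hi
  let Ψ : degreeLT F i →ₗ[F] V := (testssk_orb f v).domRestrict (degreeLT F i)
  have hinj : Function.Injective Ψ := by
    rw [← LinearMap.ker_eq_bot, LinearMap.ker_eq_bot']
    rintro ⟨P, hP⟩ hPv
    change aeval f P v = 0 at hPv
    by_contra hne
    have hP0 : P ≠ 0 := fun h => hne (Subtype.ext h)
    apply hv
    apply testssk_kill hφ _ h1 hPv
    intro hdvd
    have h3 := natDegree_le_of_dvd hdvd hP0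
    rw [mem_degreeLT] at hP
    have h4 : P.natDegree < i := (natDegree_lt_iff_degree_lt hP0).2 hP
    omega
  have hrange : LinearMap.range Ψ ≤ LinearMap.ker (aeval f φ) := by
    rintro _ ⟨⟨P, hP⟩, rfl⟩
    change aeval f P v ∈ _
    exact (inv_ker_aeval f φ).aeval P v (LinearMap.mem_ker.2 h1)
  have h5 : finrank F (LinearMap.range Ψ) = i := by
    rw [LinearMap.finrank_range_of_inj hinj, (degreeLTEquiv F i).finrank_eq, Module.finrank_fin_fun]
  rw [← h5]
  exact Submodule.finrank_mono hrange

/-- the cyclic subspace generated by `v` -/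
theorem testssk_cyclic {f : Module.End F V} {φ : F[X]} (hφ : Irreducible φ) {v : V}
    (h1 : aeval f φ v = 0) :
    ∃ C : Submodule F V, v ∈ C ∧ Inv f C ∧ C ≤ LinearMap.ker (aeval f φ) ∧
      finrank F C ≤ φ.natDegree ∧
      ∀ W : Submodule F V, W ≤ C → Inv f W → W = ⊥ ∨ W = C := by
  classical
  have hφ0 : φ ≠ 0 := hφ.ne_zero
  refine ⟨LinearMap.range (testssk_orb f v), ⟨1, by rw [testssk_orb_apply, map_one]; rfl⟩, ?_, ?_, ?_,
    ?_⟩
  · rintro _ ⟨P, rfl⟩
    refine ⟨X * P, ?_⟩
    rw [testssk_orb_apply, testssk_orb_apply, map_mul, aeval_X, Module.End.mul_apply]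
  · rintro _ ⟨P, rfl⟩
    rw [testssk_orb_apply]
    exact (inv_ker_aeval f φ).aeval P v (LinearMap.mem_ker.2 h1)
  · -- every element is `P(f) v` with `deg P < deg φ`
    have hle : LinearMap.range (testssk_orb f v) ≤
        (degreeLT F φ.natDegree).map (testssk_orb f v) := by
      rintro _ ⟨P, rfl⟩
      refine ⟨P % φ, ?_, ?_⟩
      · rw [SetLike.mem_coe, mem_degreeLT]
        calc (P % φ).degree < φ.degree := EuclideanDomain.mod_lt P hφ0
          _ = (φ.natDegree : WithBot ℕ) := degree_eq_natDegree hφ0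
      · rw [testssk_orb_apply, testssk_orb_apply]
        have h2 : P = φ * (P / φ) + P % φ := (EuclideanDomain.div_add_mod P φ).symm
        conv_rhs => rw [h2]
        rw [map_add, LinearMap.add_apply, mul_comm, map_mul, Module.End.mul_apply, h1, map_zero,
          zero_add]
    calc finrank F (LinearMap.range (testssk_orb f v))
        ≤ finrank F ((degreeLT F φ.natDegree).map (testssk_orb f v)) := Submodule.finrank_mono hle
      _ ≤ finrank F (degreeLT F φ.natDegree) := Submodule.finrank_map_le _ _
      _ = φ.natDegree := by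
          rw [(degreeLTEquiv F φ.natDegree).finrank_eq, Module.finrank_fin_fun]
  · intro W hWC hWf
    by_cases hW : W = ⊥
    · exact Or.inl hW
    · right
      obtain ⟨w, hwW, hw0⟩ := Submodule.exists_mem_ne_zero_of_ne_bot hW
      obtain ⟨P, rfl⟩ := hWC hwW
      rw [testssk_orb_apply] at hwW hw0
      have hndvd : ¬ φ ∣ P := by
        rintro ⟨c, rfl⟩
        apply hw0
        rw [mul_comm, map_mul, Module.End.mul_apply, h1, map_zero]
      obtain ⟨a, b, hab⟩ := hφ.coprime_iff_not_dvd.2 hndvd
      have hvW : v ∈ W := by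
        have h3 : aeval f (a * φ + b * P) v = v := by
          rw [hab, map_one]
          rfl
        rw [map_add, map_mul, map_mul, LinearMap.add_apply, Module.End.mul_apply,
          Module.End.mul_apply, h1, map_zero, zero_add] at h3
        rw [← h3]
        exact hWf.aeval b _ hwW
      apply le_antisymm hWC
      rintro _ ⟨Q, rfl⟩
      rw [testssk_orb_apply]
      exact hWf.aeval Q v hvW

end lin

section main

variable {F V : Type*} [Field F] [AddCommGroup V] [Module F V] [FiniteDimensional F V]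
variable {B : V →ₗ[F] V →ₗ[F] F}
variable [Fintype F] {p : ℕ} [Fact p.Prime] [CharP F p] {r : ℕ} [Fact r.Prime]

/-- the radical of a subspace, as a subspace -/
def testssk_rad (B : V →ₗ[F] V →ₗ[F] F) (W : Submodule F V) : Submodule F V where
  carrier := {u | u ∈ W ∧ ∀ w ∈ W, B u w = 0}
  add_mem' := by
    rintro x y ⟨hx, hx'⟩ ⟨hy, hy'⟩
    refine ⟨W.add_mem hx hy, fun w hw => ?_⟩
    rw [map_add, LinearMap.add_apply, hx' w hw, hy' w hw, add_zero]
  zero_mem' := ⟨W.zero_mem, fun w _ => by rw [map_zero, LinearMap.zero_apply]⟩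
  smul_mem' := by
    rintro c x ⟨hx, hx'⟩
    refine ⟨W.smul_mem c hx, fun w hw => ?_⟩
    rw [map_smul, LinearMap.smul_apply, hx' w hw, smul_zero]

/-- the generic kernel lemma of OC-TESTSS -/
theorem testssk_ker (h2 : (2 : F) ≠ 0) (hB : ∀ u v, B u v = B v u) (hV : Nd B ⊤) (hr2 : r ≠ 2)
    (hrp : r ≠ p) {f : Module.End F V} (hf : Isom B f) (hfr : f ^ r = 1)
    (hdim : finrank F V = finrank F (LinearMap.ker (f - 1)) + blk F r) :
    ∃ φ : F[X], Irreducible φ ∧ φ ∣ cyclotomic r F ∧
      finrank F (LinearMap.ker (aeval f φ)) = orderOf ((Fintype.card F : ℕ) : ZMod r) := by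
  classical
  have hr : r.Prime := Fact.out
  have hrF : (r : F) ≠ 0 := Cfsg.Agent.Lib.Helper81.On.split_natCast_ne_zero (p := p) hrp
  have hcop : IsCoprime (X - 1 : F[X]) (cyclotomic r F) :=
    isCoprime_X_sub_one_cyclotomic (F := F) (r := r) hrF
  have hkill : aeval f ((X - 1 : F[X]) * cyclotomic r F) = 0 :=
    Cfsg.Agent.Lib.Helper79.TsSwap.aeval_kill_of_pow hfr
  have hcyc0 : cyclotomic r F ≠ 0 := cyclotomic_ne_zero r F
  obtain ⟨i, hi⟩ : ∃ i, i = orderOf ((Fintype.card F : ℕ) : ZMod r) := ⟨_, rfl⟩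
  have hdeg : ∀ φ : F[X], Irreducible φ → φ ∣ cyclotomic r F → φ.natDegree = i := by
    intro φ hφ hdvd
    rw [hi]
    exact Cfsg.Agent.Lib.Helper44.Tns.o2b_natDegree_of_dvd_cyclotomic (p := p) r hrp hdvd hφ
  have hblk : blk F r = if Even i then i else 2 * i := by
    rw [hi]
    rfl
  -- the moved part `N`
  have hTinv : Inv f (⊤ : Submodule F V) := fun v _ => Submodule.mem_top
  obtain ⟨-, hNnd, hNdim⟩ := Cfsg.Agent.Lib.Helper79.TsSwap.fix_split_symm hB hf hcop hkill hV hTinv
  rw [top_inf_eq, top_inf_eq, finrank_top] at hNdim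
  rw [top_inf_eq] at hNnd
  have hN : finrank F (LinearMap.ker (aeval f (cyclotomic r F))) = blk F r := by omega
  -- an irreducible factor of `Φ_r` with nonzero kernel
  have hint : IsIntegral F f := Algebra.IsIntegral.isIntegral f
  have hex : ∃ φ : F[X], Irreducible φ ∧ φ ∣ minpoly F f ∧ φ ∣ cyclotomic r F := by
    by_contra hcon
    push Not at hcon
    have hcop2 : IsCoprime (minpoly F f) (cyclotomic r F) :=
      isCoprime_of_irreducible_dvd (fun h => hcyc0 h.2) (fun z hz h1 h3 => hcon z hz h1 h3)
    have h1 : minpoly F f ∣ (X - 1 : F[X]) * cyclotomic r F := minpoly.dvd F f hkill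
    have h3 : minpoly F f ∣ (X - 1 : F[X]) := hcop2.dvd_of_dvd_mul_right h1
    have h4 : aeval f (X - 1 : F[X]) = 0 := by
      obtain ⟨c, hc⟩ := h3
      rw [hc, map_mul, minpoly.aeval, zero_mul]
    have h5 : LinearMap.ker (f - 1) = ⊤ := by
      rw [LinearMap.ker_eq_top]
      simpa using h4
    rw [h5, finrank_top] at hdim
    -- so `blk = 0`, impossible
    obtain ⟨g, hg, hgd⟩ := WfDvdMonoid.exists_irreducible_factor
      (show ¬ IsUnit (cyclotomic r F) from by
        intro hu
        have := natDegree_eq_zero_of_isUnit hu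
        rw [natDegree_cyclotomic, Nat.totient_prime hr] at this
        have := hr.two_le
        omega) hcyc0
    have hgpos := hg.natDegree_pos
    rw [hdeg g hg hgd] at hgpos
    rw [hblk] at hdim
    split_ifs at hdim <;> omega
  obtain ⟨φ, hφ, hφμ, hφc⟩ := hex
  have hipos : 0 < i := by
    have := hφ.natDegree_pos
    rwa [hdeg φ hφ hφc] at this
  have hkerne : LinearMap.ker (aeval f φ) ≠ ⊥ := by
    intro hbot
    obtain ⟨h, hh⟩ := hφμ
    have hμ0 : minpoly F f ≠ 0 := minpoly.ne_zero hint
    have hh0 : h ≠ 0 := by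
      rintro rfl
      rw [mul_zero] at hh
      exact hμ0 hh
    have h1 : aeval f h = 0 := by
      apply LinearMap.ext
      intro v
      have h3 : aeval f (minpoly F f) v = 0 := by rw [minpoly.aeval]; rfl
      rw [hh, map_mul, Module.End.mul_apply] at h3
      have : aeval f h v ∈ LinearMap.ker (aeval f φ) := LinearMap.mem_ker.2 h3
      rw [hbot, Submodule.mem_bot] at this
      rw [this]
      rfl
    have h4 : minpoly F f ∣ h := minpoly.dvd F f h1
    have h5 := natDegree_le_of_dvd h4 hh0
    rw [hh, natDegree_mul hφ.ne_zero hh0] at h5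
    have := hφ.natDegree_pos
    omega
  obtain ⟨v, hvK, hv0⟩ := Submodule.exists_mem_ne_zero_of_ne_bot hkerne
  have hlow : i ≤ finrank F (LinearMap.ker (aeval f φ)) := by
    have := testssk_lower hφ hv0 (LinearMap.mem_ker.1 hvK)
    rwa [hdeg φ hφ hφc] at this
  have hKN : LinearMap.ker (aeval f φ) ≤ LinearMap.ker (aeval f (cyclotomic r F)) :=
    testssk_ker_le hφc
  refine ⟨φ, hφ, hφc, ?_⟩
  rw [← hi]
  apply le_antisymm _ hlow
  by_cases hev : Even i
  · rw [hblk, if_pos hev] at hN
    rw [← hN]
    exact Submodule.finrank_mono hKN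
  · rw [hblk, if_neg hev] at hN
    -- `ker φ(f)` is totally isotropic
    have hfix : ∀ w ∈ LinearMap.ker (aeval f φ), w ∈ LinearMap.ker (f - 1) → w = 0 := by
      intro w hw hw1
      have hndvd : ¬ φ ∣ (X - 1 : F[X]) := by
        intro hd
        have hu : IsUnit φ := hcop.isUnit_of_dvd' hd hφc
        exact hφ.not_isUnit hu
      apply testssk_kill hφ hndvd (LinearMap.mem_ker.1 hw)
      have : aeval f (X - 1 : F[X]) = f - 1 := by simp
      rw [this]
      exact LinearMap.mem_ker.1 hw1
    have hiso : ∀ w ∈ LinearMap.ker (aeval f φ), B w w = 0 := by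
      intro w hw
      by_contra hne
      have hw0 : w ≠ 0 := by
        rintro rfl
        apply hne
        rw [map_zero]
      obtain ⟨C, hwC, hCf, hCK, hCdim, hCmin⟩ := testssk_cyclic hφ (LinearMap.mem_ker.1 hw)
      rw [hdeg φ hφ hφc] at hCdim
      -- the radical of `C` is invariant
      have hRle : testssk_rad B C ≤ C := fun u hu => hu.1
      have hRf : Inv f (testssk_rad B C) := by
        intro u hu
        refine ⟨hCf u hu.1, fun c hc => ?_⟩
        have h1 : c = f ((f ^ (r - 1)) c) := by
          have : f * f ^ (r - 1) = 1 := by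
            rw [← pow_succ', Nat.sub_add_cancel hr.one_le, hfr]
          calc c = (1 : Module.End F V) c := rfl
            _ = (f * f ^ (r - 1)) c := by rw [this]
            _ = f ((f ^ (r - 1)) c) := rfl
        rw [h1, hf]
        exact hu.2 _ (hCf.pow (r - 1) c hc)
      have hCnd : Nd B C := by
        rcases hCmin _ hRle hRf with h | h
        · intro u hu hu'
          have : u ∈ testssk_rad B C := ⟨hu, hu'⟩
          rw [h, Submodule.mem_bot] at this
          exact this
        · exfalso
          have : w ∈ testssk_rad B C := by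
            rw [h]
            exact hwC
          exact hne (this.2 w hwC)
      have hCfpf : C ⊓ LinearMap.ker (f - 1) = ⊥ := by
        rw [eq_bot_iff]
        intro u hu
        rw [Submodule.mem_bot]
        exact hfix u (hCK hu.1) hu.2
      obtain ⟨s, hs, -⟩ := Cfsg.Agent.Lib.Helper81.On.exists_blocks_sym h2 hB hr2 hrp hf hfr hCf hCnd
        hCfpf
      rw [hblk, if_neg hev] at hs
      have hCpos : 0 < finrank F C := by
        rw [Module.finrank_pos_iff_exists_ne_zero]
        exact ⟨⟨w, hwC⟩, fun h => hw0 (congrArg Subtype.val h)⟩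
      rcases Nat.eq_zero_or_pos s with h0 | hpos
      · rw [h0, zero_mul] at hs
        omega
      · have : 1 * (2 * i) ≤ s * (2 * i) := Nat.mul_le_mul_right _ hpos
        omega
    have hTI : TI B (LinearMap.ker (aeval f φ)) := by
      intro u hu w hw
      have h1 := hiso (u + w) (Submodule.add_mem _ hu hw)
      simp only [map_add, LinearMap.add_apply] at h1
      rw [hiso u hu, hiso w hw, hB w u] at h1
      have h3 : (2 : F) * B u w = 0 := by
        rw [two_mul]
        simpa using h1
      exact (mul_eq_zero.1 h3).resolve_left h2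
    have hbound := Cfsg.Agent.Lib.Helper79.TsSwap.ti_bound_refl
      (fun u v h => by rw [hB v u]; exact h) hNnd hKN hTI
    omega

end main

end Cfsg.Agent.Lib.Helper44.Oc
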