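import Mathlib
import Cfsg.Agent.Lib.Helper14.P4Defs
import Cfsg.Agent.Lib.Helper80.P4O3

/-! # S6000 hive, leaf P4-O5 (exists_bad_five) -/

set_option autoImplicit false
set_option linter.unusedSectionVars false

namespace Cfsg.Agent.Lib.Helper14.P4

open Matrix

variable {F : Type*} [Field F] [Fintype F]

/-- `C ⊕ C`, `C = [[0,-1],[1,u]]`. -/
def o5_mat (u : F) : Matrix (Fin 4) (Fin 4) F := !![0,-1,0,0; 1,u,0,0; 0,0,0,-1; 0,0,1,u]
/-- its inverse. -/
def o5_inv (u : F) : Matrix (Fin 4) (Fin 4) F := !![u,1,0,0; -1,0,0,0; 0,0,u,1; 0,0,-1,0]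
/-- its square (modulo `u² + u - 1`). -/
def o5_sq (u : F) : Matrix (Fin 4) (Fin 4) F := !![-1,-u,0,0; u,-u,0,0; 0,0,-1,-u; 0,0,u,-u]

theorem o5_mul_inv (u : F) : o5_mat u * o5_inv u = 1 := by
  ext a b; fin_cases a <;> fin_cases b <;>
    simp [o5_mat, o5_inv, Matrix.mul_apply, Fin.sum_univ_four]

theorem o5_inv_mul (u : F) : o5_inv u * o5_mat u = 1 := by
  ext a b; fin_cases a <;> fin_cases b <;>
    simp [o5_mat, o5_inv, Matrix.mul_apply, Fin.sum_univ_four]

theorem o5_mul_self (u : F) (hu : u * u + u - 1 = 0) : o5_mat u * o5_mat u = o5_sq u := by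
  ext a b; fin_cases a <;> fin_cases b <;>
    simp [o5_mat, o5_sq, Matrix.mul_apply, Fin.sum_univ_four] <;>
    linear_combination hu

theorem o5_sq_mul_sq (u : F) (hu : u * u + u - 1 = 0) : o5_sq u * o5_sq u = o5_inv u := by
  ext a b; fin_cases a <;> fin_cases b <;>
    simp [o5_inv, o5_sq, Matrix.mul_apply, Fin.sum_univ_four] <;>
    first
      | linear_combination hu
      | linear_combination -hu

theorem o5_det (u : F) : (o5_mat u).det = 1 := by
  simp [o5_mat, Matrix.det_succ_row_zero, Fin.sum_univ_succ, Fin.succAbove]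

/-- P4-O5. -/
theorem exists_bad_five (h2 : (2 : F) ≠ 0) (h5 : (5 : F) ≠ 0)
    (u : F) (hu : u * u + u - 1 = 0) (N : Subgroup (GL (Fin 4) F))
    (hN : ∀ y ∈ N,
      Matrix.trace (y : Matrix (Fin 4) (Fin 4) F) *
          Matrix.trace ((y⁻¹ : GL (Fin 4) F) : Matrix (Fin 4) (Fin 4) F) = 0 ∨
        Matrix.trace (y : Matrix (Fin 4) (Fin 4) F) *
          Matrix.trace ((y⁻¹ : GL (Fin 4) F) : Matrix (Fin 4) (Fin 4) F) = 1 ∨
        Matrix.trace (y : Matrix (Fin 4) (Fin 4) F) *
          Matrix.trace ((y⁻¹ : GL (Fin 4) F) : Matrix (Fin 4) (Fin 4) F) = 2 ∨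
        Matrix.trace (y : Matrix (Fin 4) (Fin 4) F) *
          Matrix.trace ((y⁻¹ : GL (Fin 4) F) : Matrix (Fin 4) (Fin 4) F) = 4 ∨
        Matrix.trace (y : Matrix (Fin 4) (Fin 4) F) *
          Matrix.trace ((y⁻¹ : GL (Fin 4) F) : Matrix (Fin 4) (Fin 4) F) = 8 ∨
        ∃ c : F, (y : Matrix (Fin 4) (Fin 4) F) = c • 1) :
    ∃ x : GL (Fin 4) F, Matrix.GeneralLinearGroup.det x = 1 ∧ x ^ 5 = 1 ∧
      (∀ z : F, (x : Matrix (Fin 4) (Fin 4) F) ≠ z • 1) ∧
      ∀ g : GL (Fin 4) F, g⁻¹ * x * g ∉ N := by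
  set x : GL (Fin 4) F := ⟨o5_mat u, o5_inv u, o5_mul_inv u, o5_inv_mul u⟩ with hx
  have hxc : (x : Matrix (Fin 4) (Fin 4) F) = o5_mat u := rfl
  have hxi : ((x⁻¹ : GL (Fin 4) F) : Matrix (Fin 4) (Fin 4) F) = o5_inv u := rfl
  have hns : ∀ z : F, (x : Matrix (Fin 4) (Fin 4) F) ≠ z • 1 := by
    intro z hz
    have e0 := congrFun (congrFun hz 0) 1
    rw [hxc] at e0
    simp [o5_mat] at e0
  have hu0 : u ≠ 0 := by
    rintro rfl
    simp at hu
  have h4 : (4 : F) ≠ 0 := by
    have : (4 : F) = 2 * 2 := by norm_num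
    rw [this]
    exact mul_ne_zero h2 h2
  refine ⟨x, ?_, ?_, hns, ?_⟩
  · apply Units.ext
    rw [Matrix.GeneralLinearGroup.val_det_apply, hxc, o5_det]
    rfl
  · apply Units.ext
    rw [Units.val_pow_eq_pow_val, hxc, Units.val_one]
    have e : o5_mat u ^ 5 = (o5_mat u * o5_mat u) * (o5_mat u * o5_mat u) * o5_mat u := by
      simp only [pow_succ, pow_zero, one_mul, mul_assoc]
    rw [e, o5_mul_self u hu, o5_sq_mul_sq u hu, o5_inv_mul]
  · apply o3_bad_of_trace N hN x (4 * (u * u))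
    · rw [hxc, hxi]
      simp [Matrix.trace, Fin.sum_univ_four, o5_mat, o5_inv]
      ring
    · exact mul_ne_zero h4 (mul_ne_zero hu0 hu0)
    · intro h
      -- 4 u² = 1, u² = 1 - u ⇒ 4 u = 3 ⇒ 16 u² = 9 ⇒ 4 = 9
      apply h5
      have h4u : 4 * u = 3 := by linear_combination 4 * hu - h
      have : (4 * u) * (4 * u) = 4 * (4 * (u * u)) := by ring
      rw [h4u, h] at this
      linear_combination this
    · intro h
      -- 4 u² = 2 ⇒ 2 u² = 1 ⇒ 2 u = 1 ⇒ 4 u² = 1 ⇒ 1 = 2
      have h1 : 2 * (2 * (u * u) - 1) = 0 := by linear_combination h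
      have h2u : 2 * (u * u) = 1 := by
        rcases mul_eq_zero.mp h1 with h' | h'
        · exact absurd h' h2
        · linear_combination h'
      have h3 : 2 * u = 1 := by linear_combination 2 * hu - h2u
      have : (2 * u) * (2 * u) = 4 * (u * u) := by ring
      rw [h3, h] at this
      have : (1 : F) = 0 := by linear_combination -this
      exact one_ne_zero this
    · intro h
      -- u² = 1 ⇒ u = 0
      have h1 : 4 * (u * u - 1) = 0 := by linear_combination h
      have h2u : u * u = 1 := by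
        rcases mul_eq_zero.mp h1 with h' | h'
        · exact absurd h' h4
        · linear_combination h'
      apply hu0
      linear_combination hu - h2u
    · intro h
      -- u² = 2 ⇒ u = -1 ⇒ u² = 1
      have h1 : 4 * (u * u - 2) = 0 := by linear_combination h
      have h2u : u * u = 2 := by
        rcases mul_eq_zero.mp h1 with h' | h'
        · exact absurd h' h4
        · linear_combination h'
      have h3 : u = -1 := by linear_combination hu - h2u
      rw [h3] at h2u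
      have : (1 : F) = 0 := by linear_combination (-1 : F) * h2u
      exact one_ne_zero this
    · exact hns

end Cfsg.Agent.Lib.Helper14.P4
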