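import Mathlib
import Cfsg.Agent.Lib.Helper14.P4Defs

/-! # S6000 hive, leaf P4-O5T (exists_bad_transvection) -/

set_option autoImplicit false
set_option linter.unusedSectionVars false
set_option linter.unusedVariables false

namespace Cfsg.Agent.Lib.Helper14.P4

open Matrix

variable {F : Type*} [Field F] [Fintype F]

theorem o5t_single_eq : (Matrix.single (0 : Fin 4) (1 : Fin 4) (1 : F)) =
    Matrix.vecMulVec (Pi.single 0 1) (Pi.single 1 1) := by
  ext a b
  fin_cases a <;> fin_cases b <;> simp [Matrix.vecMulVec, Matrix.single]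

/-- P4-O5T. -/
theorem exists_bad_transvection (h2 : (2 : F) ≠ 0) (h5 : (5 : F) = 0)
    (N : Subgroup (GL (Fin 4) F))
    (hN : ∀ (v φ : Fin 4 → F) (y : GL (Fin 4) F), v ≠ 0 → φ ≠ 0 → φ ⬝ᵥ v = 0 →
      (y : Matrix (Fin 4) (Fin 4) F) = 1 + Matrix.vecMulVec v φ → y ∉ N) :
    ∃ x : GL (Fin 4) F, Matrix.GeneralLinearGroup.det x = 1 ∧ x ^ 5 = 1 ∧
      (∀ z : F, (x : Matrix (Fin 4) (Fin 4) F) ≠ z • 1) ∧
      ∀ g : GL (Fin 4) F, g⁻¹ * x * g ∉ N := by
  have h01 : (0 : Fin 4) ≠ 1 := by decide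
  set x : GL (Fin 4) F := ⟨Matrix.transvection 0 1 1, Matrix.transvection 0 1 (-1),
    by rw [Matrix.transvection_mul_transvection_same _ _ h01]; simp,
    by rw [Matrix.transvection_mul_transvection_same _ _ h01]; simp⟩ with hx
  have hxc : (x : Matrix (Fin 4) (Fin 4) F) = Matrix.transvection 0 1 1 := rfl
  refine ⟨x, ?_, ?_, ?_, ?_⟩
  · apply Units.ext
    rw [Matrix.GeneralLinearGroup.val_det_apply, hxc, Matrix.det_transvection_of_ne _ _ h01]
    rfl
  · apply Units.ext
    rw [Units.val_pow_eq_pow_val, hxc, Units.val_one]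
    have e : (Matrix.transvection (0 : Fin 4) 1 (1 : F)) ^ 5 =
        Matrix.transvection 0 1 1 * Matrix.transvection 0 1 1 * Matrix.transvection 0 1 1 *
          Matrix.transvection 0 1 1 * Matrix.transvection 0 1 1 := by
      simp only [pow_succ, pow_zero, one_mul]
    rw [e]
    repeat rw [Matrix.transvection_mul_transvection_same _ _ h01]
    have : (1 : F) + 1 + 1 + 1 + 1 = 0 := by rw [← h5]; norm_num
    rw [this, Matrix.transvection_zero]
  · intro z hz
    have e0 := congrFun (congrFun hz 0) 1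
    rw [hxc] at e0
    simp [Matrix.transvection] at e0
  · intro g
    have hg1 : (g : Matrix (Fin 4) (Fin 4) F) * ((g⁻¹ : GL (Fin 4) F) : Matrix (Fin 4) (Fin 4) F) = 1 := by
      rw [← Matrix.GeneralLinearGroup.coe_mul, mul_inv_cancel]; rfl
    have hg2 : ((g⁻¹ : GL (Fin 4) F) : Matrix (Fin 4) (Fin 4) F) * (g : Matrix (Fin 4) (Fin 4) F) = 1 := by
      rw [← Matrix.GeneralLinearGroup.coe_mul, inv_mul_cancel]; rfl
    apply hN (((g⁻¹ : GL (Fin 4) F) : Matrix (Fin 4) (Fin 4) F) *ᵥ (Pi.single 0 1))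
      ((Pi.single 1 1 : Fin 4 → F) ᵥ* (g : Matrix (Fin 4) (Fin 4) F))
    · intro h
      have h1 := congrArg (fun w => (g : Matrix (Fin 4) (Fin 4) F) *ᵥ w) h
      simp only [Matrix.mulVec_mulVec, hg1, Matrix.one_mulVec, Matrix.mulVec_zero] at h1
      have := congrFun h1 0
      simp at this
    · intro h
      have h1 := congrArg (fun w => w ᵥ* ((g⁻¹ : GL (Fin 4) F) : Matrix (Fin 4) (Fin 4) F)) h
      simp only [Matrix.vecMul_vecMul, hg1, Matrix.vecMul_one, Matrix.zero_vecMul] at h1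
      have := congrFun h1 1
      simp at this
    · rw [Matrix.dotProduct_mulVec, Matrix.vecMul_vecMul, hg1, Matrix.vecMul_one]
      simp
    · rw [Matrix.GeneralLinearGroup.coe_mul, Matrix.GeneralLinearGroup.coe_mul, hxc,
        Matrix.transvection, o5t_single_eq, Matrix.mul_add, Matrix.add_mul, Matrix.mul_one, hg2,
        Matrix.mul_vecMulVec, Matrix.vecMulVec_mul]

end Cfsg.Agent.Lib.Helper14.P4
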