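import Cfsg.Agent.Lib.Helper80.Dual
import Cfsg.Agent.Lib.Helper80.Conv
import Cfsg.Agent.S4493
import Cfsg.Agent.Lib.Helper75.CliffordCorr
import Cfsg.Agent.Lib.Helper75.LinExt
import Cfsg.Agent.Lib.Helper15.Gallagher

set_option autoImplicit false
set_option linter.style.haveILetI false

/-!
# Groups with two character degrees (Isaacs, Theorem 12.5)
-/

namespace Cfsg.Agent.Lib.Helper80

open Cfsg
open Cfsg.Agent.Lib.Helper75 Cfsg.Agent.Lib.Helper79

universe u

section Setup

variable {G : Type u} [Group G] [Finite G]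

/-- a finite group all of whose irreducible characters have degree one is abelian, commutator form -/
theorem comm_mem_of_quotient_linear (N : Subgroup G) [N.Normal]
    (h : ∀ ψ : IrrCharacter (G ⧸ N), (ψ : G ⧸ N → ℂ) 1 = 1) (a b : G) :
    a * b * a⁻¹ * b⁻¹ ∈ N := by
  have h1 := Cfsg.Agent.S0855.comm_of_all_linear h (a : G ⧸ N) (b : G ⧸ N)
  rw [← QuotientGroup.eq_one_iff]
  have h2 : ((a * b * a⁻¹ * b⁻¹ : G) : G ⧸ N) =
      (a : G ⧸ N) * (b : G ⧸ N) * (a : G ⧸ N)⁻¹ * (b : G ⧸ N)⁻¹ := by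
    simp
  rw [h2, h1]
  group

/-- the degree of an irreducible character of a quotient is a degree of the group -/
theorem charDegree_quotient (N : Subgroup G) [N.Normal] (ψ : IrrCharacter (G ⧸ N)) :
    ∃ χ : IrrCharacter G, charDegree (χ : G → ℂ) = charDegree (ψ : G ⧸ N → ℂ) := by
  refine ⟨⟨_, isIrrCharacter_inflate N ψ.2⟩, ?_⟩
  have h1 := irr_charDegree_cast (⟨_, isIrrCharacter_inflate N ψ.2⟩ : IrrCharacter G)
  have h2 := irr_charDegree_cast ψ
  have h3 : ((charDegree ((⟨_, isIrrCharacter_inflate N ψ.2⟩ : IrrCharacter G) : G → ℂ) : ℕ) : ℂ) =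
      ((charDegree (ψ : G ⧸ N → ℂ) : ℕ) : ℂ) := by
    rw [h1, h2]
    rfl
  exact_mod_cast h3

/-- The normal abelian Hall subgroup in a group with two character degrees `1` and `m`. -/
theorem exists_abelian_normal_hall (m : ℕ)
    (hcd : ∀ χ : IrrCharacter G, charDegree (χ : G → ℂ) = 1 ∨ charDegree (χ : G → ℂ) = m)
    (hm0 : m ≠ 0) (hm1 : m ≠ 1) :
    ∃ L : Subgroup G, L.Normal ∧ (∀ a ∈ L, ∀ b ∈ L, a * b = b * a) ∧ (Nat.card L).Coprime m ∧
      (∀ r : ℕ, r.Prime → r ∣ L.index → r ∣ m) ∧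
      ((∀ a b : G, a * b * a⁻¹ * b⁻¹ ∈ L) ∨
        ∃ p e k : ℕ, p.Prime ∧ m = p ^ e ∧ L.index = p ^ k) := by
  classical
  have := Fintype.ofFinite G
  by_cases hpp : ∃ p e : ℕ, p.Prime ∧ m = p ^ e
  · -- prime power case
    obtain ⟨p, e, hp, rfl⟩ := hpp
    have he : e ≠ 0 := by
      rintro rfl
      exact hm1 (pow_zero p)
    have hall : ∀ χ : IrrCharacter G, ∃ k : ℕ, (χ : G → ℂ) 1 = (p : ℂ) ^ k := by
      intro χ
      rcases hcd χ with h | h
      · refine ⟨0, ?_⟩
        rw [← irr_charDegree_cast χ, h]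
        simp
      · refine ⟨e, ?_⟩
        rw [← irr_charDegree_cast χ, h]
        push_cast
        rfl
    obtain ⟨A, hAn, hAcomm, hAcop, k, hAk⟩ := (Cfsg.Agent.S0855.result (G := G) p hp).1 hall
    refine ⟨A, hAn, hAcomm, Nat.Coprime.pow_right e hAcop, ?_, Or.inr ⟨p, e, k, hp, rfl, hAk⟩⟩
    intro r hr hdvd
    rw [hAk] at hdvd
    have := (Nat.prime_dvd_prime_iff_eq hr hp).1 (hr.dvd_of_dvd_pow hdvd)
    rw [this]
    exact dvd_pow_self p he
  · -- m is not a prime power
    push Not at hpp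
    let F := {N : Subgroup G // N.Normal ∧ ∃ q k : ℕ, q.Prime ∧ q ∣ m ∧ N.index = q ^ k}
    let L : Subgroup G := ⨅ N : F, (N : Subgroup G)
    have hLn : L.Normal := Subgroup.normal_iInf_normal (fun N : F => N.2.1)
    haveI := hLn
    have hLle : ∀ N : F, L ≤ (N : Subgroup G) := fun N => iInf_le _ N
    -- normal complements
    have hNq : ∀ q : ℕ, q.Prime → q ∣ m → ∃ N : F, (Nat.card (N : Subgroup G)).Coprime q := by
      intro q hq hqm
      have hdeg : ∀ χ : IrrCharacter G, charDegree (χ : G → ℂ) ≠ 1 → q ∣ charDegree (χ : G → ℂ) := by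
        intro χ hne
        rcases hcd χ with h | h
        · exact absurd h hne
        · rw [h]; exact hqm
      obtain ⟨N, hNn, hNcop, k, hk⟩ := Cfsg.Agent.S4456.result (G := G) q hq hdeg
      exact ⟨⟨N, hNn, q, k, hq, hqm, hk⟩, hNcop⟩
    have hLcop : (Nat.card L).Coprime m := by
      apply Nat.Coprime.symm
      apply Nat.coprime_of_dvd
      intro q hq hqm hqL
      obtain ⟨N, hN⟩ := hNq q hq hqm
      have h1 : Nat.card L ∣ Nat.card (N : Subgroup G) := Subgroup.card_dvd_of_le (hLle N)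
      have h2 := Nat.Coprime.eq_one_of_dvd hN.symm (dvd_trans hqL h1)
      exact hq.one_lt.ne' h2
    -- commutators
    have hcomm : ∀ (N : F) (a b : G), a * b * a⁻¹ * b⁻¹ ∈ (N : Subgroup G) := by
      rintro ⟨N, hNn, q, k, hq, hqm, hk⟩ a b
      haveI := hNn
      apply comm_mem_of_quotient_linear N
      intro ψ
      obtain ⟨χ, hχ⟩ := charDegree_quotient N ψ
      obtain ⟨d, hd, hdvd, hd0⟩ := Cfsg.Agent.Lib.Helper3.IsIrrCharacter.apply_one_dvd_card ψ.2
      have h1 : charDegree (ψ : G ⧸ N → ℂ) = d :=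
        Cfsg.Agent.Lib.Helper81.charDegree_eq_of_apply_one hd
      rw [← Subgroup.index_eq_card, hk] at hdvd
      rcases hcd χ with h | h
      · rw [hχ, h1] at h
        rw [hd, h, Nat.cast_one]
      · exfalso
        rw [hχ, h1] at h
        obtain ⟨j, -, hj⟩ := (Nat.dvd_prime_pow hq).1 hdvd
        exact hpp q j hq (by rw [← h, hj])
    have hcommL : ∀ a b : G, a * b * a⁻¹ * b⁻¹ ∈ L := by
      intro a b
      rw [Subgroup.mem_iInf]
      intro N
      exact hcomm N a b
    -- primes dividing the index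
    have hidx : ∀ r : ℕ, r.Prime → r ∣ L.index → r ∣ m := by
      intro r hr hdvd
      by_contra hrm
      haveI : Fact r.Prime := ⟨hr⟩
      rw [Subgroup.index_eq_card] at hdvd
      obtain ⟨x, hx⟩ := exists_prime_orderOf_dvd_card' (G := G ⧸ L) r hdvd
      obtain ⟨g, rfl⟩ := QuotientGroup.mk_surjective x
      have hgr : g ^ r ∈ L := by
        rw [← QuotientGroup.eq_one_iff, QuotientGroup.mk_pow, ← hx, pow_orderOf_eq_one]
      have hgL : g ∈ L := by
        rw [Subgroup.mem_iInf]
        rintro ⟨N, hNn, q, k, hq, hqm, hk⟩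
        haveI := hNn
        show g ∈ N
        rw [← QuotientGroup.eq_one_iff]
        have h1 : ((g : G ⧸ N)) ^ r = 1 := by
          rw [← QuotientGroup.mk_pow, QuotientGroup.eq_one_iff]
          exact hLle ⟨N, hNn, q, k, hq, hqm, hk⟩ hgr
        have h2 : ((g : G ⧸ N)) ^ q ^ k = 1 := by
          rw [← hk, Subgroup.index_eq_card]
          exact pow_card_eq_one'
        have hrq : r ≠ q := by
          rintro rfl
          exact hrm hqm
        have h3 : r.Coprime (q ^ k) :=
          Nat.Coprime.pow_right k ((Nat.coprime_primes hr hq).2 hrq)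
        exact (pow_eq_one_iff_of_coprime h3).1 ⟨h1, h2⟩
      have h4 : ((g : G ⧸ L)) = 1 := (QuotientGroup.eq_one_iff g).2 hgL
      rw [h4, orderOf_one] at hx
      exact hr.one_lt.ne' hx.symm
    -- L is abelian
    have hLab : ∀ a ∈ L, ∀ b ∈ L, a * b = b * a := by
      have hlin : ∀ θ : IrrCharacter L, (θ : L → ℂ) 1 = 1 := by
        intro θ
        have := Fintype.ofFinite L
        obtain ⟨χ, hχ⟩ := Cfsg.Agent.S0966.exists_over L θ
        have h1 := (Cfsg.Agent.S0887.result L (χ : G → ℂ) χ.2 (θ : L → ℂ) θ.2 hχ _ _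
          (irr_charDegree_cast χ).symm (irr_charDegree_cast θ).symm).1
        obtain ⟨d, hd, hdvd, hd0⟩ := Cfsg.Agent.Lib.Helper3.IsIrrCharacter.apply_one_dvd_card θ.2
        have h2 : charDegree (θ : L → ℂ) = d :=
          Cfsg.Agent.Lib.Helper81.charDegree_eq_of_apply_one hd
        have h3 : d ∣ m := by
          rw [h2] at h1
          rcases hcd χ with h | h
          · rw [h] at h1
            exact dvd_trans h1 (one_dvd m)
          · rw [h] at h1
            exact h1
        have h4 : d = 1 := Nat.Coprime.eq_one_of_dvd (Nat.Coprime.coprime_dvd_left hdvd hLcop) h3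
        rw [hd, h4, Nat.cast_one]
      intro a ha b hb
      have := Cfsg.Agent.S0855.comm_of_all_linear hlin ⟨a, ha⟩ ⟨b, hb⟩
      exact congrArg Subtype.val this
    exact ⟨L, hLn, hLab, hLcop, hidx, Or.inl hcommL⟩

end Setup


section Stab

variable {G : Type u} [Group G] [Finite G]

/-- The stabilizer of a non-invariant element of the dual of the abelian normal Hall subgroup `L`
has index `m`, and its commutators lie in `L`. -/
theorem stab_index_and_comm (m : ℕ)
    (hcd : ∀ χ : IrrCharacter G, charDegree (χ : G → ℂ) = 1 ∨ charDegree (χ : G → ℂ) = m)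
    (L : Subgroup G) [hL : L.Normal] (hLab : ∀ a ∈ L, ∀ b ∈ L, a * b = b * a)
    (hcop : (Nat.card L).Coprime L.index)
    (φ : L →* ℂˣ) (hT : dualStab L φ ≠ ⊤) :
    (dualStab L φ).index = m ∧
      ∀ a ∈ dualStab L φ, ∀ b ∈ dualStab L φ, a * b * a⁻¹ * b⁻¹ ∈ L := by
  classical
  have := Fintype.ofFinite G
  set T := dualStab L φ with hTdef
  have hLT : L ≤ T := by
    intro g hg
    rw [hTdef, mem_dualStab]
    apply dualConj_of_comm
    intro n hn
    exact hLab g hg n hn
  have := Fintype.ofFinite T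
  have := Fintype.ofFinite L
  let L' : Subgroup T := L.subgroupOf T
  haveI hL'n : L'.Normal := Subgroup.normal_subgroupOf
  have := Fintype.ofFinite L'
  let e : L' ≃* L := Subgroup.subgroupOfEquivOfLe hLT
  let φ' : L' →* ℂˣ := φ.comp e.toMonoidHom
  have hφ' : ∀ x : L', φ' x = φ ⟨((x : T) : G), Subgroup.mem_subgroupOf.mp x.2⟩ := fun x => rfl
  have hinv' : ∀ (g : T) (n : L'), φ' ⟨g * n * g⁻¹, hL'n.conj_mem n n.2 g⟩ = φ' n := by
    intro g n
    rw [hφ', hφ']
    have h1 := DFunLike.congr_fun ((mem_dualStab L φ g).1 g.2)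
      ⟨((n : T) : G), Subgroup.mem_subgroupOf.mp n.2⟩
    rw [dualConj_apply] at h1
    rw [← h1]
    congr 1
  have hcardL' : Nat.card L' = Nat.card L := Nat.card_congr e.toEquiv
  have hk0 : Nat.card L ≠ 0 := Nat.card_pos.ne'
  have hk' : ∀ n : L', φ' n ^ Nat.card L = 1 := by
    intro n
    have h1 := dual_pow_card L' φ'
    rw [hcardL'] at h1
    have h2 := DFunLike.congr_fun h1 n
    rw [MonoidHom.pow_apply] at h2
    exact h2
  have hcop' : Nat.Coprime L'.index (Nat.card L) := by
    have h1 : L'.index ∣ L.index := Subgroup.relIndex_dvd_index_of_normal L T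
    exact Nat.Coprime.coprime_dvd_left h1 hcop.symm
  obtain ⟨μ, hμ1, -⟩ := exists_monoidHom_extension (G := T) L' φ' hinv' (Nat.card L) hk0 hk' hcop'
  let μc : T → ℂ := fun t => ((μ t : ℂˣ) : ℂ)
  have hμ : IsIrrCharacter T μc := isIrrCharacter_of_monoidHom μ
  have hμL' : (fun n : L' => μc n) = fun n : L' => ((φ' n : ℂˣ) : ℂ) := by
    funext n
    show ((μ (n : T) : ℂˣ) : ℂ) = _
    rw [hμ1 n]
  have hμL'irr : IsIrrCharacter L' (fun n : L' => μc n) := by
    rw [hμL']
    exact isIrrCharacter_of_monoidHom φ'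
  let θ : L → ℂ := fun n => ((φ n : ℂˣ) : ℂ)
  have hθ : IsIrrCharacter L θ := isIrrCharacter_of_monoidHom φ
  have hTiff : ∀ g : G, g ∈ T ↔ ∀ h : L, θ ⟨g * h * g⁻¹, hL.conj_mem h h.2 g⟩ = θ h :=
    fun g => mem_dualStab_iff L φ g
  -- the key: degrees of induced characters
  have key : ∀ β : IrrCharacter (T ⧸ L'), ∃ χ : IrrCharacter G,
      charDegree (χ : G → ℂ) = T.index * charDegree (β : T ⧸ L' → ℂ) := by
    intro β
    let βi : T → ℂ := fun t => (β : T ⧸ L' → ℂ) (t : T ⧸ L')
    have hβi : IsIrrCharacter T βi := isIrrCharacter_inflate L' β.2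
    have hβN : ∀ (n : L') (g : T), βi ((n : T) * g) = βi g := by
      intro n g
      show (β : T ⧸ L' → ℂ) (((n : T) * g : T) : T ⧸ L') = (β : T ⧸ L' → ℂ) (g : T ⧸ L')
      rw [QuotientGroup.mk_mul, (QuotientGroup.eq_one_iff (n : T)).2 n.2, one_mul]
    have hψ : IsIrrCharacter T (βi * μc) :=
      Cfsg.Agent.Lib.Helper15.isIrrCharacter_mul_ext L' hμ hμL'irr hβi hβN
    have hβ1 : (β : T ⧸ L' → ℂ) 1 ≠ 0 := irr_one_ne_zero β
    have hc : classInner (indFun L' (resSub L T θ)) (βi * μc) ≠ 0 := by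
      rw [Cfsg.Agent.Lib.Helper25.frobenius_reciprocity L' _ _
        (Cfsg.Agent.Lib.Helper3.IsCharacter.isClassFunction
          (Cfsg.Agent.Lib.Helper3.IsIrrCharacter.isCharacter hψ))]
      have h1 : (fun h : L' => (βi * μc) h) =
          ((β : T ⧸ L' → ℂ) 1) • (fun n : L' => ((φ' n : ℂˣ) : ℂ)) := by
        funext n
        show βi (n : T) * μc (n : T) = (β : T ⧸ L' → ℂ) 1 * ((φ' n : ℂˣ) : ℂ)
        have h2 : βi (n : T) = (β : T ⧸ L' → ℂ) 1 := by
          show (β : T ⧸ L' → ℂ) ((n : T) : T ⧸ L') = _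
          rw [(QuotientGroup.eq_one_iff (n : T)).2 n.2]
        rw [h2]
        congr 1
        exact congrFun hμL' n
      have h3 : resSub L T θ = fun n : L' => ((φ' n : ℂˣ) : ℂ) := by
        funext n
        rfl
      rw [h1, h3, Cfsg.Agent.Lib.Helper3.classInner_smul_right,
        Cfsg.Agent.Lib.Helper3.classInner_irr (isIrrCharacter_of_monoidHom φ')
          (isIrrCharacter_of_monoidHom φ'), if_pos rfl, mul_one]
      intro h0
      apply hβ1
      have := congrArg (starRingEnd ℂ) h0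
      simpa using this
    have hirr := (clifford_corr_induction L T θ hθ hTiff hLT (βi * μc) (βi * μc) hψ hψ hc hc).1
    refine ⟨⟨_, hirr⟩, ?_⟩
    have h1 := irr_charDegree_cast (⟨_, hirr⟩ : IrrCharacter G)
    have h2 : (indFun T (βi * μc)) 1 = (T.index : ℂ) * (βi * μc) 1 :=
      Cfsg.Agent.Lib.Helper75.indFun_apply_one T _
    have h3 : (βi * μc) 1 = (β : T ⧸ L' → ℂ) 1 := by
      show βi 1 * μc 1 = _
      show (β : T ⧸ L' → ℂ) ((1 : T) : T ⧸ L') * ((μ 1 : ℂˣ) : ℂ) = _
      rw [map_one, Units.val_one, mul_one]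
      rfl
    have h4 := irr_charDegree_cast β
    have h5 : ((charDegree ((⟨_, hirr⟩ : IrrCharacter G) : G → ℂ) : ℕ) : ℂ) =
        ((T.index * charDegree (β : T ⧸ L' → ℂ) : ℕ) : ℂ) := by
      rw [h1]
      show (indFun T (βi * μc)) 1 = _
      rw [h2, h3, ← h4]
      push_cast
      rfl
    exact_mod_cast h5
  -- the index
  have hidx : T.index = m := by
    obtain ⟨χ, hχ⟩ := key (trivIrr (T ⧸ L'))
    have h1 : charDegree ((trivIrr (T ⧸ L') : IrrCharacter (T ⧸ L')) : T ⧸ L' → ℂ) = 1 := by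
      apply Cfsg.Agent.Lib.Helper81.charDegree_eq_of_apply_one
      rw [trivIrr_apply]
      simp
    rw [h1, mul_one] at hχ
    rcases hcd χ with h | h
    · exfalso
      rw [hχ] at h
      exact hT (Subgroup.index_eq_one.mp h)
    · rw [← hχ, h]
  refine ⟨hidx, ?_⟩
  have hm0 : m ≠ 0 := by
    rw [← hidx]
    exact Subgroup.index_ne_zero_of_finite
  have hlin : ∀ β : IrrCharacter (T ⧸ L'), (β : T ⧸ L' → ℂ) 1 = 1 := by
    intro β
    obtain ⟨χ, hχ⟩ := key β
    rw [hidx] at hχ
    have h1 : charDegree (β : T ⧸ L' → ℂ) = 1 := by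
      rcases hcd χ with h | h
      · rw [hχ] at h
        exact Nat.eq_one_of_mul_eq_one_left h
      · rw [hχ] at h
        have : m * charDegree (β : T ⧸ L' → ℂ) = m * 1 := by rw [h, mul_one]
        exact Nat.eq_of_mul_eq_mul_left (Nat.pos_of_ne_zero hm0) this
    rw [← irr_charDegree_cast β, h1, Nat.cast_one]
  intro a ha b hb
  have h1 := comm_mem_of_quotient_linear L' hlin ⟨a, ha⟩ ⟨b, hb⟩
  exact Subgroup.mem_subgroupOf.mp h1

end Stab


section WArg

/-- The abstract form of the argument: commuting endomorphism actions on a commutative group. -/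
theorem exists_smaller_stab {A : Type*} [CommGroup A] {G : Type*} [Group G] (c : G → A →* A)
    (hc1 : ∀ a, c 1 a = a) (hcc : ∀ g h a, c g (c h a) = c (h * g) a)
    (hcomm : ∀ x y a, c x (c y a) = c y (c x a))
    (r : ℕ) (w : G) (hwr : ∀ a, c (w ^ r) a = a)
    (htors : ∀ a : A, a ^ r = 1 → a = 1)
    (φ ν₀ : A) (hwφ : c w φ = φ) (hν₀ : c w ν₀ ≠ ν₀) :
    ∃ μ : A, c w μ ≠ μ ∧ ∀ x, c x μ = μ → c x φ = φ := by
  classical
  set ν : A := c w ν₀ / ν₀ with hνdef
  have hν1 : ν ≠ 1 := fun h => hν₀ (div_eq_one.mp h)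
  let τ : A →* A := ∏ i ∈ Finset.range r, c (w ^ i)
  have hτ : ∀ μ : A, τ μ = ∏ i ∈ Finset.range r, c (w ^ i) μ :=
    fun μ => MonoidHom.finsetProd_apply _ _ _
  have hτν : τ ν = 1 := by
    rw [hτ]
    have h2 : ∀ i, c (w ^ i) ν = c (w ^ (i + 1)) ν₀ / c (w ^ i) ν₀ := by
      intro i
      rw [hνdef, map_div, hcc, ← pow_succ']
    rw [Finset.prod_congr rfl (fun i _ => h2 i),
      Finset.prod_range_div (fun i => c (w ^ i) ν₀), hwr, pow_zero, hc1, div_self']
  have hτx : ∀ (x : G) (μ : A), τ (c x μ) = c x (τ μ) := by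
    intro x μ
    rw [hτ, hτ, map_prod]
    apply Finset.prod_congr rfl
    intro i _
    exact (hcomm x (w ^ i) μ).symm
  have hτconst : ∀ μ : A, c w μ = μ → τ μ = μ ^ r := by
    intro μ hμ
    have h2 : ∀ i : ℕ, c (w ^ i) μ = μ := by
      intro i
      induction i with
      | zero => rw [pow_zero, hc1]
      | succ i ih =>
        rw [pow_succ, ← hcc, ih, hμ]
    rw [hτ, Finset.prod_congr rfl (fun i _ => h2 i), Finset.prod_const, Finset.card_range]
  have hmain : ∀ x, c x (φ * ν) = φ * ν → c x φ = φ ∧ c x ν = ν := by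
    intro x hx
    rw [map_mul] at hx
    set ξ : A := c x φ / φ with hξ
    have hξ' : ξ = ν / c x ν := by
      rw [hξ, div_eq_div_iff_mul_eq_mul, mul_comm ν φ]
      exact hx
    have hwξ : c w ξ = ξ := by
      rw [hξ, map_div, hcomm w x φ, hwφ]
    have h2 : τ ξ = ξ ^ r := hτconst ξ hwξ
    have h3 : τ ξ = 1 := by
      rw [hξ', map_div, hτx, hτν, map_one, div_self']
    rw [h2] at h3
    have h4 : ξ = 1 := htors ξ h3
    constructor
    · exact div_eq_one.mp h4
    · rw [hξ'] at h4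
      exact (div_eq_one.mp h4).symm
  refine ⟨φ * ν, ?_, fun x hx => (hmain x hx).1⟩
  intro hw'
  have h2 := (hmain w hw').2
  have h3 := hτconst ν h2
  rw [hτν] at h3
  exact hν1 (htors ν h3.symm)

variable {G : Type u} [Group G] [Finite G]

/-- If `G / C_G(L)` is abelian and all non-invariant elements of the dual of `L` have stabilizers of
the same index, then these stabilizers centralize `L`. -/
theorem stab_le_centralizer (m : ℕ) (L : Subgroup G) [hL : L.Normal]
    (hLab : ∀ a ∈ L, ∀ b ∈ L, a * b = b * a) (hcop : (Nat.card L).Coprime L.index)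
    (hidx : ∀ φ : L →* ℂˣ, dualStab L φ ≠ ⊤ → (dualStab L φ).index = m)
    (hGC : ∀ a b : G, ∀ n ∈ L, (a * b * a⁻¹ * b⁻¹) * n = n * (a * b * a⁻¹ * b⁻¹))
    (φ : L →* ℂˣ) (hφ : dualStab L φ ≠ ⊤) (w : G) (hw : w ∈ dualStab L φ) :
    ∀ n ∈ L, w * n = n * w := by
  classical
  by_contra hcon
  have h1 : ∃ ν₀ : L →* ℂˣ, dualConj L w ν₀ ≠ ν₀ := by
    by_contra h
    push Not at h
    exact hcon (comm_of_dualConj_eq L hLab w h)
  obtain ⟨ν₀, hν₀⟩ := h1
  have hwr : ∀ μ : L →* ℂˣ, dualConj L (w ^ L.index) μ = μ := by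
    intro μ
    apply dualConj_of_comm
    intro n hn
    exact hLab _ (Subgroup.pow_index_mem L w) n hn
  obtain ⟨μ, hμ1, hμ2⟩ := exists_smaller_stab (dualConj L) (dualConj_one L)
    (fun g h a => dualConj_dualConj L g h a) (fun x y a => dualConj_comm L (hGC x y) a)
    L.index w hwr (fun a ha => dual_eq_one_of_pow L a L.index hcop ha) φ ν₀
    ((mem_dualStab L φ w).1 hw) hν₀
  have hwnot : w ∉ dualStab L μ := hμ1
  have hle : dualStab L μ ≤ dualStab L φ := fun x hx => hμ2 x hx
  have hne : dualStab L μ ≠ ⊤ := by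
    intro h
    apply hwnot
    rw [h]
    exact Subgroup.mem_top w
  have h2 := hidx μ hne
  have h3 := hidx φ hφ
  have h4 := Subgroup.relIndex_mul_index hle
  rw [h2, h3] at h4
  have hm0 : m ≠ 0 := by
    rw [← h3]
    exact Subgroup.index_ne_zero_of_finite
  have h5 : (dualStab L μ).relIndex (dualStab L φ) = 1 := by
    have : (dualStab L μ).relIndex (dualStab L φ) * m = 1 * m := by rw [h4, one_mul]
    exact Nat.eq_of_mul_eq_mul_right (Nat.pos_of_ne_zero hm0) this
  exact hwnot (Subgroup.relIndex_eq_one.mp h5 hw)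

end WArg

section Center

variable {G : Type u} [Group G] [Finite G]

/-- In the prime power case, `G / C_G(L)` is abelian. -/
theorem quotient_centralizer_comm (m p k : ℕ) (hp : p.Prime)
    (hcd : ∀ χ : IrrCharacter G, charDegree (χ : G → ℂ) = 1 ∨ charDegree (χ : G → ℂ) = m)
    (L : Subgroup G) [hL : L.Normal] (hLab : ∀ a ∈ L, ∀ b ∈ L, a * b = b * a)
    (hLk : L.index = p ^ k)
    (hstab : ∀ φ : L →* ℂˣ, dualStab L φ ≠ ⊤ → (dualStab L φ).index = m ∧
      ∀ a ∈ dualStab L φ, ∀ b ∈ dualStab L φ, a * b * a⁻¹ * b⁻¹ ∈ L) :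
    ∀ a b : G, ∀ n ∈ L, (a * b * a⁻¹ * b⁻¹) * n = n * (a * b * a⁻¹ * b⁻¹) := by
  classical
  haveI : Fact p.Prime := ⟨hp⟩
  set C : Subgroup G := Subgroup.centralizer (L : Set G) with hC
  haveI hCn : C.Normal := Subgroup.normal_centralizer
  have hLC : L ≤ C := by
    intro g hg
    rw [hC, Subgroup.mem_centralizer_iff]
    intro h hh
    exact hLab h hh g hg
  have hmemC : ∀ g : G, g ∈ C ↔ ∀ n ∈ L, g * n = n * g := by
    intro g
    rw [hC, Subgroup.mem_centralizer_iff]
    constructor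
    · intro h n hn
      exact (h n hn).symm
    · intro h n hn
      exact (h n hn).symm
  suffices hQ : ∀ x y : G ⧸ C, x * y = y * x by
    intro a b n hn
    have h1 : a * b * a⁻¹ * b⁻¹ ∈ C := by
      rw [← QuotientGroup.eq_one_iff]
      have h2 : ((a * b * a⁻¹ * b⁻¹ : G) : G ⧸ C) =
          (a : G ⧸ C) * (b : G ⧸ C) * (a : G ⧸ C)⁻¹ * (b : G ⧸ C)⁻¹ := by
        simp
      rw [h2, hQ (a : G ⧸ C) (b : G ⧸ C)]
      group
    exact (hmemC _).1 h1 n hn
  by_contra hnab
  -- a nonlinear character of the quotient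
  have hex : ∃ ψ₀ : IrrCharacter (G ⧸ C), (ψ₀ : G ⧸ C → ℂ) 1 ≠ 1 := by
    by_contra h
    push Not at h
    exact hnab (Cfsg.Agent.S0855.comm_of_all_linear h)
  obtain ⟨ψ₀, hψ₀⟩ := hex
  have hdegψ₀ : charDegree (ψ₀ : G ⧸ C → ℂ) = m := by
    obtain ⟨χ, hχ⟩ := charDegree_quotient C ψ₀
    rcases hcd χ with h | h
    · exfalso
      apply hψ₀
      rw [← irr_charDegree_cast ψ₀, ← hχ, h, Nat.cast_one]
    · rw [← hχ, h]
  -- the quotient is a nontrivial p-group
  have hQp : IsPGroup p (G ⧸ C) := by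
    have h1 : Nat.card (G ⧸ C) ∣ p ^ k := by
      rw [← Subgroup.index_eq_card, ← hLk]
      exact Subgroup.index_dvd_of_le hLC
    obtain ⟨j, -, hj⟩ := (Nat.dvd_prime_pow hp).1 h1
    exact IsPGroup.of_card hj
  haveI : Nontrivial (G ⧸ C) := by
    by_contra h
    rw [not_nontrivial_iff_subsingleton] at h
    apply hnab
    intro x y
    exact Subsingleton.elim _ _
  have hcen := hQp.center_nontrivial
  obtain ⟨⟨zb, hzb⟩, hzb1⟩ := exists_ne (1 : Subgroup.center (G ⧸ C))
  have hzb1' : zb ≠ 1 := by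
    intro h
    apply hzb1
    apply Subtype.ext
    exact h
  obtain ⟨z, rfl⟩ := QuotientGroup.mk_surjective zb
  -- z fixes every element of the dual
  have hzfix : ∀ μ : L →* ℂˣ, dualConj L z μ = μ := by
    intro μ
    by_cases hT : dualStab L μ = ⊤
    · have : z ∈ dualStab L μ := by rw [hT]; exact Subgroup.mem_top z
      exact this
    · obtain ⟨hidx, hcomm⟩ := hstab μ hT
      set T := dualStab L μ with hTdef
      have hCT : C ≤ T := by
        intro g hg
        rw [hTdef, mem_dualStab]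
        exact dualConj_of_comm L ((hmemC g).1 hg) μ
      set Tb : Subgroup (G ⧸ C) := T.map (QuotientGroup.mk' C) with hTb
      set Ab : Subgroup (G ⧸ C) := Tb ⊔ Subgroup.center (G ⧸ C) with hAb
      have hTbcomm : ∀ x ∈ Tb, ∀ y ∈ Tb, x * y = y * x := by
        rintro x ⟨a, ha, rfl⟩ y ⟨b, hb, rfl⟩
        have h1 : a * b * a⁻¹ * b⁻¹ ∈ C := hLC (hcomm a ha b hb)
        have h2 : ((a * b * a⁻¹ * b⁻¹ : G) : G ⧸ C) = 1 := (QuotientGroup.eq_one_iff _).2 h1
        show (a : G ⧸ C) * (b : G ⧸ C) = (b : G ⧸ C) * (a : G ⧸ C)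
        have h3 : ((a * b * a⁻¹ * b⁻¹ : G) : G ⧸ C) =
            (a : G ⧸ C) * (b : G ⧸ C) * (a : G ⧸ C)⁻¹ * (b : G ⧸ C)⁻¹ := by
          simp
        rw [h3] at h2
        calc (a : G ⧸ C) * (b : G ⧸ C)
            = ((a : G ⧸ C) * (b : G ⧸ C) * (a : G ⧸ C)⁻¹ * (b : G ⧸ C)⁻¹) *
              ((b : G ⧸ C) * (a : G ⧸ C)) := by group
          _ = (b : G ⧸ C) * (a : G ⧸ C) := by rw [h2, one_mul]
      have hAbcomm : ∀ x ∈ Ab, ∀ y ∈ Ab, x * y = y * x := by
        intro x hx y hy
        rw [hAb, Subgroup.mem_sup_of_normal_right] at hx hy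
        obtain ⟨x1, hx1, x2, hx2, rfl⟩ := hx
        obtain ⟨y1, hy1, y2, hy2, rfl⟩ := hy
        rw [Subgroup.mem_center_iff] at hx2 hy2
        calc x1 * x2 * (y1 * y2) = x1 * (x2 * y1) * y2 := by group
          _ = x1 * (y1 * x2) * y2 := by rw [hx2 y1]
          _ = (x1 * y1) * (x2 * y2) := by group
          _ = (y1 * x1) * (y2 * x2) := by rw [hTbcomm x1 hx1 y1 hy1, hx2 y2]
          _ = y1 * (x1 * y2) * x2 := by group
          _ = y1 * (y2 * x1) * x2 := by rw [hy2 x1]
          _ = y1 * y2 * (x1 * x2) := by group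
      haveI : IsMulCommutative Ab :=
        ⟨⟨fun a b => Subtype.ext (hAbcomm a a.2 b b.2)⟩⟩
      obtain ⟨n, ρ, hirr, hρ⟩ := ψ₀.2
      have hn : n = m := by
        have h1 := rep_character_one ρ
        rw [hρ, ← irr_charDegree_cast ψ₀, hdegψ₀] at h1
        exact_mod_cast h1.symm
      have hbound := card_comm_subgroup_mul_degree_le ρ hirr Ab
      rw [hn] at hbound
      have hTbidx : Tb.index = m := by
        rw [hTb, Subgroup.index_map_eq T (QuotientGroup.mk'_surjective C)
          (by rw [QuotientGroup.ker_mk']; exact hCT), hidx]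
      have hcardQ : Nat.card Tb * m = Nat.card (G ⧸ C) := by
        rw [← hTbidx]
        exact Subgroup.card_mul_index Tb
      have hm0 : 0 < m := by
        rw [← hidx]
        exact Nat.pos_of_ne_zero Subgroup.index_ne_zero_of_finite
      have hle : Nat.card Ab ≤ Nat.card Tb := by
        rw [← hcardQ] at hbound
        exact Nat.le_of_mul_le_mul_right hbound hm0
      have heq : Tb = Ab := Subgroup.eq_of_le_of_card_ge le_sup_left hle
      have hzTb : (z : G ⧸ C) ∈ Tb := by
        rw [heq, hAb]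
        exact Subgroup.mem_sup_right hzb
      obtain ⟨t, ht, hteq⟩ := hzTb
      have h1 : t⁻¹ * z ∈ C := by
        rw [← QuotientGroup.eq_one_iff, QuotientGroup.mk_mul, QuotientGroup.mk_inv]
        have : (QuotientGroup.mk' C) t = (t : G ⧸ C) := rfl
        rw [← this, hteq]
        group
      have h2 : z ∈ T := by
        have := T.mul_mem ht (hCT h1)
        simpa using this
      exact h2
  have hzC : z ∈ C := (hmemC z).2 (comm_of_dualConj_eq L hLab z hzfix)
  exact hzb1' ((QuotientGroup.eq_one_iff z).2 hzC)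

end Center

section Main

variable {G : Type u} [Group G] [Finite G]

/-- **Isaacs, Theorem 12.5.**  The structure of a group with the two character degrees `1`, `m`. -/
theorem two_degrees_structure (m : ℕ)
    (hcd : ∀ χ : IrrCharacter G, charDegree (χ : G → ℂ) = 1 ∨ charDegree (χ : G → ℂ) = m)
    (hm : ∃ χ : IrrCharacter G, charDegree (χ : G → ℂ) = m) (hm1 : m ≠ 1) :
    (∃ A : Subgroup G, A.Normal ∧ (∀ a ∈ A, ∀ b ∈ A, a * b = b * a) ∧ A.index = m) ∨
      ∃ p e : ℕ, p.Prime ∧ m = p ^ e ∧ ∃ P A : Subgroup G, P.Normal ∧ A.Normal ∧ IsPGroup p P ∧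
        (∀ a ∈ A, ∀ b ∈ A, a * b = b * a) ∧ P ⊓ A = ⊥ ∧ P ⊔ A = ⊤ := by
  classical
  obtain ⟨χ₀, hχ₀⟩ := hm
  have hm0 : m ≠ 0 := by
    rw [← hχ₀]
    exact (irr_charDegree_pos χ₀).ne'
  obtain ⟨L, hLn, hLab, hLcop, hprimes, hcase⟩ := exists_abelian_normal_hall m hcd hm0 hm1
  haveI := hLn
  have hcop : (Nat.card L).Coprime L.index := by
    apply Nat.coprime_of_dvd
    intro r hr hrL hridx
    have h1 := hprimes r hr hridx
    have h2 := Nat.Coprime.eq_one_of_dvd (Nat.Coprime.coprime_dvd_left hrL hLcop) h1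
    exact hr.one_lt.ne' h2
  have hstab := fun (φ : L →* ℂˣ) (h : dualStab L φ ≠ ⊤) =>
    stab_index_and_comm m hcd L hLab hcop φ h
  by_cases hall : ∀ φ : L →* ℂˣ, dualStab L φ = ⊤
  · -- L is central
    have hcent : ∀ z ∈ L, ∀ c : G, z * c = c * z := by
      intro z hz c
      have h1 : ∀ φ : L →* ℂˣ, dualConj L c φ = φ := by
        intro φ
        have : c ∈ dualStab L φ := by rw [hall φ]; exact Subgroup.mem_top c
        exact this
      exact (comm_of_dualConj_eq L hLab c h1 z hz).symm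
    rcases hcase with hab | ⟨p, e, k, hp, hme, hLk⟩
    · exfalso
      have hGab := comm_of_central_of_coprime L hcent hab hcop
      haveI : IsMulCommutative G := ⟨⟨hGab⟩⟩
      have h1 := irr_one_eq_one_of_comm χ₀
      rw [← irr_charDegree_cast χ₀, hχ₀] at h1
      exact hm1 (by exact_mod_cast h1)
    · right
      haveI : Fact p.Prime := ⟨hp⟩
      have he : e ≠ 0 := by
        rintro rfl
        exact hm1 (by rw [hme, pow_zero])
      have hLp : (Nat.card L).Coprime p := by
        rw [hme] at hLcop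
        exact (Nat.coprime_pow_right_iff (Nat.pos_of_ne_zero he) _ _).1 hLcop
      obtain ⟨P⟩ : Nonempty (Sylow p G) := inferInstance
      have hPidx : ¬ p ∣ (P : Subgroup G).index := P.not_dvd_index
      obtain ⟨i, hi⟩ := IsPGroup.iff_card.1 P.2
      have hcardG : Nat.card G = Nat.card L * p ^ k := by
        rw [← Subgroup.card_mul_index L, hLk]
      have hpk : p ^ k ∣ Nat.card (P : Subgroup G) := by
        have h1 : p ^ k ∣ (P : Subgroup G).index * Nat.card (P : Subgroup G) := by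
          rw [mul_comm, Subgroup.card_mul_index, hcardG]
          exact dvd_mul_left _ _
        have h2 : (p ^ k).Coprime (P : Subgroup G).index :=
          Nat.Coprime.pow_left k ((Nat.Prime.coprime_iff_not_dvd hp).2 hPidx)
        exact h2.dvd_of_dvd_mul_left h1
      have hsup : L ⊔ (P : Subgroup G) = ⊤ := by
        apply (Subgroup.card_eq_iff_eq_top _).1
        apply Nat.dvd_antisymm (Subgroup.card_subgroup_dvd_card _)
        rw [hcardG]
        apply Nat.Coprime.mul_dvd_of_dvd_of_dvd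
        · exact Nat.Coprime.pow_right k hLp
        · exact Subgroup.card_dvd_of_le le_sup_left
        · exact dvd_trans hpk (Subgroup.card_dvd_of_le le_sup_right)
      have hPn : (P : Subgroup G).Normal := by
        rw [← Subgroup.normalizer_eq_top_iff, eq_top_iff, ← hsup, sup_le_iff]
        refine ⟨?_, Subgroup.le_normalizer⟩
        intro y hy
        rw [Subgroup.mem_normalizer_iff]
        intro x
        have h2 : y * x * y⁻¹ = x := by
          rw [hcent y hy x]; group
        rw [h2]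
      refine ⟨p, e, hp, hme, (P : Subgroup G), L, hPn, hLn, P.2, hLab, ?_, ?_⟩
      · apply disjoint_iff.1
        apply Subgroup.disjoint_of_coprime_natCard
        rw [hi]
        exact (Nat.Coprime.pow_right i hLp).symm
      · rw [sup_comm]
        exact hsup
  · -- some element of the dual is not invariant
    push Not at hall
    obtain ⟨φ₀, hφ₀⟩ := hall
    left
    have hGC : ∀ a b : G, ∀ n ∈ L, (a * b * a⁻¹ * b⁻¹) * n = n * (a * b * a⁻¹ * b⁻¹) := by
      rcases hcase with hab | ⟨p, e, k, hp, hme, hLk⟩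
      · intro a b n hn
        exact hLab _ (hab a b) n hn
      · exact quotient_centralizer_comm m p k hp hcd L hLab hLk hstab
    set C : Subgroup G := Subgroup.centralizer (L : Set G) with hC
    haveI hCn : C.Normal := Subgroup.normal_centralizer
    have hmemC : ∀ g : G, g ∈ C ↔ ∀ n ∈ L, g * n = n * g := by
      intro g
      rw [hC, Subgroup.mem_centralizer_iff]
      constructor
      · intro h n hn
        exact (h n hn).symm
      · intro h n hn
        exact (h n hn).symm
    have hLC : L ≤ C := by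
      intro g hg
      rw [hmemC]
      intro n hn
      exact hLab g hg n hn
    have hTC : dualStab L φ₀ = C := by
      apply le_antisymm
      · intro w hw
        rw [hmemC]
        exact stab_le_centralizer m L hLab hcop (fun φ h => (hstab φ h).1) hGC φ₀ hφ₀ w hw
      · intro g hg
        rw [mem_dualStab]
        exact dualConj_of_comm L ((hmemC g).1 hg) φ₀
    obtain ⟨hidx, hcomm⟩ := hstab φ₀ hφ₀
    rw [hTC] at hidx hcomm
    refine ⟨C, hCn, ?_, hidx⟩
    -- C is abelian
    let L' : Subgroup C := L.subgroupOf C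
    haveI : L'.Normal := Subgroup.normal_subgroupOf
    have hcent' : ∀ z ∈ L', ∀ c : C, z * c = c * z := by
      intro z hz c
      apply Subtype.ext
      have h1 := (hmemC (c : G)).1 c.2 (z : G) (Subgroup.mem_subgroupOf.mp hz)
      exact h1.symm
    have hab' : ∀ a b : C, a * b * a⁻¹ * b⁻¹ ∈ L' := by
      intro a b
      rw [Subgroup.mem_subgroupOf]
      exact hcomm a a.2 b b.2
    have hcop' : (Nat.card L').Coprime L'.index := by
      have h1 : Nat.card L' = Nat.card L :=
        Nat.card_congr (Subgroup.subgroupOfEquivOfLe hLC).toEquiv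
      have h2 : L'.index ∣ L.index := Subgroup.relIndex_dvd_index_of_normal L C
      rw [h1]
      exact Nat.Coprime.coprime_dvd_right h2 hcop
    intro a ha b hb
    have := comm_of_central_of_coprime L' hcent' hab' hcop' ⟨a, ha⟩ ⟨b, hb⟩
    exact congrArg Subtype.val this

end Main

end Cfsg.Agent.Lib.Helper80
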