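import Cfsg.Agent.Lib.Helper80.Kernel
import Cfsg.Agent.Lib.Helper79.Ito
import Cfsg.Agent.Lib.Helper15.Gallagher
import Cfsg.Agent.Lib.Helper69.Basic
import Cfsg.Agent.Lib.Helper3.CharOps
import Cfsg.Agent.S0887
import Cfsg.Agent.S0855
import Cfsg.Agent.S0966
import Cfsg.Agent.Lib.Helper79.Classes
import Cfsg.Agent.Lib.Helper80.TwoDegrees
import Cfsg.Agent.Lib.Helper80.Conv

set_option autoImplicit false
set_option linter.style.haveILetI false
set_option linter.unusedSectionVars false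

/-!
# Characters of `p'`-degree and normal subgroups of `p`-power index
-/

namespace Cfsg.Agent.Lib.Helper80

open Cfsg
open scoped ComplexConjugate

universe u

section Restrict

/-- A character having an irreducible constituent of the same degree is equal to it. -/
theorem eq_of_constituent_of_degree_eq {H : Type u} [Group H] [Fintype H] {ψ : H → ℂ}
    (hψ : IsCharacter H ψ) (θ : IrrCharacter H) (hne : classInner ψ (θ : H → ℂ) ≠ 0)
    (hdeg : ψ 1 = (θ : H → ℂ) 1) : ψ = (θ : H → ℂ) := by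
  classical
  haveI : Finite (IrrCharacter H) := Cfsg.Agent.Lib.Helper3.irrCharacter_finite
  have := Fintype.ofFinite (IrrCharacter H)
  obtain ⟨m, hm, hdec⟩ := Cfsg.Agent.Lib.Helper3.IsCharacter.exists_mult hψ
  have hmθ : m θ ≠ 0 := by
    intro h0
    apply hne
    rw [hm θ, h0, Nat.cast_zero]
  set d := charDegree (θ : H → ℂ) with hd
  have hd0 : 0 < d := irr_charDegree_pos θ
  have hsum : ∑ μ : IrrCharacter H, m μ * charDegree (μ : H → ℂ) = d := by
    have h1 := congrFun hdec 1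
    simp only [Finset.sum_apply, Pi.smul_apply, smul_eq_mul] at h1
    rw [hdeg, ← irr_charDegree_cast θ] at h1
    have h3 : ((d : ℕ) : ℂ) =
        ((∑ μ : IrrCharacter H, m μ * charDegree (μ : H → ℂ) : ℕ) : ℂ) := by
      rw [h1]
      push_cast
      refine Finset.sum_congr rfl fun μ _ => ?_
      rw [irr_charDegree_cast μ]
    exact_mod_cast h3.symm
  have hsplit := Finset.add_sum_erase Finset.univ
    (fun μ : IrrCharacter H => m μ * charDegree (μ : H → ℂ)) (Finset.mem_univ θ)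
  rw [hsum] at hsplit
  have hsplit' : m θ * d + ∑ μ ∈ Finset.univ.erase θ, m μ * charDegree (μ : H → ℂ) = d := hsplit
  have hmθ1 : m θ = 1 := by
    have h1 : m θ * d ≤ d := by omega
    have h2 : 1 * d ≤ m θ * d := Nat.mul_le_mul_right _ (Nat.pos_of_ne_zero hmθ)
    have h3 : m θ * d = 1 * d := by omega
    exact Nat.eq_of_mul_eq_mul_right hd0 h3
  have hrest : ∑ μ ∈ Finset.univ.erase θ, m μ * charDegree (μ : H → ℂ) = 0 := by
    rw [hmθ1] at hsplit'
    omega
  have hmμ : ∀ μ : IrrCharacter H, μ ≠ θ → m μ = 0 := by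
    intro μ hμ
    have h1 := (Finset.sum_eq_zero_iff.mp hrest) μ (Finset.mem_erase.mpr ⟨hμ, Finset.mem_univ _⟩)
    rcases Nat.mul_eq_zero.mp h1 with h | h
    · exact h
    · exact absurd h (irr_charDegree_pos μ).ne'
  rw [hdec, Finset.sum_eq_single θ]
  · rw [hmθ1, Nat.cast_one, one_smul]
  · intro μ _ hμ
    rw [hmμ μ hμ, Nat.cast_zero, zero_smul]
  · intro h
    exact absurd (Finset.mem_univ _) h

/-- An irreducible character of degree prime to `p` restricts irreducibly to a normal subgroup of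
`p`-power index. -/
theorem restrict_irr_of_not_dvd {G : Type u} [Group G] [Fintype G] (p k : ℕ) (hp : p.Prime)
    (N : Subgroup G) [N.Normal] [Fintype N] (hidx : N.index = p ^ k) (χ : IrrCharacter G)
    (hχ : ¬ p ∣ charDegree (χ : G → ℂ)) : IsIrrCharacter N (fun n : N => (χ : G → ℂ) n) := by
  classical
  obtain ⟨θ, hθ, hne⟩ := Cfsg.Agent.Lib.Helper79.exists_irr_constituent_restrict N χ.2
  have h1 := Cfsg.Agent.S0887.result N (χ : G → ℂ) χ.2 θ hθ hne _ _
    (irr_charDegree_cast χ).symm (irr_charDegree_cast (⟨θ, hθ⟩ : IrrCharacter N)).symm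
  obtain ⟨hdc, hq⟩ := h1
  set c := charDegree (χ : G → ℂ) with hc
  set d := charDegree θ with hd
  have hd0 : 0 < d := irr_charDegree_pos (⟨θ, hθ⟩ : IrrCharacter N)
  rw [hidx] at hq
  obtain ⟨j, -, hj⟩ := (Nat.dvd_prime_pow hp).1 hq
  have hj0 : j = 0 := by
    by_contra hj0
    apply hχ
    have h2 : p ∣ c / d := by
      rw [hj]
      exact dvd_pow_self p hj0
    exact dvd_trans h2 (Nat.div_dvd_of_dvd hdc)
  rw [hj0, pow_zero] at hj
  have hcd : c = d := by
    have := Nat.div_mul_cancel hdc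
    rw [hj, one_mul] at this
    exact this.symm
  have hres : IsCharacter N (fun n : N => (χ : G → ℂ) n) :=
    Cfsg.Agent.Lib.Helper3.IsCharacter.restrict
      (Cfsg.Agent.Lib.Helper3.IsIrrCharacter.isCharacter χ.2) N
  have heq := eq_of_constituent_of_degree_eq hres (⟨θ, hθ⟩ : IrrCharacter N) hne (by
    show (χ : G → ℂ) ((1 : N) : G) = θ 1
    have h5 : θ 1 = ((d : ℕ) : ℂ) := (irr_charDegree_cast (⟨θ, hθ⟩ : IrrCharacter N)).symm
    rw [Subgroup.coe_one, ← irr_charDegree_cast χ, h5]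
    show ((c : ℕ) : ℂ) = ((d : ℕ) : ℂ)
    rw [hcd])
  rw [heq]
  exact hθ

end Restrict

section OneDegree

variable {G : Type u} [Group G] [Finite G]

/-- If `G` is not nilpotent, `N` is a normal `p`-complement and `G` has at most one irreducible
character of degree divisible by `p`, then `G / N` is abelian. -/
theorem quotient_comm_of_one_p_degree (p : ℕ) [hp : Fact p.Prime] (hnil : ¬ Group.IsNilpotent G)
    (N : Subgroup G) [hN : N.Normal] (k : ℕ) (hidx : N.index = p ^ k)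
    (hone : ∀ χ ψ : IrrCharacter G, p ∣ charDegree (χ : G → ℂ) → p ∣ charDegree (ψ : G → ℂ) →
      χ = ψ) :
    ∀ a b : G, a * b * a⁻¹ * b⁻¹ ∈ N := by
  classical
  have := Fintype.ofFinite G
  have := Fintype.ofFinite N
  have := Fintype.ofFinite (G ⧸ N)
  apply comm_mem_of_quotient_linear N
  intro β
  by_contra hβ
  -- the degree of β
  obtain ⟨n, hn1, hndvd, hn0⟩ := Cfsg.Agent.Lib.Helper3.IsIrrCharacter.apply_one_dvd_card β.2
  rw [← Subgroup.index_eq_card, hidx] at hndvd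
  obtain ⟨j, -, hj⟩ := (Nat.dvd_prime_pow hp.out).1 hndvd
  have hj0 : j ≠ 0 := by
    intro h0
    apply hβ
    rw [hn1, hj, h0, pow_zero, Nat.cast_one]
  have hpn : p ∣ n := by
    rw [hj]
    exact dvd_pow_self p hj0
  -- the inflated character
  set χ₂ : IrrCharacter G := ⟨_, Cfsg.Agent.Lib.Helper79.isIrrCharacter_inflate N β.2⟩ with hχ₂
  have hχ₂app : ∀ g : G, (χ₂ : G → ℂ) g = (β : G ⧸ N → ℂ) (g : G ⧸ N) := fun g => rfl
  have hχ₂N : ∀ (m : N) (g : G), (χ₂ : G → ℂ) ((m : G) * g) = (χ₂ : G → ℂ) g := by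
    intro m g
    rw [hχ₂app, hχ₂app, QuotientGroup.mk_mul, (QuotientGroup.eq_one_iff (m : G)).2 m.2, one_mul]
  have hχ₂one : ∀ m : N, (χ₂ : G → ℂ) (m : G) = (n : ℂ) := by
    intro m
    rw [hχ₂app, (QuotientGroup.eq_one_iff (m : G)).2 m.2, hn1]
  have hχ₂deg : charDegree (χ₂ : G → ℂ) = n := by
    have h1 := irr_charDegree_cast χ₂
    rw [hχ₂app, QuotientGroup.mk_one, hn1] at h1
    exact_mod_cast h1
  have hχ₂p : p ∣ charDegree (χ₂ : G → ℂ) := by rw [hχ₂deg]; exact hpn
  have hnC : (n : ℂ) ≠ 0 := by exact_mod_cast hn0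
  -- N is trivial
  have hNbot : N = ⊥ := by
    by_contra hN1
    obtain ⟨m₀, hn₀1⟩ := (Subgroup.ne_bot_iff_exists_ne_one.mp hN1)
    obtain ⟨n₀, hn₀N⟩ := m₀
    have hex : ∃ θ : IrrCharacter N, (θ : N → ℂ) ⟨n₀, hn₀N⟩ ≠ (θ : N → ℂ) 1 := by
      by_contra h
      push Not at h
      have h1 := Cfsg.Agent.Lib.Helper79.isConj_of_forall_irr_eq h
      exact hn₀1 (isConj_one_left.mp h1)
    obtain ⟨θ, hθ⟩ := hex
    obtain ⟨χ, hχθ⟩ := Cfsg.Agent.S0966.exists_over N θ
    by_cases hχp : p ∣ charDegree (χ : G → ℂ)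
    · -- χ = χ₂
      have h1 : χ = χ₂ := hone χ χ₂ hχp hχ₂p
      apply hχθ
      rw [h1]
      have h2 : (fun m : N => (χ₂ : G → ℂ) m) = (n : ℂ) • ((trivIrr N : IrrCharacter N) : N → ℂ) := by
        funext m
        rw [hχ₂one m]
        show (n : ℂ) = (n : ℂ) * 1
        rw [mul_one]
      have hne : ((trivIrr N : IrrCharacter N) : N → ℂ) ≠ (θ : N → ℂ) := by
        intro h3
        apply hθ
        rw [← h3, trivIrr_apply, trivIrr_apply]
      rw [h2, Cfsg.Agent.Lib.Helper3.classInner_smul_left,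
        Cfsg.Agent.Lib.Helper3.classInner_irr (trivIrr N).2 θ.2, if_neg hne, mul_zero]
    · -- χ restricts irreducibly
      have hres := restrict_irr_of_not_dvd p k hp.out N hidx χ hχp
      have h1 : (fun m : N => (χ : G → ℂ) m) = (θ : N → ℂ) := by
        by_contra hne
        apply hχθ
        rw [Cfsg.Agent.Lib.Helper3.classInner_irr hres θ.2, if_neg hne]
      have hprod := Cfsg.Agent.Lib.Helper15.isIrrCharacter_mul_ext N χ.2 hres χ₂.2 hχ₂N
      have hdeg := irr_charDegree_cast (⟨_, hprod⟩ : IrrCharacter G)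
      have hdeg' : ((charDegree ((χ₂ : G → ℂ) * (χ : G → ℂ)) : ℕ) : ℂ) =
          ((n * charDegree (χ : G → ℂ) : ℕ) : ℂ) := by
        rw [hdeg]
        show (χ₂ : G → ℂ) 1 * (χ : G → ℂ) 1 = _
        rw [← irr_charDegree_cast χ, ← irr_charDegree_cast χ₂, hχ₂deg]
        push_cast
        rfl
      have hdeg'' : charDegree ((χ₂ : G → ℂ) * (χ : G → ℂ)) = n * charDegree (χ : G → ℂ) := by
        exact_mod_cast hdeg'
      have hp3 : p ∣ charDegree (((⟨_, hprod⟩ : IrrCharacter G)) : G → ℂ) := by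
        show p ∣ charDegree ((χ₂ : G → ℂ) * (χ : G → ℂ))
        rw [hdeg'']
        exact Dvd.dvd.mul_right hpn _
      have h3 : (⟨_, hprod⟩ : IrrCharacter G) = χ₂ := hone _ _ hp3 hχ₂p
      have h4 := congrArg (fun ψ : IrrCharacter G => (ψ : G → ℂ) (n₀ : G)) h3
      have h5 : (χ₂ : G → ℂ) n₀ * (χ : G → ℂ) n₀ = (χ₂ : G → ℂ) n₀ := h4
      rw [hχ₂one ⟨n₀, hn₀N⟩] at h5
      have h6 : (χ : G → ℂ) n₀ = 1 := by
        have : (n : ℂ) * (χ : G → ℂ) n₀ = (n : ℂ) * 1 := by rw [h5, mul_one]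
        exact mul_left_cancel₀ hnC this
      have h4' := congrArg (fun ψ : IrrCharacter G => (ψ : G → ℂ) 1) h3
      have h5' : (χ₂ : G → ℂ) 1 * (χ : G → ℂ) 1 = (χ₂ : G → ℂ) 1 := h4'
      have h7 : (χ₂ : G → ℂ) 1 = (n : ℂ) := by
        have := hχ₂one 1
        rwa [Subgroup.coe_one] at this
      rw [h7] at h5'
      have h6' : (χ : G → ℂ) 1 = 1 := by
        have : (n : ℂ) * (χ : G → ℂ) 1 = (n : ℂ) * 1 := by rw [h5', mul_one]
        exact mul_left_cancel₀ hnC this
      apply hθ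
      have h8 := congrFun h1 ⟨n₀, hn₀N⟩
      have h9 := congrFun h1 1
      simp only [Subgroup.coe_one] at h8 h9
      rw [← h8, ← h9, h6, h6']
  -- G is a p-group
  apply hnil
  have hcard : Nat.card G = p ^ k := by
    have h1 := Subgroup.card_mul_index N
    rw [hidx, hNbot, Subgroup.card_bot, one_mul] at h1
    exact h1.symm
  exact (IsPGroup.of_card hcard).isNilpotent

end OneDegree

end Cfsg.Agent.Lib.Helper80
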