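import Cfsg.Agent.Lib.Helper80.DetChar
import Cfsg.Agent.Lib.Helper80.Kernel
import Cfsg.Agent.Lib.Helper15.IrrCrit
import Cfsg.Agent.Lib.Helper3.OddOrder
import Cfsg.Agent.Lib.Helper3.Ortho
import Cfsg.Agent.Lib.Helper79.CliffordCorr
import Cfsg.Agent.Lib.Helper75.CliffordCorr
import Cfsg.Agent.Lib.Helper75.Twist
import Cfsg.Agent.Lib.Helper79.BG1
import Cfsg.Agent.Lib.Helper79.BG4
import Cfsg.Agent.Lib.Helper79.FaithfulIrr
import Cfsg.Agent.Lib.Helper25.Ind
import Cfsg.Agent.Lib.Helper76.PSolvable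
import Cfsg.Agent.S4713

set_option autoImplicit false
set_option linter.style.haveILetI false
set_option linter.unusedSectionVars false

/-!
# `p`-singular characters and abelian normal `p`-subgroups in `p`-solvable groups
-/

namespace Cfsg.Agent.Lib.Helper80

open Cfsg
open scoped ComplexConjugate

universe u

/-- A character of a `p`-group whose degree is prime to `p` has a linear constituent. -/
theorem exists_linear_constituent_of_pgroup {P : Type u} [Group P] [Fintype P] (p : ℕ)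
    [Fact p.Prime] (hP : IsPGroup p P) {χ : P → ℂ} (hχ : IsCharacter P χ) (d : ℕ)
    (hd : χ 1 = (d : ℂ)) (hpd : ¬ p ∣ d) :
    ∃ μ : P → ℂ, IsIrrCharacter P μ ∧ μ 1 = 1 ∧ classInner χ μ ≠ 0 := by
  classical
  haveI : Finite (IrrCharacter P) := Cfsg.Agent.Lib.Helper3.irrCharacter_finite
  have := Fintype.ofFinite (IrrCharacter P)
  obtain ⟨m, hm, hdec⟩ := Cfsg.Agent.Lib.Helper15.exists_nat_decomp hχ
  by_contra hcon
  push Not at hcon
  apply hpd
  have hdeg : ∀ ψ : IrrCharacter P, ∃ n : ℕ, (ψ : P → ℂ) 1 = n ∧ n ∣ Nat.card P := by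
    intro ψ
    obtain ⟨n, h1, h2, -⟩ := Cfsg.Agent.Lib.Helper3.IsIrrCharacter.apply_one_dvd_card ψ.2
    exact ⟨n, h1, h2⟩
  choose deg hdeg1 hdeg2 using hdeg
  have hsum : (d : ℂ) = ∑ ψ : IrrCharacter P, ((m ψ * deg ψ : ℕ) : ℂ) := by
    rw [← hd]
    conv_lhs => rw [hdec]
    rw [Finset.sum_apply]
    refine Finset.sum_congr rfl (fun ψ _ => ?_)
    rw [Pi.smul_apply, hdeg1, smul_eq_mul]
    push_cast
    rfl
  have hsum' : d = ∑ ψ : IrrCharacter P, m ψ * deg ψ := by exact_mod_cast hsum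
  rw [hsum']
  apply Finset.dvd_sum
  intro ψ _
  by_cases hm0 : m ψ = 0
  · simp [hm0]
  · have h1 : deg ψ ≠ 1 := by
      intro h1
      apply hm0
      have h2 := hcon ψ ψ.2 (by rw [hdeg1, h1]; simp)
      rw [hm ψ] at h2
      exact_mod_cast h2
    obtain ⟨k, hk⟩ := IsPGroup.iff_card.mp hP
    have h2 := hdeg2 ψ
    rw [hk] at h2
    obtain ⟨i, -, hi⟩ := (Nat.dvd_prime_pow Fact.out).1 h2
    have hi0 : i ≠ 0 := by
      rintro rfl
      exact h1 (by simpa using hi)
    exact Dvd.dvd.mul_left (hi ▸ dvd_pow_self p hi0) _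

/-- If an irreducible character `ψ` of degree prime to `p` restricts to a normal `p`-subgroup `N`
as a multiple of a linear character `lam`, then `lam` extends to a linear character of the
whole group (a power of the determinant). -/
theorem exists_linear_extension_of_coprime_degree {T : Type u} [Group T] [Finite T] (p : ℕ)
    [Fact p.Prime] (N : Subgroup T) (hN : IsPGroup p N) (lam : N →* ℂˣ) {ψ : T → ℂ}
    (hψ : IsIrrCharacter T ψ) (d : ℕ) (hd : ψ 1 = (d : ℂ)) (hpd : ¬ p ∣ d)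
    (hres : ∀ z : N, ψ z = (d : ℂ) * ((lam z : ℂˣ) : ℂ)) :
    ∃ φ : T →* ℂˣ, ∀ z : N, φ z = lam z := by
  obtain ⟨n, ρ, hirr, hρ⟩ := hψ
  have hn : d = n := by
    have h1 := Cfsg.Agent.Lib.Helper79.rep_character_one ρ
    rw [hρ, hd] at h1
    exact_mod_cast h1
  subst hn
  set k := Nat.card N with hk
  have hk0 : 0 < k := Nat.card_pos
  have hpowz : ∀ z : N, z ^ k = 1 := fun z => pow_card_eq_one'
  have hlamk : ∀ z : N, (lam z) ^ k = 1 := by
    intro z
    rw [← map_pow, hpowz, map_one]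
  have hscal : ∀ z : N, ρ z = ((lam z : ℂˣ) : ℂ) • LinearMap.id := by
    intro z
    apply rep_eq_smul_of_character ρ (z : T) _ k hk0
    · have := congrArg Subtype.val (hpowz z)
      simpa using this
    · have := congrArg Units.val (hlamk z)
      simpa using this
    · rw [hρ]
      exact hres z
  have hdet' : ∀ z : N, detHom ρ z = (lam z) ^ d := by
    intro z
    apply Units.ext
    rw [detHom_of_smul ρ z _ (hscal z)]
    simp
  obtain ⟨a, ha⟩ := IsPGroup.iff_card.mp hN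
  have hcop : Nat.Coprime d k := by
    rw [hk, ha]
    exact Nat.Coprime.pow_right a ((Nat.Prime.coprime_iff_not_dvd Fact.out).mpr hpd).symm
  rcases Nat.lt_or_ge 1 k with h1 | h1
  · obtain ⟨e, -, he⟩ := Nat.exists_mul_mod_eq_one_of_coprime hcop h1
    refine ⟨(detHom ρ) ^ e, fun z => ?_⟩
    rw [MonoidHom.pow_apply, hdet' z, ← pow_mul]
    conv_lhs => rw [← Nat.div_add_mod (d * e) k, pow_add, pow_mul, hlamk z, one_pow, one_mul, he,
      pow_one]
  · have hk1 : k = 1 := by omega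
    refine ⟨1, fun z => ?_⟩
    have hz := hlamk z
    rw [hk1, pow_one] at hz
    rw [hz]
    rfl


/-- **Relative Itô–Michler, special case.**  Let `G` be `p`-solvable and `N` a non-trivial abelian
normal `p`-subgroup such that every irreducible character of `G` of degree divisible by `p` has
`N` in its kernel.  Then the Sylow `p`-subgroups of `G / N` are abelian. -/
theorem comm_mem_of_psingular_kernel {G : Type u} [Group G] [Finite G] (p : ℕ) [Fact p.Prime]
    (hG : IsPSolvable p G) (N : Subgroup G) [hNn : N.Normal] (hNp : IsPGroup p N)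
    (hN1 : N ≠ ⊥)
    (hyp : ∀ χ : IrrCharacter G, p ∣ charDegree (χ : G → ℂ) →
      ∀ x ∈ N, (χ : G → ℂ) x = (χ : G → ℂ) 1)
    (P : Sylow p G) :
    ∀ x ∈ (P : Subgroup G), ∀ y ∈ (P : Subgroup G), x * y * x⁻¹ * y⁻¹ ∈ N := by
  classical
  have hp : p.Prime := Fact.out
  have := Fintype.ofFinite G
  have hNP : N ≤ (P : Subgroup G) := hNp.le_sylow_of_normal P
  -- a character not containing `N` in its kernel
  obtain ⟨z, hzN, hz1⟩ : ∃ z ∈ N, z ≠ 1 := by
    by_contra h
    push Not at h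
    exact hN1 ((Subgroup.eq_bot_iff_forall N).mpr h)
  obtain ⟨n₀, ρ₀, hirr₀, hρ₀⟩ := Cfsg.Agent.Lib.Helper79.exists_irr_rep_not_mem_ker hz1
  set χ : IrrCharacter G := ⟨ρ₀.character, n₀, ρ₀, hirr₀, rfl⟩ with hχdef
  have hχz : (χ : G → ℂ) z ≠ (χ : G → ℂ) 1 := by
    intro h
    apply hρ₀
    have h1 := (Cfsg.Agent.Lib.Helper79.rep_mem_ker_iff ρ₀ z).mpr h
    exact MonoidHom.mem_ker.mp h1
  have hpχ : ¬ p ∣ charDegree (χ : G → ℂ) := fun h => hχz (hyp χ h z hzN)
  -- a linear constituent of the restriction to `P`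
  have := Fintype.ofFinite (P : Subgroup G)
  have hχP : IsCharacter (P : Subgroup G) (fun x : (P : Subgroup G) => (χ : G → ℂ) x) :=
    Cfsg.Agent.Lib.Helper79.isCharacter_restrict
      (Cfsg.Agent.Lib.Helper3.IsIrrCharacter.isCharacter χ.2) _
  obtain ⟨μ, hμ, hμ1, hμc⟩ := exists_linear_constituent_of_pgroup p P.isPGroup' hχP
    (charDegree (χ : G → ℂ)) (irr_charDegree_cast χ).symm hpχ
  obtain ⟨φμ, hφμ⟩ := Cfsg.Agent.Lib.Helper79.exists_monoidHom_of_isCharacter_of_one
    (Cfsg.Agent.Lib.Helper3.IsIrrCharacter.isCharacter hμ) hμ1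
  -- its restriction to `N`
  let lamH : N →* ℂˣ := φμ.comp (Subgroup.inclusion hNP)
  set lam : N → ℂ := fun n => ((lamH n : ℂˣ) : ℂ) with hlam
  have hlamirr : IsIrrCharacter N lam := Cfsg.Agent.Lib.Helper79.isIrrCharacter_of_monoidHom lamH
  have hlamμ : ∀ n : N, lam n = μ (Subgroup.inclusion hNP n) := fun n => (hφμ _).symm
  have := Fintype.ofFinite N
  obtain ⟨Δ, hΔ, hdec⟩ := Cfsg.Agent.Lib.Helper79.exists_character_compl hχP hμ hμc
  have hΔN : IsCharacter N (fun n : N => Δ (Subgroup.inclusion hNP n)) :=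
    Cfsg.Agent.Lib.Helper79.isCharacter_comp hΔ (Subgroup.inclusion hNP)
  have hχN : (fun n : N => (χ : G → ℂ) n) = lam + (fun n : N => Δ (Subgroup.inclusion hNP n)) := by
    funext n
    have h1 := congrFun hdec (Subgroup.inclusion hNP n)
    simp only [Pi.add_apply] at h1 ⊢
    rw [hlamμ n]
    exact h1
  have hcon : classInner (fun n : N => (χ : G → ℂ) n) lam ≠ 0 := by
    rw [hχN, Cfsg.Agent.Lib.Helper3.classInner_add_left,
      Cfsg.Agent.Lib.Helper3.classInner_irr hlamirr hlamirr, if_pos rfl]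
    obtain ⟨m, hm⟩ := Cfsg.Agent.Lib.Helper15.exists_nat_classInner hΔN
      (Cfsg.Agent.Lib.Helper3.IsIrrCharacter.isCharacter hlamirr)
    rw [hm]
    have : ((1 + m : ℕ) : ℂ) ≠ 0 := Nat.cast_ne_zero.mpr (by omega)
    simpa using this
  have hlam1 : lam ≠ fun _ => (1 : ℂ) := by
    intro h
    rw [h] at hcon
    exact hχz (Cfsg.Agent.Lib.Helper79.restrict_const_of_trivial_constituent N χ.2 hcon z hzN)
  -- the inertia group
  set T : Subgroup G := Cfsg.Agent.Lib.Helper79.inertia N lam with hTdef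
  have hNT : N ≤ T := Cfsg.Agent.Lib.Helper79.le_inertia N
    (Cfsg.Agent.Lib.Helper3.IsCharacter.isClassFunction
      (Cfsg.Agent.Lib.Helper3.IsIrrCharacter.isCharacter hlamirr))
  have hPT : (P : Subgroup G) ≤ T := by
    intro x hx
    rw [hTdef, Cfsg.Agent.Lib.Helper79.mem_inertia]
    funext n
    rw [Cfsg.Agent.Lib.Helper75.conjFun_apply, hlamμ, hlamμ]
    have hcf := Cfsg.Agent.Lib.Helper3.IsCharacter.isClassFunction
      (Cfsg.Agent.Lib.Helper3.IsIrrCharacter.isCharacter hμ)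
    have h1 := hcf (Subgroup.inclusion hNP n) ⟨x, hx⟩
    rw [← h1]
    congr 1
  have hT : ∀ g : G, g ∈ T ↔ ∀ h : N, lam ⟨g * h * g⁻¹, hNn.conj_mem h h.2 g⟩ = lam h := by
    intro g
    rw [hTdef, Cfsg.Agent.Lib.Helper79.mem_inertia]
    constructor
    · intro h n
      have := congrFun h n
      rwa [Cfsg.Agent.Lib.Helper75.conjFun_apply] at this
    · intro h
      funext n
      rw [Cfsg.Agent.Lib.Helper75.conjFun_apply]
      exact h n
  have := Fintype.ofFinite T
  obtain ⟨ψ, hψ, hχψ, f, hf⟩ := Cfsg.Agent.Lib.Helper79.clifford_correspondence N χ.2 hlamirr hcon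
  obtain ⟨d, hd1, -, -⟩ := Cfsg.Agent.Lib.Helper3.IsIrrCharacter.apply_one_dvd_card hψ
  have hfd : f = (d : ℂ) := by
    have h1 := hf 1
    have h2 : lam 1 = 1 := by simp [hlam]
    rw [h2, mul_one] at h1
    rw [← h1, ← hd1]
    rfl
  have hdeg : charDegree (χ : G → ℂ) = T.index * d := by
    have h1 : (χ : G → ℂ) 1 = (T.index : ℂ) * ψ 1 := by
      conv_lhs => rw [show (χ : G → ℂ) = indFun T ψ from hχψ]
      exact Cfsg.Agent.Lib.Helper75.indFun_apply_one T ψ
    rw [hd1, ← irr_charDegree_cast χ] at h1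
    exact_mod_cast h1
  have hpd : ¬ p ∣ d := fun h => hpχ (hdeg ▸ Dvd.dvd.mul_left h _)
  -- extend `lam` to a linear character of `T`
  set N' : Subgroup T := N.subgroupOf T with hN'
  have hN'p : IsPGroup p N' := hNp.comap_subtype
  let lam' : N' →* ℂˣ := lamH.comp (Subgroup.subgroupOfEquivOfLe hNT).toMonoidHom
  have hlam' : ∀ z : N', ((lam' z : ℂˣ) : ℂ) = lam ⟨((z : T) : G), Subgroup.mem_subgroupOf.mp z.2⟩ :=
    fun z => rfl
  have hres : ∀ z : N', ψ z = (d : ℂ) * ((lam' z : ℂˣ) : ℂ) := by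
    intro z
    rw [hlam', ← hfd, ← hf ⟨((z : T) : G), Subgroup.mem_subgroupOf.mp z.2⟩]
  obtain ⟨φ, hφ⟩ := exists_linear_extension_of_coprime_degree p N' hN'p lam' hψ d hd1 hpd hres
  set φ' : T → ℂ := fun t => ((φ t : ℂˣ) : ℂ) with hφ'
  have hφ'irr : IsIrrCharacter T φ' := Cfsg.Agent.Lib.Helper79.isIrrCharacter_of_monoidHom φ
  have hφ'1 : φ' 1 = 1 := by simp [hφ']
  have hrirr : IsIrrCharacter N' (Cfsg.Agent.Lib.Helper75.resSub N T lam) :=
    Cfsg.Agent.Lib.Helper75.isIrrCharacter_resSub hNT hlamirr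
  have hr1 : Cfsg.Agent.Lib.Helper75.resSub N T lam ≠ fun _ => (1 : ℂ) := by
    intro h
    apply hlam1
    funext n
    have := congrFun h ⟨⟨(n : G), hNT n.2⟩, Subgroup.mem_subgroupOf.mpr n.2⟩
    exact this
  have := Fintype.ofFinite N'
  -- every irreducible character of `T / N` has degree prime to `p`
  have hall : ∀ β : IrrCharacter (T ⧸ N'), ¬ p ∣ charDegree (β : T ⧸ N' → ℂ) := by
    intro β hpβ
    have hβT : IsIrrCharacter T (fun t : T => (β : T ⧸ N' → ℂ) (t : T ⧸ N')) :=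
      Cfsg.Agent.Lib.Helper79.isIrrCharacter_inflate N' β.2
    have hη : IsIrrCharacter T ((fun t : T => (β : T ⧸ N' → ℂ) (t : T ⧸ N')) * φ') :=
      Cfsg.Agent.Lib.Helper75.isIrrCharacter_mul_of_linear
        (Cfsg.Agent.Lib.Helper3.IsIrrCharacter.isCharacter hφ'irr) hφ'1 hβT
    set η : T → ℂ := (fun t : T => (β : T ⧸ N' → ℂ) (t : T ⧸ N')) * φ' with hηdef
    set b : ℕ := charDegree (β : T ⧸ N' → ℂ) with hb
    have hb1 : (β : T ⧸ N' → ℂ) 1 = (b : ℂ) := (irr_charDegree_cast β).symm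
    have hbpos : 0 < b := irr_charDegree_pos β
    have hηN : (fun h : N' => η h) = (b : ℂ) • Cfsg.Agent.Lib.Helper75.resSub N T lam := by
      funext h
      have h1 : ((h : T) : T ⧸ N') = 1 := (QuotientGroup.eq_one_iff _).mpr h.2
      simp only [hηdef, Pi.mul_apply, Pi.smul_apply, smul_eq_mul, h1, hb1]
      congr 1
      show ((φ (h : T) : ℂˣ) : ℂ) = _
      rw [hφ h]
      rfl
    have hc : classInner (indFun N' (Cfsg.Agent.Lib.Helper75.resSub N T lam)) η ≠ 0 := by
      rw [Cfsg.Agent.Lib.Helper25.frobenius_reciprocity N' _ η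
        (Cfsg.Agent.Lib.Helper3.IsCharacter.isClassFunction
          (Cfsg.Agent.Lib.Helper3.IsIrrCharacter.isCharacter hη)), hηN,
        Cfsg.Agent.Lib.Helper3.classInner_smul_right,
        Cfsg.Agent.Lib.Helper3.classInner_irr hrirr hrirr, if_pos rfl, mul_one]
      simpa using hbpos.ne'
    have hind := (Cfsg.Agent.Lib.Helper75.clifford_corr_induction N T lam hlamirr hT hNT η η hη hη
      hc hc).1
    have hinddeg : charDegree (indFun T η) = T.index * b := by
      have h1 : indFun T η 1 = (T.index : ℂ) * η 1 :=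
        Cfsg.Agent.Lib.Helper75.indFun_apply_one T η
      have h2 : η 1 = (b : ℂ) := by
        simp only [hηdef, Pi.mul_apply, hφ'1, mul_one]
        exact hb1
      rw [h2] at h1
      unfold charDegree
      rw [h1]
      have h5 : ((T.index : ℂ) * (b : ℂ)).re = ((T.index * b : ℕ) : ℝ) := by simp
      rw [h5]
      exact Nat.floor_natCast _
    have hker := hyp ⟨indFun T η, hind⟩ (by
      show p ∣ charDegree (indFun T η)
      rw [hinddeg]
      exact Dvd.dvd.mul_left hpβ _)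
    -- restrict the induced character to `T`
    have hΨ : IsCharacter T (fun t : T => indFun T η t) :=
      Cfsg.Agent.Lib.Helper79.isCharacter_restrict
        (Cfsg.Agent.Lib.Helper3.IsIrrCharacter.isCharacter hind) T
    have hΨη : classInner (fun t : T => indFun T η t) η ≠ 0 := by
      have h1 := Cfsg.Agent.Lib.Helper25.frobenius_reciprocity T η (indFun T η)
        (Cfsg.Agent.Lib.Helper3.IsCharacter.isClassFunction
          (Cfsg.Agent.Lib.Helper3.IsIrrCharacter.isCharacter hind))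
      rw [Cfsg.Agent.Lib.Helper3.classInner_irr hind hind, if_pos rfl] at h1
      rw [Cfsg.Agent.Lib.Helper3.classInner_conj_symm, ← h1]
      simp
    obtain ⟨Δ', hΔ', hdec'⟩ := Cfsg.Agent.Lib.Helper79.exists_character_compl hΨ hη hΨη
    have hΔ'N : IsCharacter N' (fun h : N' => Δ' h) :=
      Cfsg.Agent.Lib.Helper79.isCharacter_restrict hΔ' N'
    obtain ⟨m, hm⟩ := Cfsg.Agent.Lib.Helper15.exists_nat_classInner hΔ'N
      (Cfsg.Agent.Lib.Helper3.IsIrrCharacter.isCharacter hrirr)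
    have hΔ'eq : (fun h : N' => Δ' h) = (indFun T η 1) • (fun _ : N' => (1 : ℂ)) -
        (b : ℂ) • Cfsg.Agent.Lib.Helper75.resSub N T lam := by
      funext h
      have h1 := congrFun hdec' (h : T)
      have h2 := congrFun hηN h
      simp only [Pi.add_apply] at h1
      simp only [Pi.smul_apply, smul_eq_mul] at h2
      simp only [Pi.sub_apply, Pi.smul_apply, smul_eq_mul, mul_one]
      have h3 : indFun T η ((h : T) : G) = indFun T η 1 :=
        hker _ (Subgroup.mem_subgroupOf.mp h.2)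
      have h1' : indFun T η ((h : T) : G) = η (h : T) + Δ' (h : T) := h1
      linear_combination (-1 : ℂ) * h1' + h3 - h2
    rw [hΔ'eq, Cfsg.Agent.Lib.Helper3.classInner_sub_left,
      Cfsg.Agent.Lib.Helper3.classInner_smul_left, Cfsg.Agent.Lib.Helper3.classInner_smul_left,
      Cfsg.Agent.Lib.Helper3.classInner_irr Cfsg.Agent.Lib.Helper3.isIrrCharacter_one hrirr,
      if_neg (fun h => hr1 h.symm), Cfsg.Agent.Lib.Helper3.classInner_irr hrirr hrirr, if_pos rfl,
      mul_zero, mul_one, zero_sub] at hm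
    have h3 : ((b + m : ℕ) : ℂ) = 0 := by
      push_cast
      rw [← hm]
      ring
    have h4 : b + m = 0 := by exact_mod_cast h3
    omega
  -- apply Itô–Michler to `T / N`
  have hsolvQ : IsPSolvable p (T ⧸ N') :=
    Cfsg.Agent.Lib.Helper76.isPSolvable_quotient N' (Cfsg.Agent.Lib.Helper76.isPSolvable_subgroup T hG)
  have hP' : IsPGroup p (((P : Subgroup G).subgroupOf T).map (QuotientGroup.mk' N')) :=
    (P.isPGroup'.comap_subtype).map _
  obtain ⟨Q, hQ⟩ := hP'.exists_le_sylow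
  have hQab := ((Cfsg.Agent.S4713.result p hsolvQ Q).mpr hall).2
  intro x hx y hy
  have hxQ : (QuotientGroup.mk' N' ⟨x, hPT hx⟩) ∈ (Q : Subgroup (T ⧸ N')) :=
    hQ (Subgroup.mem_map_of_mem _ (Subgroup.mem_subgroupOf.mpr hx))
  have hyQ : (QuotientGroup.mk' N' ⟨y, hPT hy⟩) ∈ (Q : Subgroup (T ⧸ N')) :=
    hQ (Subgroup.mem_map_of_mem _ (Subgroup.mem_subgroupOf.mpr hy))
  have hcomm : (QuotientGroup.mk' N' ⟨x, hPT hx⟩) * (QuotientGroup.mk' N' ⟨y, hPT hy⟩) =
      (QuotientGroup.mk' N' ⟨y, hPT hy⟩) * (QuotientGroup.mk' N' ⟨x, hPT hx⟩) := by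
    have := hQab.is_comm.comm ⟨_, hxQ⟩ ⟨_, hyQ⟩
    exact congrArg Subtype.val this
  have h5 : (QuotientGroup.mk' N' (⟨x, hPT hx⟩ * ⟨y, hPT hy⟩ * ⟨x, hPT hx⟩⁻¹ * ⟨y, hPT hy⟩⁻¹)) = 1 := by
    rw [map_mul, map_mul, map_mul, map_inv, map_inv, hcomm]
    group
  have h6 := (QuotientGroup.eq_one_iff _).mp h5
  exact Subgroup.mem_subgroupOf.mp h6

end Cfsg.Agent.Lib.Helper80
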