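import Mathlib
import Cfsg.Agent.Lib.Helper90.PsuDefs

set_option autoImplicit false

/-!
# Psu hive (S2412), leaf PSU-X: the core `x_main` (taking the statements of the leaves
PSU-SING `exists_twisted_singer` and PSU-PRE `exists_suGL_of_basis` as hypotheses).
-/

namespace Cfsg.Agent.Lib.Helper90.Psu

open Matrix Cfsg.Agent.Lib.Helper99 Cfsg.Agent.Lib.Helper13

variable {F : Type*} [Field F] [Fintype F] {q n : ℕ}

local notation "hh" => Cfsg.hermForm n F q

theorem x_herm_sum_left {α : Type*} (s : Finset α) (c : α → F) (u : α → Fin n → F)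
    (v : Fin n → F) : hh (∑ i ∈ s, c i • u i) v = ∑ i ∈ s, c i * hh (u i) v := by
  classical
  induction s using Finset.induction_on with
  | empty => simp [hermForm_zero_left]
  | insert a s ha ih =>
    rw [Finset.sum_insert ha, Finset.sum_insert ha, hermForm_add_left, hermForm_smul_left, ih]

theorem x_herm_sum_right (hF : Fintype.card F = q ^ 2) {α : Type*} (s : Finset α) (c : α → F)
    (v : α → Fin n → F) (u : Fin n → F) :
    hh u (∑ i ∈ s, c i • v i) = ∑ i ∈ s, c i ^ q * hh u (v i) := by
  classical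
  induction s using Finset.induction_on with
  | empty => simp [hermForm_zero_right hF]
  | insert a s ha ih =>
    rw [Finset.sum_insert ha, Finset.sum_insert ha, hermForm_add_right hF, hermForm_smul_right, ih]

theorem x_herm_sum_sum (hF : Fintype.card F = q ^ 2) {α β : Type*} [Fintype α] [Fintype β]
    (c : α → F) (u : α → Fin n → F) (d : β → F) (v : β → Fin n → F) :
    hh (∑ i, c i • u i) (∑ j, d j • v j) = ∑ i, ∑ j, c i * d j ^ q * hh (u i) (v j) := by
  rw [x_herm_sum_left]
  refine Finset.sum_congr rfl fun i _ => ?_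
  rw [x_herm_sum_right hF, Finset.mul_sum]
  refine Finset.sum_congr rfl fun j _ => ?_
  ring

/-- the standard basis vector `ε_{2m+j}`, `j < k`, `n = 2m + k`. -/
def x_eps {m k : ℕ} (hn : n = 2 * m + k) (j : Fin k) : Fin n → F :=
  Pi.single ⟨2 * m + j.val, by have := j.isLt; omega⟩ 1

/-- PSU-X, construction step. -/
theorem x_core (hF : Fintype.card F = q ^ 2) {m : ℕ} (C : WittCfg q n m F) (k : ℕ)
    (hn : n = 2 * m + k)
    (A A' : Matrix (Fin m) (Fin m) F) (hAA' : Aᵀ * A'.map (· ^ q) = 1)
    (R : Matrix (Fin k) (Fin k) F) (hRdet : R.det = A.det ^ q / A.det)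
    (hRu : ∀ i j, ∑ l, R l i * R l j ^ q = if i = j then 1 else 0)
    (hpre : ∀ {ι : Type} [Fintype ι] [DecidableEq ι] (b : ι → (Fin n → F))
      (_ : LinearIndependent F b) (_ : Fintype.card ι = n) (X : Matrix ι ι F) (_ : X.det = 1)
      (_ : ∀ i j, hh (∑ k, X k i • b k) (∑ k, X k j • b k) = hh (b i) (b j)),
      ∃ g : GL (Fin n) F, g ∈ suGL (F := F) n q ∧
        ∀ j, (g : Matrix (Fin n) (Fin n) F) *ᵥ b j = ∑ k, X k j • b k) :
    ∃ x : GL (Fin n) F, x ∈ suGL (F := F) n q ∧
      (∀ i, (x : Matrix (Fin n) (Fin n) F) *ᵥ C.e i = ∑ l, A l i • C.e l) ∧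
      (∀ i, (x : Matrix (Fin n) (Fin n) F) *ᵥ C.f i = ∑ l, A' l i • C.f l) ∧
      (∀ j : Fin k, (x : Matrix (Fin n) (Fin n) F) *ᵥ (x_eps hn j) =
        ∑ l : Fin k, R l j • x_eps hn l) := by
  classical
  have hq : q ≠ 0 := by have := q_ge_two hF; omega
  -- Gram facts
  have heε : ∀ i l, hh (C.e i) (x_eps hn l) = 0 := by
    intro i l
    rw [x_eps, hermForm_single_right hF]
    have := i.isLt
    exact (C.supp i _ (by simp only; omega) (by simp only; omega)).1
  have hfε : ∀ i l, hh (C.f i) (x_eps hn l) = 0 := by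
    intro i l
    rw [x_eps, hermForm_single_right hF]
    have := i.isLt
    exact (C.supp i _ (by simp only; omega) (by simp only; omega)).2
  have hεe : ∀ l i, hh (x_eps hn l) (C.e i) = 0 := fun l i => hermForm_eq_zero_comm hF (heε i l)
  have hεf : ∀ l i, hh (x_eps hn l) (C.f i) = 0 := fun l i => hermForm_eq_zero_comm hF (hfε i l)
  have hfe : ∀ i j, hh (C.f i) (C.e j) = if i = j then 1 else 0 := by
    intro i j
    rw [← hermForm_conj hF, C.hef]
    by_cases h : i = j
    · subst h; simp
    · rw [if_neg h, if_neg (fun h' => h h'.symm), zero_pow hq]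
  have hεε : ∀ l l', hh (x_eps hn l) (x_eps hn l') = if l = l' then 1 else 0 := by
    intro l l'
    rw [x_eps, x_eps, hermForm_single_right hF]
    by_cases h : l = l'
    · subst h; simp
    · rw [if_neg h, Pi.single_apply, if_neg]
      intro h'
      apply h
      have := congrArg Fin.val h'
      simp only at this
      exact Fin.ext (by omega)
  -- the basis and the matrix
  let b : Fin m ⊕ (Fin m ⊕ Fin k) → (Fin n → F) := Sum.elim C.e (Sum.elim C.f (x_eps hn))
  let X : Matrix (Fin m ⊕ (Fin m ⊕ Fin k)) (Fin m ⊕ (Fin m ⊕ Fin k)) F :=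
    fromBlocks A 0 0 (fromBlocks A' 0 0 R)
  have hcolE : ∀ i, ∑ t, X t (Sum.inl i) • b t = ∑ l, A l i • C.e l := by
    intro i; simp [X, b, Fintype.sum_sum_type]
  have hcolF : ∀ i, ∑ t, X t (Sum.inr (Sum.inl i)) • b t = ∑ l, A' l i • C.f l := by
    intro i; simp [X, b, Fintype.sum_sum_type]
  have hcolR : ∀ j, ∑ t, X t (Sum.inr (Sum.inr j)) • b t = ∑ l, R l j • x_eps hn l := by
    intro j; simp [X, b, Fintype.sum_sum_type]
  have hEE : ∀ i j, hh (∑ l, A l i • C.e l) (∑ l, A l j • C.e l) = 0 := by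
    intro i j; rw [x_herm_sum_sum hF]; simp [C.hee]
  have hFF : ∀ i j, hh (∑ l, A' l i • C.f l) (∑ l, A' l j • C.f l) = 0 := by
    intro i j; rw [x_herm_sum_sum hF]; simp [C.hff]
  have hEF : ∀ i j, hh (∑ l, A l i • C.e l) (∑ l, A' l j • C.f l) = if i = j then 1 else 0 := by
    intro i j
    rw [x_herm_sum_sum hF]
    simp only [C.hef, mul_ite, mul_one, mul_zero, Finset.sum_ite_eq, Finset.mem_univ, if_true]
    have := congrFun (congrFun hAA' i) j
    simp only [Matrix.mul_apply, Matrix.transpose_apply, Matrix.map_apply, Matrix.one_apply] at this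
    exact this
  have hER : ∀ i j, hh (∑ l, A l i • C.e l) (∑ l, R l j • x_eps hn l) = 0 := by
    intro i j; rw [x_herm_sum_sum hF]; simp [heε]
  have hFR : ∀ i j, hh (∑ l, A' l i • C.f l) (∑ l, R l j • x_eps hn l) = 0 := by
    intro i j; rw [x_herm_sum_sum hF]; simp [hfε]
  have hRR : ∀ i j, hh (∑ l, R l i • x_eps hn l) (∑ l, R l j • x_eps hn l) =
      if i = j then 1 else 0 := by
    intro i j
    rw [x_herm_sum_sum hF]
    simp only [hεε, mul_ite, mul_one, mul_zero, Finset.sum_ite_eq, Finset.mem_univ, if_true]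
    exact hRu i j
  have hflip : ∀ {α : Type} [DecidableEq α] (i j : α),
      ((if j = i then (1 : F) else 0) ^ q) = if i = j then 1 else 0 := by
    intro α _ i j
    by_cases h : i = j
    · subst h; simp
    · rw [if_neg h, if_neg (fun h' => h h'.symm), zero_pow hq]
  have hX : ∀ s t, hh (∑ r, X r s • b r) (∑ r, X r t • b r) = hh (b s) (b t) := by
    rintro (i | i | l) (j | j | l')
    · rw [hcolE, hcolE, hEE]; exact (C.hee i j).symm
    · rw [hcolE, hcolF, hEF]; exact (C.hef i j).symm
    · rw [hcolE, hcolR, hER]; exact (heε i l').symm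
    · rw [hcolF, hcolE, ← hermForm_conj hF, hEF, hflip]; exact (hfe i j).symm
    · rw [hcolF, hcolF, hFF]; exact (C.hff i j).symm
    · rw [hcolF, hcolR, hFR]; exact (hfε i l').symm
    · rw [hcolR, hcolE, ← hermForm_conj hF, hER, zero_pow hq]; exact (hεe l j).symm
    · rw [hcolR, hcolF, ← hermForm_conj hF, hFR, zero_pow hq]; exact (hεf l j).symm
    · rw [hcolR, hcolR, hRR]; exact (hεε l l').symm
  -- determinant
  have hdet : X.det = 1 := by
    have hmap : A'.map (· ^ q) = (frobU hF).mapMatrix A' := by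
      ext i j; simp [frobU_apply]
    have h1 : A.det * A'.det ^ q = 1 := by
      have := congrArg Matrix.det hAA'
      rw [Matrix.det_mul, Matrix.det_transpose, hmap, ← RingHom.map_det, frobU_apply,
        Matrix.det_one] at this
      exact this
    have hδ : A.det ≠ 0 := fun h => by rw [h, zero_mul] at h1; exact zero_ne_one h1
    have h2 : A'.det = (A.det ^ q)⁻¹ := by
      have h3 : A'.det ^ q = A.det⁻¹ := eq_inv_of_mul_eq_one_right h1
      rw [← pow_q_pow_q hF A'.det, h3, inv_pow]
    simp only [X]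
    rw [Matrix.det_fromBlocks_zero₂₁, Matrix.det_fromBlocks_zero₂₁, hRdet, h2]
    have : A.det ^ q ≠ 0 := pow_ne_zero _ hδ
    field_simp
  have hcard : Fintype.card (Fin m ⊕ (Fin m ⊕ Fin k)) = n := by
    simp only [Fintype.card_sum, Fintype.card_fin]; omega
  have hb : LinearIndependent F b := by
    rw [Fintype.linearIndependent_iff]
    intro g hg
    have key : ∀ w : Fin n → F, ∑ s, g s * hh (b s) w = 0 := by
      intro w; rw [← x_herm_sum_left, hg, hermForm_zero_left]
    rintro (i | i | l)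
    · have := key (C.f i)
      simpa [Fintype.sum_sum_type, b, C.hef, C.hff, hεf] using this
    · have := key (C.e i)
      simpa [Fintype.sum_sum_type, b, C.hee, hfe, hεe] using this
    · have := key (x_eps hn l)
      simpa [Fintype.sum_sum_type, b, heε, hfε, hεε] using this
  obtain ⟨x, hxS, hx⟩ := hpre b hb hcard X hdet hX
  refine ⟨x, hxS, fun i => ?_, fun i => ?_, fun j => ?_⟩
  · have := hx (Sum.inl i); rw [hcolE] at this; exact this
  · have := hx (Sum.inr (Sum.inl i)); rw [hcolF] at this; exact this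
  · have := hx (Sum.inr (Sum.inr j)); rw [hcolR] at this; exact this

end Cfsg.Agent.Lib.Helper90.Psu
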