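import Mathlib
import Cfsg.Agent.Lib.Helper80.PsuXcore

set_option autoImplicit false

/-!
# Psu hive (S2412), leaf PSU-X: `x_main` = the statement of `exists_x` from the statements of
PSU-SING `exists_twisted_singer` and PSU-PRE `exists_suGL_of_basis` (as hypotheses).
-/

namespace Cfsg.Agent.Lib.Helper90.Psu

open Matrix Cfsg.Agent.Lib.Helper99 Cfsg.Agent.Lib.Helper13

variable {F : Type*} [Field F] [Fintype F] {q n : ℕ}

local notation "hh" => Cfsg.hermForm n F q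

theorem x_vec_e {m : ℕ} (C : WittCfg q n m F) (M : Matrix (Fin n) (Fin n) F)
    (A : Matrix (Fin m) (Fin m) F) (he : ∀ i, M *ᵥ C.e i = ∑ l, A l i • C.e l)
    (j : ℕ) (a : Fin m → F) : (M ^ j) *ᵥ C.vec a 0 = C.vec ((A ^ j) *ᵥ a) 0 := by
  have h1 : ∀ a : Fin m → F, M *ᵥ C.vec a 0 = C.vec (A *ᵥ a) 0 := by
    intro a
    unfold WittCfg.vec
    simp only [Pi.zero_apply, zero_smul, Finset.sum_const_zero, add_zero]
    rw [← Matrix.mulVecLin_apply, map_sum]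
    simp only [map_smul, Matrix.mulVecLin_apply, he, Finset.smul_sum, smul_smul]
    rw [Finset.sum_comm]
    refine Finset.sum_congr rfl fun l _ => ?_
    rw [← Finset.sum_smul]
    congr 1
    simp only [Matrix.mulVec, dotProduct]
    exact Finset.sum_congr rfl fun i _ => mul_comm _ _
  induction j generalizing a with
  | zero => simp
  | succ j ih => rw [pow_succ, ← Matrix.mulVec_mulVec, h1, ih, Matrix.mulVec_mulVec, ← pow_succ]

theorem x_vec_f {m : ℕ} (C : WittCfg q n m F) (M : Matrix (Fin n) (Fin n) F)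
    (A : Matrix (Fin m) (Fin m) F) (hf : ∀ i, M *ᵥ C.f i = ∑ l, A l i • C.f l)
    (j : ℕ) (a : Fin m → F) : (M ^ j) *ᵥ C.vec 0 a = C.vec 0 ((A ^ j) *ᵥ a) := by
  have h1 : ∀ a : Fin m → F, M *ᵥ C.vec 0 a = C.vec 0 (A *ᵥ a) := by
    intro a
    unfold WittCfg.vec
    simp only [Pi.zero_apply, zero_smul, Finset.sum_const_zero, zero_add]
    rw [← Matrix.mulVecLin_apply, map_sum]
    simp only [map_smul, Matrix.mulVecLin_apply, hf, Finset.smul_sum, smul_smul]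
    rw [Finset.sum_comm]
    refine Finset.sum_congr rfl fun l _ => ?_
    rw [← Finset.sum_smul]
    congr 1
    simp only [Matrix.mulVec, dotProduct]
    exact Finset.sum_congr rfl fun i _ => mul_comm _ _
  induction j generalizing a with
  | zero => simp
  | succ j ih => rw [pow_succ, ← Matrix.mulVec_mulVec, h1, ih, Matrix.mulVec_mulVec, ← pow_succ]

/-- PSU-X from the statements of PSU-SING and PSU-PRE. -/
theorem x_main (hF : Fintype.card F = q ^ 2) {m : ℕ} (C : WittCfg q n m F) (k : ℕ)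
    (hk : k = 1 ∨ k = 2) (hn : n = 2 * m + k)
    (hsing : ∃ A A' : Matrix (Fin m) (Fin m) F, Aᵀ * A'.map (· ^ q) = 1 ∧
      (∀ v w : Fin m → F, v ≠ 0 → w ≠ 0 → ∃ j : ℕ, (A ^ j) *ᵥ v = w) ∧
      (∀ v w : Fin m → F, v ≠ 0 → w ≠ 0 → ∃ j : ℕ, (A' ^ j) *ᵥ v = w))
    (hpre : ∀ {ι : Type} [Fintype ι] [DecidableEq ι] (b : ι → (Fin n → F))
      (_ : LinearIndependent F b) (_ : Fintype.card ι = n) (X : Matrix ι ι F) (_ : X.det = 1)
      (_ : ∀ i j, hh (∑ k, X k i • b k) (∑ k, X k j • b k) = hh (b i) (b j)),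
      ∃ g : GL (Fin n) F, g ∈ suGL (F := F) n q ∧
        ∀ j, (g : Matrix (Fin n) (Fin n) F) *ᵥ b j = ∑ k, X k j • b k) :
    ∃ x : GL (Fin n) F, x ∈ suGL (F := F) n q ∧
      (∀ a a' : Fin m → F, a ≠ 0 → a' ≠ 0 → ∃ j : ℕ,
        ((x ^ j : GL (Fin n) F) : Matrix (Fin n) (Fin n) F) *ᵥ C.vec a 0 = C.vec a' 0) ∧
      (∀ b b' : Fin m → F, b ≠ 0 → b' ≠ 0 → ∃ j : ℕ,
        ((x ^ j : GL (Fin n) F) : Matrix (Fin n) (Fin n) F) *ᵥ C.vec 0 b = C.vec 0 b') ∧
      (k = 2 → ∃ γ : F, γ ≠ 0 ∧ ∀ (v : Fin n → F) (h1 : 2 * m + 1 < n) (h0 : 2 * m < n),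
        ((x : Matrix (Fin n) (Fin n) F) *ᵥ v) ⟨2 * m + 1, h1⟩ = γ * v ⟨2 * m, h0⟩) := by
  classical
  obtain ⟨A, A', hAA', hA, hA'⟩ := hsing
  have hq : q ≠ 0 := by have := q_ge_two hF; omega
  -- `δ := det A ≠ 0`, `ρ := δ^q / δ`, `ρ * ρ^q = 1`
  have hδ : A.det ≠ 0 := by
    intro h
    have := congrArg Matrix.det hAA'
    rw [Matrix.det_mul, Matrix.det_transpose, h, zero_mul, Matrix.det_one] at this
    exact zero_ne_one this
  have hρ : (A.det ^ q / A.det) * (A.det ^ q / A.det) ^ q = 1 := by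
    rw [div_pow, pow_q_pow_q hF]
    have : A.det ^ q ≠ 0 := pow_ne_zero _ hδ
    field_simp
  have hρ0 : A.det ^ q / A.det ≠ 0 := div_ne_zero (pow_ne_zero _ hδ) hδ
  -- common finish
  have fin : ∀ x : GL (Fin n) F,
      (∀ i, (x : Matrix (Fin n) (Fin n) F) *ᵥ C.e i = ∑ l, A l i • C.e l) →
      (∀ i, (x : Matrix (Fin n) (Fin n) F) *ᵥ C.f i = ∑ l, A' l i • C.f l) →
      (∀ a a' : Fin m → F, a ≠ 0 → a' ≠ 0 → ∃ j : ℕ,
        ((x ^ j : GL (Fin n) F) : Matrix (Fin n) (Fin n) F) *ᵥ C.vec a 0 = C.vec a' 0) ∧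
      (∀ b b' : Fin m → F, b ≠ 0 → b' ≠ 0 → ∃ j : ℕ,
        ((x ^ j : GL (Fin n) F) : Matrix (Fin n) (Fin n) F) *ᵥ C.vec 0 b = C.vec 0 b') := by
    intro x he hf
    constructor
    · intro a a' ha ha'
      obtain ⟨j, hj⟩ := hA a a' ha ha'
      exact ⟨j, by rw [Units.val_pow_eq_pow_val, x_vec_e C _ A he, hj]⟩
    · intro a a' ha ha'
      obtain ⟨j, hj⟩ := hA' a a' ha ha'
      exact ⟨j, by rw [Units.val_pow_eq_pow_val, x_vec_f C _ A' hf, hj]⟩
  rcases hk with rfl | rfl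
  · -- `k = 1`
    obtain ⟨x, hxS, he, hf, -⟩ := x_core hF C 1 hn A A' hAA'
      (Matrix.of fun _ _ => A.det ^ q / A.det) (by rw [Matrix.det_fin_one]; rfl)
      (by
        intro i j
        rw [Subsingleton.elim i j, if_pos rfl, Fin.sum_univ_one]
        exact hρ) hpre
    exact ⟨x, hxS, (fin x he hf).1, (fin x he hf).2, fun h => absurd h (by norm_num)⟩
  · -- `k = 2`
    obtain ⟨x, hxS, he, hf, hr⟩ := x_core hF C 2 hn A A' hAA'
      (!![0, 1; -(A.det ^ q / A.det), 0]) (by rw [Matrix.det_fin_two_of]; ring)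
      (by
        intro i j
        fin_cases i <;> fin_cases j <;>
          simp [Fin.sum_univ_two, frob_neg hF, zero_pow hq, hρ]) hpre
    refine ⟨x, hxS, (fin x he hf).1, (fin x he hf).2, fun _ => ?_⟩
    have hγ : -(A.det ^ q / A.det) ≠ 0 := neg_ne_zero.mpr hρ0
    refine ⟨((-(A.det ^ q / A.det))⁻¹) ^ q, pow_ne_zero _ (inv_ne_zero hγ), ?_⟩
    intro v h1 h0
    have hr0 : (x : Matrix (Fin n) (Fin n) F) *ᵥ x_eps hn (0 : Fin 2) =
        (-(A.det ^ q / A.det)) • x_eps hn (1 : Fin 2) := by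
      rw [hr 0, Fin.sum_univ_two]
      simp
    have h1' : x_eps (F := F) hn (1 : Fin 2) =
        (x : Matrix (Fin n) (Fin n) F) *ᵥ ((-(A.det ^ q / A.det))⁻¹ • x_eps hn (0 : Fin 2)) := by
      rw [Matrix.mulVec_smul, hr0, smul_smul, inv_mul_cancel₀ hγ, one_smul]
    have e1 : x_eps (F := F) hn (1 : Fin 2) = Pi.single ⟨2 * m + 1, h1⟩ 1 := rfl
    have e0 : x_eps (F := F) hn (0 : Fin 2) = Pi.single ⟨2 * m, h0⟩ 1 := rfl
    rw [← hermForm_single_right hF ((x : Matrix (Fin n) (Fin n) F) *ᵥ v), ← e1, h1',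
      GU_preserves hxS.1, hermForm_smul_right, e0, hermForm_single_right hF]

end Cfsg.Agent.Lib.Helper90.Psu
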