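import Mathlib
import Cfsg.Agent.Lib.Helper90.PsuDefs
import Cfsg.Agent.Lib.Helper80.PsuXmain
import Cfsg.Agent.Lib.Helper69.PsuSING
import Cfsg.Agent.Lib.Helper97.PsuPRE

set_option autoImplicit false

/-!
# Psu hive (S2412), leaf PSU-X `exists_x`.
-/

namespace Cfsg.Agent.Lib.Helper90.Psu

open Matrix Cfsg.Agent.Lib.Helper99 Cfsg.Agent.Lib.Helper13

variable {F : Type*} [Field F] [Fintype F] {q n : ℕ}

local notation "hh" => Cfsg.hermForm n F q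

/-- PSU-X.  `exists_suGL_of_basis` with `ι = Fin m ⊕ Fin m ⊕ Fin k`, `b = (e i, f i, ε_{2m+j})`,
`X = blockdiag (A, A', g_R)`, `(A, A')` from `exists_twisted_singer`, `δ := det A`,
`g_R = (δ^q / δ)` for `k = 1`, `g_R = !![0, 1; -(δ^q/δ), 0]` for `k = 2`. -/
theorem exists_x (hF : Fintype.card F = q ^ 2) {m : ℕ} (hm : 0 < m) (C : WittCfg q n m F) (k : ℕ)
    (hk : k = 1 ∨ k = 2) (hn : n = 2 * m + k) :
    ∃ x : GL (Fin n) F, x ∈ suGL (F := F) n q ∧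
      (∀ a a' : Fin m → F, a ≠ 0 → a' ≠ 0 → ∃ j : ℕ,
        ((x ^ j : GL (Fin n) F) : Matrix (Fin n) (Fin n) F) *ᵥ C.vec a 0 = C.vec a' 0) ∧
      (∀ b b' : Fin m → F, b ≠ 0 → b' ≠ 0 → ∃ j : ℕ,
        ((x ^ j : GL (Fin n) F) : Matrix (Fin n) (Fin n) F) *ᵥ C.vec 0 b = C.vec 0 b') ∧
      (k = 2 → ∃ γ : F, γ ≠ 0 ∧ ∀ (v : Fin n → F) (h1 : 2 * m + 1 < n) (h0 : 2 * m < n),
        ((x : Matrix (Fin n) (Fin n) F) *ᵥ v) ⟨2 * m + 1, h1⟩ = γ * v ⟨2 * m, h0⟩) :=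
  x_main hF C k hk hn (exists_twisted_singer hF m hm)
    (fun b hb hcard X hdet hX => exists_suGL_of_basis hF b hb hcard X hdet hX)

end Cfsg.Agent.Lib.Helper90.Psu
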