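import Mathlib
import Cfsg.Agent.Lib.Helper81.Q4Defs
import Cfsg.Agent.Lib.Helper13.Symp

/-! # S6002 hive (helper81), leaf Q4-O7 (exists_bad_large) -/

set_option autoImplicit false
set_option linter.unusedSectionVars false

namespace Cfsg.Agent.Lib.Helper81.Q4

open Matrix

variable {F : Type*} [Field F] [Fintype F]

/-- a conjugate of a scalar matrix is scalar -/
theorem o7_isScalar_of_conj (x g : GL I4 F) (h : IsScalar (g⁻¹ * x * g)) : IsScalar x := by
  obtain ⟨c, hc⟩ := h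
  refine ⟨c, ?_⟩
  have e : x = g * (g⁻¹ * x * g) * g⁻¹ := by group
  rw [e]
  simp only [Matrix.GeneralLinearGroup.coe_mul] at hc ⊢
  rw [hc]
  rw [Matrix.mul_smul, Matrix.smul_mul, Matrix.mul_one, ← Matrix.GeneralLinearGroup.coe_mul,
    mul_inv_cancel]
  rfl

/-- a scalar matrix in `Sp` has square one -/
theorem o7_scalar_sq (x : GL I4 F) (hx : x ∈ Cfsg.spGL 2 F) (c : F)
    (hc : (x : Matrix I4 I4 F) = c • 1) : c * c = 1 := by
  have h := hx (Pi.single (Sum.inr 0) 1) (Pi.single (Sum.inl 0) 1)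
  have e : (Cfsg.glToMat (Fin 2 ⊕ Fin 2) F) x = c • (1 : Matrix I4 I4 F) := hc
  rw [e] at h
  simp only [Matrix.smul_mulVec, Matrix.one_mulVec] at h
  rw [Cfsg.Agent.Lib.Helper13.sympForm_expand, Cfsg.Agent.Lib.Helper13.sympForm_expand] at h
  simp [Fin.sum_univ_two] at h
  linear_combination h

/-- Q4-O7. -/
theorem exists_bad_large (N : Subgroup (GL I4 F))
    (r : ℕ) (hr : r.Prime) (hr2 : r ≠ 2)
    (hN : ∀ y ∈ N, y ^ r = 1 → IsScalar y)
    (hdvd : r ∣ Nat.card (Cfsg.spGL 2 F)) :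
    ∃ x : GL I4 F, x ∈ Cfsg.spGL 2 F ∧ x ^ r = 1 ∧ ¬ IsScalar x ∧
      ∀ g : GL I4 F, g⁻¹ * x * g ∉ N := by
  classical
  have : Fact r.Prime := ⟨hr⟩
  obtain ⟨x', hx'⟩ := exists_prime_orderOf_dvd_card' r hdvd
  have hpow : (x' : GL I4 F) ^ r = 1 := by
    have h1 : x' ^ r = 1 := by rw [← hx']; exact pow_orderOf_eq_one x'
    have := congrArg Subtype.val h1
    simpa using this
  have hne : (x' : GL I4 F) ≠ 1 := by
    intro h
    have h1 : x' = 1 := Subtype.ext h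
    rw [h1, orderOf_one] at hx'
    exact hr.one_lt.ne hx'
  have hns : ¬ IsScalar (x' : GL I4 F) := by
    rintro ⟨c, hc⟩
    have hc2 : c * c = 1 := o7_scalar_sq _ x'.2 c hc
    have hcr : c ^ r = 1 := by
      have h1 := congrArg (fun y : GL I4 F => (y : Matrix I4 I4 F) (Sum.inl 0) (Sum.inl 0)) hpow
      simp only [Units.val_pow_eq_pow_val, hc] at h1
      rw [smul_pow, one_pow] at h1
      simpa using h1
    have hodd : Odd r := hr.odd_of_ne_two hr2
    obtain ⟨k, hk⟩ := hodd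
    have hc1 : c = 1 := by
      rw [hk, pow_succ, pow_mul, pow_two, hc2, one_pow, one_mul] at hcr
      exact hcr
    apply hne
    apply Matrix.GeneralLinearGroup.ext
    intro i j
    rw [hc, hc1, one_smul]
    rfl
  refine ⟨x', x'.2, hpow, hns, ?_⟩
  intro g hg
  have h1 : (g⁻¹ * (x' : GL I4 F) * g) ^ r = 1 := by
    have e : g⁻¹ * (x' : GL I4 F) * g = g⁻¹ * (x' : GL I4 F) * g⁻¹⁻¹ := by rw [inv_inv]
    rw [e, conj_pow, hpow]
    group
  exact hns (o7_isScalar_of_conj _ g (hN _ hg h1))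

end Cfsg.Agent.Lib.Helper81.Q4
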