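import Mathlib
import Cfsg.Agent.Lib.Helper81.Q4Defs
import Cfsg.Agent.Lib.Helper13.Symp
import Cfsg.Agent.Lib.Helper80.Q4O7

/-! # S6002 hive (helper81), leaf Q4-O3 (exists_bad_three) -/

set_option autoImplicit false
set_option linter.unusedSectionVars false

namespace Cfsg.Agent.Lib.Helper81.Q4

open Matrix

variable {F : Type*} [Field F] [Fintype F]

/-- membership in `Sp` from the matrix identity -/
theorem o3_mem_spGL (x : GL I4 F)
    (h : (x : Matrix I4 I4 F)ᵀ * Matrix.J (Fin 2) F * (x : Matrix I4 I4 F) = Matrix.J (Fin 2) F) :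
    x ∈ Cfsg.spGL 2 F := by
  intro u v
  exact Cfsg.Agent.Lib.Helper13.preserves_of_mem_symplectic 2 _
    (SymplecticGroup.mem_iff'.mpr h) u v

/-- `tt` is a class function -/
theorem o3_tt_conj (x g : GL I4 F) : tt (g⁻¹ * x * g) = tt x := by
  unfold tt
  have e1 : Matrix.trace ((g⁻¹ * x * g : GL I4 F) : Matrix I4 I4 F) =
      Matrix.trace (x : Matrix I4 I4 F) := by
    have := Matrix.trace_units_conj' g (x : Matrix I4 I4 F)
    simpa using this
  have e2 : Matrix.trace (((g⁻¹ * x * g)⁻¹ : GL I4 F) : Matrix I4 I4 F) =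
      Matrix.trace ((x⁻¹ : GL I4 F) : Matrix I4 I4 F) := by
    have e : (g⁻¹ * x * g)⁻¹ = g⁻¹ * x⁻¹ * g := by group
    rw [e]
    have := Matrix.trace_units_conj' g ((x⁻¹ : GL I4 F) : Matrix I4 I4 F)
    simpa using this
  rw [e1, e2]

/-- the test element of order three -/
def o3_X : Matrix I4 I4 F :=
  Matrix.fromBlocks !![1, 0; 0, 0] !![0, 0; 0, -1] !![0, 0; 0, 1] !![1, 0; 0, -1]

/-- its inverse (= square) -/
def o3_Y : Matrix I4 I4 F :=
  Matrix.fromBlocks !![1, 0; 0, -1] !![0, 0; 0, 1] !![0, 0; 0, -1] !![1, 0; 0, 0]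

theorem o3_XX : (o3_X : Matrix I4 I4 F) * o3_X = o3_Y := by
  unfold o3_X o3_Y
  rw [Matrix.fromBlocks_multiply]
  congr 1 <;> (ext i j; fin_cases i <;> fin_cases j <;> simp)

theorem o3_XY : (o3_X : Matrix I4 I4 F) * o3_Y = 1 := by
  unfold o3_X o3_Y
  rw [Matrix.fromBlocks_multiply, ← Matrix.fromBlocks_one]
  congr 1 <;> (ext i j; fin_cases i <;> fin_cases j <;> simp)

theorem o3_YX : (o3_Y : Matrix I4 I4 F) * o3_X = 1 := by
  unfold o3_X o3_Y
  rw [Matrix.fromBlocks_multiply, ← Matrix.fromBlocks_one]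
  congr 1 <;> (ext i j; fin_cases i <;> fin_cases j <;> simp)

theorem o3_symp : (o3_X : Matrix I4 I4 F)ᵀ * Matrix.J (Fin 2) F * o3_X = Matrix.J (Fin 2) F := by
  unfold o3_X Matrix.J
  rw [Matrix.fromBlocks_transpose, Matrix.fromBlocks_multiply, Matrix.fromBlocks_multiply]
  congr 1 <;> (ext i j; fin_cases i <;> fin_cases j <;>
    simp [Matrix.mul_apply, Fin.sum_univ_two, Matrix.transpose_apply])

/-- Q4-O3. -/
theorem exists_bad_three (h3 : (3 : F) ≠ 0) (N : Subgroup (GL I4 F))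
    (hN : ∀ y ∈ N, y ^ 3 = 1 → tt y = 4 ∨ IsScalar y) :
    ∃ x : GL I4 F, x ∈ Cfsg.spGL 2 F ∧ x ^ 3 = 1 ∧ ¬ IsScalar x ∧
      ∀ g : GL I4 F, g⁻¹ * x * g ∉ N := by
  set x : GL I4 F := ⟨o3_X, o3_Y, o3_XY, o3_YX⟩ with hx
  have hxc : (x : Matrix I4 I4 F) = o3_X := rfl
  have hxi : ((x⁻¹ : GL I4 F) : Matrix I4 I4 F) = o3_Y := rfl
  have hx3 : x ^ 3 = 1 := by
    apply Units.ext
    rw [Units.val_pow_eq_pow_val, hxc, Units.val_one]
    have e : (o3_X : Matrix I4 I4 F) ^ 3 = o3_X * o3_X * o3_X := by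
      simp only [pow_succ, pow_zero, one_mul]
    rw [e, o3_XX, o3_YX]
  have hns : ¬ IsScalar x := by
    rintro ⟨c, hc⟩
    rw [hxc] at hc
    have e0 := congrFun (congrFun hc (Sum.inl 0)) (Sum.inl 0)
    have e1 := congrFun (congrFun hc (Sum.inl 1)) (Sum.inl 1)
    simp [o3_X] at e0 e1
    rw [← e0] at e1
    exact one_ne_zero e1.symm
  have htt : tt x = 1 := by
    unfold tt
    rw [hxc, hxi]
    unfold o3_X o3_Y
    simp [Matrix.trace, Fintype.sum_sum_type, Fin.sum_univ_two]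
  refine ⟨x, o3_mem_spGL x o3_symp, hx3, hns, ?_⟩
  intro g hg
  have h1 : (g⁻¹ * x * g) ^ 3 = 1 := by
    have e : g⁻¹ * x * g = g⁻¹ * x * g⁻¹⁻¹ := by rw [inv_inv]
    rw [e, conj_pow, hx3]
    group
  rcases hN _ hg h1 with h | h
  · rw [o3_tt_conj, htt] at h
    apply h3
    linear_combination -h
  · exact hns (o7_isScalar_of_conj x g h)

end Cfsg.Agent.Lib.Helper81.Q4
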