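import Mathlib
import Cfsg.Agent.Lib.Helper81.Q4Defs
import Cfsg.Agent.Lib.Helper13.Symp
import Cfsg.Agent.Lib.Helper80.Q4O3

/-! # S6002 hive (helper81), leaf Q4-O5 (exists_bad_five) -/

set_option autoImplicit false
set_option linter.unusedSectionVars false
set_option linter.unusedSimpArgs false
set_option linter.unreachableTactic false
set_option linter.unusedTactic false

namespace Cfsg.Agent.Lib.Helper81.Q4

open Matrix

variable {F : Type*} [Field F] [Fintype F]

/-- the test element of order five -/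
def o5_X (u : F) : Matrix I4 I4 F :=
  Matrix.fromBlocks !![0, -1; 1, u] 0 0 !![u, -1; 1, 0]

/-- its inverse -/
def o5_Y (u : F) : Matrix I4 I4 F :=
  Matrix.fromBlocks !![u, 1; -1, 0] 0 0 !![0, 1; -1, u]

/-- its square (modulo `u² + u - 1`) -/
def o5_S (u : F) : Matrix I4 I4 F :=
  Matrix.fromBlocks !![-1, -u; u, -u] 0 0 !![-u, -u; u, -1]

theorem o5_XY (u : F) : o5_X u * o5_Y u = 1 := by
  unfold o5_X o5_Y
  rw [Matrix.fromBlocks_multiply, ← Matrix.fromBlocks_one]
  congr 1 <;> (ext i j; fin_cases i <;> fin_cases j <;>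
    simp [Matrix.mul_apply, Fin.sum_univ_two])

theorem o5_YX (u : F) : o5_Y u * o5_X u = 1 := by
  unfold o5_X o5_Y
  rw [Matrix.fromBlocks_multiply, ← Matrix.fromBlocks_one]
  congr 1 <;> (ext i j; fin_cases i <;> fin_cases j <;>
    simp [Matrix.mul_apply, Fin.sum_univ_two])

theorem o5_XX (u : F) (hu : u * u + u - 1 = 0) : o5_X u * o5_X u = o5_S u := by
  unfold o5_X o5_S
  rw [Matrix.fromBlocks_multiply]
  congr 1 <;> (ext i j; fin_cases i <;> fin_cases j <;>
    simp [Matrix.mul_apply, Fin.sum_univ_two]) <;>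
    first
      | linear_combination hu
      | linear_combination -hu

theorem o5_SS (u : F) (hu : u * u + u - 1 = 0) : o5_S u * o5_S u = o5_Y u := by
  unfold o5_S o5_Y
  rw [Matrix.fromBlocks_multiply]
  congr 1 <;> (ext i j; fin_cases i <;> fin_cases j <;>
    simp [Matrix.mul_apply, Fin.sum_univ_two]) <;>
    first
      | linear_combination hu
      | linear_combination -hu

theorem o5_symp (u : F) :
    (o5_X u)ᵀ * Matrix.J (Fin 2) F * o5_X u = Matrix.J (Fin 2) F := by
  unfold o5_X Matrix.J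
  rw [Matrix.fromBlocks_transpose, Matrix.fromBlocks_multiply, Matrix.fromBlocks_multiply]
  congr 1 <;> (ext i j; fin_cases i <;> fin_cases j <;>
    simp [Matrix.mul_apply, Fin.sum_univ_two, Matrix.transpose_apply])

/-- Q4-O5. -/
theorem exists_bad_five (h2 : (2 : F) ≠ 0) (h5 : (5 : F) ≠ 0)
    (u : F) (hu : u * u + u - 1 = 0) (N : Subgroup (GL I4 F))
    (hN : ∀ y ∈ N, tt y = 0 ∨ tt y = 1 ∨ tt y = 2 ∨ tt y = 4 ∨ tt y = 8 ∨ IsScalar y) :
    ∃ x : GL I4 F, x ∈ Cfsg.spGL 2 F ∧ x ^ 5 = 1 ∧ ¬ IsScalar x ∧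
      ∀ g : GL I4 F, g⁻¹ * x * g ∉ N := by
  set x : GL I4 F := ⟨o5_X u, o5_Y u, o5_XY u, o5_YX u⟩ with hx
  have hxc : (x : Matrix I4 I4 F) = o5_X u := rfl
  have hxi : ((x⁻¹ : GL I4 F) : Matrix I4 I4 F) = o5_Y u := rfl
  have hx5 : x ^ 5 = 1 := by
    apply Units.ext
    rw [Units.val_pow_eq_pow_val, hxc, Units.val_one]
    have e : o5_X u ^ 5 = (o5_X u * o5_X u) * (o5_X u * o5_X u) * o5_X u := by
      simp only [pow_succ, pow_zero, one_mul, mul_assoc]
    rw [e, o5_XX u hu, o5_SS u hu, o5_YX]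
  have hns : ¬ IsScalar x := by
    rintro ⟨c, hc⟩
    rw [hxc] at hc
    have e0 := congrFun (congrFun hc (Sum.inl 0)) (Sum.inl 1)
    simp [o5_X] at e0
  have hu0 : u ≠ 0 := by
    rintro rfl
    simp at hu
  have h4 : (4 : F) ≠ 0 := by
    have : (4 : F) = 2 * 2 := by norm_num
    rw [this]
    exact mul_ne_zero h2 h2
  have htt : tt x = 4 * (u * u) := by
    unfold tt
    rw [hxc, hxi]
    unfold o5_X o5_Y
    simp [Matrix.trace, Fintype.sum_sum_type, Fin.sum_univ_two]
    ring
  refine ⟨x, o3_mem_spGL x (o5_symp u), hx5, hns, ?_⟩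
  intro g hg
  have h := hN _ hg
  rw [o3_tt_conj, htt] at h
  rcases h with h | h | h | h | h | h
  · exact mul_ne_zero h4 (mul_ne_zero hu0 hu0) h
  · -- 4 u² = 1, u² = 1 - u ⇒ 4 u = 3 ⇒ 16 u² = 9 ⇒ 4 = 9
    apply h5
    have h4u : 4 * u = 3 := by linear_combination 4 * hu - h
    have : (4 * u) * (4 * u) = 4 * (4 * (u * u)) := by ring
    rw [h4u, h] at this
    linear_combination this
  · have h1 : 2 * (2 * (u * u) - 1) = 0 := by linear_combination h
    have h2u : 2 * (u * u) = 1 := by
      rcases mul_eq_zero.mp h1 with h' | h'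
      · exact absurd h' h2
      · linear_combination h'
    have h3 : 2 * u = 1 := by linear_combination 2 * hu - h2u
    have : (2 * u) * (2 * u) = 4 * (u * u) := by ring
    rw [h3, h] at this
    have : (1 : F) = 0 := by linear_combination -this
    exact one_ne_zero this
  · have h1 : 4 * (u * u - 1) = 0 := by linear_combination h
    have h2u : u * u = 1 := by
      rcases mul_eq_zero.mp h1 with h' | h'
      · exact absurd h' h4
      · linear_combination h'
    apply hu0
    linear_combination hu - h2u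
  · have h1 : 4 * (u * u - 2) = 0 := by linear_combination h
    have h2u : u * u = 2 := by
      rcases mul_eq_zero.mp h1 with h' | h'
      · exact absurd h' h4
      · linear_combination h'
    have h3 : u = -1 := by linear_combination hu - h2u
    rw [h3] at h2u
    have : (1 : F) = 0 := by linear_combination (-1 : F) * h2u
    exact one_ne_zero this
  · exact hns (o7_isScalar_of_conj x g h)

end Cfsg.Agent.Lib.Helper81.Q4
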