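import Mathlib
import Cfsg.Agent.Lib.Helper81.Q4Defs
import Cfsg.Agent.Lib.Helper13.Symp

/-! # S6002 hive (helper81), leaf Q4-OT (exists_bad_transvection) -/

set_option autoImplicit false
set_option linter.unusedSectionVars false

namespace Cfsg.Agent.Lib.Helper81.Q4

open Matrix

variable {F : Type*} [Field F] [Fintype F]

theorem ot_pow (v : I4 → F) (k : ℕ) :
    Cfsg.sympTransvection 2 v (1 : F) ^ k = Cfsg.sympTransvection 2 v (k : F) := by
  induction k with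
  | zero => simp [Cfsg.Agent.Lib.Helper13.sympTransvection_zero]
  | succ k ih =>
    rw [pow_succ, ih, Cfsg.Agent.Lib.Helper13.sympTransvection_mul, Nat.cast_succ]

theorem ot_J_apply : (Matrix.J (Fin 2) F *ᵥ (Pi.single (Sum.inl 0) 1 : I4 → F)) (Sum.inr 0) = 1 := by
  simp [Matrix.J, Matrix.mulVec, dotProduct, Fintype.sum_sum_type, Fin.sum_univ_two,
    Matrix.fromBlocks]

/-- Q4-OT. -/
theorem exists_bad_transvection (p : ℕ) [Fact p.Prime] [CharP F p]
    (N : Subgroup (GL I4 F))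
    (hN : ∀ (v φ : I4 → F) (y : GL I4 F), v ≠ 0 → φ ≠ 0 → φ ⬝ᵥ v = 0 →
      (y : Matrix I4 I4 F) = 1 + Matrix.vecMulVec v φ → y ∉ N) :
    ∃ x : GL I4 F, x ∈ Cfsg.spGL 2 F ∧ x ^ p = 1 ∧ ¬ IsScalar x ∧
      ∀ g : GL I4 F, g⁻¹ * x * g ∉ N := by
  set v : I4 → F := Pi.single (Sum.inl 0) 1 with hv
  set φ : I4 → F := Matrix.J (Fin 2) F *ᵥ v with hφ
  have hφ1 : φ (Sum.inr 0) = 1 := ot_J_apply
  have hv1 : v (Sum.inl 0) = 1 := by simp [hv]
  have hv0 : v ≠ 0 := by
    intro h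
    rw [h] at hv1
    simp at hv1
  have hφ0 : φ ≠ 0 := by
    intro h
    rw [h] at hφ1
    simp at hφ1
  have hφv : φ ⬝ᵥ v = 0 := by
    rw [dotProduct_comm]
    exact Cfsg.Agent.Lib.Helper13.sympForm_self 2 v
  set x : GL I4 F := ⟨Cfsg.sympTransvection 2 v 1, Cfsg.sympTransvection 2 v (-1),
    by rw [Cfsg.Agent.Lib.Helper13.sympTransvection_mul, add_neg_cancel,
      Cfsg.Agent.Lib.Helper13.sympTransvection_zero],
    by rw [Cfsg.Agent.Lib.Helper13.sympTransvection_mul, neg_add_cancel,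
      Cfsg.Agent.Lib.Helper13.sympTransvection_zero]⟩ with hx
  have hxc : (x : Matrix I4 I4 F) = 1 + Matrix.vecMulVec v φ := by
    show Cfsg.sympTransvection 2 v 1 = _
    unfold Cfsg.sympTransvection
    rw [one_smul]
  refine ⟨x, ?_, ?_, ?_, ?_⟩
  · intro u w
    exact Cfsg.Agent.Lib.Helper13.sympTransvection_preserves 2 v 1 u w
  · apply Units.ext
    rw [Units.val_pow_eq_pow_val, Units.val_one]
    show Cfsg.sympTransvection 2 v 1 ^ p = 1
    rw [ot_pow, CharP.cast_eq_zero, Cfsg.Agent.Lib.Helper13.sympTransvection_zero]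
  · rintro ⟨c, hc⟩
    rw [hxc] at hc
    have := congrFun (congrFun hc (Sum.inl 0)) (Sum.inr 0)
    simp [Matrix.vecMulVec_apply, hv1, hφ1] at this
  · intro g
    have hg1 : (g : Matrix I4 I4 F) * ((g⁻¹ : GL I4 F) : Matrix I4 I4 F) = 1 := by
      rw [← Matrix.GeneralLinearGroup.coe_mul, mul_inv_cancel]; rfl
    have hg2 : ((g⁻¹ : GL I4 F) : Matrix I4 I4 F) * (g : Matrix I4 I4 F) = 1 := by
      rw [← Matrix.GeneralLinearGroup.coe_mul, inv_mul_cancel]; rfl
    apply hN (((g⁻¹ : GL I4 F) : Matrix I4 I4 F) *ᵥ v) (φ ᵥ* (g : Matrix I4 I4 F))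
    · intro h
      have h1 := congrArg (fun w => (g : Matrix I4 I4 F) *ᵥ w) h
      simp only [Matrix.mulVec_mulVec, hg1, Matrix.one_mulVec, Matrix.mulVec_zero] at h1
      exact hv0 h1
    · intro h
      have h1 := congrArg (fun w => w ᵥ* ((g⁻¹ : GL I4 F) : Matrix I4 I4 F)) h
      simp only [Matrix.vecMul_vecMul, hg1, Matrix.vecMul_one, Matrix.zero_vecMul] at h1
      exact hφ0 h1
    · rw [Matrix.dotProduct_mulVec, Matrix.vecMul_vecMul, hg1, Matrix.vecMul_one]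
      exact hφv
    · rw [Matrix.GeneralLinearGroup.coe_mul, Matrix.GeneralLinearGroup.coe_mul, hxc,
        Matrix.mul_add, Matrix.add_mul, Matrix.mul_one, hg2,
        Matrix.mul_vecMulVec, Matrix.vecMulVec_mul]

end Cfsg.Agent.Lib.Helper81.Q4
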