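import Mathlib

set_option autoImplicit false

/-!
# An invariant "complement" via the norm map (Maschke for exponent-2 quotients)

`P` a finite group with a central element `z` such that `P / ⟨z⟩` is commutative of exponent `2`,
`L` a group of odd order acting on `P` fixing `z`.  The kernel `Y` of the norm map
`ν = ∏_{l} (x ↦ (φ l x)⟨z⟩) : P → P/⟨z⟩` is `L`-invariant, contains `z` and all `x⁻¹ φ_l(x)`, and meets
every subgroup `Z` on which `L` acts trivially modulo `⟨z⟩` inside `⟨z⟩`.
-/

namespace Cfsg.Agent.Lib.Helper80.SmallTwoNorm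

open scoped commutatorElement

theorem exists_invariant_complement {P L : Type*} [Group P] [Finite P] [Group L] [Finite L]
    (hL : Odd (Nat.card L)) (φ : L →* MulAut P) (z : P) (hz : z ∈ Subgroup.center P)
    (hcomm : ∀ x y : P, ⁅x, y⁆ ∈ Subgroup.zpowers z) (hsq : ∀ x : P, x ^ 2 ∈ Subgroup.zpowers z)
    (hφz : ∀ l, φ l z = z) (Z : Subgroup P)
    (hZ : ∀ u ∈ Z, ∀ l, u⁻¹ * φ l u ∈ Subgroup.zpowers z) :
    ∃ Y : Subgroup P, (∀ l, ∀ x ∈ Y, φ l x ∈ Y) ∧ z ∈ Y ∧
      (∀ u ∈ Z, u ∈ Y → u ∈ Subgroup.zpowers z) ∧ (∀ (l : L) (x : P), x⁻¹ * φ l x ∈ Y) := by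
  classical
  have : Fintype L := Fintype.ofFinite L
  -- `⟨z⟩` is normal
  have hN : (Subgroup.zpowers z).Normal := by
    refine ⟨fun n hn g => ?_⟩
    obtain ⟨i, rfl⟩ := Subgroup.mem_zpowers_iff.mp hn
    have hc : g * z ^ i = z ^ i * g :=
      (Subgroup.mem_center_iff.mp (Subgroup.zpow_mem _ hz i)) g
    rw [hc, mul_inv_cancel_right]
    exact Subgroup.zpow_mem _ (Subgroup.mem_zpowers z) i
  -- the quotient is commutative
  have hVcomm : ∀ a b : P ⧸ Subgroup.zpowers z, a * b = b * a := by
    intro a b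
    induction a using QuotientGroup.induction_on with
    | H x =>
      induction b using QuotientGroup.induction_on with
      | H y =>
        have h1 : ((⁅x, y⁆ : P) : P ⧸ Subgroup.zpowers z) = 1 :=
          (QuotientGroup.eq_one_iff _).mpr (hcomm x y)
        rw [commutatorElement_def] at h1
        simp only [QuotientGroup.mk_mul, QuotientGroup.mk_inv] at h1
        calc (x : P ⧸ Subgroup.zpowers z) * y
            = ((x : P ⧸ Subgroup.zpowers z) * y * (x : P ⧸ Subgroup.zpowers z)⁻¹ *
                (y : P ⧸ Subgroup.zpowers z)⁻¹) * (y * x) := by group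
          _ = y * x := by rw [h1, one_mul]
  let instV : CommGroup (P ⧸ Subgroup.zpowers z) :=
    { (inferInstance : Group (P ⧸ Subgroup.zpowers z)) with mul_comm := hVcomm }
  -- exponent two
  have hVsq : ∀ a : P ⧸ Subgroup.zpowers z, a * a = 1 := by
    intro a
    induction a using QuotientGroup.induction_on with
    | H x =>
      have h1 : ((x ^ 2 : P) : P ⧸ Subgroup.zpowers z) = 1 :=
        (QuotientGroup.eq_one_iff _).mpr (hsq x)
      rw [pow_two] at h1
      simpa using h1
  -- the norm map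
  let f : L → (P →* P ⧸ Subgroup.zpowers z) := fun l =>
    (QuotientGroup.mk' (Subgroup.zpowers z)).comp (φ l).toMonoidHom
  let ν : P →* P ⧸ Subgroup.zpowers z := ∏ l : L, f l
  have hν : ∀ x : P, ν x = ∏ l : L, ((φ l x : P) : P ⧸ Subgroup.zpowers z) := by
    intro x
    simp only [ν, MonoidHom.finsetProd_apply]
    rfl
  -- invariance of the norm
  have hinv : ∀ (m : L) (x : P), ν (φ m x) = ν x := by
    intro m x
    rw [hν, hν]
    have : ∀ l : L, ((φ l (φ m x) : P) : P ⧸ Subgroup.zpowers z) =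
        ((φ (l * m) x : P) : P ⧸ Subgroup.zpowers z) := by
      intro l
      rw [map_mul]; rfl
    simp_rw [this]
    exact Fintype.prod_equiv (Equiv.mulRight m) _ _ (fun l => rfl)
  refine ⟨ν.ker, ?_, ?_, ?_, ?_⟩
  · intro l x hx
    rw [MonoidHom.mem_ker] at hx ⊢
    rw [hinv, hx]
  · rw [MonoidHom.mem_ker, hν]
    apply Finset.prod_eq_one
    intro l _
    rw [hφz l]
    exact (QuotientGroup.eq_one_iff _).mpr (Subgroup.mem_zpowers z)
  · intro u hu huY
    rw [MonoidHom.mem_ker, hν] at huY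
    have h1 : ∀ l : L, ((φ l u : P) : P ⧸ Subgroup.zpowers z) = (u : P ⧸ Subgroup.zpowers z) := by
      intro l
      have := hZ u hu l
      have h2 : ((u⁻¹ * φ l u : P) : P ⧸ Subgroup.zpowers z) = 1 :=
        (QuotientGroup.eq_one_iff _).mpr this
      simp only [QuotientGroup.mk_mul, QuotientGroup.mk_inv] at h2
      calc ((φ l u : P) : P ⧸ Subgroup.zpowers z)
          = (u : P ⧸ Subgroup.zpowers z) * ((u : P ⧸ Subgroup.zpowers z)⁻¹ * (φ l u : P)) := by
            group
        _ = u := by rw [h2, mul_one]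
    simp_rw [h1] at huY
    rw [Finset.prod_const, Finset.card_univ, ← Nat.card_eq_fintype_card] at huY
    obtain ⟨k, hk⟩ := hL
    rw [hk, pow_succ, pow_mul, pow_two, hVsq, one_pow, one_mul] at huY
    exact (QuotientGroup.eq_one_iff _).mp huY
  · intro l x
    rw [MonoidHom.mem_ker, map_mul, map_inv, hinv, inv_mul_cancel]

end Cfsg.Agent.Lib.Helper80.SmallTwoNorm
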