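import Mathlib
import Cfsg.Prelude.Def_GeometricClasses
import Cfsg.Agent.Lib.Helper31.SpTns.Defs
import Cfsg.Agent.Lib.Helper8.SpExtElts
import Cfsg.Agent.Lib.Helper83.TnsO2b

/-! SPT-S3 for helper31's S5980 hive (by helper80): an element of `Sp_{2d}(q)` of odd prime order
`r` made of one pair of dual irreducible blocks of size `i = ord_r(q)` (odd, `≤ d`).

The model is the one of `Cfsg.Agent.Lib.Helper8.SpExt.exists_split`:
`(L × L) × F^(2(d-i))`, `L = F_{q^i}`, `X = (ζ·, ζ⁻¹·) × id`, `g = minpoly F ζ`. -/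

set_option autoImplicit false
set_option linter.style.haveILetI false
set_option linter.unusedSectionVars false
open scoped MatrixGroups Kronecker
open Matrix Polynomial

namespace Cfsg.Agent.Lib.Helper31.SpTns

open Module
open Cfsg.Agent.Lib.Helper99 Cfsg.Agent.Lib.Helper8 Cfsg.Agent.Lib.Helper8.GUSp
  Cfsg.Agent.Lib.Helper8.SpExt

universe v

/-- the rank of a matrix whose range is the range of an injective linear map -/
theorem s3_rank_eq {F : Type*} [Field F] {n : Type*} [Fintype n] [DecidableEq n]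
    {E : Type*} [AddCommGroup E] [Module F E] [FiniteDimensional F E]
    (M : Matrix n n F) (ι : E →ₗ[F] (n → F)) (hinj : Function.Injective ι)
    (h1 : ∀ e, ∃ v, M *ᵥ v = ι e) (h2 : ∀ v, ∃ e, M *ᵥ v = ι e) : M.rank = finrank F E := by
  have hr : LinearMap.range M.mulVecLin = LinearMap.range ι := by
    ext w
    constructor
    · rintro ⟨v, rfl⟩
      obtain ⟨e, he⟩ := h2 v
      exact ⟨e, by rw [← he]; rfl⟩
    · rintro ⟨e, rfl⟩
      obtain ⟨v, hv⟩ := h1 e
      exact ⟨v, by rw [← hv]; rfl⟩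
  rw [Matrix.rank, hr, LinearMap.finrank_range_of_inj hinj]

/-- an odd-degree finite extension of finite fields has no automorphism inverting an element
which is not its own inverse -/
theorem s3_aeval_inv_ne_zero {F : Type*} [Field F] {L : Type*} [Field L] [Algebra F L] [Finite L]
    (hodd : Odd (finrank F L)) (ζ : L) (hζne : ζ ≠ ζ⁻¹) :
    aeval ζ⁻¹ (minpoly F ζ) ≠ 0 := by
  intro h0
  have : FiniteDimensional F L := Module.Finite.of_finite
  have halg : IsAlgebraic F ζ := Algebra.IsAlgebraic.isAlgebraic ζ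
  obtain ⟨σ, hσ⟩ := minpoly.exists_algEquiv_of_root halg h0
  have hσ1 : σ ζ = ζ⁻¹ := by
    have : σ ζ = (σ ζ⁻¹)⁻¹ := by rw [map_inv₀, inv_inv]
    rw [this, hσ]
  have hτ : (σ ^ 2) ζ = ζ := by
    rw [pow_two, AlgEquiv.mul_apply, hσ1, hσ]
  have h2 : ∀ k : ℕ, ((σ ^ 2) ^ k) ζ = ζ := by
    intro k
    induction k with
    | zero => simp
    | succ k ih =>
      rw [pow_succ, AlgEquiv.mul_apply, hτ, ih]
  have hdvd : orderOf σ ∣ finrank F L := by
    rw [← IsGalois.card_aut_eq_finrank F L]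
    exact orderOf_dvd_natCard σ
  have hoo : Odd (orderOf σ) := Odd.of_dvd_nat hodd hdvd
  obtain ⟨k, hk⟩ := hoo
  have h3 : (σ ^ orderOf σ) ζ = ζ⁻¹ := by
    rw [hk, pow_succ, pow_mul, AlgEquiv.mul_apply, hσ1, map_inv₀, h2]
  rw [pow_orderOf_eq_one, AlgEquiv.one_apply] at h3
  exact hζne h3

variable {F : Type v} [Field F]

section S
variable [Fintype F]

/-- SPT-S3 : one pair of dual irreducible blocks (`i = ord_r(q)` odd, `i ≤ d`). -/
theorem sp_exists_block_odd {p : ℕ} [Fact p.Prime] [CharP F p] (d : ℕ) (r : ℕ) [Fact r.Prime]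
    (hr2 : r ≠ 2) (hrp : r ≠ p) (hi2 : 2 ≤ orderOf ((Fintype.card F : ℕ) : ZMod r))
    (hio : Odd (orderOf ((Fintype.card F : ℕ) : ZMod r)))
    (hid : orderOf ((Fintype.card F : ℕ) : ZMod r) ≤ d) :
    ∃ (x : GL (Fin d ⊕ Fin d) F) (g : F[X]), x ∈ Cfsg.spGL d F ∧ x ^ r = 1 ∧
      (∀ z : F, (x : Matrix (Fin d ⊕ Fin d) (Fin d ⊕ Fin d) F) ≠ z • 1) ∧ Irreducible g ∧
      g.natDegree = orderOf ((Fintype.card F : ℕ) : ZMod r) ∧
      ((x : Matrix (Fin d ⊕ Fin d) (Fin d ⊕ Fin d) F) - 1).rank = 2 * g.natDegree ∧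
      (aeval (x : Matrix (Fin d ⊕ Fin d) (Fin d ⊕ Fin d) F) g).rank = 2 * d - g.natDegree := by
  classical
  obtain ⟨j, hj⟩ : ∃ j, j = orderOf ((Fintype.card F : ℕ) : ZMod r) := ⟨_, rfl⟩
  rw [← hj] at hi2 hio hid
  have hrpr : r.Prime := Fact.out
  have hri : r ∣ Fintype.card F ^ j - 1 := by
    have h1 : ((Fintype.card F : ℕ) : ZMod r) ^ j = 1 := by rw [hj]; exact pow_orderOf_eq_one _
    have hpos : 0 < Fintype.card F ^ j := pow_pos Fintype.card_pos _
    rw [← ZMod.natCast_eq_zero_iff, Nat.cast_sub hpos, Nat.cast_pow, h1, Nat.cast_one, sub_self]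
  have : NeZero j := ⟨by omega⟩
  let L := FiniteField.Extension F p j
  have : Finite L := inferInstance
  let _ : Fintype L := Fintype.ofFinite L
  have hdimL : Module.finrank F L = j := FiniteField.finrank_extension F p j
  have hcardL : Nat.card L = Fintype.card F ^ j := by
    rw [FiniteField.natCard_extension, Nat.card_eq_fintype_card]
  have hrU : r ∣ Nat.card Lˣ := by
    rw [Nat.card_units, hcardL]
    exact hri
  obtain ⟨ζ, hζ⟩ := exists_prime_orderOf_dvd_card' r hrU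
  have hζ1 : ζ ≠ 1 := by
    rintro rfl
    rw [orderOf_one] at hζ
    exact hrpr.one_lt.ne hζ
  have hζ1' : (ζ : L) ≠ 1 := fun h => hζ1 (Units.ext h)
  have hζinv : ((ζ⁻¹ : Lˣ) : L) = (ζ : L)⁻¹ := Units.val_inv_eq_inv_val ζ
  have hζne : (ζ : L) ≠ (ζ : L)⁻¹ := by
    intro h
    have h1 : ζ ^ 2 = 1 := by
      apply Units.ext
      rw [Units.val_pow_eq_pow_val, pow_two, Units.val_one]
      nth_rewrite 2 [h]
      exact mul_inv_cancel₀ (Units.ne_zero ζ)
    have h3 := orderOf_dvd_of_pow_eq_one h1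
    rw [hζ] at h3
    exact hr2 ((Nat.prime_dvd_prime_iff_eq hrpr Nat.prime_two).1 h3)
  have hζinv1 : (ζ : L)⁻¹ ≠ 1 := by
    intro h
    apply hζ1'
    rw [← inv_inv (ζ : L), h, inv_one]
  set k := d - j with hk
  let W₀ := (Fin k ⊕ Fin k → F)
  let ω : LinearMap.BilinForm F ((L × L) × W₀) :=
    (hypB (F := F) L).compl₁₂ (LinearMap.fst F (L × L) W₀) (LinearMap.fst F (L × L) W₀)
      + (sympB k).compl₁₂ (LinearMap.snd F (L × L) W₀) (LinearMap.snd F (L × L) W₀)
  have hω : ∀ a b : (L × L) × W₀, ω a b =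
      Algebra.trace F L (a.1.1 * b.1.2) - Algebra.trace F L (a.1.2 * b.1.1)
        + Cfsg.sympForm k F a.2 b.2 := by
    intro a b
    simp [ω, hypB_apply, sympB_apply]
  have halt : ω.IsAlt := by
    intro a
    rw [hω, mul_comm a.1.1 a.1.2, sub_self, ← sympB_apply, sympB_self, add_zero]
  have htr := traceForm_nondegenerate F L
  have hleft : ∀ a, (∀ b, ω a b = 0) → a = 0 := by
    intro a ha
    apply Prod.ext
    · apply Prod.ext
      · apply htr.1 a.1.1
        intro y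
        have := ha (((0 : L), y), (0 : W₀))
        rw [hω] at this
        simp only [mul_zero, map_zero, sub_zero] at this
        rw [← sympB_apply, map_zero, add_zero] at this
        rw [Algebra.traceForm_apply]
        exact this
      · apply htr.1 a.1.2
        intro y
        have := ha ((y, (0 : L)), (0 : W₀))
        rw [hω] at this
        simp only [mul_zero, map_zero, zero_sub] at this
        rw [← sympB_apply, map_zero, add_zero, neg_eq_zero] at this
        rw [Algebra.traceForm_apply]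
        exact this
    · apply sympB_nd_left k
      intro v
      have := ha (((0 : L), (0 : L)), v)
      rw [hω] at this
      simp only [mul_zero, map_zero, sub_zero, zero_add] at this
      rw [sympB_apply]
      exact this
  have hnd : ω.Nondegenerate := by
    refine ⟨hleft, fun b hb => hleft b (fun a => ?_)⟩
    have := hb a
    rw [← LinearMap.IsAlt.neg halt, this, neg_zero]
  have hfrA : finrank F (L × L) = 2 * j := by
    rw [Module.finrank_prod, hdimL]
    ring
  have hfrW₀ : finrank F W₀ = 2 * k := by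
    rw [Module.finrank_fintype_fun_eq_card, Fintype.card_sum, Fintype.card_fin]
    ring
  have hfr : finrank F ((L × L) × W₀) = 2 * d := by
    rw [Module.finrank_prod, hfrA, hfrW₀, hk]
    omega
  obtain ⟨Θ, hΘ⟩ := exists_symp_coords_gen ω halt hnd d hfr
  let XA : (L × L) ≃ₗ[F] (L × L) := (unitMul F L ζ).prodCongr (unitMul F L ζ⁻¹)
  have hXA : ∀ a : L × L, XA a = ((ζ : L) * a.1, (ζ : L)⁻¹ * a.2) := by
    intro a
    rw [← hζinv]
    rfl
  have hz : (ζ : L) ≠ 0 := Units.ne_zero ζ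
  have hXAn : ∀ n (a : L × L), (⇑XA)^[n] a = ((ζ : L) ^ n * a.1, ((ζ : L)⁻¹) ^ n * a.2) := by
    intro n
    induction n with
    | zero => intro a; simp
    | succ n ih =>
      intro a
      rw [Function.iterate_succ_apply', ih, hXA]
      simp only
      rw [pow_succ', pow_succ', mul_assoc, mul_assoc]
  have hζr : (ζ : L) ^ r = 1 := by
    rw [← Units.val_pow_eq_pow_val, ← hζ, pow_orderOf_eq_one, Units.val_one]
  obtain ⟨x, hx, hxn, W, U, hdata⟩ := exists_of_model d ω
    (by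
      intro a b
      rw [hω]
      show Algebra.trace F L (a.1 * 0) - Algebra.trace F L (a.2 * 0) +
        Cfsg.sympForm k F 0 b = 0
      rw [mul_zero, mul_zero, map_zero, sub_zero, ← sympB_apply (F := F) k, map_zero,
        LinearMap.zero_apply, add_zero])
    Θ hΘ XA
    (by
      intro m m'
      rw [hω, hω, hXA, hXA]
      simp only
      have e1 : (ζ : L) * m.1.1 * ((ζ : L)⁻¹ * m'.1.2) = m.1.1 * m'.1.2 := by
        calc (ζ : L) * m.1.1 * ((ζ : L)⁻¹ * m'.1.2)
            = ((ζ : L) * (ζ : L)⁻¹) * (m.1.1 * m'.1.2) := by ring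
          _ = m.1.1 * m'.1.2 := by rw [mul_inv_cancel₀ hz, one_mul]
      have e2 : (ζ : L)⁻¹ * m.1.2 * ((ζ : L) * m'.1.1) = m.1.2 * m'.1.1 := by
        calc (ζ : L)⁻¹ * m.1.2 * ((ζ : L) * m'.1.1)
            = ((ζ : L) * (ζ : L)⁻¹) * (m.1.2 * m'.1.1) := by ring
          _ = m.1.2 * m'.1.1 := by rw [mul_inv_cancel₀ hz, one_mul]
      rw [e1, e2])
    (by
      intro a
      have h1 : (ζ : L) - 1 ≠ 0 := sub_ne_zero.2 hζ1'
      have h3 : (ζ : L)⁻¹ - 1 ≠ 0 := sub_ne_zero.2 hζinv1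
      refine ⟨(((ζ : L) - 1)⁻¹ * a.1, ((ζ : L)⁻¹ - 1)⁻¹ * a.2), ?_⟩
      rw [hXA]
      apply Prod.ext
      · simp only [Prod.fst_sub]
        have e : (ζ : L) * (((ζ : L) - 1)⁻¹ * a.1) - ((ζ : L) - 1)⁻¹ * a.1 =
            (((ζ : L) - 1) * ((ζ : L) - 1)⁻¹) * a.1 := by ring
        rw [e, mul_inv_cancel₀ h1, one_mul]
      · simp only [Prod.snd_sub]
        have e : (ζ : L)⁻¹ * (((ζ : L)⁻¹ - 1)⁻¹ * a.2) - ((ζ : L)⁻¹ - 1)⁻¹ * a.2 =
            (((ζ : L)⁻¹ - 1) * ((ζ : L)⁻¹ - 1)⁻¹) * a.2 := by ring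
        rw [e, mul_inv_cancel₀ h3, one_mul])
    j hfrA hfr
  have hx1 : ∀ v : (Fin d ⊕ Fin d → F), (x : Matrix (Fin d ⊕ Fin d) (Fin d ⊕ Fin d) F) *ᵥ v =
      Θ (XA (Θ.symm v).1, (Θ.symm v).2) := by
    intro v
    have := hxn 1 v
    rwa [pow_one, Function.iterate_one] at this
  -- the polynomial `g`
  obtain ⟨g, hgdef⟩ : ∃ g, g = minpoly F (ζ : L) := ⟨_, rfl⟩
  have hint : IsIntegral F (ζ : L) := Algebra.IsIntegral.isIntegral _
  have hgirr : Irreducible g := hgdef ▸ minpoly.irreducible hint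
  have hcycζ : aeval (ζ : L) (cyclotomic r F) = 0 := by
    have h1 : aeval (ζ : L) (cyclotomic r F * (X - 1)) = 0 := by
      rw [cyclotomic_prime_mul_X_sub_one]
      simp [hζr]
    rw [map_mul] at h1
    rcases mul_eq_zero.1 h1 with h | h
    · exact h
    · exfalso
      apply hζ1'
      simpa [sub_eq_zero] using h
  have hgdvd : g ∣ cyclotomic r F := hgdef ▸ minpoly.dvd F _ hcycζ
  have hgdeg : g.natDegree = j := by
    rw [hj]
    exact Cfsg.Agent.Lib.Helper44.Tns.o2b_natDegree_of_dvd_cyclotomic (p := p) r hrp hgdvd hgirr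
  have hg1 : eval 1 g ≠ 0 := by
    obtain ⟨c, hc⟩ := hgdvd
    intro h0
    have h1 : eval 1 (cyclotomic r F) = (r : F) := eval_one_cyclotomic_prime
    rw [hc, eval_mul, h0, zero_mul] at h1
    have h2 : p ∣ r := (CharP.cast_eq_zero_iff F p r).1 h1.symm
    exact hrp ((Nat.prime_dvd_prime_iff_eq Fact.out hrpr).1 h2).symm
  have hgζ : aeval (ζ : L) g = 0 := hgdef ▸ minpoly.aeval F _
  have hgζi : aeval ((ζ : L)⁻¹) g ≠ 0 :=
    hgdef ▸ s3_aeval_inv_ne_zero (by rw [hdimL]; exact hio) (ζ : L) hζne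
  -- polynomials in `x`
  have hxP : ∀ (P : F[X]) (v : (Fin d ⊕ Fin d → F)),
      (aeval (x : Matrix (Fin d ⊕ Fin d) (Fin d ⊕ Fin d) F) P) *ᵥ v =
      Θ (((aeval (ζ : L) P) * (Θ.symm v).1.1, (aeval ((ζ : L)⁻¹) P) * (Θ.symm v).1.2),
        (eval 1 P) • (Θ.symm v).2) := by
    intro P
    induction P using Polynomial.induction_on' with
    | add P Q hP hQ =>
      intro v
      rw [map_add, Matrix.add_mulVec, hP, hQ, ← map_add Θ]
      congr 1
      simp only [map_add, eval_add, Prod.mk_add_mk, add_mul, add_smul]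
    | monomial n c =>
      intro v
      rw [aeval_monomial, Algebra.algebraMap_eq_smul_one, Matrix.smul_mul, Matrix.one_mul,
        Matrix.smul_mulVec, ← Units.val_pow_eq_pow_val, hxn, hXAn, ← map_smul,
        aeval_monomial, aeval_monomial, eval_monomial, one_pow, mul_one, Prod.smul_mk,
        Prod.smul_mk, Algebra.smul_def, Algebra.smul_def, mul_assoc, mul_assoc]
  refine ⟨x, g, hx, ?_, ?_, hgirr, by rw [hgdeg, hj], ?_, ?_⟩
  · apply Units.ext
    rw [Units.val_one, Matrix.ext_iff_mulVec]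
    intro v
    rw [hxn, Matrix.one_mulVec, hXAn, inv_pow, hζr, inv_one, one_mul, one_mul]
    exact LinearEquiv.apply_symm_apply Θ v
  · intro z hzz
    have h1 : ∀ v : (Fin d ⊕ Fin d → F),
        (x : Matrix (Fin d ⊕ Fin d) (Fin d ⊕ Fin d) F) *ᵥ v = z • v := by
      intro v
      rw [hzz, Matrix.smul_mulVec, Matrix.one_mulVec]
    have e1 := h1 (Θ (((1 : L), (0 : L)), (0 : W₀)))
    rw [hx1, LinearEquiv.symm_apply_apply, ← map_smul, hXA] at e1
    have e1' := congrArg (fun m : (L × L) × W₀ => m.1.1) (Θ.injective e1)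
    simp only [mul_one, Prod.smul_mk] at e1'
    have e2 := h1 (Θ (((0 : L), (1 : L)), (0 : W₀)))
    rw [hx1, LinearEquiv.symm_apply_apply, ← map_smul, hXA] at e2
    have e2' := congrArg (fun m : (L × L) × W₀ => m.1.2) (Θ.injective e2)
    simp only [mul_one, Prod.smul_mk] at e2'
    exact hζne (e1'.trans e2'.symm)
  · -- rank of `x - 1`
    have hX1 : (x : Matrix (Fin d ⊕ Fin d) (Fin d ⊕ Fin d) F) - 1 =
        aeval (x : Matrix (Fin d ⊕ Fin d) (Fin d ⊕ Fin d) F) (X - 1 : F[X]) := by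
      simp
    have hc1 : aeval (ζ : L) (X - 1 : F[X]) ≠ 0 := by
      simpa using sub_ne_zero.2 hζ1'
    have hc2 : aeval ((ζ : L)⁻¹) (X - 1 : F[X]) ≠ 0 := by
      simpa using sub_ne_zero.2 hζinv1
    have hc3 : eval 1 (X - 1 : F[X]) = 0 := by simp
    rw [hX1, hgdeg, ← hfrA]
    apply s3_rank_eq _ ((Θ : ((L × L) × W₀) →ₗ[F] (Fin d ⊕ Fin d → F)).comp
      (LinearMap.inl F (L × L) W₀))
    · exact Θ.injective.comp LinearMap.inl_injective
    · intro e
      refine ⟨Θ (((aeval (ζ : L) (X - 1 : F[X]))⁻¹ * e.1,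
        (aeval ((ζ : L)⁻¹) (X - 1 : F[X]))⁻¹ * e.2), 0), ?_⟩
      rw [hxP, LinearEquiv.symm_apply_apply]
      simp only [LinearMap.coe_comp, LinearEquiv.coe_coe, Function.comp_apply,
        LinearMap.inl_apply, smul_zero]
      rw [← mul_assoc, ← mul_assoc, mul_inv_cancel₀ hc1, mul_inv_cancel₀ hc2, one_mul, one_mul]
    · intro v
      refine ⟨((aeval (ζ : L) (X - 1 : F[X])) * (Θ.symm v).1.1,
        (aeval ((ζ : L)⁻¹) (X - 1 : F[X])) * (Θ.symm v).1.2), ?_⟩
      rw [hxP, hc3, zero_smul]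
      rfl
  · -- rank of `g(x)`
    have hfrE : finrank F (L × W₀) = 2 * d - g.natDegree := by
      rw [Module.finrank_prod, hdimL, hfrW₀, hgdeg, hk]
      omega
    rw [← hfrE]
    apply s3_rank_eq _ ((Θ : ((L × L) × W₀) →ₗ[F] (Fin d ⊕ Fin d → F)).comp
      ((LinearMap.inr F L L).prodMap (LinearMap.id : W₀ →ₗ[F] W₀)))
    · refine Θ.injective.comp ?_
      intro a b hab
      simp only [LinearMap.prodMap_apply, LinearMap.inr_apply, LinearMap.id_apply,
        Prod.mk.injEq, true_and] at hab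
      exact Prod.ext hab.1 hab.2
    · intro e
      refine ⟨Θ (((0 : L), (aeval ((ζ : L)⁻¹) g)⁻¹ * e.1), (eval 1 g)⁻¹ • e.2), ?_⟩
      rw [hxP, LinearEquiv.symm_apply_apply]
      simp only [LinearMap.coe_comp, LinearEquiv.coe_coe, Function.comp_apply,
        LinearMap.prodMap_apply, LinearMap.inr_apply, LinearMap.id_apply, mul_zero]
      rw [← mul_assoc, mul_inv_cancel₀ hgζi, one_mul, smul_smul, mul_inv_cancel₀ hg1, one_smul]
    · intro v
      refine ⟨((aeval ((ζ : L)⁻¹) g) * (Θ.symm v).1.2, (eval 1 g) • (Θ.symm v).2), ?_⟩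
      rw [hxP, hgζ, zero_mul]
      rfl

end S

end Cfsg.Agent.Lib.Helper31.SpTns
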