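import Cfsg.Agent.Lib.Helper80.Conv
import Cfsg.Agent.Lib.Helper80.Orthogonality
import Cfsg.Agent.Lib.Helper74.FS5

set_option autoImplicit false

namespace Cfsg.Agent.Lib.Helper80

open Cfsg
open scoped ComplexConjugate

section SquareRoots

variable {G : Type*} [Group G] [Fintype G]

/-- If `g` is not a square, then the Frobenius–Schur weighted column sum at `g` vanishes. -/
theorem sum_fs_mul_conj_eq_zero [Fintype (Cfsg.IrrCharacter G)] (g : G)
    (hns : ¬ ∃ u : G, u * u = g) :
    ∑ χ : Cfsg.IrrCharacter G,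
      ((Nat.card G : ℂ)⁻¹ * ∑ s : G, (χ : G → ℂ) (s * s)) * conj ((χ : G → ℂ) g) = 0 := by
  classical
  have h1 : ∑ χ : Cfsg.IrrCharacter G,
      ((Nat.card G : ℂ)⁻¹ * ∑ s : G, (χ : G → ℂ) (s * s)) * conj ((χ : G → ℂ) g) =
      (Nat.card G : ℂ)⁻¹ * ∑ s : G, ∑ χ : Cfsg.IrrCharacter G,
        (χ : G → ℂ) (s * s) * conj ((χ : G → ℂ) g) := by
    rw [Finset.sum_comm, Finset.mul_sum]
    refine Finset.sum_congr rfl fun χ _ => ?_
    rw [Finset.mul_sum, Finset.sum_mul, Finset.mul_sum]
    refine Finset.sum_congr rfl fun s _ => ?_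
    ring
  rw [h1]
  have h2 : ∀ s : G, ∑ χ : Cfsg.IrrCharacter G,
      (χ : G → ℂ) (s * s) * conj ((χ : G → ℂ) g) = 0 := by
    intro s
    rw [irr_column_orthogonality, if_neg]
    intro hconj
    obtain ⟨c, hc⟩ := isConj_iff.mp hconj
    apply hns
    refine ⟨c * s * c⁻¹, ?_⟩
    rw [← hc]
    group
  simp only [h2, Finset.sum_const_zero, mul_zero]

/-- If `g` is not a square in `G` then some non-principal real-valued irreducible character does
not vanish at `g`. -/
theorem exists_real_irr_of_not_square (g : G) (hns : ¬ ∃ u : G, u * u = g) :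
    ∃ χ : Cfsg.IrrCharacter G, ¬ ((χ : G → ℂ) = fun _ => (1 : ℂ)) ∧
      (∀ h : G, ((χ : G → ℂ) h).im = 0) ∧ (χ : G → ℂ) g ≠ 0 := by
  classical
  have := Fintype.ofFinite (Cfsg.IrrCharacter G)
  by_contra hcon
  push Not at hcon
  have key := sum_fs_mul_conj_eq_zero g hns
  rw [Finset.sum_eq_single (trivIrr G)] at key
  · have hcard : (Nat.card G : ℂ) ≠ 0 := by exact_mod_cast Nat.card_pos.ne'
    simp only [trivIrr_apply, Finset.sum_const, Finset.card_univ, nsmul_eq_mul, mul_one,
      map_one] at key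
    rw [← Nat.card_eq_fintype_card, inv_mul_cancel₀ hcard] at key
    exact one_ne_zero key
  · intro χ _ hχ
    have hne : ¬ ((χ : G → ℂ) = fun _ => (1 : ℂ)) := by
      intro h
      apply hχ
      exact Subtype.ext h
    by_cases hreal : ∀ h : G, ((χ : G → ℂ) h).im = 0
    · rw [hcon χ hne hreal, map_zero, mul_zero]
    · push Not at hreal
      rw [Cfsg.Agent.Lib.Helper74.fs_of_not_real χ.2 hreal, zero_mul]
  · intro h
    exact absurd (Finset.mem_univ _) h

end SquareRoots

end Cfsg.Agent.Lib.Helper80
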