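import Cfsg.Agent.Lib.Helper80.Stn_SYMCENTcore
import Cfsg.Agent.Lib.Helper69.Stn_HXXcore
import Cfsg.Agent.Lib.Helper95.Stn_WALL

/-! # Stn hive (S2401), sub-hive Stn-SYM, leaf SYM-CENT: `sym_central` (exact skeleton statement),
from `symcent_core` + `hxx_core` (helper69) + `ww_conj_xx` (helper95, Stn_WALL). -/

set_option autoImplicit false

namespace Cfsg.Agent.Lib.Helper41.Stn

open Matrix

variable {K : Type*} [Field K] {n : ℕ}

/-- SYM-CENT -/
theorem sym_central (hn : 3 ≤ n) {i j : Fin n} (hij : i ≠ j) {t u : K} (ht : t ≠ 0) (hu : u ≠ 0) :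
    sym i j t u ∈ Subgroup.center (St K n) :=
  symcent_core (fun ht' _ _ hkl a =>
    hxx_core hij (fun hs _ _ hkl' v => ww_conj_xx hn hij hs hkl' v) ht' hkl a) ht hu

end Cfsg.Agent.Lib.Helper41.Stn
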