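import Cfsg.Agent.Lib.Helper86.StnSymDefs
import Cfsg.Agent.Lib.Helper80.Stn_BASIC

/-! # Stn hive (S2401), sub-hive Stn-SYM, leaf SYM-CENT (core): the symbol is central, with the
Layer A statement `hh_conj_xx` (for the pair `i j`) as a hypothesis. -/

set_option autoImplicit false

namespace Cfsg.Agent.Lib.Helper41.Stn

open Matrix

variable {K : Type*} [Field K] {n : ℕ}

theorem symcent_dd_ne (i j : Fin n) {t : K} (ht : t ≠ 0) (c : Fin n) : dd i j t c ≠ 0 := by
  unfold dd
  split_ifs
  · exact ht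
  · exact inv_ne_zero ht
  · exact one_ne_zero

theorem symcent_dd_mul (i j : Fin n) (t u : K) (c : Fin n) :
    dd i j (t * u) c = dd i j t c * dd i j u c := by
  unfold dd
  split_ifs
  · rfl
  · rw [mul_inv]
  · rw [one_mul]

/-- conjugation by `h(t)⁻¹` -/
theorem symcent_inv_conj {i j : Fin n}
    (hconj : ∀ {t : K}, t ≠ 0 → ∀ {k l : Fin n}, k ≠ l → ∀ a : K,
      hh i j t * xx k l a * (hh i j t)⁻¹ = xx k l (dd i j t k / dd i j t l * a))
    {t : K} (ht : t ≠ 0) {k l : Fin n} (hkl : k ≠ l) (a : K) :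
    (hh i j t)⁻¹ * xx k l a * hh i j t = xx k l ((dd i j t k / dd i j t l)⁻¹ * a) := by
  have hk := symcent_dd_ne i j ht k
  have hl := symcent_dd_ne i j ht l
  have h := hconj ht hkl ((dd i j t k / dd i j t l)⁻¹ * a)
  rw [← mul_assoc, mul_inv_cancel₀ (div_ne_zero hk hl), one_mul] at h
  rw [← h]
  group

/-- SYM-CENT, core -/
theorem symcent_core {i j : Fin n}
    (hconj : ∀ {t : K}, t ≠ 0 → ∀ {k l : Fin n}, k ≠ l → ∀ a : K,
      hh i j t * xx k l a * (hh i j t)⁻¹ = xx k l (dd i j t k / dd i j t l * a))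
    {t u : K} (ht : t ≠ 0) (hu : u ≠ 0) : sym i j t u ∈ Subgroup.center (St K n) := by
  have key : ∀ {k l : Fin n}, k ≠ l → ∀ a : K,
      sym i j t u * xx k l a * (sym i j t u)⁻¹ = xx k l a := by
    intro k l hkl a
    have htu : t * u ≠ 0 := mul_ne_zero ht hu
    have e : sym i j t u * xx k l a * (sym i j t u)⁻¹ =
        hh i j (t * u) * ((hh i j t)⁻¹ * ((hh i j u)⁻¹ * xx k l a * hh i j u) * hh i j t) *
          (hh i j (t * u))⁻¹ := by
      unfold sym
      group
    rw [e, symcent_inv_conj hconj hu hkl, symcent_inv_conj hconj ht hkl, hconj htu hkl]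
    congr 1
    have hk1 := symcent_dd_ne i j ht k
    have hl1 := symcent_dd_ne i j ht l
    have hk2 := symcent_dd_ne i j hu k
    have hl2 := symcent_dd_ne i j hu l
    rw [symcent_dd_mul, symcent_dd_mul]
    field_simp
  rw [Subgroup.mem_center_iff]
  have hle : (⊤ : Subgroup (St K n)) ≤ Subgroup.centralizer {sym i j t u} := by
    rw [← closure_xx, Subgroup.closure_le]
    rintro _ ⟨k, l, a, hkl, rfl⟩
    rw [SetLike.mem_coe, Subgroup.mem_centralizer_iff]
    intro z hz
    rw [Set.mem_singleton_iff] at hz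
    subst hz
    have := key hkl a
    rw [mul_inv_eq_iff_eq_mul] at this
    exact this
  intro g
  have hg := hle (Subgroup.mem_top g)
  rw [Subgroup.mem_centralizer_iff] at hg
  exact (hg _ rfl).symm

end Cfsg.Agent.Lib.Helper41.Stn
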