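import Cfsg.Agent.Lib.Helper80.TwoDegrees
import Cfsg.Agent.Lib.Helper79.Taketa
import Cfsg.Agent.Lib.Helper79.NilpM

set_option autoImplicit false
set_option linter.style.haveILetI false
set_option linter.unusedSectionVars false

/-!
# Groups with two character degrees are metabelian (Isaacs, Corollary 12.6)
-/

namespace Cfsg.Agent.Lib.Helper80

open Cfsg
open Cfsg.Agent.Lib.Helper79
open scoped ComplexConjugate commutatorElement

universe u

section TaketaTwo

variable {G : Type u} [Group G] [Fintype G]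

/-- Taketa's argument for an M-group with at most two character degrees `1`, `m`. -/
theorem taketa_two_aux (m : ℕ)
    (hM : ∀ χ : G → ℂ, IsIrrCharacter G χ → ∃ (H : Subgroup G) (lam : H →* ℂˣ),
      χ = indFun H (fun h => ((lam h : ℂˣ) : ℂ)))
    (hcd : ∀ χ : IrrCharacter G, (χ : G → ℂ) 1 = 1 ∨ (χ : G → ℂ) 1 = (m : ℂ)) :
    ∀ χ : G → ℂ, IsIrrCharacter G χ → ∀ g ∈ derivedSeries G 2, χ g = χ 1 := by
  classical
  haveI : Finite (IrrCharacter G) := Cfsg.Agent.Lib.Helper3.irrCharacter_finite
  haveI := Fintype.ofFinite (IrrCharacter G)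
  -- linear characters
  have hlin : ∀ χ : G → ℂ, IsIrrCharacter G χ → χ 1 = 1 → ∀ g ∈ derivedSeries G 1, χ g = χ 1 := by
    intro χ hχ h1 g hg
    rw [derivedSeries_one] at hg
    rw [h1]
    exact isCharacter_one_commutator (Cfsg.Agent.Lib.Helper3.IsIrrCharacter.isCharacter hχ) h1 hg
  intro χ hχ g hg
  rcases hcd ⟨χ, hχ⟩ with h1 | h1
  · exact hlin χ hχ h1 g (derivedSeries_antitone G (by norm_num : 1 ≤ 2) hg)
  · simp only at h1
    obtain ⟨H, lam, hχeq⟩ := hM χ hχ
    have hH0 : (Nat.card H : ℂ) ≠ 0 := by exact_mod_cast Nat.card_pos.ne'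
    set π : G → ℂ := indFun H (fun _ : H => (1 : ℂ)) with hπ
    have hπchar : IsCharacter G π :=
      Cfsg.Agent.Lib.Helper3.isCharacter_indFun H (Cfsg.Agent.Lib.Helper3.IsCharacter.one)
    have hπ1 : π 1 = (m : ℂ) := by
      have h2 := indFun_monoidHom_one H (1 : H →* ℂˣ)
      have h2' : π 1 = (Nat.card H : ℂ)⁻¹ * (Nat.card G : ℂ) := by
        simpa using h2
      rw [h2', ← indFun_monoidHom_one H lam, ← hχeq, h1]
    obtain ⟨mult, hmult, hsum⟩ := Cfsg.Agent.Lib.Helper3.IsCharacter.exists_mult hπchar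
    choose deg hdeg using fun ψ : IrrCharacter G => exists_nat_irr_one ψ
    let triv : IrrCharacter G := ⟨fun g => (((1 : G →* ℂˣ) g : ℂˣ) : ℂ),
      isIrrCharacter_of_monoidHom (1 : G →* ℂˣ)⟩
    have htriv : ∀ g : G, (triv : G → ℂ) g = 1 := fun g => rfl
    have hmtriv : mult triv = 1 := by
      have h2 := hmult triv
      rw [hπ, Cfsg.Agent.Lib.Helper25.frobenius_reciprocity H _ _
        (Cfsg.Agent.Lib.Helper3.IsCharacter.isClassFunction
          (Cfsg.Agent.Lib.Helper3.IsIrrCharacter.isCharacter triv.2))] at h2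
      have h3 : classInner (fun _ : H => (1 : ℂ)) (fun h : H => (triv : G → ℂ) h) = 1 := by
        unfold classInner
        simp only [htriv, map_one, mul_one, Finset.sum_const, Finset.card_univ, nsmul_eq_mul,
          ← Nat.card_eq_fintype_card]
        exact inv_mul_cancel₀ hH0
      rw [h3] at h2
      exact_mod_cast h2.symm
    have hdtriv : deg triv = 1 := by
      have := hdeg triv
      rw [htriv] at this
      exact_mod_cast this.symm
    have hsumdeg : ∑ ψ : IrrCharacter G, mult ψ * deg ψ = m := by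
      have h2 := congrFun hsum 1
      rw [hπ1] at h2
      simp only [Finset.sum_apply, Pi.smul_apply, smul_eq_mul, hdeg] at h2
      have : ((m : ℕ) : ℂ) = ((∑ ψ : IrrCharacter G, mult ψ * deg ψ : ℕ) : ℂ) := by
        rw [h2]
        push_cast
        rfl
      exact_mod_cast this.symm
    have hdeglt : ∀ ψ : IrrCharacter G, ψ ≠ triv → mult ψ ≠ 0 → deg ψ < m := by
      intro ψ hne hm0
      have hsub : ({ψ, triv} : Finset (IrrCharacter G)) ⊆ Finset.univ := Finset.subset_univ _
      have h2 := Finset.sum_le_sum_of_subset (f := fun ψ => mult ψ * deg ψ) hsub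
      rw [Finset.sum_pair hne, hsumdeg, hmtriv, hdtriv] at h2
      have h3 : deg ψ ≤ mult ψ * deg ψ := Nat.le_mul_of_pos_left _ (Nat.pos_of_ne_zero hm0)
      omega
    have hA : ∀ y ∈ derivedSeries G 1, π y = π 1 := by
      intro y hy
      rw [hsum]
      simp only [Finset.sum_apply, Pi.smul_apply, smul_eq_mul]
      apply Finset.sum_congr rfl
      intro ψ _
      by_cases hm0 : mult ψ = 0
      · rw [hm0]; simp
      · by_cases hne : ψ = triv
        · rw [hne, htriv, htriv]
        · have hlt := hdeglt ψ hne hm0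
          have hψ1 : (ψ : G → ℂ) 1 = 1 := by
            rcases hcd ψ with h | h
            · exact h
            · exfalso
              rw [hdeg ψ] at h
              have : deg ψ = m := by exact_mod_cast h
              omega
          rw [hlin ψ ψ.2 hψ1 y hy]
    have hB : derivedSeries G 1 ≤ H := by
      intro y hy
      exact mem_of_indFun_one_eq H y (hA y hy)
    have hC : derivedSeries G (1 + 1) ≤ (MonoidHom.ker lam).map H.subtype := by
      rw [derivedSeries_succ, Subgroup.commutator_le]
      intro a ha b hb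
      refine ⟨⁅(⟨a, hB ha⟩ : H), (⟨b, hB hb⟩ : H)⁆, ?_, rfl⟩
      apply Abelianization.commutator_subset_ker lam
      exact Subgroup.commutator_mem_commutator (Subgroup.mem_top _) (Subgroup.mem_top _)
    rw [hχeq]
    apply indFun_eq_of_conj_mem_ker
    intro x
    have hnorm : (derivedSeries G (1 + 1)).Normal := derivedSeries_normal G (1 + 1)
    have hx : x⁻¹ * g * x ∈ derivedSeries G (1 + 1) := by
      have := hnorm.conj_mem g hg x⁻¹
      simpa using this
    obtain ⟨h, hh, hhx⟩ := hC hx
    exact ⟨h, hhx, MonoidHom.mem_ker.mp hh⟩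

end TaketaTwo

/-- A nilpotent group with at most two character degrees has abelian commutator subgroup. -/
theorem comm_commutator_of_nilpotent_two_degrees {Q : Type u} [Group Q] [Finite Q]
    [Group.IsNilpotent Q] (m : ℕ)
    (hcd : ∀ χ : IrrCharacter Q, charDegree (χ : Q → ℂ) = 1 ∨ charDegree (χ : Q → ℂ) = m) :
    ∀ a ∈ commutator Q, ∀ b ∈ commutator Q, a * b = b * a := by
  classical
  have := Fintype.ofFinite Q
  have hcd' : ∀ χ : IrrCharacter Q, (χ : Q → ℂ) 1 = 1 ∨ (χ : Q → ℂ) 1 = (m : ℂ) := by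
    intro χ
    rcases hcd χ with h | h
    · left
      rw [← irr_charDegree_cast χ, h, Nat.cast_one]
    · right
      rw [← irr_charDegree_cast χ, h]
  have key := taketa_two_aux m (fun χ hχ => nilpotent_monomial χ hχ) hcd'
  intro a ha b hb
  have h1 : ⁅a, b⁆ ∈ derivedSeries Q 2 := by
    rw [derivedSeries_succ, derivedSeries_one]
    exact Subgroup.commutator_mem_commutator ha hb
  have h2 : IsConj ⁅a, b⁆ 1 := by
    apply isConj_of_forall_irr_eq
    intro χ
    exact key χ χ.2 _ h1
  have h3 : ⁅a, b⁆ = 1 := isConj_one_left.mp h2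
  exact commutatorElement_eq_one_iff_mul_comm.mp h3

end Cfsg.Agent.Lib.Helper80
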