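import Mathlib
import Cfsg.Prelude.Def_ClassicalGeometry

/-! TI-COUNT2 (core, by helper80) for helper48's S5955 hive: the arithmetic part, with the
frame-count identity of TI-COUNT1 as a hypothesis. -/

set_option autoImplicit false

namespace Cfsg.Agent.Lib.Helper48.Ti

open Polynomial Module

section concrete

variable {F : Type*} [Field F]

/-- cancelling the powers of `q` in the frame count -/
theorem count2_core (q d m N : ℕ) (hq : 0 < q) (hmd : m ≤ d)
    (hN : N * ∏ j ∈ Finset.range m, (q ^ m - q ^ j) =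
      ∏ j ∈ Finset.range m, (q ^ (2 * d - j) - q ^ j)) :
    N * ∏ j ∈ Finset.range m, (q ^ (m - j) - 1) =
      ∏ j ∈ Finset.range m, (q ^ (2 * (d - j)) - 1) := by
  have h1 : ∏ j ∈ Finset.range m, (q ^ m - q ^ j) =
      (∏ j ∈ Finset.range m, q ^ j) * ∏ j ∈ Finset.range m, (q ^ (m - j) - 1) := by
    rw [← Finset.prod_mul_distrib]
    apply Finset.prod_congr rfl
    intro j hj
    have hj' : j < m := Finset.mem_range.1 hj
    rw [Nat.mul_sub, mul_one, ← pow_add]
    congr 2
    omega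
  have h2 : ∏ j ∈ Finset.range m, (q ^ (2 * d - j) - q ^ j) =
      (∏ j ∈ Finset.range m, q ^ j) * ∏ j ∈ Finset.range m, (q ^ (2 * (d - j)) - 1) := by
    rw [← Finset.prod_mul_distrib]
    apply Finset.prod_congr rfl
    intro j hj
    have hj' : j < m := Finset.mem_range.1 hj
    rw [Nat.mul_sub, mul_one, ← pow_add]
    congr 2
    omega
  rw [h1, h2] at hN
  have hpos : 0 < ∏ j ∈ Finset.range m, q ^ j := Finset.prod_pos (fun j _ => pow_pos hq j)
  apply Nat.eq_of_mul_eq_mul_left hpos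
  rw [← hN]
  ring

/-- TI-COUNT2 with the count identity as a hypothesis -/
theorem count2_main [Fintype F] {p : ℕ} [Fact p.Prime] [CharP F p] (d m : ℕ)
    (hmd : m ≤ d) (N : ℕ)
    (hN : N * ∏ j ∈ Finset.range m, (Fintype.card F ^ m - Fintype.card F ^ j) =
      ∏ j ∈ Finset.range m, (Fintype.card F ^ (2 * d - j) - Fintype.card F ^ j))
    (r : ℕ) (hr : r.Prime) (h : r ∣ N) :
    r ≠ p ∧ ∃ j, j < m ∧ r ∣ Fintype.card F ^ (2 * (d - j)) - 1 := by
  have hq : 0 < Fintype.card F := Fintype.card_pos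
  have hcore := count2_core (Fintype.card F) d m N hq hmd hN
  have hdvd : r ∣ ∏ j ∈ Finset.range m, (Fintype.card F ^ (2 * (d - j)) - 1) := by
    rw [← hcore]
    exact Dvd.dvd.mul_right h _
  obtain ⟨j, hj, hrj⟩ := (Prime.dvd_finsetProd_iff hr.prime _).1 hdvd
  have hjm : j < m := Finset.mem_range.1 hj
  refine ⟨?_, j, hjm, hrj⟩
  intro hrp
  subst hrp
  obtain ⟨f, -, hK⟩ := FiniteField.card F r
  have hpq : r ∣ Fintype.card F := by
    rw [hK]
    exact dvd_pow_self r f.ne_zero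
  have h1 : r ∣ Fintype.card F ^ (2 * (d - j)) := dvd_pow hpq (by omega)
  have h2 : r ∣ Fintype.card F ^ (2 * (d - j)) - (Fintype.card F ^ (2 * (d - j)) - 1) :=
    Nat.dvd_sub h1 hrj
  have h3 : Fintype.card F ^ (2 * (d - j)) - (Fintype.card F ^ (2 * (d - j)) - 1) = 1 := by
    have := pow_pos hq (2 * (d - j))
    omega
  rw [h3] at h2
  exact hr.one_lt.ne' (Nat.dvd_one.1 h2)

end concrete

end Cfsg.Agent.Lib.Helper48.Ti
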