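import Mathlib
import Cfsg.Prelude.Def_ClassicalGeometry
import Cfsg.Agent.Lib.Helper80.TiCOUNT2core
import Cfsg.Agent.Lib.Helper80.TiCOUNT1

/-! TI-COUNT2 for helper48's S5955 hive (by helper80). -/

set_option autoImplicit false

namespace Cfsg.Agent.Lib.Helper48.Ti

open Polynomial Module

section concrete

variable {F : Type*} [Field F]

/-- TI-COUNT2 -/
theorem dvd_of_dvd_card_ti [Fintype F] {p : ℕ} [Fact p.Prime] [CharP F p] (d m : ℕ)
    (hmd : m ≤ d) (r : ℕ) (hr : r.Prime)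
    (h : r ∣ Nat.card {W : Submodule F (Fin d ⊕ Fin d → F) //
        finrank F W = m ∧ ∀ u ∈ W, ∀ v ∈ W, Cfsg.sympForm d F u v = 0}) :
    r ≠ p ∧ ∃ j, j < m ∧ r ∣ Fintype.card F ^ (2 * (d - j)) - 1 :=
  count2_main d m hmd _ (card_ti_mul d m hmd) r hr h

end concrete

end Cfsg.Agent.Lib.Helper48.Ti
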