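import Mathlib
import Cfsg.Prelude.Def_ClassicalGeometry
import Cfsg.Prelude.Def_GeometricClasses
import Cfsg.Agent.Lib.Helper48.TiDefs
import Cfsg.Agent.Lib.Helper67.TsDefs
import Cfsg.Agent.Lib.Helper5.TwoSubspaces
import Cfsg.Agent.Lib.Helper80.TiCOUNT1
import Cfsg.Agent.Lib.Helper25.TsBRIDGE
import Cfsg.Agent.Lib.Helper13.TsCOUNT0

/-! TS-COUNT1 for helper67's S5972 hive (by helper80): the totally singular frame count. -/

set_option autoImplicit false
set_option linter.unusedSectionVars false
set_option linter.unusedVariables false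

namespace Cfsg.Agent.Lib.Helper67.Ts

open Polynomial Module
open Cfsg.Agent.Lib.Helper2.BG Cfsg.Agent.Lib.Helper99 Cfsg.Agent.Lib.Helper48.Ti

section count1gen

universe u v

variable {F : Type u} [Field F] [Fintype F] {V : Type v} [AddCommGroup V] [Module F V] [Finite V]
variable (B : LinearMap.BilinForm F V)

/-- the extensions of an isotropic frame by one more isotropic vector (symmetric case) -/
abbrev count1_ts_Ext {k : ℕ} (w : Fin k → V) : Type v :=
  {v : V // B v v = 0 ∧ (∀ a, B (w a) v = 0) ∧ v ∉ Submodule.span F (Set.range w)}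

/-- the frames with a given tail are the extensions of the tail -/
theorem count1_ts_fr_fiber (hB : ∀ u v, B u v = B v u) (k : ℕ) (w : count1_Fr B k) :
    Nat.card {w' : count1_Fr B (k + 1) // Fin.tail w'.1 = w.1} =
      Nat.card (count1_ts_Ext B w.1) := by
  apply Nat.card_congr
  refine
    { toFun := fun w' => ⟨w'.1.1 0, w'.1.2.1 0 0, ?_, ?_⟩
      invFun := fun v => ⟨⟨Fin.cons v.1 w.1, ?_, ?_⟩, ?_⟩
      left_inv := ?_
      right_inv := ?_ }
  · intro a
    have h := w'.1.2.1 a.succ 0
    have ht : w'.1.1 a.succ = w.1 a := congrFun w'.2 a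
    rw [ht] at h
    exact h
  · have h := w'.1.2.2
    rw [← Fin.cons_self_tail w'.1.1, linearIndependent_finCons, w'.2] at h
    exact h.2
  · intro a b
    refine Fin.cases ?_ (fun a' => ?_) a <;> refine Fin.cases ?_ (fun b' => ?_) b
    · rw [Fin.cons_zero]
      exact v.2.1
    · rw [Fin.cons_zero, Fin.cons_succ, hB]
      exact v.2.2.1 b'
    · rw [Fin.cons_zero, Fin.cons_succ]
      exact v.2.2.1 a'
    · rw [Fin.cons_succ, Fin.cons_succ]
      exact w.2.1 a' b'
  · rw [linearIndependent_finCons]
    exact ⟨w.2.2, v.2.2.2⟩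
  · funext a
    rfl
  · intro w'
    apply Subtype.ext
    apply Subtype.ext
    show Fin.cons (w'.1.1 0) w.1 = w'.1.1
    funext a
    refine Fin.cases ?_ (fun a' => ?_) a
    · rfl
    · rw [Fin.cons_succ]
      exact (congrFun w'.2 a').symm
  · intro v
    apply Subtype.ext
    rfl

/-- the recursion for the number of frames -/
theorem count1_ts_fr_succ (hB : ∀ u v, B u v = B v u) (k c : ℕ)
    (hc : ∀ w : count1_Fr B k, Nat.card (count1_ts_Ext B w.1) = c) :
    Nat.card (count1_Fr B (k + 1)) = Nat.card (count1_Fr B k) * c := by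
  classical
  have hfin1 : Finite (count1_Fr B k) := inferInstance
  have hfin2 : Finite (count1_Fr B (k + 1)) := inferInstance
  have : Fintype (count1_Fr B k) := Fintype.ofFinite _
  have e := Equiv.sigmaFiberEquiv (fun w' : count1_Fr B (k + 1) => (⟨Fin.tail w'.1,
    fun a b => w'.2.1 a.succ b.succ, by
      have h := w'.2.2
      rw [← Fin.cons_self_tail w'.1, linearIndependent_finCons] at h
      exact h.1⟩ : count1_Fr B k))
  rw [← Nat.card_congr e, Nat.card_sigma]
  have hfib : ∀ w : count1_Fr B k, Nat.card {w' : count1_Fr B (k + 1) // (⟨Fin.tail w'.1,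
    fun a b => w'.2.1 a.succ b.succ, by
      have h := w'.2.2
      rw [← Fin.cons_self_tail w'.1, linearIndependent_finCons] at h
      exact h.1⟩ : count1_Fr B k) = w} = c := by
    intro w
    rw [← hc w, ← count1_ts_fr_fiber B hB k w]
    apply Nat.card_congr
    apply Equiv.subtypeEquivRight
    intro w'
    constructor
    · intro h
      exact congrArg Subtype.val h
    · intro h
      exact Subtype.ext h
  simp only [hfib]
  rw [Finset.sum_const, smul_eq_mul, Finset.card_univ, Nat.card_eq_fintype_card]

/-- frames counted through the subspace they span (no hypothesis on `B`) -/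
theorem count1_ts_card_fr_eq (m : ℕ) :
    Nat.card (count1_Fr B m) =
      Nat.card {W : Submodule F V // finrank F W = m ∧ ∀ u ∈ W, ∀ v ∈ W, B u v = 0} *
        ∏ j ∈ Finset.range m, (Fintype.card F ^ m - Fintype.card F ^ j) := by
  classical
  have : Module.Finite F V := Module.Finite.of_finite
  have : Finite (Submodule F V) := Finite.of_injective (fun W => (W : Set V)) SetLike.coe_injective
  have hTI : ∀ s : count1_Fr B m, ∀ u ∈ Submodule.span F (Set.range s.1),
      ∀ v ∈ Submodule.span F (Set.range s.1), B u v = 0 := by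
    intro s
    have h1 : ∀ a, ∀ v ∈ Submodule.span F (Set.range s.1), B (s.1 a) v = 0 := by
      intro a v hv
      induction hv using Submodule.span_induction with
      | mem x hx =>
        obtain ⟨b, rfl⟩ := hx
        exact s.2.1 a b
      | zero => simp
      | add x y _ _ hx hy => rw [map_add, hx, hy, add_zero]
      | smul c x _ hx => rw [map_smul, hx, smul_zero]
    intro u hu v hv
    induction hu using Submodule.span_induction with
    | mem x hx =>
      obtain ⟨a, rfl⟩ := hx
      exact h1 a v hv
    | zero => simp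
    | add x y _ _ hx hy => rw [map_add, LinearMap.add_apply, hx, hy, add_zero]
    | smul c x _ hx => rw [map_smul, LinearMap.smul_apply, hx, smul_zero]
  let f : count1_Fr B m →
      {W : Submodule F V // finrank F W = m ∧ ∀ u ∈ W, ∀ v ∈ W, B u v = 0} := fun s =>
    ⟨Submodule.span F (Set.range s.1), by
      rw [finrank_span_eq_card s.2.2, Fintype.card_fin], hTI s⟩
  have e := Equiv.sigmaFiberEquiv f
  rw [← Nat.card_congr e]
  have : Fintype {W : Submodule F V // finrank F W = m ∧ ∀ u ∈ W, ∀ v ∈ W, B u v = 0} :=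
    Fintype.ofFinite _
  rw [Nat.card_sigma]
  have hfib : ∀ W : {W : Submodule F V // finrank F W = m ∧ ∀ u ∈ W, ∀ v ∈ W, B u v = 0},
      Nat.card {s // f s = W} =
        ∏ j ∈ Finset.range m, (Fintype.card F ^ m - Fintype.card F ^ j) := by
    intro W
    rw [← count1_card_fiber m W.1 W.2.1]
    apply Nat.card_congr
    refine
      { toFun := fun s => ⟨s.1.1, s.1.2.2, congrArg Subtype.val s.2⟩
        invFun := fun s => ⟨⟨s.1, ?_, s.2.1⟩, Subtype.ext s.2.2⟩
        left_inv := fun s => rfl
        right_inv := fun s => rfl }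
    intro a b
    have hs := s.2.2
    have ha : s.1 a ∈ Submodule.span F (Set.range s.1) :=
      Submodule.subset_span (Set.mem_range_self a)
    have hb : s.1 b ∈ Submodule.span F (Set.range s.1) :=
      Submodule.subset_span (Set.mem_range_self b)
    rw [hs] at ha hb
    exact W.2.2 _ ha _ hb
  simp only [hfib, Finset.sum_const, Finset.card_univ, smul_eq_mul, Nat.card_eq_fintype_card]

end count1gen

section concrete

variable {F : Type*} [Field F]

theorem count1_ts_two_ne_zero [Fintype F] (hq : Odd (Fintype.card F)) : (2 : F) ≠ 0 := by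
  intro h2
  obtain ⟨p, hp⟩ := CharP.exists F
  have := hp
  obtain ⟨n, hpp, hcard⟩ := FiniteField.card F p
  have h2' : ((2 : ℕ) : F) = 0 := by exact_mod_cast h2
  have hdvd : p ∣ 2 := (CharP.cast_eq_zero_iff F p 2).1 h2'
  have hp2 : p = 2 := (Nat.prime_dvd_prime_iff_eq hpp Nat.prime_two).1 hdvd
  rw [hcard, hp2] at hq
  exact (Nat.not_even_iff_odd.2 hq) (Nat.even_pow.2 ⟨even_two, n.ne_zero⟩)

/-- the number of extensions of a totally singular frame -/
theorem count1_ts_card_ext [Fintype F] (hq : Odd (Fintype.card F)) (d k : ℕ) (hkd : k ≤ d)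
    (w : count1_Fr (oddB (F := F) d) k) :
    Nat.card (count1_ts_Ext (oddB (F := F) d) w.1) =
      Fintype.card F ^ (2 * d - k) - Fintype.card F ^ k := by
  have h2 : (2 : F) ≠ 0 := count1_ts_two_ne_zero hq
  have hQB : ∀ v : VO d F, Cfsg.quadFormOdd d F v = 0 ↔ oddB d v v = 0 := by
    intro v
    rw [oddB_self]
    constructor
    · intro h
      rw [h, mul_zero]
    · intro h
      exact (mul_eq_zero.1 h).resolve_left h2
  have hspan : ∀ a, ∀ v ∈ Submodule.span F (Set.range w.1), oddB d (w.1 a) v = 0 := by
    intro a v hv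
    induction hv using Submodule.span_induction with
    | mem x hx =>
      obtain ⟨b, rfl⟩ := hx
      exact w.2.1 a b
    | zero => simp
    | add x y _ _ hx hy => rw [map_add, hx, hy, add_zero]
    | smul c x _ hx => rw [map_smul, hx, smul_zero]
  have hTI : ∀ u ∈ Submodule.span F (Set.range w.1), ∀ v ∈ Submodule.span F (Set.range w.1),
      oddB d u v = 0 := by
    intro u hu v hv
    induction hu using Submodule.span_induction with
    | mem x hx =>
      obtain ⟨a, rfl⟩ := hx
      exact hspan a v hv
    | zero => simp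
    | add x y _ _ hx hy => rw [map_add, LinearMap.add_apply, hx, hy, add_zero]
    | smul c x _ hx => rw [map_smul, LinearMap.smul_apply, hx, smul_zero]
  have hU : ∀ x ∈ Submodule.span F (Set.range w.1), Cfsg.quadFormOdd d F x = 0 :=
    fun x hx => (hQB x).2 (hTI x hx x hx)
  have hUk : finrank F ↥(Submodule.span F (Set.range w.1)) = k := by
    rw [finrank_span_eq_card w.2.2, Fintype.card_fin]
  have hperp := card_sing_perp hq d k hkd _ hUk hU
  have hS : Nat.card (Submodule.span F (Set.range w.1)) = Fintype.card F ^ k := by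
    rw [Cfsg.Agent.Lib.Helper5.natCard_submodule, hUk]
  have hT : ∀ v ∈ Submodule.span F (Set.range w.1),
      Cfsg.quadFormOdd d F v = 0 ∧ ∀ u ∈ Submodule.span F (Set.range w.1), oddB d u v = 0 :=
    fun v hv => ⟨hU v hv, fun u hu => hTI u hu v hv⟩
  have hadd := Cfsg.Agent.Lib.Helper5.card_not_mem_add (F := F)
    (Submodule.span F (Set.range w.1))
    (fun v => Cfsg.quadFormOdd d F v = 0 ∧
      ∀ u ∈ Submodule.span F (Set.range w.1), oddB d u v = 0) hT
  rw [hS, hperp] at hadd
  have hE : Nat.card (count1_ts_Ext (oddB (F := F) d) w.1) =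
      Nat.card {v : VO d F // v ∉ Submodule.span F (Set.range w.1) ∧
        (Cfsg.quadFormOdd d F v = 0 ∧
          ∀ u ∈ Submodule.span F (Set.range w.1), oddB d u v = 0)} := by
    apply Nat.card_congr
    apply Equiv.subtypeEquivRight
    intro v
    constructor
    · rintro ⟨h1, h2', h3⟩
      refine ⟨h3, (hQB v).2 h1, ?_⟩
      intro u hu
      induction hu using Submodule.span_induction with
      | mem x hx =>
        obtain ⟨a, rfl⟩ := hx
        exact h2' a
      | zero => simp
      | add x y _ _ hx hy => rw [map_add, LinearMap.add_apply, hx, hy, add_zero]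
      | smul c x _ hx => rw [map_smul, LinearMap.smul_apply, hx, smul_zero]
    · rintro ⟨h3, h1, h2'⟩
      exact ⟨(hQB v).1 h1, fun a => h2' _ (Submodule.subset_span ⟨a, rfl⟩), h3⟩
  rw [hE]
  omega

/-- the number of totally singular frames -/
theorem count1_ts_card_fr [Fintype F] (hq : Odd (Fintype.card F)) (d k : ℕ) (hkd : k ≤ d) :
    Nat.card (count1_Fr (oddB (F := F) d) k) =
      ∏ j ∈ Finset.range k, (Fintype.card F ^ (2 * d - j) - Fintype.card F ^ j) := by
  induction k with
  | zero => rw [count1_fr_zero, Finset.prod_range_zero]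
  | succ k ih =>
    rw [count1_ts_fr_succ (oddB (F := F) d) (oddB_symm d) k _
      (fun w => count1_ts_card_ext hq d k (by omega) w), ih (by omega), Finset.prod_range_succ]

/-- TS-COUNT1: the totally singular frame count (same numbers as for `Sp_{2d}`) -/
theorem card_ts_mul [Fintype F] (hq : Odd (Fintype.card F)) (d m : ℕ) (hmd : m ≤ d) :
    Nat.card {W : Submodule F (VO d F) //
        finrank F W = m ∧ ∀ w ∈ W, Cfsg.quadFormOdd d F w = 0}
      * ∏ j ∈ Finset.range m, (Fintype.card F ^ m - Fintype.card F ^ j)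
    = ∏ j ∈ Finset.range m, (Fintype.card F ^ (2 * d - j) - Fintype.card F ^ j) := by
  classical
  have h2 : (2 : F) ≠ 0 := count1_ts_two_ne_zero hq
  have h1 := count1_ts_card_fr hq d m hmd
  have h3 := count1_ts_card_fr_eq (oddB (F := F) d) m
  rw [h1] at h3
  rw [h3]
  congr 1
  apply Nat.card_congr
  apply Equiv.subtypeEquivRight
  intro W
  rw [ts_iff_ti h2 d W]
  rfl

end concrete

end Cfsg.Agent.Lib.Helper67.Ts
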