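import Mathlib
import Cfsg.Prelude.Def_Classical
import Cfsg.Prelude.Def_LieClassical
import Cfsg.Agent.Lib.Helper14.TuDefs
import Cfsg.Agent.Lib.Helper69.TuFIX
import Cfsg.Agent.Lib.Helper69.TuHALF
import Cfsg.Agent.Lib.Helper76.TuDVD
import Cfsg.Agent.Lib.Helper76.TuDEC

/-! TU-NOFIX (by helper80) for helper14's S5953 "Tu" hive: the derangement criterion. -/

set_option autoImplicit false

namespace Cfsg.Agent.Lib.Helper14.Tu

open Cfsg.Agent.Lib.Helper40.Herm Cfsg.Agent.Lib.Helper2.BG Polynomial Module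

section abs
variable {F : Type*} [Field F] [Fintype F] {q : ℕ} {hF : Fintype.card F = q ^ 2}
  {V : Type*} [AddCommGroup V] [Module F V] [FiniteDimensional F V]
  {H : V →ₗ[F] V →ₛₗ[tauHom hF] F} {g : Module.End F V} {N : ℕ}

/-- TU-NOFIX. -/
theorem not_fixes_of_small_fixed {r : ℕ} (hc : Ctx hF H g r) (hr : r.Prime) (hnd : HNondeg H)
    {W : Submodule F V} (hWi : Inv g W) (hW : HIsotropic H W) :
    2 * (finrank F ↥W % bOf (orderOf (q : ZMod r))) ≤ finrank F ↥(LinearMap.ker (g - 1)) := by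
  obtain ⟨M, hMW, hMi, hMfix, hdisj, hsup, -⟩ := exists_moved hc hr hWi
  obtain ⟨k, hk⟩ := dvd_finrank_moved hc hr hMi hMfix
  -- dimension of `W`
  have hdim : finrank F ↥W = finrank F ↥(W ⊓ LinearMap.ker (g - 1)) + finrank F ↥M := by
    have h1 := Submodule.finrank_sup_add_finrank_inf_eq (W ⊓ LinearMap.ker (g - 1)) M
    rw [hsup, disjoint_iff.1 hdisj, finrank_bot, add_zero] at h1
    exact h1
  have hmod : finrank F ↥W % bOf (orderOf (q : ZMod r)) ≤
      finrank F ↥(W ⊓ LinearMap.ker (g - 1)) := by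
    rw [hdim, hk, Nat.add_mul_mod_self_left]
    exact Nat.mod_le _ _
  -- the fixed space is nondegenerate
  have htop : HNondegOn H (⊤ : Submodule F V) :=
    fun x _ hx => hnd x (fun y => hx y Submodule.mem_top)
  have htopi : Inv g (⊤ : Submodule F V) := fun v _ => Submodule.mem_top
  have h1 : (1 : F) * tauHom hF 1 = 1 := by rw [map_one, mul_one]
  have hC := nondeg_eigen hc htopi htop 1 h1
  rw [one_smul, top_inf_eq] at hC
  have hW₀ : HIsotropic H (W ⊓ LinearMap.ker (g - 1)) :=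
    fun x hx y hy => hW x hx.1 y hy.1
  have hhalf := finrank_isotropic_le hc.herm hC inf_le_right hW₀
  omega

end abs

end Cfsg.Agent.Lib.Helper14.Tu
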