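import Mathlib
import Cfsg.Prelude.Def_Classical
import Cfsg.Prelude.Def_LieClassical
import Cfsg.Agent.Lib.Helper14.TuDefs
import Cfsg.Agent.Lib.Helper80.TuD1gen
import Cfsg.Agent.Lib.Helper80.TuNOFIX
import Cfsg.Agent.Lib.Helper19.TuFPF

/-! TU-D1 (by helper80) for helper14's S5953 "Tu" hive. -/

set_option autoImplicit false
set_option linter.unusedVariables false

namespace Cfsg.Agent.Lib.Helper14.Tu

open Cfsg.Agent.Lib.Helper40.Herm Cfsg.Agent.Lib.Helper2.BG Polynomial Module Matrix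

section top
variable {F : Type*} [Field F] [Fintype F] {p : ℕ} [Fact p.Prime] [CharP F p] {q : ℕ}

/-- if `r ∣ q ^ 2 - 1` then `bOf (ord_r q) = 1` -/
theorem d1_bOf_eq_one (r : ℕ) (q : ℕ) (h : (q : ZMod r) ^ 2 = 1) :
    bOf (orderOf (q : ZMod r)) = 1 := by
  have h1 : orderOf (q : ZMod r) ∣ 2 := orderOf_dvd_of_pow_eq_one h
  rcases (Nat.dvd_prime Nat.prime_two).1 h1 with h2 | h2
  · rw [h2]
    unfold bOf
    simp
  · rw [h2]
    unfold bOf
    simp

/-- TU-D1. -/
theorem bad_fixed (hq : Fintype.card F = q ^ 2) (r : ℕ) (hr : r.Prime) (hr2 : r ≠ 2) (hrp : r ≠ p)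
    (n m : ℕ) (hn : 3 ≤ n) (hm : 1 ≤ m) (hmn : 2 * m ≤ n) (i b c : ℕ)
    (hi : i = orderOf (q : ZMod r)) (hb : b = bOf i) (hc : c = cOf i)
    (h : n % c < 2 * (m % b)) :
    ∃ x : Matrix.SpecialLinearGroup (Fin n) F, IsBad n q m r x := by
  classical
  have : Fact r.Prime := ⟨hr⟩
  -- arithmetic consequences of `h`
  have hb1 : b ≠ 1 := by
    rintro rfl
    rw [Nat.mod_one] at h
    omega
  have hmb : m % b ≤ m := Nat.mod_le _ _
  have hc0 : 0 < c := by
    rcases Nat.eq_zero_or_pos c with h0 | h0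
    · rw [h0, Nat.mod_zero] at h
      omega
    · exact h0
  have hcn : c ≤ n := by
    by_contra hlt
    push Not at hlt
    rw [Nat.mod_eq_of_lt hlt] at h
    omega
  have hsq : (q : ZMod r) ^ 2 ≠ 1 := by
    intro h1
    apply hb1
    rw [hb, hi]
    exact d1_bOf_eq_one r q h1
  have hrq1 : ¬ r ∣ q + 1 := by
    intro hdvd
    apply hsq
    have h1 : ((q + 1 : ℕ) : ZMod r) = 0 := (ZMod.natCast_eq_zero_iff _ _).2 hdvd
    rw [Nat.cast_add, Nat.cast_one] at h1
    have h2 : (q : ZMod r) = -1 := eq_neg_of_add_eq_zero_left h1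
    rw [h2]
    ring
  obtain ⟨u, huGU, hur, hufpf, hudet⟩ := exists_fpf hq r hr hr2 hrp c (by rw [hc, hi])
  have hudet1 : (u : Matrix (Fin c) (Fin c) F).det = 1 := by
    have := hudet hrq1
    have h2 := Matrix.GeneralLinearGroup.val_det_apply u
    rw [this, Units.val_one] at h2
    exact h2.symm
  have hUr : (u : Matrix (Fin c) (Fin c) F) ^ r = 1 := by
    rw [← Units.val_pow_eq_pow_val, hur, Units.val_one]
  -- the index bijection
  have hcard : Fintype.card ((Fin c × Fin (n / c)) ⊕ Fin (n % c)) = n := by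
    rw [Fintype.card_sum, Fintype.card_prod, Fintype.card_fin, Fintype.card_fin, Fintype.card_fin]
    exact Nat.div_add_mod n c
  have e : (Fin c × Fin (n / c)) ⊕ Fin (n % c) ≃ Fin n := Fintype.equivFinOfCardEq hcard
  have ht : 0 < n / c := Nat.div_pos hcn hc0
  obtain ⟨X, hX⟩ : ∃ X, X = d1_X e (u : Matrix (Fin c) (Fin c) F) := ⟨_, rfl⟩
  have hXdet : X.det = 1 := by rw [hX, d1_X_det, hudet1, one_pow]
  have hXr : X ^ r = 1 := by rw [hX, d1_X_pow, hUr, d1_X_one]
  have hXpres : ∀ a b : Fin n → F,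
      Cfsg.hermForm n F q (X *ᵥ a) (X *ᵥ b) = Cfsg.hermForm n F q a b := by
    intro a b
    rw [hX]
    exact d1_preserves q e _ huGU a b
  obtain ⟨x, hx⟩ : ∃ x : Matrix.SpecialLinearGroup (Fin n) F,
      (x : Matrix (Fin n) (Fin n) F) = X := ⟨⟨X, hXdet⟩, rfl⟩
  refine ⟨x, ?_, ⟨1, ?_⟩, ?_, ?_⟩
  · intro a b
    show Cfsg.hermForm n F q ((x : Matrix (Fin n) (Fin n) F) *ᵥ a)
      ((x : Matrix (Fin n) (Fin n) F) *ᵥ b) = Cfsg.hermForm n F q a b
    rw [hx]
    exact hXpres a b
  · rw [Matrix.SpecialLinearGroup.coe_pow, one_smul, hx]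
    exact hXr
  · -- not scalar
    intro z hz
    have hz' : X = z • (1 : Matrix (Fin n) (Fin n) F) := hx ▸ hz
    have hUz : (u : Matrix (Fin c) (Fin c) F) = z • (1 : Matrix (Fin c) (Fin c) F) := by
      ext a a'
      have h1 := d1_X_entry e (u : Matrix (Fin c) (Fin c) F) a a' ⟨0, ht⟩
      rw [← hX, hz'] at h1
      rw [← h1, Matrix.smul_apply, Matrix.smul_apply, Matrix.one_apply, Matrix.one_apply]
      by_cases haa : a = a'
      · subst haa
        simp
      · have : e (Sum.inl (a, ⟨0, ht⟩)) ≠ e (Sum.inl (a', ⟨0, ht⟩)) := by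
          intro h2
          apply haa
          have h3 := e.injective h2
          simpa using h3
        simp [haa, this]
    have hzr : z ^ r = 1 := by
      have h1 := hUr
      rw [hUz, _root_.smul_pow, one_pow] at h1
      have h2 := congrFun (congrFun h1 ⟨0, hc0⟩) ⟨0, hc0⟩
      simpa using h2
    have hz1 : z ≠ 1 := by
      rintro rfl
      have h1 := hufpf (Pi.single ⟨0, hc0⟩ 1) (by rw [hUz, one_smul, Matrix.one_mulVec])
      have h2 := congrFun h1 ⟨0, hc0⟩
      simp at h2
    have hz0 : z ≠ 0 := by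
      rintro rfl
      rw [zero_pow hr.ne_zero] at hzr
      exact zero_ne_one hzr
    -- `z` has order `r` in `Fˣ`, so `r ∣ q ^ 2 - 1`
    have hord : orderOf (Units.mk0 z hz0) = r := by
      apply orderOf_eq_prime
      · apply Units.ext
        simpa using hzr
      · intro h1
        apply hz1
        have := congrArg Units.val h1
        simpa using this
    have hdvd : r ∣ q ^ 2 - 1 := by
      have h1 := orderOf_dvd_card (x := Units.mk0 z hz0)
      rw [hord, Fintype.card_units, hq] at h1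
      exact h1
    apply hsq
    have hpos : 0 < q ^ 2 := by
      rw [← hq]
      exact Fintype.card_pos
    have h2 : ((q ^ 2 - 1 : ℕ) : ZMod r) = 0 := (ZMod.natCast_eq_zero_iff _ _).2 hdvd
    rw [Nat.cast_sub hpos, Nat.cast_pow, Nat.cast_one, sub_eq_zero] at h2
    exact h2
  · -- no fixed totally isotropic `m`-space
    rintro ⟨W, hWm, hWti, hWinv⟩
    rw [hx] at hWinv
    have hrF : (r : F) ≠ 0 := by
      intro h0
      have h2 : p ∣ r := (CharP.cast_eq_zero_iff F p r).1 h0
      exact hrp ((Nat.prime_dvd_prime_iff_eq Fact.out hr).1 h2).symm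
    have hctx : Ctx hq (stdHerm hq n) (Matrix.toLin' X) r :=
      { herm := stdHerm_isHermitian hq n
        inv := by
          intro a b
          rw [stdHerm_apply, stdHerm_apply, Matrix.toLin'_apply, Matrix.toLin'_apply]
          exact hXpres a b
        pos := hr.pos
        pow := by rw [← Matrix.toLin'_pow, hXr, Matrix.toLin'_one]; rfl
        ne := hrF }
    have hWi : Inv (Matrix.toLin' X) W := fun v hv => hWinv (Submodule.mem_map_of_mem hv)
    have hWiso : HIsotropic (stdHerm hq n) W := fun a ha b hb => hWti a ha b hb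
    have h1 := not_fixes_of_small_fixed hctx hr (stdHerm_nondeg hq n) hWi hWiso
    have h2 : finrank F ↥(LinearMap.ker (Matrix.toLin' X - 1)) ≤ n % c := by
      rw [hX]
      exact d1_finrank_ker_le e _ hufpf
    rw [hWm, ← hi, ← hb] at h1
    omega

end top

end Cfsg.Agent.Lib.Helper14.Tu
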