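import Mathlib
import Cfsg.Prelude.Def_Classical
import Cfsg.Prelude.Def_LieClassical
import Cfsg.Agent.Lib.Helper14.TuDefs
import Cfsg.Agent.Lib.Helper69.TuHALF
import Cfsg.Agent.Lib.Helper76.TuDVD

/-! TU-D2A-BLOCK (by helper80) for helper14's S5953 "Tu" hive: the powers `u ^ t`, `r ∤ t`, of the
TU-FPF element. -/

set_option autoImplicit false
set_option linter.unusedVariables false

namespace Cfsg.Agent.Lib.Helper14.Tu

open Cfsg.Agent.Lib.Helper40.Herm Cfsg.Agent.Lib.Helper2.BG Polynomial Module Matrix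

theorem d2ablock_pow_fix {F : Type*} [Field F] {b : ℕ} (U : Matrix (Fin b) (Fin b) F)
    (v : Fin b → F) (hv : U *ᵥ v = v) (s : ℕ) : (U ^ s) *ᵥ v = v := by
  induction s with
  | zero => rw [pow_zero, Matrix.one_mulVec]
  | succ s ih => rw [pow_succ, ← Matrix.mulVec_mulVec, hv, ih]

section top
variable {F : Type*} [Field F] [Fintype F] {p : ℕ} [Fact p.Prime] [CharP F p] {q : ℕ}

/-- TU-D2A-BLOCK. -/
theorem d2a_block (hq : Fintype.card F = q ^ 2) (r : ℕ) (hr : r.Prime) (hrF : (r : F) ≠ 0)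
    (b : ℕ) (hb : b = bOf (orderOf (q : ZMod r))) (hb0 : 0 < b) (hsq : (q : ZMod r) ^ 2 ≠ 1)
    (u : GL (Fin b) F) (hu : u ∈ Cfsg.GU b F q) (hur : u ^ r = 1)
    (hfpf : ∀ v : Fin b → F, (u : Matrix (Fin b) (Fin b) F) *ᵥ v = v → v = 0)
    (hdet : (u : Matrix (Fin b) (Fin b) F).det = 1) (t : ℕ) (ht : ¬ r ∣ t) :
    (∀ v w : Fin b → F, Cfsg.hermForm b F q (((u : Matrix (Fin b) (Fin b) F) ^ t) *ᵥ v)
        (((u : Matrix (Fin b) (Fin b) F) ^ t) *ᵥ w) = Cfsg.hermForm b F q v w) ∧
    ((u : Matrix (Fin b) (Fin b) F) ^ t) ^ r = 1 ∧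
    ((u : Matrix (Fin b) (Fin b) F) ^ t).det = 1 ∧
    (∀ v : Fin b → F, ((u : Matrix (Fin b) (Fin b) F) ^ t) *ᵥ v = v → v = 0) ∧
    (∀ z : F, (u : Matrix (Fin b) (Fin b) F) ^ t ≠ z • (1 : Matrix (Fin b) (Fin b) F)) ∧
    (∀ W : Submodule F (Fin b → F),
      W.map (Matrix.toLin' ((u : Matrix (Fin b) (Fin b) F) ^ t)) ≤ W →
      (∀ v ∈ W, ∀ w ∈ W, Cfsg.hermForm b F q v w = 0) → W = ⊥) := by
  classical
  have : Fact r.Prime := ⟨hr⟩
  have hUr0 : (u : Matrix (Fin b) (Fin b) F) ^ r = 1 := by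
    rw [← Units.val_pow_eq_pow_val, hur, Units.val_one]
  -- (1) unitary
  have h1 : ∀ v w : Fin b → F, Cfsg.hermForm b F q (((u : Matrix (Fin b) (Fin b) F) ^ t) *ᵥ v)
      (((u : Matrix (Fin b) (Fin b) F) ^ t) *ᵥ w) = Cfsg.hermForm b F q v w := by
    intro v w
    have hmem : u ^ t ∈ Cfsg.GU b F q := Subgroup.pow_mem _ hu t
    have := hmem v w
    rw [← Units.val_pow_eq_pow_val]
    exact this
  -- (2) order
  have h2 : ((u : Matrix (Fin b) (Fin b) F) ^ t) ^ r = 1 := by
    rw [← pow_mul, mul_comm, pow_mul, hUr0, one_pow]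
  -- (3) determinant
  have h3 : ((u : Matrix (Fin b) (Fin b) F) ^ t).det = 1 := by
    rw [Matrix.det_pow, hdet, one_pow]
  -- (4) no fixed vectors
  have h4 : ∀ v : Fin b → F, ((u : Matrix (Fin b) (Fin b) F) ^ t) *ᵥ v = v → v = 0 := by
    intro v hv
    have hcop : Nat.Coprime t r := (Nat.Coprime.symm ((Nat.Prime.coprime_iff_not_dvd hr).2 ht))
    obtain ⟨s, -, hs⟩ := Nat.exists_mul_mod_eq_one_of_coprime hcop hr.one_lt
    have hts : t * s = r * (t * s / r) + 1 := by
      have := Nat.div_add_mod (t * s) r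
      omega
    have hpow : ((u : Matrix (Fin b) (Fin b) F) ^ t) ^ s = (u : Matrix (Fin b) (Fin b) F) := by
      rw [← pow_mul, hts, pow_succ, pow_mul, hUr0, one_pow, one_mul]
    apply hfpf
    have := d2ablock_pow_fix _ v hv s
    rwa [hpow] at this
  refine ⟨h1, h2, h3, h4, ?_, ?_⟩
  · -- (5) not scalar
    intro z hz
    have hzr : z ^ r = 1 := by
      have h := h2
      rw [hz, _root_.smul_pow, one_pow] at h
      have h' := congrFun (congrFun h ⟨0, hb0⟩) ⟨0, hb0⟩
      simpa using h'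
    have hz1 : z ≠ 1 := by
      rintro rfl
      have h := h4 (Pi.single ⟨0, hb0⟩ 1) (by rw [hz, one_smul, Matrix.one_mulVec])
      have h' := congrFun h ⟨0, hb0⟩
      simp at h'
    have hz0 : z ≠ 0 := by
      rintro rfl
      rw [zero_pow hr.ne_zero] at hzr
      exact zero_ne_one hzr
    have hord : orderOf (Units.mk0 z hz0) = r := by
      apply orderOf_eq_prime
      · apply Units.ext
        simpa using hzr
      · intro h
        apply hz1
        have := congrArg Units.val h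
        simpa using this
    have hdvd : r ∣ q ^ 2 - 1 := by
      have h := orderOf_dvd_card (x := Units.mk0 z hz0)
      rw [hord, Fintype.card_units, hq] at h
      exact h
    apply hsq
    have hpos : 0 < q ^ 2 := by
      rw [← hq]
      exact Fintype.card_pos
    have h' : ((q ^ 2 - 1 : ℕ) : ZMod r) = 0 := (ZMod.natCast_eq_zero_iff _ _).2 hdvd
    rw [Nat.cast_sub hpos, Nat.cast_pow, Nat.cast_one, sub_eq_zero] at h'
    exact h'
  · -- (6) no invariant totally isotropic subspace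
    intro W hWinv hWti
    have hctx : Ctx hq (stdHerm hq b) (Matrix.toLin' ((u : Matrix (Fin b) (Fin b) F) ^ t)) r :=
      { herm := stdHerm_isHermitian hq b
        inv := by
          intro v w
          rw [stdHerm_apply, stdHerm_apply, Matrix.toLin'_apply, Matrix.toLin'_apply]
          exact h1 v w
        pos := hr.pos
        pow := by rw [← Matrix.toLin'_pow, h2, Matrix.toLin'_one]; rfl
        ne := hrF }
    have hWi : Inv (Matrix.toLin' ((u : Matrix (Fin b) (Fin b) F) ^ t)) W :=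
      fun v hv => hWinv (Submodule.mem_map_of_mem hv)
    have hWfix : ∀ v ∈ W, (Matrix.toLin' ((u : Matrix (Fin b) (Fin b) F) ^ t)) v = v → v = 0 := by
      intro v _ hv
      rw [Matrix.toLin'_apply] at hv
      exact h4 v hv
    have hdvd := dvd_finrank_moved hctx hr hWi hWfix
    rw [← hb] at hdvd
    have htop : HNondegOn (stdHerm hq b) (⊤ : Submodule F (Fin b → F)) :=
      fun x _ hx => stdHerm_nondeg hq b x (fun y => hx y Submodule.mem_top)
    have hWiso : HIsotropic (stdHerm hq b) W := fun x hx y hy => hWti x hx y hy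
    have hhalf := finrank_isotropic_le hctx.herm htop le_top hWiso
    rw [finrank_top, Module.finrank_fintype_fun_eq_card, Fintype.card_fin] at hhalf
    obtain ⟨k, hk⟩ := hdvd
    have hzero : finrank F ↥W = 0 := by
      rcases Nat.eq_zero_or_pos k with h0 | h0
      · rw [hk, h0, mul_zero]
      · exfalso
        have : b * 1 ≤ b * k := Nat.mul_le_mul_left b h0
        omega
    exact Submodule.finrank_eq_zero.1 hzero

end top

end Cfsg.Agent.Lib.Helper14.Tu
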